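import Mathlib.GroupTheory.Sylow
import Mathlib.GroupTheory.Solvable
import Mathlib.GroupTheory.Complement

/-!
Elementary helper lemmas: conjugates, products with a normalized subgroup, images in quotients,
minimal normal subgroups.
-/

namespace Cfsg.Agent.SolvBasic

open scoped Pointwise

variable {G : Type*} [Group G]

lemma mem_conjSmul {g x : G} {H : Subgroup G} :
    x ∈ MulAut.conj g • H ↔ g⁻¹ * x * g ∈ H := by
  rw [Subgroup.mem_pointwise_smul_iff_inv_smul_mem]
  simp [MulAut.smul_def]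

lemma conjSmul_conjSmul (a b : G) (H : Subgroup G) :
    MulAut.conj a • MulAut.conj b • H = MulAut.conj (a * b) • H := by
  rw [map_mul, mul_smul]

lemma conjSmul_one (H : Subgroup G) : MulAut.conj (1 : G) • H = H := by
  rw [map_one, one_smul]

lemma conjSmul_inv_conjSmul (a : G) (H : Subgroup G) :
    MulAut.conj a⁻¹ • MulAut.conj a • H = H := by
  rw [conjSmul_conjSmul, inv_mul_cancel, conjSmul_one]

lemma eq_conjSmul_inv {a : G} {H K : Subgroup G} (h : MulAut.conj a • H = K) :
    MulAut.conj a⁻¹ • K = H := by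
  rw [← h, conjSmul_inv_conjSmul]

lemma card_conjSmul (g : G) (H : Subgroup G) :
    Nat.card (MulAut.conj g • H : Subgroup G) = Nat.card H :=
  (Nat.card_congr (Subgroup.equivSMul (MulAut.conj g) H).toEquiv).symm

lemma index_conjSmul (g : G) (H : Subgroup G) : (MulAut.conj g • H).index = H.index :=
  Subgroup.index_map_equiv H (MulAut.conj g)

lemma map_conjSmul {G' : Type*} [Group G'] (f : G →* G') (g : G) (H : Subgroup G) :
    (MulAut.conj g • H).map f = MulAut.conj (f g) • H.map f := by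
  ext x
  simp only [Subgroup.mem_map, mem_conjSmul]
  constructor
  · rintro ⟨y, hy, rfl⟩
    exact ⟨g⁻¹ * y * g, hy, by simp⟩
  · rintro ⟨y, hy, hxy⟩
    refine ⟨g * y * g⁻¹, ?_, ?_⟩
    · simpa [mul_assoc] using hy
    · simp [hxy, mul_assoc]

lemma conjSmul_eq_self_of_mem_normalizer {g : G} {H : Subgroup G}
    (hg : g ∈ Subgroup.normalizer (H : Set G)) : MulAut.conj g • H = H := by
  ext x
  rw [mem_conjSmul]
  exact (Subgroup.mem_normalizer_iff''.1 hg x).symm

lemma mem_normalizer_iff_conjSmul {g : G} {H : Subgroup G} :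
    g ∈ Subgroup.normalizer (H : Set G) ↔ MulAut.conj g • H = H := by
  refine ⟨conjSmul_eq_self_of_mem_normalizer, fun h => ?_⟩
  rw [Subgroup.mem_normalizer_iff'']
  intro x
  rw [← mem_conjSmul, h]

lemma normalizer_conjSmul (g : G) (H : Subgroup G) :
    Subgroup.normalizer ((MulAut.conj g • H : Subgroup G) : Set G) =
      MulAut.conj g • Subgroup.normalizer (H : Set G) := by
  ext x
  rw [mem_conjSmul, mem_normalizer_iff_conjSmul, mem_normalizer_iff_conjSmul, conjSmul_conjSmul,
    mul_assoc, ← conjSmul_conjSmul g⁻¹, ← smul_left_cancel_iff (MulAut.conj g⁻¹),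
    conjSmul_inv_conjSmul]

lemma map_subtype_conjSmul {L : Subgroup G} (a : L) (H : Subgroup L) :
    (MulAut.conj a • H).map L.subtype = MulAut.conj (a : G) • H.map L.subtype :=
  map_conjSmul L.subtype a H

/-- An element of `N ⊔ H` is a product `n * h` when `H` normalizes `N`. -/
lemma mem_sup_iff_of_le_normalizer {N H : Subgroup G}
    (hH : H ≤ Subgroup.normalizer (N : Set G)) {x : G} :
    x ∈ N ⊔ H ↔ ∃ n ∈ N, ∃ h ∈ H, x = n * h := by
  rw [← SetLike.mem_coe, Subgroup.coe_mul_of_right_le_normalizer_left N H hH, Set.mem_mul]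
  simp only [SetLike.mem_coe, eq_comm]

lemma card_map_of_inf_ker_eq_bot {G' : Type*} [Group G'] (f : G →* G') {H : Subgroup G}
    (h : H ⊓ f.ker = ⊥) : Nat.card (H.map f) = Nat.card H := by
  rw [← Subgroup.relIndex_ker, ← Subgroup.inf_relIndex_right, inf_comm, h,
    Subgroup.relIndex_bot_left]

lemma card_map_mk'_of_inf_eq_bot {M H : Subgroup G} [M.Normal] (h : H ⊓ M = ⊥) :
    Nat.card (H.map (QuotientGroup.mk' M)) = Nat.card H :=
  card_map_of_inf_ker_eq_bot _ (by rwa [QuotientGroup.ker_mk'])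

/-- `|N H| |N ∩ H| = |N| |H|` when `H` normalizes `N`. -/
lemma card_sup_mul_card_inf {N H : Subgroup G} (hH : H ≤ Subgroup.normalizer (N : Set G)) :
    Nat.card (N ⊔ H : Subgroup G) * Nat.card (N ⊓ H : Subgroup G) = Nat.card N * Nat.card H := by
  have hn : (N.subgroupOf (N ⊔ H)).Normal :=
    Subgroup.normal_subgroupOf_of_le_normalizer (sup_le Subgroup.le_normalizer hH)
  have key : N.relIndex (N ⊔ H) = N.relIndex H := by
    have h1 := Subgroup.relIndex_sup_right (H.subgroupOf (N ⊔ H)) (N.subgroupOf (N ⊔ H))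
    rw [← Subgroup.subgroupOf_sup le_sup_right le_sup_left, sup_comm H N, Subgroup.subgroupOf_self,
      Subgroup.relIndex_top_right, Subgroup.relIndex_subgroupOf le_sup_right] at h1
    exact h1
  have h2 : Nat.card N * N.relIndex (N ⊔ H) = Nat.card (N ⊔ H : Subgroup G) := by
    rw [← Subgroup.relIndex_bot_left, Subgroup.relIndex_mul_relIndex _ _ _ bot_le le_sup_left,
      Subgroup.relIndex_bot_left]
  have h3 : Nat.card (N ⊓ H : Subgroup G) * N.relIndex H = Nat.card H := by
    rw [← Subgroup.inf_relIndex_right, ← Subgroup.relIndex_bot_left,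
      Subgroup.relIndex_mul_relIndex _ _ _ bot_le inf_le_right, Subgroup.relIndex_bot_left]
  rw [← h2, key, ← h3]
  ring

lemma card_sup_of_inf_eq_bot {N H : Subgroup G} (hH : H ≤ Subgroup.normalizer (N : Set G))
    (h : N ⊓ H = ⊥) : Nat.card (N ⊔ H : Subgroup G) = Nat.card N * Nat.card H := by
  have := card_sup_mul_card_inf hH
  rwa [h, Subgroup.card_bot, mul_one] at this

/-- Existence of a minimal normal subgroup below a nontrivial normal subgroup. -/
lemma exists_minimal_normal [Finite G] {N : Subgroup G} (hn : N.Normal) (hN : N ≠ ⊥) :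
    ∃ M : Subgroup G, M.Normal ∧ M ≠ ⊥ ∧ M ≤ N ∧
      ∀ K : Subgroup G, K.Normal → K ≤ M → K = ⊥ ∨ K = M := by
  obtain ⟨M, hMN, hM⟩ :=
    Finite.exists_le_minimal (p := fun K : Subgroup G => K.Normal ∧ K ≠ ⊥) ⟨hn, hN⟩
  refine ⟨M, hM.1.1, hM.1.2, hMN, fun K hK hKM => ?_⟩
  by_cases hb : K = ⊥
  · exact Or.inl hb
  · exact Or.inr (le_antisymm hKM (hM.2 ⟨hK, hb⟩ hKM))

/-- A solvable minimal normal subgroup is abelian. -/
lemma isMulCommutative_of_minimal_normal {N : Subgroup G} [N.Normal] [Group.IsSolvable N]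
    (hN : N ≠ ⊥) (hmin : ∀ K : Subgroup G, K.Normal → K ≤ N → K = ⊥ ∨ K = N) :
    IsMulCommutative N := by
  have hlt : ⁅N, N⁆ < N := by
    have := N.nontrivial_iff_ne_bot.2 hN
    have h := Subgroup.map_subtype_lt_map_subtype.2
      (Group.IsSolvable.commutator_lt_top_of_nontrivial N)
    rwa [Subgroup.map_subtype_commutator, ← MonoidHom.range_eq_map, Subgroup.range_subtype] at h
  obtain h | h := hmin ⁅N, N⁆ inferInstance hlt.le
  · refine .of_setLike_mul_comm fun a ha b hb => ?_
    have := Subgroup.commutator_mem_commutator ha hb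
    rw [h, Subgroup.mem_bot] at this
    exact commutatorElement_eq_one_iff_mul_comm.1 this
  · exact absurd h hlt.ne

/-- An abelian minimal normal subgroup has prime exponent. -/
lemma exists_prime_exponent_of_minimal_normal [Finite G] {N : Subgroup G} [N.Normal]
    [IsMulCommutative N] (hN : N ≠ ⊥)
    (hmin : ∀ K : Subgroup G, K.Normal → K ≤ N → K = ⊥ ∨ K = N) :
    ∃ p : ℕ, p.Prime ∧ (∀ x ∈ N, x ^ p = 1) ∧ IsPGroup p N := by
  obtain ⟨p, hp, hdvd⟩ := Nat.exists_prime_and_dvd
    (fun h => hN (Subgroup.card_eq_one.1 h) : Nat.card N ≠ 1)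
  have := Fact.mk hp
  obtain ⟨y, hy⟩ := exists_prime_orderOf_dvd_card' p hdvd
  let T : Subgroup G :=
    { carrier := {x | x ∈ N ∧ x ^ p = 1}
      one_mem' := ⟨N.one_mem, one_pow p⟩
      mul_mem' := by
        rintro a b ⟨ha, ha'⟩ ⟨hb, hb'⟩
        exact ⟨N.mul_mem ha hb, by rw [Commute.mul_pow (setLike_mul_comm ha hb), ha', hb', one_mul]⟩
      inv_mem' := by
        rintro a ⟨ha, ha'⟩
        exact ⟨N.inv_mem ha, by rw [inv_pow, ha', inv_one]⟩ }
  have hTn : T.Normal := ⟨fun x hx g =>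
    ⟨‹N.Normal›.conj_mem x hx.1 g, by rw [conj_pow, hx.2, mul_one, mul_inv_cancel]⟩⟩
  obtain h | h := hmin T hTn fun x hx => hx.1
  · have hyT : (y : G) ∈ T := ⟨y.2, by rw [← hy, ← Subgroup.coe_pow, pow_orderOf_eq_one]; rfl⟩
    rw [h, Subgroup.mem_bot] at hyT
    rw [show y = 1 from Subtype.ext hyT, orderOf_one] at hy
    exact absurd hy.symm hp.ne_one
  · refine ⟨p, hp, fun x hx => ?_, ?_⟩
    · rw [← h] at hx; exact hx.2
    · intro x
      refine ⟨1, Subtype.ext ?_⟩
      have hx : (x : G) ∈ T := h.symm ▸ x.2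
      simpa using hx.2

/-- In a solvable group a nontrivial normal subgroup contains an abelian normal `p`-subgroup
which is minimal normal. -/
lemma exists_minimal_normal_abelian [Finite G] {N : Subgroup G} (hn : N.Normal)
    [Group.IsSolvable N] (hN : N ≠ ⊥) :
    ∃ (M : Subgroup G) (p : ℕ), p.Prime ∧ M.Normal ∧ M ≠ ⊥ ∧ M ≤ N ∧ IsMulCommutative M ∧
      (∀ x ∈ M, x ^ p = 1) ∧ IsPGroup p M ∧
      ∀ K : Subgroup G, K.Normal → K ≤ M → K = ⊥ ∨ K = M := by
  obtain ⟨M, hMn, hM, hMN, hmin⟩ := exists_minimal_normal hn hN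
  have : Group.IsSolvable M :=
    Group.isSolvable_of_isSolvable_injective (Subgroup.inclusion_injective hMN)
  have hc := isMulCommutative_of_minimal_normal hM hmin
  obtain ⟨p, hp, he, hpg⟩ := exists_prime_exponent_of_minimal_normal hM hmin
  exact ⟨M, p, hp, hMn, hM, hMN, hc, he, hpg, hmin⟩

lemma isSolvable_of_le {H K : Subgroup G} (hHK : H ≤ K) [Group.IsSolvable K] :
    Group.IsSolvable H :=
  Group.isSolvable_of_isSolvable_injective (Subgroup.inclusion_injective hHK)

end Cfsg.Agent.SolvBasic
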