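import Cfsg.Prelude.Def_Solvable
import Cfsg.Agent.Lib.Solvable.Basic
import Mathlib.GroupTheory.Frattini
import Mathlib.GroupTheory.GroupAction.ConjAct
import Mathlib.GroupTheory.IsSubnormal

/-!
Basic properties of `Cfsg.pCore`, `Cfsg.pPrimeCore` and `Cfsg.fittingSubgroup`.
-/

namespace Cfsg.Agent.FittingCores

open scoped Pointwise
open Cfsg.Agent.SolvBasic

variable {G : Type*} [Group G]

/-- A subgroup containing a Sylow subgroup for every prime is everything. -/
lemma eq_top_of_forall_sylow_le [Finite G] {X : Subgroup G}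
    (h : ∀ p : ℕ, p.Prime → ∃ P : Sylow p G, (P : Subgroup G) ≤ X) : X = ⊤ := by
  refine Subgroup.eq_top_of_le_card _ (Nat.le_of_dvd Nat.card_pos ?_)
  rw [Nat.dvd_iff_prime_pow_dvd_dvd]
  intro p k hp hk
  have := Fact.mk hp
  obtain ⟨P, hP⟩ := h p hp
  exact (P.pow_dvd_card_of_pow_dvd_card hk).trans (Subgroup.card_dvd_of_le hP)

/-- A property of normal subgroups which holds for `⊥` and is closed under joins holds for the
join of any family of normal subgroups having it. -/
lemma sSup_normal_induction [Finite G] (P : Subgroup G → Prop) (hbot : P ⊥)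
    (hsup : ∀ A B : Subgroup G, A.Normal → B.Normal → P A → P B → P (A ⊔ B))
    {s : Set (Subgroup G)} (hs : ∀ N ∈ s, N.Normal ∧ P N) : P (sSup s) := by
  suffices h : (sSup s).Normal ∧ P (sSup s) from h.2
  induction s, Set.toFinite s using Set.Finite.induction_on with
  | empty => rw [sSup_empty]; exact ⟨inferInstance, hbot⟩
  | @insert a s _ _ ih =>
    rw [sSup_insert]
    obtain ⟨h1, h2⟩ := hs a (Set.mem_insert _ _)
    obtain ⟨h3, h4⟩ := ih fun N hN => hs N (Set.mem_insert_of_mem _ hN)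
    exact ⟨inferInstance, hsup _ _ h1 h3 h2 h4⟩

/-! ### The `p`-core -/

lemma pCore_normal (p : ℕ) : (Cfsg.pCore p G).Normal :=
  Subgroup.sSup_normal _ fun _ hN => hN.1

lemma pCore_isPGroup (p : ℕ) : IsPGroup p (Cfsg.pCore p G) :=
  Sylow.sSup_of_normal _ (fun _ hN => hN.2) (fun _ hN => hN.1)

lemma le_pCore {p : ℕ} {N : Subgroup G} (hn : N.Normal) (hN : IsPGroup p N) :
    N ≤ Cfsg.pCore p G :=
  le_sSup ⟨hn, hN⟩

lemma pCore_le_sylow {p : ℕ} (P : Sylow p G) : Cfsg.pCore p G ≤ (P : Subgroup G) :=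
  sSup_le fun _ hN => have := hN.1; hN.2.le_sylow_of_normal P

lemma pCore_map_le {H : Type*} [Group H] (p : ℕ) {f : G →* H} (hf : Function.Surjective f) :
    (Cfsg.pCore p G).map f ≤ Cfsg.pCore p H :=
  le_pCore ((pCore_normal p).map f hf) ((pCore_isPGroup p).map f)

lemma pCore_map_equiv {H : Type*} [Group H] (p : ℕ) (e : G ≃* H) :
    (Cfsg.pCore p G).map e.toMonoidHom = Cfsg.pCore p H := by
  refine le_antisymm (pCore_map_le p e.surjective) fun x hx => ?_
  exact ⟨e.symm x, pCore_map_le p (f := e.symm.toMonoidHom) e.symm.surjective ⟨x, hx, rfl⟩, e.apply_symm_apply x⟩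

lemma pCore_characteristic (p : ℕ) : (Cfsg.pCore p G).Characteristic :=
  Subgroup.characteristic_iff_map_eq.2 fun e => pCore_map_equiv p e

lemma normal_map_of_characteristic {N : Subgroup G} (hn : N.Normal) {K : Subgroup N}
    (hK : K.Characteristic) : (K.map N.subtype).Normal :=
  have := hn; have := hK; inferInstance

lemma pCore_map_subtype_le (p : ℕ) {N : Subgroup G} (hn : N.Normal) :
    (Cfsg.pCore p N).map N.subtype ≤ Cfsg.pCore p G :=
  le_pCore (normal_map_of_characteristic hn (pCore_characteristic p))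
    ((pCore_isPGroup p).map _)

lemma pCore_map_subtype (p : ℕ) {N : Subgroup G} (hn : N.Normal) :
    (Cfsg.pCore p N).map N.subtype = Cfsg.pCore p G ⊓ N := by
  refine le_antisymm (le_inf (pCore_map_subtype_le p hn) (Subgroup.map_subtype_le _)) fun x hx => ?_
  refine ⟨⟨x, hx.2⟩, le_pCore (N := (Cfsg.pCore p G).subgroupOf N) ?_ ?_ hx.1, rfl⟩
  · exact (pCore_normal p).subgroupOf N
  · exact (pCore_isPGroup p).comap_subtype

/-- A subnormal `p`-subgroup lies in the `p`-core. -/
lemma le_pCore_of_isSubnormal {p : ℕ} {H : Subgroup G} (hs : H.IsSubnormal) (hH : IsPGroup p H) :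
    H ≤ Cfsg.pCore p G := by
  suffices h : ∀ K : Subgroup G, K.IsSubnormal →
      (Cfsg.pCore p K).map K.subtype ≤ Cfsg.pCore p G by
    intro x hx
    refine h H hs ⟨⟨x, hx⟩, le_pCore (N := (⊤ : Subgroup H)) inferInstance ?_ trivial, rfl⟩
    exact hH.to_subgroup ⊤
  intro K hK
  induction hK with
  | top =>
    exact pCore_map_le p fun x => ⟨⟨x, trivial⟩, rfl⟩
  | step A B hle _ hN ih =>
    have h1 : ((Cfsg.pCore p (A.subgroupOf B)).map (A.subgroupOf B).subtype).map B.subtype ≤
        Cfsg.pCore p G := (Subgroup.map_mono (pCore_map_subtype_le p hN)).trans ih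
    rintro _ ⟨x, hx, rfl⟩
    refine h1 ⟨⟨(x : G), hle x.2⟩, ⟨(Subgroup.subgroupOfEquivOfLe hle).symm x, ?_, rfl⟩, rfl⟩
    exact pCore_map_le p (f := (Subgroup.subgroupOfEquivOfLe hle).symm.toMonoidHom)
      (Subgroup.subgroupOfEquivOfLe hle).symm.surjective ⟨x, hx, rfl⟩

/-! ### The `p'`-core -/

lemma pPrimeCore_normal (p : ℕ) : (Cfsg.pPrimeCore p G).Normal :=
  Subgroup.sSup_normal _ fun _ hN => hN.1

lemma le_pPrimeCore {p : ℕ} {N : Subgroup G} (hn : N.Normal) (hN : (Nat.card N).Coprime p) :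
    N ≤ Cfsg.pPrimeCore p G :=
  le_sSup ⟨hn, hN⟩

lemma pPrimeCore_coprime [Finite G] (p : ℕ) : (Nat.card (Cfsg.pPrimeCore p G)).Coprime p := by
  refine sSup_normal_induction (fun N : Subgroup G => (Nat.card N).Coprime p)
    (by simp) ?_ fun N hN => hN
  intro A B hA _ hA' hB'
  refine Nat.Coprime.coprime_dvd_left ?_ (hA'.mul_left hB')
  exact ⟨_, (card_sup_mul_card_inf Subgroup.le_normalizer_of_normal).symm⟩

lemma pPrimeCore_map_le [Finite G] {H : Type*} [Group H] (p : ℕ) {f : G →* H}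
    (hf : Function.Surjective f) : (Cfsg.pPrimeCore p G).map f ≤ Cfsg.pPrimeCore p H :=
  le_pPrimeCore ((pPrimeCore_normal p).map f hf)
    ((pPrimeCore_coprime p).coprime_dvd_left (Subgroup.card_map_dvd _ f))

lemma pPrimeCore_map_equiv [Finite G] {H : Type*} [Group H] (p : ℕ) (e : G ≃* H) :
    (Cfsg.pPrimeCore p G).map e.toMonoidHom = Cfsg.pPrimeCore p H := by
  have : Finite H := Finite.of_equiv G e.toEquiv
  refine le_antisymm (pPrimeCore_map_le p e.surjective) fun x hx => ?_
  exact ⟨e.symm x, pPrimeCore_map_le p (f := e.symm.toMonoidHom) e.symm.surjective ⟨x, hx, rfl⟩, e.apply_symm_apply x⟩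

lemma pPrimeCore_characteristic [Finite G] (p : ℕ) : (Cfsg.pPrimeCore p G).Characteristic :=
  Subgroup.characteristic_iff_map_eq.2 fun e => pPrimeCore_map_equiv p e

lemma pPrimeCore_map_subtype_le [Finite G] (p : ℕ) {N : Subgroup G} (hn : N.Normal) :
    (Cfsg.pPrimeCore p N).map N.subtype ≤ Cfsg.pPrimeCore p G := by
  refine le_pPrimeCore (normal_map_of_characteristic hn (pPrimeCore_characteristic p)) ?_
  rw [Subgroup.card_map_of_injective N.subtype_injective]
  exact pPrimeCore_coprime p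

lemma pPrimeCore_quotient_eq_bot [Finite G] (p : ℕ) (N : Subgroup G) [N.Normal]
    (hN : N = Cfsg.pPrimeCore p G) : Cfsg.pPrimeCore p (G ⧸ N) = ⊥ := by
  set R := Cfsg.pPrimeCore p (G ⧸ N) with hR
  have hM : R.comap (QuotientGroup.mk' N) ≤ N := by
    refine le_trans ?_ hN.ge
    refine le_pPrimeCore ((pPrimeCore_normal p).comap _) ?_
    have hle : N ≤ R.comap (QuotientGroup.mk' N) := fun x hx => by
      rw [Subgroup.mem_comap, QuotientGroup.mk'_apply, (QuotientGroup.eq_one_iff x).2 hx]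
      exact one_mem _
    rw [← Subgroup.relIndex_bot_left,
      ← Subgroup.relIndex_mul_relIndex _ _ _ bot_le hle, Subgroup.relIndex_bot_left]
    refine Nat.Coprime.mul_left (hN ▸ pPrimeCore_coprime p) ?_
    have h1 := Subgroup.relIndex_ker (QuotientGroup.mk' N) (K := R.comap (QuotientGroup.mk' N))
    rw [QuotientGroup.ker_mk',
      Subgroup.map_comap_eq_self_of_surjective (QuotientGroup.mk'_surjective N)] at h1
    rw [h1]
    exact pPrimeCore_coprime p
  rw [← Subgroup.map_comap_eq_self_of_surjective (QuotientGroup.mk'_surjective N) R,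
    ← le_bot_iff, ← QuotientGroup.map_mk'_self N]
  exact Subgroup.map_mono hM

lemma pCore_le_pPrimeCore [Finite G] {p q : ℕ} (hp : p.Prime) (hq : q.Prime) (h : q ≠ p) :
    Cfsg.pCore q G ≤ Cfsg.pPrimeCore p G := by
  have := Fact.mk hq
  obtain ⟨n, hn⟩ := IsPGroup.iff_card.1 (pCore_isPGroup (G := G) q)
  exact le_pPrimeCore (pCore_normal q) (hn ▸ ((Nat.coprime_primes hq hp).2 h).pow_left n)

/-! ### The Fitting subgroup -/

lemma fitting_normal : (Cfsg.fittingSubgroup G).Normal :=
  Subgroup.sSup_normal _ fun _ hN => hN.1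

lemma le_fitting {N : Subgroup G} (hn : N.Normal) (hN : Group.IsNilpotent N) :
    N ≤ Cfsg.fittingSubgroup G :=
  le_sSup ⟨hn, hN⟩

lemma pCore_le_fitting [Finite G] {p : ℕ} (hp : p.Prime) :
    Cfsg.pCore p G ≤ Cfsg.fittingSubgroup G :=
  have := Fact.mk hp
  le_fitting (pCore_normal p) (pCore_isPGroup p).isNilpotent

lemma sylow_le_pCore_of_nilpotent [Finite G] {N : Subgroup G} (hn : N.Normal)
    [Group.IsNilpotent N] (p : ℕ) [Fact p.Prime] (P : Sylow p N) :
    (P : Subgroup N).map N.subtype ≤ Cfsg.pCore p G :=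
  le_pCore (normal_map_of_characteristic hn (P.characteristic_of_normal inferInstance))
    (P.isPGroup'.map _)

lemma le_iSup_pCore [Finite G] {N : Subgroup G} (hn : N.Normal) [Group.IsNilpotent N] :
    N ≤ ⨆ p : Nat.Primes, Cfsg.pCore (p : ℕ) G := by
  rw [← Subgroup.subgroupOf_eq_top]
  refine eq_top_of_forall_sylow_le fun p hp => ?_
  have := Fact.mk hp
  refine ⟨default, fun x hx => ?_⟩
  exact le_iSup (fun q : Nat.Primes => Cfsg.pCore (q : ℕ) G) ⟨p, hp⟩
    (sylow_le_pCore_of_nilpotent hn p default ⟨x, hx, rfl⟩)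

lemma fitting_eq_iSup_pCore [Finite G] :
    Cfsg.fittingSubgroup G = ⨆ p : Nat.Primes, Cfsg.pCore (p : ℕ) G :=
  le_antisymm (sSup_le fun _ hN => have := hN.2; le_iSup_pCore hN.1)
    (iSup_le fun p => pCore_le_fitting p.2)

lemma fitting_le_pCore_sup_pPrimeCore [Finite G] {p : ℕ} (hp : p.Prime) :
    Cfsg.fittingSubgroup G ≤ Cfsg.pCore p G ⊔ Cfsg.pPrimeCore p G := by
  rw [fitting_eq_iSup_pCore]
  refine iSup_le fun q => ?_
  by_cases h : (q : ℕ) = p
  · rw [h]; exact le_sup_left
  · exact le_sup_of_le_right (pCore_le_pPrimeCore hp q.2 h)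

/-- Fitting's theorem. -/
theorem fitting_nilpotent [Finite G] : Group.IsNilpotent (Cfsg.fittingSubgroup G) := by
  refine (Group.isNilpotent_of_finite_tfae.out 0 3 rfl rfl).2 fun p hp P => ?_
  have := hp
  set O := Cfsg.pCore p G with hO
  have hOF : O ≤ (Cfsg.fittingSubgroup G) := pCore_le_fitting hp.out
  have hOP : O.subgroupOf (Cfsg.fittingSubgroup G) ≤ (P : Subgroup (Cfsg.fittingSubgroup G)) :=
    @IsPGroup.le_sylow_of_normal _ _ _ _ ((pCore_normal (G := G) p).subgroupOf _)
      ((pCore_isPGroup p).comap_subtype) P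
  have hcard : Nat.card (Cfsg.fittingSubgroup G) ∣ Nat.card O * Nat.card (Cfsg.pPrimeCore p G) := by
    have h1 := card_sup_mul_card_inf (N := O) (H := Cfsg.pPrimeCore p G)
      (have := pCore_normal (G := G) p; Subgroup.le_normalizer_of_normal)
    exact (Subgroup.card_dvd_of_le (fitting_le_pCore_sup_pPrimeCore hp.out)).trans ⟨_, h1.symm⟩
  have heq : O.subgroupOf (Cfsg.fittingSubgroup G) = (P : Subgroup (Cfsg.fittingSubgroup G)) := by
    refine Subgroup.eq_of_le_of_card_ge hOP (Nat.le_of_dvd Nat.card_pos ?_)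
    rw [Nat.card_congr (Subgroup.subgroupOfEquivOfLe hOF).toEquiv]
    obtain ⟨n, hn⟩ := IsPGroup.iff_card.1 P.isPGroup'
    refine Nat.Coprime.dvd_of_dvd_mul_right ?_
      ((Subgroup.card_subgroup_dvd_card _).trans hcard)
    exact hn ▸ ((pPrimeCore_coprime p).pow_right n).symm
  rw [← heq]
  exact (pCore_normal p).subgroupOf (Cfsg.fittingSubgroup G)

lemma fitting_map_le [Finite G] {H : Type*} [Group H] {f : G →* H} (hf : Function.Surjective f) :
    (Cfsg.fittingSubgroup G).map f ≤ Cfsg.fittingSubgroup H := by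
  refine le_fitting (fitting_normal.map f hf) ?_
  have := fitting_nilpotent (G := G)
  exact Group.nilpotent_of_surjective _ (f.subgroupMap_surjective _)

lemma fitting_map_equiv [Finite G] {H : Type*} [Group H] (e : G ≃* H) :
    (Cfsg.fittingSubgroup G).map e.toMonoidHom = Cfsg.fittingSubgroup H := by
  have : Finite H := Finite.of_equiv G e.toEquiv
  refine le_antisymm (fitting_map_le e.surjective) fun x hx => ?_
  exact ⟨e.symm x, fitting_map_le (f := e.symm.toMonoidHom) e.symm.surjective ⟨x, hx, rfl⟩, e.apply_symm_apply x⟩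

lemma fitting_characteristic [Finite G] : (Cfsg.fittingSubgroup G).Characteristic :=
  Subgroup.characteristic_iff_map_eq.2 fun e => fitting_map_equiv e

lemma fitting_map_subtype_le [Finite G] {N : Subgroup G} (hn : N.Normal) :
    (Cfsg.fittingSubgroup N).map N.subtype ≤ Cfsg.fittingSubgroup G := by
  refine le_fitting (normal_map_of_characteristic hn fitting_characteristic) ?_
  have := fitting_nilpotent (G := N)
  exact Group.nilpotent_of_surjective _ (N.subtype.subgroupMap_surjective _)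

/-- A subnormal nilpotent subgroup lies in the Fitting subgroup. -/
lemma le_fitting_of_isSubnormal [Finite G] {H : Subgroup G} (hs : H.IsSubnormal)
    [Group.IsNilpotent H] : H ≤ Cfsg.fittingSubgroup G := by
  rw [← Subgroup.subgroupOf_eq_top]
  refine eq_top_of_forall_sylow_le fun p hp => ?_
  have := Fact.mk hp
  refine ⟨default, fun x hx => ?_⟩
  refine pCore_le_fitting hp (le_pCore_of_isSubnormal (p := p)
    (H := ((default : Sylow p H) : Subgroup H).map H.subtype) ?_
    ((default : Sylow p H).isPGroup'.map _) ⟨x, hx, rfl⟩)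
  exact Subgroup.IsSubnormal.trans' (Subgroup.Normal.isSubnormal inferInstance) hs

lemma fitting_ne_bot [Finite G] [Group.IsSolvable G] [Nontrivial G] :
    Cfsg.fittingSubgroup G ≠ ⊥ := by
  intro h
  obtain ⟨M, p, hp, hMn, hM, -, -, -, hMp, -⟩ :=
    exists_minimal_normal_abelian (N := (⊤ : Subgroup G)) inferInstance top_ne_bot
  exact hM (le_bot_iff.1 (h ▸ (le_pCore hMn hMp).trans (pCore_le_fitting hp)))

/-- In a finite solvable group the Fitting subgroup contains its centralizer. -/
theorem centralizer_fitting_le [Finite G] [Group.IsSolvable G] :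
    Subgroup.centralizer (Cfsg.fittingSubgroup G : Set G) ≤ Cfsg.fittingSubgroup G := by
  set F := Cfsg.fittingSubgroup G with hF
  have : F.Normal := fitting_normal
  by_contra hne
  obtain ⟨M, -, ⟨hMn, hMC, hMF⟩, hmin⟩ :=
    Finite.exists_le_minimal
      (p := fun K : Subgroup G => K.Normal ∧ K ≤ Subgroup.centralizer (F : Set G) ∧ ¬ K ≤ F)
      ⟨inferInstance, le_rfl, hne⟩
  have hMb : M ≠ ⊥ := fun h => hMF (h ▸ bot_le)
  have hlt : ⁅M, M⁆ < M := Group.IsSolvable.commutator_lt_of_ne_bot hMb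
  have hcF : ⁅M, M⁆ ≤ F := by
    by_contra h
    exact hlt.not_ge (hmin ⟨inferInstance, hlt.le.trans hMC, h⟩ hlt.le)
  refine hMF (le_fitting hMn ?_)
  refine Subgroup.isNilpotent_of_ker_le_center (Abelianization.of (G := M)) ?_
  rw [Abelianization.ker_of]
  intro x hx
  rw [Subgroup.mem_center_iff]
  intro y
  have hxF : (x : G) ∈ F := hcF (by
    rw [← Subgroup.map_subtype_commutator]; exact ⟨x, hx, rfl⟩)
  exact Subtype.ext ((Subgroup.mem_centralizer_iff.1 (hMC y.2)) x hxF).symm

/-- If the `p'`-core of a solvable group is trivial, the Fitting subgroup is the `p`-core. -/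
lemma fitting_eq_pCore [Finite G] {p : ℕ} (hp : p.Prime) (h : Cfsg.pPrimeCore p G = ⊥) :
    Cfsg.fittingSubgroup G = Cfsg.pCore p G := by
  refine le_antisymm ?_ (pCore_le_fitting hp)
  simpa [h] using fitting_le_pCore_sup_pPrimeCore (G := G) hp

/-- Hall–Higman: in a solvable group with trivial `p'`-core, `C(O_p) ≤ O_p`. -/
theorem centralizer_pCore_le [Finite G] [Group.IsSolvable G] {p : ℕ} (hp : p.Prime)
    (h : Cfsg.pPrimeCore p G = ⊥) :
    Subgroup.centralizer (Cfsg.pCore p G : Set G) ≤ Cfsg.pCore p G := by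
  rw [← fitting_eq_pCore hp h]
  exact centralizer_fitting_le

/-! ### The Frattini subgroup and nilpotency -/

/-- If `B ≤ Φ(G)` is normal and the image of the normal subgroup `A ≥ B` in `G ⧸ B` is nilpotent
then `A` is nilpotent. -/
theorem nilpotent_of_map_nilpotent [Finite G] {A B : Subgroup G} (hA : A.Normal) [B.Normal]
    (hBA : B ≤ A) (hB : B ≤ frattini G)
    (h : Group.IsNilpotent (A.map (QuotientGroup.mk' B))) : Group.IsNilpotent A := by
  refine (Group.isNilpotent_of_finite_tfae.out 0 3 rfl rfl).2 fun p hp P => ?_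
  have := hp
  set A' := A.map (QuotientGroup.mk' B) with hA'
  have hA'n : A'.Normal := hA.map _ (QuotientGroup.mk'_surjective B)
  set P' := P.mapSurjective ((QuotientGroup.mk' B).subgroupMap_surjective A) with hP'
  have hn : ((P' : Subgroup A').map A'.subtype).Normal :=
    normal_map_of_characteristic hA'n (P'.characteristic_of_normal inferInstance)
  set N := ((P' : Subgroup A').map A'.subtype).comap (QuotientGroup.mk' B) with hN
  have hNn : N.Normal := hn.comap _
  have hNeq : N = (P : Subgroup A).map A.subtype ⊔ B := by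
    have he : (P' : Subgroup A').map A'.subtype =
        ((P : Subgroup A).map A.subtype).map (QuotientGroup.mk' B) := by
      ext q
      simp only [hP', Sylow.coe_mapSurjective, Subgroup.mem_map]
      constructor
      · rintro ⟨_, ⟨x, hx, rfl⟩, rfl⟩
        exact ⟨_, ⟨x, hx, rfl⟩, rfl⟩
      · rintro ⟨_, ⟨x, hx, rfl⟩, rfl⟩
        exact ⟨_, ⟨x, hx, rfl⟩, rfl⟩
    rw [hN, he, Subgroup.comap_map_eq, QuotientGroup.ker_mk']
  have hPN : (P : Subgroup A).map A.subtype ≤ N := hNeq ▸ le_sup_left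
  have hNA : N ≤ A := hNeq ▸ sup_le (Subgroup.map_subtype_le _) hBA
  have hPN' : (P : Subgroup A) ≤ N.subgroupOf A := fun x hx => hPN ⟨x, hx, rfl⟩
  obtain ⟨Q, hQ⟩ : ∃ Q : Sylow p N, (Q : Subgroup N).map N.subtype =
      (P : Subgroup A).map A.subtype := by
    refine ⟨(P.subtype hPN').mapSurjective (f :=
      (Subgroup.subgroupOfEquivOfLe hNA).toMonoidHom) (MulEquiv.surjective _), ?_⟩
    ext g
    simp only [Sylow.coe_mapSurjective, Sylow.coe_subtype, Subgroup.mem_map]
    constructor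
    · rintro ⟨y, ⟨x, hx, rfl⟩, rfl⟩
      exact ⟨_, hx, rfl⟩
    · rintro ⟨x, hx, rfl⟩
      exact ⟨⟨(x : G), hPN ⟨x, hx, rfl⟩⟩, ⟨⟨x, hPN' hx⟩, hx, rfl⟩, rfl⟩
  have harg := Q.normalizer_sup_eq_top
  rw [hQ] at harg
  have hB' : B ≤ frattini G := hB
  have hPnorm : Subgroup.normalizer (((P : Subgroup A).map A.subtype : Subgroup G) : Set G) = ⊤ := by
    refine frattini_nongenerating (eq_top_iff.2 (harg ▸ sup_le le_sup_left ?_))
    rw [hNeq]
    exact sup_le (le_sup_of_le_left Subgroup.le_normalizer) (le_sup_of_le_right hB')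
  exact (Subgroup.normalizer_eq_top_iff.1 hPnorm).of_map_subtype

end Cfsg.Agent.FittingCores
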