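import Cfsg.Agent.Lib.Solvable.Basic
import Cfsg.Agent.Lib.Solvable.Fitting
import Mathlib.GroupTheory.Frattini
import Mathlib.GroupTheory.IsSubnormal

/-!
General structural lemmas: products of subgroups, Frattini subgroups of normal subgroups,
normal subgroups of nilpotent groups, maximal subgroups of solvable groups.
-/

namespace Cfsg.Agent.SolvStruct

open scoped Pointwise commutatorElement
open Cfsg.Agent.SolvBasic

variable {G : Type*} [Group G]

/-- The map `H ⧸ (K ∩ H) → G ⧸ K` sending `h (K ∩ H)` to `h K`. -/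
def cosetMap (H K : Subgroup G) : H ⧸ K.subgroupOf H → G ⧸ K := fun q =>
  Quotient.liftOn' q (fun a : H => ((a : G) : G ⧸ K)) fun _ _ hab =>
    QuotientGroup.eq.2 (Subgroup.mem_subgroupOf.1 (QuotientGroup.leftRel_apply.1 hab))

lemma cosetMap_injective (H K : Subgroup G) : Function.Injective (cosetMap H K) := by
  intro x y
  induction x using QuotientGroup.induction_on with
  | H a =>
    induction y using QuotientGroup.induction_on with
    | H b =>
      intro hxy
      change ((a : G) : G ⧸ K) = ((b : G) : G ⧸ K) at hxy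
      rw [QuotientGroup.eq] at hxy ⊢
      exact hxy

lemma index_eq_relIndex_of_mul {H K : Subgroup G}
    (h : ∀ g : G, ∃ x ∈ H, ∃ y ∈ K, g = x * y) : K.index = K.relIndex H := by
  rw [Subgroup.relIndex, Subgroup.index, Subgroup.index]
  refine (Nat.card_eq_of_bijective (cosetMap H K) ⟨cosetMap_injective H K, fun q => ?_⟩).symm
  induction q using QuotientGroup.induction_on with
  | H g =>
    obtain ⟨x, hx, y, hy, rfl⟩ := h g
    refine ⟨((⟨x, hx⟩ : H) : H ⧸ K.subgroupOf H), ?_⟩
    change (x : G ⧸ K) = _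
    exact QuotientGroup.eq.2 (by simpa using hy)

lemma mul_of_index_le [Finite G] {H K : Subgroup G} (h : K.index ≤ K.relIndex H) (g : G) :
    ∃ x ∈ H, ∃ y ∈ K, g = x * y := by
  have := Fintype.ofFinite (G ⧸ K)
  obtain ⟨q, hq⟩ := ((cosetMap_injective H K).bijective_of_nat_card_le h).2 (g : G ⧸ K)
  induction q using QuotientGroup.induction_on with
  | H a =>
    exact ⟨a, a.2, (a : G)⁻¹ * g, QuotientGroup.eq.1 hq, (mul_inv_cancel_left _ _).symm⟩

lemma mul_comm_of_mul {H K : Subgroup G} (h : ∀ g : G, ∃ x ∈ H, ∃ y ∈ K, g = x * y) (g : G) :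
    ∃ y ∈ K, ∃ x ∈ H, g = y * x := by
  obtain ⟨x, hx, y, hy, hxy⟩ := h g⁻¹
  exact ⟨y⁻¹, K.inv_mem hy, x⁻¹, H.inv_mem hx, by rw [← mul_inv_rev, ← hxy, inv_inv]⟩

/-- For a normal `N`, the index of `P ⊓ N` in `N` divides the index of `P`. -/
lemma relIndex_dvd_index_of_normal_right [Finite G] (P N : Subgroup G) [N.Normal] :
    P.relIndex N ∣ P.index := by
  have h1 : P.relIndex N = P.relIndex (N ⊔ P) := by
    have hc := card_sup_mul_card_inf (H := P) (Subgroup.le_normalizer_of_normal (H := N))
    have e1 : Nat.card P * P.relIndex (N ⊔ P) = Nat.card (N ⊔ P : Subgroup G) := by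
      rw [← Subgroup.relIndex_bot_left, Subgroup.relIndex_mul_relIndex _ _ _ bot_le le_sup_right,
        Subgroup.relIndex_bot_left]
    have e2 : Nat.card (N ⊓ P : Subgroup G) * P.relIndex N = Nat.card N := by
      rw [← Subgroup.inf_relIndex_right, inf_comm P, ← Subgroup.relIndex_bot_left,
        Subgroup.relIndex_mul_relIndex _ _ _ bot_le inf_le_left, Subgroup.relIndex_bot_left]
    rw [← e1, ← e2] at hc
    refine (Nat.eq_of_mul_eq_mul_left (Nat.mul_pos (Nat.card_pos (α := P))
      (Nat.card_pos (α := (N ⊓ P : Subgroup G)))) ?_).symm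
    calc Nat.card P * Nat.card (N ⊓ P : Subgroup G) * P.relIndex (N ⊔ P)
        = Nat.card P * P.relIndex (N ⊔ P) * Nat.card (N ⊓ P : Subgroup G) := by ring
      _ = _ := hc
      _ = _ := by ring
  rw [h1]
  exact Subgroup.relIndex_dvd_index_of_le le_sup_right

/-- For a subnormal `H`, the index of `S ⊓ H` in `H` divides the index of `S`. -/
lemma relIndex_dvd_index_of_isSubnormal [Finite G] (S : Subgroup G) {H : Subgroup G}
    (hH : H.IsSubnormal) : S.relIndex H ∣ S.index := by
  induction hH with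
  | top => rw [Subgroup.relIndex_top_right]
  | step A B hle _ hN ih =>
    have : (A.subgroupOf B).Normal := hN
    have h1 := relIndex_dvd_index_of_normal_right (S.subgroupOf B) (A.subgroupOf B)
    rw [Subgroup.relIndex_subgroupOf hle] at h1
    exact h1.trans ih

/-- A normal subgroup contained in the Frattini subgroup of a subgroup lies in the Frattini
subgroup of the group. -/
lemma le_frattini_of_le_map_frattini [Finite G] {H N : Subgroup G} (hn : N.Normal)
    (hN : N ≤ (frattini H).map H.subtype) : N ≤ frattini G := by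
  rw [frattini, Order.radical]
  refine le_iInf₂ fun M hM => ?_
  by_contra hNM
  have hNH : N ≤ H := hN.trans (Subgroup.map_subtype_le _)
  have htop : N ⊔ M = ⊤ := hM.2 _ (lt_of_le_of_ne le_sup_right fun h => hNM (h ▸ le_sup_left))
  have hsup : M.subgroupOf H ⊔ frattini H = ⊤ := by
    rw [eq_top_iff]
    intro x _
    obtain ⟨n, hn', m, hm, hnm⟩ := (mem_sup_iff_of_le_normalizer
      (H := M) (Subgroup.le_normalizer_of_normal (H := N))).1 (htop ▸ Subgroup.mem_top (x : G))
    obtain ⟨n', hn'', rfl⟩ := hN hn'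
    have hmH : m ∈ H := by
      have : m = (H.subtype n')⁻¹ * x := by rw [hnm, inv_mul_cancel_left]
      rw [this]
      exact mul_mem (inv_mem n'.2) x.2
    have : x = n' * ⟨m, hmH⟩ := Subtype.ext hnm
    rw [this]
    exact mul_mem (Subgroup.mem_sup_right hn'') (Subgroup.mem_sup_left hm)
  have hHM : H ≤ M := Subgroup.subgroupOf_eq_top.1 (frattini_nongenerating hsup)
  exact hNM (hNH.trans hHM)

/-- A nontrivial normal subgroup of a nilpotent group meets the centre. -/
lemma inf_center_ne_bot [Group.IsNilpotent G] {N : Subgroup G} [N.Normal] (hN : N ≠ ⊥) :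
    N ⊓ Subgroup.center G ≠ ⊥ := by
  classical
  have hex : ∃ n, N ⊓ Subgroup.upperCentralSeries G n ≠ ⊥ := by
    obtain ⟨n, hn⟩ := Group.IsNilpotent.nilpotent G
    exact ⟨n, by rwa [hn, inf_top_eq]⟩
  have hi0 : Nat.find hex ≠ 0 := fun h => Nat.find_spec hex (by
    rw [h, Subgroup.upperCentralSeries_zero, inf_bot_eq])
  obtain ⟨j, hj⟩ := Nat.exists_eq_succ_of_ne_zero hi0
  have hjb : N ⊓ Subgroup.upperCentralSeries G j = ⊥ :=
    not_not.1 (Nat.find_min hex (by rw [hj]; exact Nat.lt_succ_self j))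
  intro hbot
  refine Nat.find_spec hex (eq_bot_iff.2 fun x hx => ?_)
  rw [hj] at hx
  obtain ⟨hxN, hxZ⟩ := Subgroup.mem_inf.1 hx
  rw [Subgroup.mem_upperCentralSeries_succ_iff] at hxZ
  rw [← hbot]
  refine Subgroup.mem_inf.2 ⟨hxN, Subgroup.mem_center_iff.2 fun y => ?_⟩
  have h1 : ⁅x, y⁆ ∈ N ⊓ Subgroup.upperCentralSeries G j := by
    refine Subgroup.mem_inf.2 ⟨?_, hxZ y⟩
    have h2 := ‹N.Normal›.conj_mem x⁻¹ (inv_mem hxN) y
    simpa [commutatorElement_def, mul_assoc] using mul_mem hxN h2
  rw [hjb, Subgroup.mem_bot] at h1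
  exact (commutatorElement_eq_one_iff_mul_comm.1 h1).symm

/-- The Fitting subgroup centralizes every minimal normal subgroup. -/
lemma fitting_le_centralizer_minimal [Finite G] {M : Subgroup G} [hMn : M.Normal] (hM : M ≠ ⊥)
    (hmin : ∀ K : Subgroup G, K.Normal → K ≤ M → K = ⊥ ∨ K = M) :
    Cfsg.fittingSubgroup G ≤ Subgroup.centralizer (M : Set G) := by
  have hFn : (Cfsg.fittingSubgroup G).Normal := FittingCores.fitting_normal
  rcases hmin (M ⊓ Cfsg.fittingSubgroup G) inferInstance inf_le_left with h | h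
  · intro f hf
    rw [Subgroup.mem_centralizer_iff]
    intro m hm
    exact Subgroup.commute_of_normal_of_disjoint _ _ hMn hFn (disjoint_iff.2 h) m f hm hf
  · have hMF : M ≤ Cfsg.fittingSubgroup G := h ▸ inf_le_right
    have := FittingCores.fitting_nilpotent (G := G)
    have hne : M.subgroupOf (Cfsg.fittingSubgroup G) ≠ ⊥ := fun h0 => hM (by
      rw [Subgroup.subgroupOf_eq_bot, disjoint_iff, inf_eq_left.2 hMF] at h0
      exact h0)
    have hne2 := inf_center_ne_bot (N := M.subgroupOf (Cfsg.fittingSubgroup G)) hne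
    set Z := (Subgroup.center (Cfsg.fittingSubgroup G)).map
      (Cfsg.fittingSubgroup G).subtype with hZ
    have hZn : Z.Normal :=
      FittingCores.normal_map_of_characteristic hFn inferInstance
    rcases hmin (M ⊓ Z) inferInstance inf_le_left with h1 | h1
    · refine absurd ?_ hne2
      rw [eq_bot_iff]
      intro x hx
      have h2 : (x : G) ∈ M ⊓ Z :=
        Subgroup.mem_inf.2 ⟨(Subgroup.mem_inf.1 hx).1, ⟨x, (Subgroup.mem_inf.1 hx).2, rfl⟩⟩
      rw [h1, Subgroup.mem_bot] at h2
      exact Subgroup.mem_bot.2 (Subtype.ext h2)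
    · intro f hf
      rw [Subgroup.mem_centralizer_iff]
      intro m hm
      obtain ⟨z, hz, rfl⟩ : m ∈ Z := (h1 ▸ inf_le_right : M ≤ Z) hm
      exact congrArg Subtype.val (Subgroup.mem_center_iff.1 hz ⟨f, hf⟩).symm

/-- A subgroup with `A ⊔ M = ⊤`, for an abelian normal `A`, meets `A` in a normal subgroup. -/
lemma inf_normal_of_sup_eq_top {A M : Subgroup G} [A.Normal] [IsMulCommutative A]
    (h : A ⊔ M = ⊤) : (A ⊓ M).Normal := by
  rw [← Subgroup.normalizer_eq_top_iff, eq_top_iff, ← h, sup_le_iff]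
  constructor
  · intro a ha
    rw [Subgroup.mem_normalizer_iff]
    intro x
    constructor
    · intro hx
      rw [setLike_mul_comm ha (Subgroup.mem_inf.1 hx).1, mul_inv_cancel_right]
      exact hx
    · intro hx
      have hxA : x ∈ A := by
        have := (Subgroup.mem_inf.1 hx).1
        have h2 := mul_mem (mul_mem (inv_mem ha) this) ha
        simpa [mul_assoc] using h2
      rwa [setLike_mul_comm ha hxA, mul_inv_cancel_right] at hx
  · exact (le_inf Subgroup.le_normalizer_of_normal Subgroup.le_normalizer).trans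
      Subgroup.inf_normalizer_le_normalizer_inf

/-- If the Frattini subgroup is trivial, abelian normal subgroups are complemented. -/
lemma exists_complement_of_frattini_eq_bot [Finite G] (hΦ : frattini G = ⊥) (A : Subgroup G)
    [A.Normal] [IsMulCommutative A] : ∃ H : Subgroup G, Subgroup.IsComplement' A H := by
  obtain ⟨H, -, hH, hmin⟩ :=
    Finite.exists_le_minimal (p := fun K : Subgroup G => A ⊔ K = ⊤) (a := ⊤) (sup_top_eq A)
  refine ⟨H, ?_⟩
  have hn := inf_normal_of_sup_eq_top hH
  have hle : (A ⊓ H) ≤ (frattini H).map H.subtype := by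
    intro x hx
    refine ⟨⟨x, (Subgroup.mem_inf.1 hx).2⟩, ?_, rfl⟩
    rw [SetLike.mem_coe, frattini, Order.radical, Subgroup.mem_iInf]
    intro M
    rw [Subgroup.mem_iInf]
    intro hM
    by_contra hxM
    have htop : (A ⊓ H).subgroupOf H ⊔ M = ⊤ :=
      hM.2 _ (lt_of_le_of_ne le_sup_right fun h0 =>
        hxM (h0 ▸ Subgroup.mem_sup_left (show (⟨x, _⟩ : H) ∈ (A ⊓ H).subgroupOf H from hx)))
    have hbig : A ⊔ M.map H.subtype = ⊤ := by
      rw [eq_top_iff, ← hH]
      refine sup_le le_sup_left fun y hy => ?_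
      have h2 : (⟨y, hy⟩ : H) ∈ (A ⊓ H).subgroupOf H ⊔ M := htop ▸ Subgroup.mem_top _
      have h3 : H.subtype ⟨y, hy⟩ ∈ ((A ⊓ H).subgroupOf H ⊔ M).map H.subtype :=
        Subgroup.mem_map_of_mem _ h2
      rw [Subgroup.map_sup] at h3
      have h4 : ((A ⊓ H).subgroupOf H).map H.subtype ⊔ M.map H.subtype ≤ A ⊔ M.map H.subtype := by
        refine sup_le (fun w hw => ?_) le_sup_right
        obtain ⟨z, hz, rfl⟩ := hw
        exact Subgroup.mem_sup_left (Subgroup.mem_inf.1 hz).1
      exact h4 h3
    have := hmin hbig (Subgroup.map_subtype_le M)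
    exact hM.1 (eq_top_iff.2 fun z _ => by
      obtain ⟨z', hz', he⟩ := this z.2
      rwa [← Subtype.ext he])
  have hbot : A ⊓ H = ⊥ := le_bot_iff.1 (hΦ ▸ le_frattini_of_le_map_frattini hn hle)
  refine Subgroup.isComplement'_of_card_mul_and_disjoint ?_ (disjoint_iff.2 hbot)
  rw [← card_sup_of_inf_eq_bot Subgroup.le_normalizer_of_normal hbot, hH, Subgroup.card_top]

/-- Maximal subgroups of solvable groups have prime-power index. -/
lemma isPrimePow_index_of_isCoatom {G : Type*} [Group G] [Finite G] [Group.IsSolvable G]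
    {M : Subgroup G} (hM : IsCoatom M) : IsPrimePow M.index := by
  induction hc : Nat.card G using Nat.strong_induction_on generalizing G with
  | _ n ih =>
  subst hc
  have hne : Nontrivial G := by
    by_contra h
    rw [not_nontrivial_iff_subsingleton] at h
    exact hM.1 (Subsingleton.elim _ _)
  obtain ⟨A, p, hp, hAn, hA, -, hAc, -, hAp, hmin⟩ :=
    exists_minimal_normal_abelian (inferInstance : (⊤ : Subgroup G).Normal) top_ne_bot
  by_cases hAM : A ≤ M
  · have hlt : Nat.card (G ⧸ A) < Nat.card G := by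
      rw [← Subgroup.index_eq_card, ← A.card_mul_index]
      exact lt_mul_left (Nat.pos_of_ne_zero Subgroup.index_ne_zero_of_finite)
        (A.one_lt_card_iff_ne_bot.2 hA)
    have hM' : IsCoatom (M.map (QuotientGroup.mk' A)) := by
      constructor
      · intro h
        apply hM.1
        rw [← Subgroup.comap_top (QuotientGroup.mk' A), ← h, Subgroup.comap_map_eq,
          QuotientGroup.ker_mk', sup_eq_left.2 hAM]
      · intro K hK
        have hlt' : M < K.comap (QuotientGroup.mk' A) := by
          refine lt_of_le_of_ne ((Subgroup.le_comap_map _ _).trans (Subgroup.comap_mono hK.le))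
            fun h => hK.ne ?_
          rw [h, Subgroup.map_comap_eq_self_of_surjective (QuotientGroup.mk'_surjective A)]
        rw [← Subgroup.map_comap_eq_self_of_surjective (QuotientGroup.mk'_surjective A) K,
          hM.2 _ hlt', Subgroup.map_top_of_surjective _ (QuotientGroup.mk'_surjective A)]
    rw [← Subgroup.index_map_eq M (QuotientGroup.mk'_surjective A)
      (by rwa [QuotientGroup.ker_mk'] : (QuotientGroup.mk' A).ker ≤ M)]
    exact ih _ hlt hM' rfl
  · have htop : A ⊔ M = ⊤ := hM.2 _ (lt_of_le_of_ne le_sup_right fun h => hAM (h ▸ le_sup_left))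
    have hidx : M.index ∣ Nat.card A := by
      rw [← Subgroup.relIndex_top_right, ← htop]
      have h2 : M.relIndex (A ⊔ M) ∣ Nat.card A := by
        have e1 : Nat.card M * M.relIndex (A ⊔ M) = Nat.card (A ⊔ M : Subgroup G) := by
          rw [← Subgroup.relIndex_bot_left,
            Subgroup.relIndex_mul_relIndex _ _ _ bot_le le_sup_right, Subgroup.relIndex_bot_left]
        refine Nat.dvd_of_mul_dvd_mul_left (Nat.card_pos (α := M)) ?_
        rw [e1, mul_comm]
        exact ⟨_, (card_sup_mul_card_inf Subgroup.le_normalizer_of_normal).symm⟩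
      exact h2
    obtain ⟨k, hk⟩ := (@IsPGroup.iff_card p A _ ⟨hp⟩ _).1 hAp
    rw [hk, Nat.dvd_prime_pow hp] at hidx
    obtain ⟨i, -, hi⟩ := hidx
    refine (isPrimePow_nat_iff _).2 ⟨p, i, hp, Nat.pos_of_ne_zero fun h => ?_, hi.symm⟩
    rw [h, pow_zero] at hi
    exact hM.1 (Subgroup.index_eq_one.1 hi)

end Cfsg.Agent.SolvStruct
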