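import Cfsg.Agent.Lib.Solvable.SchurZassenhaus
import Cfsg.Agent.Lib.Solvable.Fitting
import Mathlib.GroupTheory.SpecificGroups.Cyclic
import Mathlib.GroupTheory.Abelianization.Finite

/-!
Coprime action of a subgroup `A` on a subgroup `K` which it normalizes.
-/

namespace Cfsg.Agent.CoprimeAct

open scoped Pointwise commutatorElement
open Cfsg.Agent.SolvBasic

variable {G : Type*} [Group G]

lemma conj_mem_of_mem_normalizer {H : Subgroup G} {g x : G}
    (hg : g ∈ Subgroup.normalizer (H : Set G)) (hx : x ∈ H) : g * x * g⁻¹ ∈ H :=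
  (Subgroup.mem_normalizer_iff.1 hg x).1 hx

lemma conj_eq_of_commute {a c : G} (h : a * c = c * a) : a * c * a⁻¹ = c := by
  rw [h, mul_inv_cancel_right]

lemma commutator_le_left {A K : Subgroup G} (hAK : A ≤ Subgroup.normalizer (K : Set G)) :
    ⁅K, A⁆ ≤ K :=
  Subgroup.le_normalizer_iff_commutator_le_left.1 hAK

variable [Finite G] {A K : Subgroup G}

/-- Fixed points of a coprime action in a quotient come from fixed points. -/
theorem exists_mem_centralizer (hAK : A ≤ Subgroup.normalizer (K : Set G))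
    (hcop : (Nat.card A).Coprime (Nat.card K)) (hsolv : Group.IsSolvable A ∨ Group.IsSolvable K)
    {N : Subgroup G} (hNK : N ≤ K) (hN : K ≤ Subgroup.normalizer (N : Set G))
    (hNA : A ≤ Subgroup.normalizer (N : Set G)) {k : G} (hk : k ∈ K)
    (hfix : ∀ a ∈ A, a * k * a⁻¹ * k⁻¹ ∈ N) :
    ∃ c ∈ K ⊓ Subgroup.centralizer (A : Set G), k⁻¹ * c ∈ N := by
  have hB : MulAut.conj k • A ≤ N ⊔ A := by
    intro b hb
    rw [mem_conjSmul] at hb
    set a := k⁻¹ * b * k with ha
    have : b = (a * k * a⁻¹ * k⁻¹)⁻¹ * a := by rw [ha]; group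
    rw [this]
    exact mul_mem (Subgroup.mem_sup_left (inv_mem (hfix a hb))) (Subgroup.mem_sup_right hb)
  obtain ⟨n, hn, hnA⟩ := SchurZ.conj_in hNA (hcop.coprime_dvd_right (Subgroup.card_dvd_of_le hNK))
    (hsolv.imp id fun h => @isSolvable_of_le G _ _ K hNK h) hB (card_conjSmul _ _)
  have hc : n⁻¹ * k ∈ K := mul_mem (inv_mem (hNK hn)) hk
  refine ⟨n⁻¹ * k, ⟨hc, SchurZ.mem_centralizer_of_mem_normalizer hAK (SchurZ.inf_eq_bot hcop) hc
    ?_⟩, ?_⟩
  · rw [mem_normalizer_iff_conjSmul, ← conjSmul_conjSmul, ← hnA, conjSmul_inv_conjSmul]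
  · simpa [mul_assoc] using conj_mem_of_mem_normalizer (hN (inv_mem hk)) (inv_mem hn)

/-- Fixed points pass to images under any homomorphism. -/
theorem map_inf_centralizer {G' : Type*} [Group G'] (f : G →* G')
    (hAK : A ≤ Subgroup.normalizer (K : Set G)) (hcop : (Nat.card A).Coprime (Nat.card K))
    (hsolv : Group.IsSolvable A ∨ Group.IsSolvable K) :
    (K ⊓ Subgroup.centralizer (A : Set G)).map f =
      K.map f ⊓ Subgroup.centralizer ((A.map f : Subgroup G') : Set G') := by
  refine le_antisymm ?_ ?_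
  · rintro _ ⟨c, hc, rfl⟩
    refine Subgroup.mem_inf.2 ⟨Subgroup.mem_map_of_mem f hc.1, ?_⟩
    rw [Subgroup.mem_centralizer_iff]
    rintro _ ⟨a, ha, rfl⟩
    rw [← map_mul, ← map_mul, Subgroup.mem_centralizer_iff.1 hc.2 a ha]
  · intro q hq
    obtain ⟨⟨k, hk, rfl⟩, hcent⟩ := Subgroup.mem_inf.1 hq
    rw [Subgroup.mem_centralizer_iff] at hcent
    have hker : f.ker.Normal := inferInstance
    obtain ⟨c, hc, hkc⟩ := exists_mem_centralizer hAK hcop hsolv (N := f.ker ⊓ K) inf_le_right
      ((le_inf Subgroup.le_normalizer_of_normal Subgroup.le_normalizer).trans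
        Subgroup.inf_normalizer_le_normalizer_inf)
      ((le_inf Subgroup.le_normalizer_of_normal hAK).trans
        Subgroup.inf_normalizer_le_normalizer_inf) hk (fun a ha =>
        Subgroup.mem_inf.2 ⟨by
          rw [MonoidHom.mem_ker]
          simp only [map_mul, map_inv]
          rw [hcent _ (Subgroup.mem_map_of_mem f ha)]
          simp,
        mul_mem (conj_mem_of_mem_normalizer (hAK ha) hk) (inv_mem hk)⟩)
    refine ⟨c, hc, ?_⟩
    have h1 : f (k⁻¹ * c) = 1 := hkc.1
    rw [map_mul, map_inv, inv_mul_eq_one] at h1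
    exact h1.symm

/-- `K = ⁅K, A⁆ C_K(A)`. -/
theorem commutator_sup_centralizer (hAK : A ≤ Subgroup.normalizer (K : Set G))
    (hcop : (Nat.card A).Coprime (Nat.card K)) (hsolv : Group.IsSolvable A ∨ Group.IsSolvable K) :
    ⁅K, A⁆ ⊔ (K ⊓ Subgroup.centralizer (A : Set G)) = K := by
  refine le_antisymm (sup_le (commutator_le_left hAK) inf_le_left) fun k hk => ?_
  obtain ⟨c, hc, hkc⟩ := exists_mem_centralizer hAK hcop hsolv (commutator_le_left hAK)
    (Subgroup.normalizer_commutator_ge_left K A) (Subgroup.normalizer_commutator_ge_right K A) hk (fun a ha => by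
      rw [← commutatorElement_def, ← commutatorElement_inv]
      exact inv_mem (Subgroup.commutator_mem_commutator hk ha))
  have h1 : c * (k⁻¹ * c)⁻¹ = k := by group
  rw [← h1]
  exact mul_mem (Subgroup.mem_sup_right hc) (Subgroup.mem_sup_left (inv_mem hkc))

/-- Every element of `K` is `d * c` with `d ∈ ⁅K, A⁆` and `c ∈ C_K(A)`. -/
theorem exists_commutator_mul (hAK : A ≤ Subgroup.normalizer (K : Set G))
    (hcop : (Nat.card A).Coprime (Nat.card K)) (hsolv : Group.IsSolvable A ∨ Group.IsSolvable K)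
    {k : G} (hk : k ∈ K) :
    ∃ d ∈ ⁅K, A⁆, ∃ c ∈ K ⊓ Subgroup.centralizer (A : Set G), k = d * c := by
  rw [← mem_sup_iff_of_le_normalizer (inf_le_left.trans (Subgroup.normalizer_commutator_ge_left K A))]
  rwa [commutator_sup_centralizer hAK hcop hsolv]

/-- `⁅K, A, A⁆ = ⁅K, A⁆`. -/
theorem commutator_commutator (hAK : A ≤ Subgroup.normalizer (K : Set G))
    (hcop : (Nat.card A).Coprime (Nat.card K)) (hsolv : Group.IsSolvable A ∨ Group.IsSolvable K) :
    ⁅⁅K, A⁆, A⁆ = ⁅K, A⁆ := by
  refine le_antisymm (Subgroup.commutator_mono (commutator_le_left hAK) le_rfl) ?_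
  rw [Subgroup.commutator_le]
  intro k hk a ha
  obtain ⟨d, hd, c, hc, rfl⟩ := exists_commutator_mul hAK hcop hsolv hk
  have hca : a * c⁻¹ = c⁻¹ * a :=
    Subgroup.mem_centralizer_iff.1 (inv_mem (show c ∈ Subgroup.centralizer (A : Set G) from hc.2)) a ha
  have h1 : ⁅d * c, a⁆ = ⁅d, a⁆ := by
    simp only [commutatorElement_def, mul_inv_rev, mul_assoc]
    rw [← mul_assoc a c⁻¹, hca]
    simp [mul_assoc]
  rw [h1]
  exact Subgroup.commutator_mem_commutator hd ha

/-- Fixed points of a product of two invariant subgroups factor. -/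
theorem exists_centralizer_mul (hAK : A ≤ Subgroup.normalizer (K : Set G))
    (hcop : (Nat.card A).Coprime (Nat.card K)) (hsolv : Group.IsSolvable A ∨ Group.IsSolvable K)
    {X Y : Subgroup G} (hX : X ≤ K) (hY : Y ≤ K) (hXA : A ≤ Subgroup.normalizer (X : Set G))
    (hYA : A ≤ Subgroup.normalizer (Y : Set G)) {x y : G} (hx : x ∈ X) (hy : y ∈ Y)
    (hxy : x * y ∈ Subgroup.centralizer (A : Set G)) :
    ∃ x' ∈ X ⊓ Subgroup.centralizer (A : Set G), ∃ y' ∈ Y ⊓ Subgroup.centralizer (A : Set G),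
      x * y = x' * y' := by
  have hI : A ≤ Subgroup.normalizer ((X ⊓ Y : Subgroup G) : Set G) :=
    (le_inf hXA hYA).trans Subgroup.inf_normalizer_le_normalizer_inf
  have hXK : X ⊓ Y ≤ K := inf_le_left.trans hX
  -- the coset `x (X ⊓ Y)` is invariant under the group generated by `A` and `X ⊓ Y`
  have key : ∀ a ∈ A, x⁻¹ * (a * x * a⁻¹) ∈ X ⊓ Y := by
    intro a ha
    refine Subgroup.mem_inf.2 ⟨mul_mem (inv_mem hx) (conj_mem_of_mem_normalizer (hXA ha) hx), ?_⟩
    have h1 : a * (x * y) * a⁻¹ = x * y :=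
      conj_eq_of_commute (Subgroup.mem_centralizer_iff.1 hxy a ha)
    have h2 : x⁻¹ * (a * x * a⁻¹) = y * (a * y * a⁻¹)⁻¹ := by
      calc x⁻¹ * (a * x * a⁻¹) = x⁻¹ * (a * (x * y) * a⁻¹) * (a * y * a⁻¹)⁻¹ := by group
        _ = _ := by rw [h1]; group
    rw [h2]
    exact mul_mem hy (inv_mem (conj_mem_of_mem_normalizer (hYA ha) hy))
  -- a complement conjugate to `A`
  have hB : MulAut.conj x⁻¹ • A ≤ (X ⊓ Y) ⊔ A := by
    intro b hb
    rw [mem_conjSmul] at hb
    set a := x * b * x⁻¹ with ha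
    rw [inv_inv, ← ha] at hb
    have : b = x⁻¹ * (a * x * a⁻¹) * a := by rw [ha]; group
    rw [this]
    exact mul_mem (Subgroup.mem_sup_left (key a hb)) (Subgroup.mem_sup_right hb)
  obtain ⟨n, hn, hnA⟩ := SchurZ.conj_in hI (hcop.coprime_dvd_right (Subgroup.card_dvd_of_le hXK))
    (hsolv.imp id fun h => @isSolvable_of_le G _ _ K hXK h) hB (card_conjSmul _ _)
  have hcA : x * n ∈ Subgroup.centralizer (A : Set G) := by
    refine SchurZ.mem_centralizer_of_mem_normalizer hAK (SchurZ.inf_eq_bot hcop)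
      (mul_mem (hX hx) (hXK hn)) ?_
    rw [mem_normalizer_iff_conjSmul, ← conjSmul_conjSmul, hnA, conjSmul_conjSmul, mul_inv_cancel,
      conjSmul_one]
  refine ⟨x * n, Subgroup.mem_inf.2 ⟨mul_mem hx hn.1, hcA⟩, n⁻¹ * y,
    Subgroup.mem_inf.2 ⟨mul_mem (inv_mem (Subgroup.mem_inf.1 hn).2) hy, ?_⟩, by group⟩
  have : n⁻¹ * y = (x * n)⁻¹ * (x * y) := by group
  rw [this]
  exact mul_mem (inv_mem hcA) hxy

/-! ### Invariant Sylow subgroups -/

lemma exists_sylow_of_card {p : ℕ} [Fact p.Prime] {S : Subgroup G} (hS : S ≤ K)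
    (h : Nat.card S = p ^ (Nat.card K).factorization p) :
    ∃ P : Sylow p K, (P : Subgroup K).map K.subtype = S :=
  ⟨Sylow.ofCard (S.subgroupOf K)
    (by rw [Nat.card_congr (Subgroup.subgroupOfEquivOfLe hS).toEquiv, h]),
    by rw [Sylow.coe_ofCard, Subgroup.map_subgroupOf_eq_of_le hS]⟩

lemma card_map_sylow {p : ℕ} [Fact p.Prime] (P : Sylow p K) :
    Nat.card ((P : Subgroup K).map K.subtype : Subgroup G) =
      p ^ (Nat.card K).factorization p := by
  rw [Subgroup.card_map_of_injective K.subtype_injective, P.card_eq_multiplicity]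

lemma invariant_sylow_aux (hAK : A ≤ Subgroup.normalizer (K : Set G))
    (hcop : (Nat.card A).Coprime (Nat.card K)) (hsolv : Group.IsSolvable A ∨ Group.IsSolvable K)
    (p : ℕ) [Fact p.Prime] :
    (∃ P : Sylow p K, A ≤ Subgroup.normalizer (((P : Subgroup K).map K.subtype : Subgroup G) :
        Set G)) ∧
    ∀ P Q : Sylow p K,
      A ≤ Subgroup.normalizer (((P : Subgroup K).map K.subtype : Subgroup G) : Set G) →
      A ≤ Subgroup.normalizer (((Q : Subgroup K).map K.subtype : Subgroup G) : Set G) →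
      ∃ c : K, (c : G) ∈ Subgroup.centralizer (A : Set G) ∧ MulAut.conj c • P = Q := by
  letI : MulAction G (Subgroup G) := MulAction.compHom (Subgroup G) MulAut.conj
  set Y : Set (Subgroup G) :=
    {S | S ≤ K ∧ Nat.card S = p ^ (Nat.card K).factorization p}
  have hsmul : ∀ (g : G) (S : Subgroup G), g • S = MulAut.conj g • S := fun _ _ => rfl
  have hmem : ∀ g ∈ Subgroup.normalizer (K : Set G), ∀ S ∈ Y, g • S ∈ Y := by
    intro g hg S hS
    refine ⟨?_, by rw [hsmul, card_conjSmul, hS.2]⟩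
    rw [hsmul, ← conjSmul_eq_self_of_mem_normalizer hg]
    exact Subgroup.pointwise_smul_le_pointwise_smul_iff.2 hS.1
  have hne : Y.Nonempty :=
    ⟨_, Subgroup.map_subtype_le _, card_map_sylow (default : Sylow p K)⟩
  have htr : ∀ S ∈ Y, ∀ T ∈ Y, ∃ k ∈ K, k • S = T := by
    rintro S ⟨hS, hSc⟩ T ⟨hT, hTc⟩
    obtain ⟨P, rfl⟩ := exists_sylow_of_card hS hSc
    obtain ⟨Q, rfl⟩ := exists_sylow_of_card hT hTc
    obtain ⟨k, rfl⟩ := MulAction.exists_smul_eq K P Q
    exact ⟨k, k.2, by rw [hsmul, ← map_subtype_conjSmul]; rfl⟩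
  obtain ⟨h1, h2⟩ := SchurZ.glauberman hAK hcop hsolv Y hne (fun a ha => hmem a (hAK ha))
    (fun k hk => hmem k (Subgroup.le_normalizer hk)) htr
  constructor
  · obtain ⟨S, hS, hfix⟩ := h1
    obtain ⟨P, rfl⟩ := exists_sylow_of_card hS.1 hS.2
    exact ⟨P, fun a ha => mem_normalizer_iff_conjSmul.2 (hfix a ha)⟩
  · intro P Q hP hQ
    obtain ⟨c, hc, hcPQ⟩ := h2 _ ⟨Subgroup.map_subtype_le _, card_map_sylow P⟩
      _ ⟨Subgroup.map_subtype_le _, card_map_sylow Q⟩
      (fun a ha => conjSmul_eq_self_of_mem_normalizer (hP ha))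
      (fun a ha => conjSmul_eq_self_of_mem_normalizer (hQ ha))
    refine ⟨⟨c, hc.1⟩, hc.2, Sylow.ext (Subgroup.map_injective K.subtype_injective ?_)⟩
    rw [hsmul] at hcPQ
    rw [← hcPQ]
    exact map_subtype_conjSmul ⟨c, hc.1⟩ (P : Subgroup K)

/-- There is an `A`-invariant Sylow subgroup. -/
theorem exists_invariant_sylow (hAK : A ≤ Subgroup.normalizer (K : Set G))
    (hcop : (Nat.card A).Coprime (Nat.card K)) (hsolv : Group.IsSolvable A ∨ Group.IsSolvable K)
    (p : ℕ) [Fact p.Prime] :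
    ∃ P : Sylow p K,
      A ≤ Subgroup.normalizer (((P : Subgroup K).map K.subtype : Subgroup G) : Set G) :=
  (invariant_sylow_aux hAK hcop hsolv p).1

/-- `A`-invariant Sylow subgroups are conjugate under `C_K(A)`. -/
theorem invariant_sylow_conj (hAK : A ≤ Subgroup.normalizer (K : Set G))
    (hcop : (Nat.card A).Coprime (Nat.card K)) (hsolv : Group.IsSolvable A ∨ Group.IsSolvable K)
    {p : ℕ} [Fact p.Prime] (P Q : Sylow p K)
    (hP : A ≤ Subgroup.normalizer (((P : Subgroup K).map K.subtype : Subgroup G) : Set G))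
    (hQ : A ≤ Subgroup.normalizer (((Q : Subgroup K).map K.subtype : Subgroup G) : Set G)) :
    ∃ c : K, (c : G) ∈ Subgroup.centralizer (A : Set G) ∧ MulAut.conj c • P = Q :=
  (invariant_sylow_aux hAK hcop hsolv p).2 P Q hP hQ

/-- An `A`-invariant `p`-subgroup lies in an `A`-invariant Sylow subgroup. -/
theorem exists_invariant_sylow_ge (hAK : A ≤ Subgroup.normalizer (K : Set G))
    (hcop : (Nat.card A).Coprime (Nat.card K)) (hsolv : Group.IsSolvable A ∨ Group.IsSolvable K)
    {p : ℕ} [Fact p.Prime] {U : Subgroup G} (hUK : U ≤ K) (hU : IsPGroup p U)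
    (hUA : A ≤ Subgroup.normalizer (U : Set G)) :
    ∃ P : Sylow p K, U ≤ (P : Subgroup K).map K.subtype ∧
      A ≤ Subgroup.normalizer (((P : Subgroup K).map K.subtype : Subgroup G) : Set G) := by
  obtain ⟨V, hUV, ⟨hVK, hVp, hVA⟩, hmax⟩ := Finite.exists_le_maximal
    (p := fun S : Subgroup G => S ≤ K ∧ IsPGroup p S ∧ A ≤ Subgroup.normalizer (S : Set G))
    ⟨hUK, hU, hUA⟩
  suffices h : Nat.card V = p ^ (Nat.card K).factorization p by
    obtain ⟨P, hP⟩ := exists_sylow_of_card hVK h
    exact ⟨P, hP ▸ hUV, hP ▸ hVA⟩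
  set L := K ⊓ Subgroup.normalizer (V : Set G) with hL
  have hVL : V ≤ L := le_inf hVK Subgroup.le_normalizer
  have hAL : A ≤ Subgroup.normalizer (L : Set G) :=
    (le_inf hAK (hVA.trans Subgroup.le_normalizer)).trans Subgroup.inf_normalizer_le_normalizer_inf
  obtain ⟨Q, hQ⟩ := exists_invariant_sylow hAL
    (hcop.coprime_dvd_right (Subgroup.card_dvd_of_le (inf_le_left : L ≤ K)))
    (hsolv.imp id fun h => @isSolvable_of_le G _ _ K inf_le_left h) p
  have hVn : (V.subgroupOf L).Normal :=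
    Subgroup.normal_subgroupOf_of_le_normalizer inf_le_right
  have hVQ : V ≤ (Q : Subgroup L).map L.subtype := fun v hv =>
    ⟨⟨v, hVL hv⟩, @IsPGroup.le_sylow_of_normal _ _ _ _ hVn hVp.comap_subtype Q _ hv, rfl⟩
  have hQV : (Q : Subgroup L).map L.subtype = V := le_antisymm
    (hmax ⟨(Subgroup.map_subtype_le _).trans inf_le_left, Q.isPGroup'.map _, hQ⟩ hVQ) hVQ
  obtain ⟨P, hP⟩ := (hVp.comap_subtype (K := K)).exists_le_sylow
  by_contra hne
  have hlt : V.subgroupOf K < (P : Subgroup K) := by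
    refine lt_of_le_of_ne hP fun h => hne ?_
    rw [← card_map_sylow P, ← h, Subgroup.map_subgroupOf_eq_of_le hVK]
  set W := (V.subgroupOf K).subgroupOf (P : Subgroup K) with hW
  have hWlt : W < ⊤ := lt_top_iff_ne_top.2 fun h => hlt.not_ge (Subgroup.subgroupOf_eq_top.1 h)
  have := P.isPGroup'.isNilpotent
  obtain ⟨x, hx, hxW⟩ := SetLike.exists_of_lt (Group.normalizerCondition_of_isNilpotent W hWlt)
  have hxn : ((x : K) : G) ∈ Subgroup.normalizer (V : Set G) := by
    rw [Subgroup.mem_normalizer_iff] at hx ⊢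
    intro v
    constructor
    · intro hv
      exact (hx ⟨⟨v, hVK hv⟩, hP (show (⟨v, hVK hv⟩ : K) ∈ V.subgroupOf K from hv)⟩).1 hv
    · intro hv
      set w : K := (x : K)⁻¹ * ⟨_, hVK hv⟩ * (x : K) with hw
      have hwv : (w : G) = v := by simp [hw, mul_assoc]
      have hwP : w ∈ (P : Subgroup K) :=
        mul_mem (mul_mem (inv_mem x.2)
          (hP (show (⟨_, hVK hv⟩ : K) ∈ V.subgroupOf K from hv))) x.2
      rw [← hwv]
      refine (hx ⟨w, hwP⟩).2 ?_
      simpa [hW, Subgroup.mem_subgroupOf, hw, mul_assoc] using hv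
  have hVx : V < (V ⊔ Subgroup.zpowers ((x : K) : G)) := by
    refine lt_of_le_of_ne le_sup_left fun h => hxW ?_
    show ((x : K) : G) ∈ V
    rw [h]
    exact Subgroup.mem_sup_right (Subgroup.mem_zpowers _)
  have hVxP : V ⊔ Subgroup.zpowers ((x : K) : G) ≤ (P : Subgroup K).map K.subtype :=
    sup_le (fun v hv => ⟨⟨v, hVK hv⟩, hP (show (⟨v, hVK hv⟩ : K) ∈ V.subgroupOf K from hv), rfl⟩)
      (Subgroup.zpowers_le.2 ⟨_, x.2, rfl⟩)
  have hVxL : V ⊔ Subgroup.zpowers ((x : K) : G) ≤ L :=
    sup_le hVL (Subgroup.zpowers_le.2 ⟨(x : K).2, hxn⟩)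
  have h1 : Nat.card (V ⊔ Subgroup.zpowers ((x : K) : G) : Subgroup G) ∣
      p ^ (Nat.card L).factorization p := by
    obtain ⟨n, hn⟩ := IsPGroup.iff_card.1 ((P.isPGroup'.map K.subtype).to_le hVxP)
    rw [hn]
    exact Nat.pow_dvd_pow p
      ((Fact.out : p.Prime).pow_dvd_iff_le_factorization Nat.card_pos.ne' |>.1
        (hn ▸ Subgroup.card_dvd_of_le hVxL))
  rw [← card_map_sylow Q, hQV] at h1
  exact hVx.ne (Subgroup.eq_of_le_of_card_ge le_sup_left (Nat.le_of_dvd Nat.card_pos h1))

/-! ### Action on an abelian group -/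

/-- Coprime action on an abelian group: `C_V(A) ⊓ ⁅V, A⁆ = ⊥`. -/
theorem centralizer_inf_commutator_eq_bot {V : Subgroup G} [IsMulCommutative V]
    (hAV : A ≤ Subgroup.normalizer (V : Set G)) (hcop : (Nat.card A).Coprime (Nat.card V)) :
    (V ⊓ Subgroup.centralizer (A : Set G)) ⊓ ⁅V, A⁆ = ⊥ := by
  classical
  have := Fintype.ofFinite A
  open scoped IsMulCommutative in
  let c : A → V →* V := fun a =>
    { toFun := fun v => ⟨(a : G) * v * (a : G)⁻¹, conj_mem_of_mem_normalizer (hAV a.2) v.2⟩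
      map_one' := Subtype.ext (by simp)
      map_mul' := fun x y => Subtype.ext (by simp [mul_assoc]) }
  let τ : V →* V := ∏ a : A, c a
  have hτ : ∀ v, τ v = ∏ a : A, c a v := fun v => MonoidHom.finsetProd_apply ..
  have hcc : ∀ (a b : A) v, c a (c b v) = c (a * b) v := fun a b v =>
    Subtype.ext (by simp [c, mul_assoc])
  have hinv : ∀ (b : A) v, τ (c b v) = τ v := fun b v => by
    simp only [hτ, hcc]
    exact Equiv.prod_comp (Equiv.mulRight b) fun a => c a v
  have hkill : ⁅V, A⁆ ≤ τ.ker.map V.subtype := by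
    rw [Subgroup.commutator_le]
    intro v hv a ha
    refine ⟨⟨v, hv⟩ * (c ⟨a, ha⟩ ⟨v, hv⟩)⁻¹, ?_, ?_⟩
    · rw [SetLike.mem_coe, MonoidHom.mem_ker, map_mul, map_inv, hinv, mul_inv_cancel]
    · simp [c, commutatorElement_def, mul_assoc]
  rw [eq_bot_iff]
  rintro x ⟨⟨hxV, hxC⟩, hxD⟩
  obtain ⟨y, hy, rfl⟩ := hkill hxD
  have h1 : τ y = y ^ Nat.card A := by
    rw [hτ, Nat.card_eq_fintype_card, ← Finset.card_univ, ← Finset.prod_const]
    exact Finset.prod_congr rfl fun a _ =>
      Subtype.ext (conj_eq_of_commute (Subgroup.mem_centralizer_iff.1 hxC a a.2))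
  rw [SetLike.mem_coe, MonoidHom.mem_ker, h1] at hy
  have : y = 1 := (powCoprime hcop.symm).injective (by simp only [powCoprime_apply, one_pow]; exact hy)
  rw [this, map_one]
  exact one_mem _

/-- Coprime action on an abelian group: `V = C_V(A) ⁅V, A⁆`. -/
theorem centralizer_sup_commutator {V : Subgroup G} [IsMulCommutative V]
    (hAV : A ≤ Subgroup.normalizer (V : Set G)) (hcop : (Nat.card A).Coprime (Nat.card V)) :
    (V ⊓ Subgroup.centralizer (A : Set G)) ⊔ ⁅V, A⁆ = V := by
  rw [sup_comm]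
  refine commutator_sup_centralizer hAV hcop (Or.inr ?_)
  exact Group.isSolvable_of_comm fun a b => mul_comm' a b

/-- A coprime action on an abelian group fixing all elements of prime order is trivial. -/
theorem le_centralizer_of_fix_prime {V : Subgroup G} [IsMulCommutative V]
    (hAV : A ≤ Subgroup.normalizer (V : Set G)) (hcop : (Nat.card A).Coprime (Nat.card V))
    (h : ∀ v ∈ V, (orderOf v).Prime → ∀ a ∈ A, a * v = v * a) :
    A ≤ Subgroup.centralizer (V : Set G) := by
  have hbot : ⁅V, A⁆ = ⊥ := by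
    by_contra hne
    obtain ⟨p, hp, hdvd⟩ := Nat.exists_prime_and_dvd
      (fun h => hne (Subgroup.card_eq_one.1 h) : Nat.card (⁅V, A⁆ : Subgroup G) ≠ 1)
    have := Fact.mk hp
    obtain ⟨y, hy⟩ := exists_prime_orderOf_dvd_card' p hdvd
    have hyV : (y : G) ∈ V := commutator_le_left hAV y.2
    have hyo : orderOf (y : G) = p := by rw [Subgroup.orderOf_coe, hy]
    have hmem : (y : G) ∈ (V ⊓ Subgroup.centralizer (A : Set G)) ⊓ ⁅V, A⁆ := by
      refine Subgroup.mem_inf.2 ⟨Subgroup.mem_inf.2 ⟨hyV, ?_⟩, y.2⟩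
      rw [Subgroup.mem_centralizer_iff]
      exact fun a ha => h _ hyV (hyo ▸ hp) a ha
    rw [centralizer_inf_commutator_eq_bot hAV hcop, Subgroup.mem_bot] at hmem
    rw [hmem, orderOf_one] at hyo
    exact hp.ne_one hyo.symm
  exact Subgroup.le_centralizer_iff.1 (Subgroup.commutator_eq_bot_iff_le_centralizer.1 hbot)

/-! ### Generation by centralizers -/

/-- For an abelian group acted on coprimely by an elementary group of order `q ^ 2`, the elements
fixed by some nontrivial element generate. -/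
lemma generated_by_fixed {E W : Type*} [Group E] [Finite E] [CommGroup W] [Finite W] {q : ℕ}
    (hq : q.Prime) (hE : Nat.card E = q ^ 2) (hexp : ∀ e : E, e ^ q = 1) (ρ : E →* MulAut W)
    (hW : q.Coprime (Nat.card W)) (X : Subgroup W)
    (hX : ∀ (e : E) (w : W), e ≠ 1 → ρ e w = w → w ∈ X) : X = ⊤ := by
  classical
  have := Fact.mk hq
  have := Fintype.ofFinite E
  rw [eq_top_iff]
  intro v _
  set f : E → W ⧸ X := fun e => ((ρ e v : W) : W ⧸ X) with hf
  set S : Finset E := Finset.univ.erase 1 with hS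
  set T : Finset (Subgroup E) := S.image Subgroup.zpowers with hT
  have hfix : ∀ e : E, e ≠ 1 → ∀ P : Finset E, (∀ x, x ∈ P ↔ e * x ∈ P) →
      ∏ x ∈ P, f x = 1 := by
    intro e he P hP
    have h1 : ∏ x ∈ P, f x = ((∏ x ∈ P, ρ x v : W) : W ⧸ X) := by
      rw [← QuotientGroup.mk'_apply, map_prod]; rfl
    rw [h1, QuotientGroup.eq_one_iff]
    refine hX e _ he ?_
    rw [map_prod]
    refine Finset.prod_equiv (Equiv.mulLeft e) (fun x => hP x) fun x _ => ?_
    simp
  have hord : ∀ e : E, e ≠ 1 → orderOf e = q := fun e he =>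
    (hq.eq_one_or_self_of_dvd _ (orderOf_dvd_of_pow_eq_one (hexp e))).resolve_left
      fun h => he (orderOf_eq_one_iff.1 h)
  have hzp : ∀ B ∈ T, Nat.card B = q ∧
      ∀ x, (x ∈ S ∧ Subgroup.zpowers x = B) ↔ (x ∈ B ∧ x ≠ 1) := by
    intro B hB
    obtain ⟨e, he, rfl⟩ := Finset.mem_image.1 hB
    have he1 : e ≠ 1 := (Finset.mem_erase.1 he).1
    refine ⟨by rw [Nat.card_zpowers, hord e he1], fun x => ⟨?_, ?_⟩⟩
    · rintro ⟨hx, hxB⟩
      exact ⟨hxB ▸ Subgroup.mem_zpowers x, (Finset.mem_erase.1 hx).1⟩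
    · rintro ⟨hx, hx1⟩
      refine ⟨Finset.mem_erase.2 ⟨hx1, Finset.mem_univ _⟩,
        Subgroup.eq_of_le_of_card_ge (Subgroup.zpowers_le.2 hx) (le_of_eq ?_)⟩
      rw [Nat.card_zpowers, Nat.card_zpowers, hord x hx1, hord e he1]
  have hpart : ∀ B ∈ T,
      (∏ x ∈ S.filter (fun x => Subgroup.zpowers x = B), f x) = (f 1)⁻¹ ∧
      (S.filter (fun x => Subgroup.zpowers x = B)).card + 1 = q := by
    intro B hB
    obtain ⟨hBc, hBm⟩ := hzp B hB
    obtain ⟨e, he, rfl⟩ := Finset.mem_image.1 hB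
    have he1 : e ≠ 1 := (Finset.mem_erase.1 he).1
    set P : Finset E := Finset.univ.filter fun x => x ∈ Subgroup.zpowers e with hP
    have heq : S.filter (fun x => Subgroup.zpowers x = Subgroup.zpowers e) = P.erase 1 := by
      ext x
      simp only [Finset.mem_filter, Finset.mem_erase, hP, Finset.mem_univ, true_and, hBm]
      tauto
    have h1P : (1 : E) ∈ P := by simp [hP]
    constructor
    · rw [heq, eq_inv_iff_mul_eq_one, Finset.prod_erase_mul _ _ h1P]
      refine hfix e he1 P fun x => ?_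
      simp [hP, Subgroup.mul_mem_cancel_left, Subgroup.mem_zpowers]
    · rw [heq, Finset.card_erase_add_one h1P, hP, ← hBc, Nat.card_eq_fintype_card,
        Fintype.card_subtype]
  have hmaps : ∀ x ∈ S, Subgroup.zpowers x ∈ T := fun x hx => Finset.mem_image_of_mem _ hx
  obtain ⟨e₀, he₀⟩ : ∃ e : E, e ≠ 1 := by
    have : Nontrivial E := Finite.one_lt_card_iff_nontrivial.1 (hE ▸ Nat.one_lt_pow two_ne_zero hq.one_lt)
    exact exists_ne 1
  have h1 : ∏ x ∈ S, f x = (f 1)⁻¹ := by
    rw [eq_inv_iff_mul_eq_one, hS, Finset.prod_erase_mul _ _ (Finset.mem_univ _)]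
    exact hfix e₀ he₀ _ fun x => by simp
  rw [← Finset.prod_fiberwise_of_maps_to hmaps, Finset.prod_congr rfl fun B hB => (hpart B hB).1,
    Finset.prod_const] at h1
  have hsum : S.card = T.card * (q - 1) := by
    rw [Finset.card_eq_sum_card_fiberwise hmaps]
    refine Finset.sum_const_nat fun B hB => ?_
    have := (hpart B hB).2
    omega
  have hScard : S.card = q ^ 2 - 1 := by
    rw [hS, Finset.card_erase_of_mem (Finset.mem_univ _), Finset.card_univ,
      ← Nat.card_eq_fintype_card, hE]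
  have hTq : T.card = q + 1 := by
    have h2 : q ^ 2 - 1 = (q + 1) * (q - 1) := by
      have := hq.two_le
      zify [Nat.one_le_pow 2 q (by omega), show 1 ≤ q by omega]
      ring
    rw [hScard, h2] at hsum
    exact (Nat.eq_of_mul_eq_mul_right (by have := hq.two_le; omega) hsum).symm
  rw [inv_pow, inv_inj, hTq, pow_succ, mul_eq_right] at h1
  have hf1 : f 1 = (v : W ⧸ X) := by simp [hf]
  rw [hf1, ← QuotientGroup.mk_pow, QuotientGroup.eq_one_iff] at h1
  obtain ⟨n, hn⟩ : ∃ n, v = (v ^ q) ^ n := by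
    obtain ⟨n, hn⟩ := exists_pow_eq_self_of_coprime
      (hW.coprime_dvd_right (orderOf_dvd_natCard v))
    exact ⟨n, hn.symm⟩
  exact hn ▸ X.pow_mem h1 n

/-- A noncyclic abelian finite group has an elementary abelian subgroup of order `q ^ 2`. -/
lemma exists_elementary_of_not_isCyclic {H : Type*} [Group H] [Finite H] [IsMulCommutative H]
    (h : ¬ IsCyclic H) :
    ∃ (q : ℕ) (E : Subgroup H), q.Prime ∧ Nat.card E = q ^ 2 ∧ ∀ e : E, e ^ q = 1 := by
  classical
  have := Fintype.ofFinite H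
  open scoped IsMulCommutative in
  have hbig : ∃ q : ℕ, q.Prime ∧ q < Nat.card (powMonoidHom q : H →* H).ker := by
    by_contra! hall
    refine h (isCyclic_of_card_pow_eq_one_le fun n hn => ?_)
    rw [← Fintype.card_subtype, ← Nat.card_eq_fintype_card]
    induction n using Nat.strong_induction_on with
    | _ n ih =>
    by_cases hn1 : n = 1
    · subst hn1
      simp [Fintype.card_subtype]
    obtain ⟨q, hq, m, rfl⟩ : ∃ q, q.Prime ∧ ∃ m, n = q * m :=
      ⟨_, Nat.minFac_prime hn1, _, (Nat.mul_div_cancel' n.minFac_dvd).symm⟩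
    have hm0 : 0 < m := Nat.pos_of_mul_pos_left hn
    have hm : Nat.card {a : H // a ^ m = 1} ≤ m :=
      ih m (lt_mul_left hm0 hq.one_lt) hm0
    have hk : Nat.card (powMonoidHom (q * m) : H →* H).ker ≤
        Nat.card (powMonoidHom q : H →* H).ker * Nat.card (powMonoidHom m : H →* H).ker := by
      set K := (powMonoidHom (q * m) : H →* H).ker with hK
      rw [← Subgroup.card_mul_index ((powMonoidHom q : H →* H).ker.subgroupOf K)]
      refine Nat.mul_le_mul ?_ ?_
      · rw [← Subgroup.inf_subgroupOf_right,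
          Nat.card_congr (Subgroup.subgroupOfEquivOfLe inf_le_right).toEquiv]
        exact Subgroup.card_le_of_le inf_le_left
      · change (powMonoidHom q : H →* H).ker.relIndex K ≤ _
        rw [Subgroup.relIndex_ker]
        refine Subgroup.card_le_of_le ?_
        rintro _ ⟨x, hx, rfl⟩
        rw [SetLike.mem_coe, MonoidHom.mem_ker] at hx
        rw [MonoidHom.mem_ker]
        simpa [← pow_mul] using hx
    calc Nat.card {a : H // a ^ (q * m) = 1} = Nat.card (powMonoidHom (q * m) : H →* H).ker :=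
          Nat.card_congr (Equiv.subtypeEquivRight fun a => by simp)
      _ ≤ _ := hk
      _ ≤ q * m := by
        refine Nat.mul_le_mul (hall q hq) ?_
        refine le_of_eq_of_le ?_ hm
        exact Nat.card_congr (Equiv.subtypeEquivRight fun a => by simp)
  obtain ⟨q, hq, hlt⟩ := hbig
  have := Fact.mk hq
  open scoped IsMulCommutative in
  set Ω := (powMonoidHom q : H →* H).ker with hΩ
  have hΩp : IsPGroup q Ω := fun x => ⟨1, Subtype.ext (by rw [pow_one]; exact MonoidHom.mem_ker.1 x.2)⟩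
  obtain ⟨k, hk⟩ := IsPGroup.iff_card.1 hΩp
  have hk2 : 2 ≤ k := by
    by_contra hc
    have := Nat.pow_le_pow_right hq.pos (show k ≤ 1 by omega)
    rw [pow_one, ← hk] at this
    omega
  obtain ⟨E, hE⟩ := Sylow.exists_subgroup_card_pow_prime_of_le_card hq hΩp
    (n := 2) (hk ▸ Nat.pow_le_pow_right hq.pos hk2)
  refine ⟨q, E.map Ω.subtype, hq, ?_, fun e => Subtype.ext ?_⟩
  · rw [Subgroup.card_map_of_injective Ω.subtype_injective, hE]
  · obtain ⟨x, -, hx⟩ := e.2
    simp only [Subgroup.coe_pow, Subgroup.coe_one, ← hx]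
    exact MonoidHom.mem_ker.1 x.2

/-- Generation by centralizers, for a group of prime power order. -/
lemma generated_of_elementary_nilpotent {P X E : Subgroup G} {q : ℕ} (hq : q.Prime)
    (hE : Nat.card E = q ^ 2) (hexp : ∀ e : E, e ^ q = 1) [Group.IsNilpotent P]
    (hEP : E ≤ Subgroup.normalizer (P : Set G)) (hcop : q.Coprime (Nat.card P))
    (hX : ∀ e ∈ E, e ≠ 1 → P ⊓ Subgroup.centralizer {e} ≤ X) : P ≤ X := by
  have := Fact.mk hq
  let φ : E →* MulAut P := P.normalizerMonoidHom.comp (Subgroup.inclusion hEP)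
  have hφ : ∀ (e : E) (x : P), ((φ e x : P) : G) = (e : G) * x * (e : G)⁻¹ := fun _ _ => rfl
  let ρ : E →* MulAut (Abelianization P) :=
    { toFun := fun e => (φ e).abelianizationCongr
      map_one' := by
        ext x
        induction x using QuotientGroup.induction_on with
        | H y => simp; rfl
      map_mul' := fun a b => by
        ext x
        induction x using QuotientGroup.induction_on with
        | H y => simp; rfl }
  set Y : Subgroup (Abelianization P) := (X.subgroupOf P).map Abelianization.of with hY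
  have hsurj : Function.Surjective (Abelianization.of : P →* Abelianization P) :=
    Quotient.mk''_surjective
  have hYtop : Y = ⊤ := by
    refine generated_by_fixed hq hE hexp ρ
      (hcop.coprime_dvd_right (Subgroup.card_dvd_of_surjective _ hsurj)) Y fun e w he hw => ?_
    obtain ⟨x, rfl⟩ := hsurj w
    set B := Subgroup.zpowers (e : G) with hB
    have hBE : B ≤ E := Subgroup.zpowers_le.2 e.2
    have hw' : Abelianization.of (φ e x) = Abelianization.of x := by simpa [ρ] using hw
    have hcomm : (φ e x) * x⁻¹ ∈ commutator P := by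
      rw [← Abelianization.ker_of, MonoidHom.mem_ker, map_mul, map_inv, hw', mul_inv_cancel]
    set D := (commutator P).map P.subtype with hD
    have hDB : E ≤ Subgroup.normalizer (D : Set G) := by
      rw [hD, Subgroup.map_subtype_commutator]
      intro g hg
      rw [mem_normalizer_iff_conjSmul]
      exact (Subgroup.map_commutator P P (MulAut.conj g).toMonoidHom).trans (by
        rw [show P.map (MulAut.conj g).toMonoidHom = P from
          conjSmul_eq_self_of_mem_normalizer (hEP hg)])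
    have hDP : P ≤ Subgroup.normalizer (D : Set G) := by
      have h1 := Subgroup.le_normalizer_map (H := commutator P) P.subtype
      rwa [Subgroup.normalizer_eq_top_iff.2 (inferInstance : (commutator P).Normal),
        ← MonoidHom.range_eq_map, Subgroup.range_subtype] at h1
    have hfix : ∀ a ∈ B, a * (x : G) * a⁻¹ * (x : G)⁻¹ ∈ D := by
      intro a ha
      obtain ⟨n, rfl⟩ := Subgroup.mem_zpowers_iff.1 ha
      have hfx : Abelianization.of (φ (e ^ n) x) = Abelianization.of x := by
        have h2 : ρ (e ^ n) (Abelianization.of x) = Abelianization.of x := by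
          have : ρ e ∈ MulAction.stabilizer (MulAut (Abelianization P)) (Abelianization.of x) := hw
          rw [map_zpow]
          exact Subgroup.zpow_mem _ this n
        simpa [ρ] using h2
      refine ⟨φ (e ^ n) x * x⁻¹, ?_, by
        rw [Subgroup.coe_subtype, Subgroup.coe_mul, Subgroup.coe_inv, hφ, Subgroup.coe_zpow]⟩
      rw [SetLike.mem_coe, ← Abelianization.ker_of, MonoidHom.mem_ker, map_mul, map_inv, hfx,
        mul_inv_cancel]
    obtain ⟨c, hc, hxc⟩ := exists_mem_centralizer (A := B) (K := P) (N := D)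
      (hBE.trans hEP) (by
        rw [hB, Nat.card_zpowers, Subgroup.orderOf_coe]
        exact hcop.coprime_dvd_left (orderOf_dvd_of_pow_eq_one (hexp e)))
      (Or.inl (Group.isSolvable_of_comm fun a b => mul_comm' a b))
      (Subgroup.map_subtype_le _) hDP (hBE.trans hDB) x.2 hfix
    have hcX : c ∈ X := by
      refine hX e e.2 (fun h => he (Subtype.ext h)) (Subgroup.mem_inf.2 ⟨hc.1, ?_⟩)
      rw [Subgroup.mem_centralizer_singleton_iff]
      exact (Subgroup.mem_centralizer_iff.1 hc.2 _ (Subgroup.mem_zpowers _)).symm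
    refine ⟨⟨c, hc.1⟩, hcX, ?_⟩
    obtain ⟨d, hd, hdx⟩ := hxc
    have : (⟨c, hc.1⟩ : P) = x * d := Subtype.ext (by simp at hdx; simp [hdx])
    rw [this, map_mul, (Abelianization.ker_of P ▸ hd : d ∈ Abelianization.of.ker), mul_one]
  have htop : X.subgroupOf P ⊔ frattini P = ⊤ := by
    refine eq_top_iff.2 (le_trans ?_ (sup_le_sup_left (?_ : commutator P ≤ frattini P) _))
    · rw [← Abelianization.ker_of, ← Subgroup.comap_map_eq, ← hY, hYtop, Subgroup.comap_top]
    · rw [frattini, Order.radical]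
      refine le_iInf₂ fun M hM => ?_
      have hMn := Subgroup.NormalizerCondition.normal_of_coatom M Group.normalizerCondition_of_isNilpotent hM
      have hsimple : ∀ K : Subgroup (P ⧸ M), K = ⊥ ∨ K = ⊤ := fun K => by
        have hle : M ≤ K.comap (QuotientGroup.mk' M) := fun m hm => by
          rw [Subgroup.mem_comap, QuotientGroup.mk'_apply, (QuotientGroup.eq_one_iff m).2 hm]
          exact one_mem _
        rcases eq_or_lt_of_le hle with h1 | h1
        · left
          rw [← Subgroup.map_comap_eq_self_of_surjective (QuotientGroup.mk'_surjective M) K, ← h1,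
            QuotientGroup.map_mk'_self]
        · right
          rw [← Subgroup.map_comap_eq_self_of_surjective (QuotientGroup.mk'_surjective M) K,
            hM.2 _ h1, Subgroup.map_top_of_surjective _ (QuotientGroup.mk'_surjective M)]
      rw [← QuotientGroup.ker_mk' M]
      have hc : ∀ a b : P ⧸ M, a * b = b * a := by
        intro a b
        rcases hsimple (Subgroup.zpowers a) with h1 | h1
        · rw [Subgroup.zpowers_eq_bot.1 h1, one_mul, mul_one]
        · obtain ⟨n, rfl⟩ := Subgroup.mem_zpowers_iff.1 (h1 ▸ Subgroup.mem_top b)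
          exact Commute.self_zpow a n
      letI : CommGroup (P ⧸ M) := { (inferInstance : Group (P ⧸ M)) with mul_comm := hc }
      exact Abelianization.commutator_subset_ker (QuotientGroup.mk' M)
  exact Subgroup.subgroupOf_eq_top.1 (frattini_nongenerating htop)

/-- A noncyclic abelian group acting coprimely: `K` is generated by the centralizers of the
nonidentity elements. -/
theorem generated_by_centralizers [IsMulCommutative A] (hA : ¬ IsCyclic A)
    (hAK : A ≤ Subgroup.normalizer (K : Set G)) (hcop : (Nat.card A).Coprime (Nat.card K)) :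
    (⨆ a ∈ {a : G | a ∈ A ∧ a ≠ 1}, K ⊓ Subgroup.centralizer {a}) = K := by
  refine le_antisymm (iSup₂_le fun a _ => inf_le_left) ?_
  obtain ⟨q, E₀, hq, hE, hexp⟩ := exists_elementary_of_not_isCyclic hA
  have hEA : E₀.map A.subtype ≤ A := Subgroup.map_subtype_le _
  rw [← Subgroup.subgroupOf_eq_top]
  refine FittingCores.eq_top_of_forall_sylow_le fun r hr => ?_
  have := Fact.mk hr
  obtain ⟨P, hP⟩ := exists_invariant_sylow hAK hcop
    (Or.inl (Group.isSolvable_of_comm fun a b => mul_comm' a b)) r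
  refine ⟨P, fun x hx => ?_⟩
  have : Group.IsNilpotent ((P : Subgroup K).map K.subtype : Subgroup G) :=
    (P.isPGroup'.map K.subtype).isNilpotent
  have hqA : q ∣ Nat.card A := (dvd_pow_self q two_ne_zero).trans
    (hE ▸ Subgroup.card_subgroup_dvd_card E₀)
  refine generated_of_elementary_nilpotent (P := (P : Subgroup K).map K.subtype)
    (X := ⨆ a ∈ {a : G | a ∈ A ∧ a ≠ 1}, K ⊓ Subgroup.centralizer {a})
    (E := E₀.map A.subtype) hq
    (by rw [Subgroup.card_map_of_injective A.subtype_injective, hE])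
    (fun e => Subtype.ext ?_) (hEA.trans hP)
    ((hcop.coprime_dvd_left hqA).coprime_dvd_right
      (Subgroup.card_dvd_of_le (Subgroup.map_subtype_le _))) ?_ ⟨x, hx, rfl⟩
  · obtain ⟨y, hy, hye⟩ := e.2
    have h3 := congrArg (fun t : E₀ => ((t : A) : G)) (hexp ⟨y, hy⟩)
    simp only [Subgroup.coe_pow, Subgroup.coe_one] at h3 ⊢
    rw [← hye]
    exact h3
  · intro e he he1 z hz
    exact le_iSup₂ (f := fun a (_ : a ∈ {a : G | a ∈ A ∧ a ≠ 1}) => K ⊓ Subgroup.centralizer {a})
      e ⟨hEA he, he1⟩ ⟨Subgroup.map_subtype_le _ hz.1, hz.2⟩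

/-- If `A` acts trivially on `K ⧸ Φ(K)` and coprimely on `Φ(K)` then trivially on `K`. -/
theorem le_centralizer_of_frattini (hAK : A ≤ Subgroup.normalizer (K : Set G))
    (hcop : (Nat.card A).Coprime (Nat.card (frattini K)))
    (htriv : ∀ a ∈ A, ∀ k ∈ K, a * k * a⁻¹ * k⁻¹ ∈ (frattini K).map K.subtype) :
    A ≤ Subgroup.centralizer (K : Set G) := by
  rw [← Subgroup.subgroupOf_eq_top]
  refine FittingCores.eq_top_of_forall_sylow_le fun q hq => ?_
  have := Fact.mk hq
  refine ⟨default, fun a₀ ha₀ => ?_⟩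
  set Q : Sylow q A := default with hQdef
  by_cases hQ1 : a₀ = 1
  · rw [hQ1]; exact one_mem _
  have hqA : q ∣ Nat.card A := (Q.isPGroup'.card_eq_or_dvd.resolve_left fun h =>
    hQ1 (Subgroup.mem_bot.1 (Subgroup.card_eq_one.1 h ▸ ha₀))).trans
      (Subgroup.card_subgroup_dvd_card _)
  have hqF : ¬ q ∣ Nat.card (frattini K) := fun h =>
    hq.not_dvd_one (hcop ▸ Nat.dvd_gcd hqA h)
  let φ : (Q : Subgroup A) →* MulAut K :=
    K.normalizerMonoidHom.comp ((Subgroup.inclusion hAK).comp (Q : Subgroup A).subtype)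
  have hφ : ∀ (a : (Q : Subgroup A)) (k : K),
      ((φ a k : K) : G) = ((a : A) : G) * k * ((a : A) : G)⁻¹ := fun _ _ => rfl
  let Fx : Subgroup K :=
    { carrier := {k | ∀ a, φ a k = k}
      one_mem' := fun a => map_one _
      mul_mem' := fun hx hy a => by rw [map_mul, hx a, hy a]
      inv_mem' := fun hx a => by rw [map_inv, hx a] }
  have hfix : Fx ⊔ frattini K = ⊤ := by
    rw [eq_top_iff]
    intro k _
    have hk : ∀ (a : (Q : Subgroup A)) (x : K), (k⁻¹ * x ∈ frattini K) →
        k⁻¹ * φ a x ∈ frattini K := by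
      intro a x hx
      obtain ⟨d, hd, hdx⟩ := htriv (a : A) (a : A).2 k k.2
      have hd' : φ a k = d * k := Subtype.ext (by
        rw [hφ]; rw [Subgroup.coe_subtype] at hdx; rw [Subgroup.coe_mul, hdx]; group)
      have hx' : φ a x = φ a k * φ a (k⁻¹ * x) := by rw [← map_mul, mul_inv_cancel_left]
      rw [hx', hd', mul_assoc d, ← mul_assoc k⁻¹ d, mul_assoc]
      have h1 : φ a (k⁻¹ * x) ∈ frattini K := by
        have := (inferInstance : (frattini K).Characteristic).fixed (φ a)
        rw [← this] at hx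
        exact hx
      have h2 : k⁻¹ * d * k ∈ frattini K := by
        simpa using (inferInstance : (frattini K).Normal).conj_mem d hd k⁻¹
      have := mul_mem h2 h1
      simpa [mul_assoc] using this
    letI act : MulAction (Q : Subgroup A) {x : K // k⁻¹ * x ∈ frattini K} :=
      { smul := fun a x => ⟨φ a x, hk a x x.2⟩
        one_smul := fun x => Subtype.ext (by change φ 1 _ = _; simp)
        mul_smul := fun a b x => Subtype.ext (by change φ (a * b) _ = φ a (φ b _); simp) }
    have hcard : Nat.card {x : K // k⁻¹ * x ∈ frattini K} = Nat.card (frattini K) :=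
      Nat.card_congr (Equiv.subtypeEquiv (Equiv.mulLeft k⁻¹) fun x => by simp)
    obtain ⟨y, hy⟩ := Q.isPGroup'.nonempty_fixed_point_of_prime_not_dvd_card _ (hcard ▸ hqF)
    have hyF : (y : K) ∈ Fx := fun a => congrArg Subtype.val (hy a)
    have : k = (y : K) * (k⁻¹ * (y : K))⁻¹ := by group
    rw [this]
    exact mul_mem (Subgroup.mem_sup_left hyF) (Subgroup.mem_sup_right (inv_mem y.2))
  have htop := frattini_nongenerating hfix
  rw [Subgroup.mem_subgroupOf, Subgroup.mem_centralizer_iff]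
  intro k hk
  have h1 : φ ⟨a₀, ha₀⟩ ⟨k, hk⟩ = ⟨k, hk⟩ := (htop ▸ Subgroup.mem_top _ : (⟨k, hk⟩ : K) ∈ Fx) _
  have h2 := congrArg (fun t : K => (t : G)) h1
  simp only [hφ] at h2
  exact (mul_inv_eq_iff_eq_mul.1 h2).symm

end Cfsg.Agent.CoprimeAct
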