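import Cfsg.Agent.Lib.Solvable.Fitting
import Cfsg.Agent.Lib.PLocal.PSolvable

/-! The upper `p`-series and `p`-length: characterisation by chains, behaviour under homomorphisms. -/

set_option autoImplicit false
open scoped Pointwise

universe u v

namespace Cfsg.Agent.PSeries

variable {G : Type u} [Group G] {H : Type v} [Group H] {p : ℕ}

/-- The terms of the upper `p`-series. -/
def U (p : ℕ) (G : Type u) [Group G] (n : ℕ) : Subgroup G := (Cfsg.upperPSeries p G n).1

instance U_normal (p : ℕ) (G : Type u) [Group G] (n : ℕ) : (U p G n).Normal :=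
  (Cfsg.upperPSeries p G n).2

lemma pLengthLE_iff {k : ℕ} : Cfsg.PLengthLE p k G ↔ U p G (2 * k + 1) = ⊤ := Iff.rfl

lemma U_zero : U p G 0 = ⊥ := rfl

lemma U_succ_even {n : ℕ} (hn : Even n) :
    U p G (n + 1) = (Cfsg.pPrimeCore p (G ⧸ U p G n)).comap (QuotientGroup.mk' _) := by
  unfold U
  rw [Cfsg.upperPSeries]
  simp only [if_pos hn]

lemma U_succ_odd {n : ℕ} (hn : ¬ Even n) :
    U p G (n + 1) = (Cfsg.pCore p (G ⧸ U p G n)).comap (QuotientGroup.mk' _) := by
  unfold U
  rw [Cfsg.upperPSeries]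
  simp only [if_neg hn]

lemma card_map_mk' (N X : Subgroup G) [N.Normal] :
    Nat.card (X.map (QuotientGroup.mk' N)) = N.relIndex X := by
  rw [← Subgroup.relIndex_ker X (QuotientGroup.mk' N), QuotientGroup.ker_mk']

lemma U_le_succ (n : ℕ) : U p G n ≤ U p G (n + 1) := by
  have h : ∀ X : Subgroup (G ⧸ U p G n), U p G n ≤ X.comap (QuotientGroup.mk' _) := fun X x hx => by
    rw [Subgroup.mem_comap, QuotientGroup.mk'_apply, (QuotientGroup.eq_one_iff x).2 hx]
    exact X.one_mem
  by_cases hn : Even n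
  · rw [U_succ_even hn]; exact h _
  · rw [U_succ_odd hn]; exact h _

lemma U_mono : Monotone (U p G) := monotone_nat_of_le_succ U_le_succ

theorem le_succ_even [Finite G] {n : ℕ} (hn : Even n) {X : Subgroup G} [hX : X.Normal]
    (h : ((U p G n).relIndex X).Coprime p) : X ≤ U p G (n + 1) := by
  rw [U_succ_even hn, ← Subgroup.map_le_iff_le_comap]
  exact FittingCores.le_pPrimeCore (hX.map _ (QuotientGroup.mk'_surjective _))
    (by rwa [card_map_mk'])

theorem le_succ_odd [Finite G] {n : ℕ} (hn : ¬ Even n) {X : Subgroup G} [hX : X.Normal]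
    (h : ∃ m, (U p G n).relIndex X = p ^ m) : X ≤ U p G (n + 1) := by
  obtain ⟨m, hm⟩ := h
  rw [U_succ_odd hn, ← Subgroup.map_le_iff_le_comap]
  exact FittingCores.le_pCore (hX.map _ (QuotientGroup.mk'_surjective _))
    (IsPGroup.of_card (n := m) (by rw [card_map_mk', hm]))

theorem relIndex_succ_even [Finite G] {n : ℕ} (hn : Even n) :
    ((U p G n).relIndex (U p G (n + 1))).Coprime p := by
  rw [← card_map_mk', U_succ_even hn,
    Subgroup.map_comap_eq_self_of_surjective (QuotientGroup.mk'_surjective _)]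
  exact FittingCores.pPrimeCore_coprime p

theorem relIndex_succ_odd [Finite G] [Fact p.Prime] {n : ℕ} (hn : ¬ Even n) :
    ∃ m, (U p G n).relIndex (U p G (n + 1)) = p ^ m := by
  obtain ⟨m, hm⟩ := (FittingCores.pCore_isPGroup (G := G ⧸ U p G n) p).exists_card_eq
  refine ⟨m, ?_⟩
  rw [← card_map_mk', U_succ_odd hn,
    Subgroup.map_comap_eq_self_of_surjective (QuotientGroup.mk'_surjective _), hm]

/-- A step of a `p`-series: a `p'`-factor from an even term, a `p`-factor from an odd one. -/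
def Step (p : ℕ) (n : ℕ) (d : ℕ) : Prop :=
  (Even n → d.Coprime p) ∧ (¬ Even n → ∃ m, d = p ^ m)

lemma Step.of_dvd [hp : Fact p.Prime] {n d e : ℕ} (h : Step p n d) (he : e ∣ d) : Step p n e := by
  refine ⟨fun hn => Nat.Coprime.coprime_dvd_left he (h.1 hn), fun hn => ?_⟩
  obtain ⟨m, rfl⟩ := h.2 hn
  obtain ⟨j, -, hj⟩ := (Nat.dvd_prime_pow hp.out).1 he
  exact ⟨j, hj⟩

lemma step_U [Finite G] [Fact p.Prime] (n : ℕ) :
    Step p n ((U p G n).relIndex (U p G (n + 1))) :=
  ⟨relIndex_succ_even, relIndex_succ_odd⟩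

/-- A normal series with the factors of a `p`-series lies inside the upper `p`-series. -/
theorem le_U_of_chain [Finite G] [Fact p.Prime] (K : ℕ → Subgroup G) (m : ℕ) (hm : Even m)
    (h0 : K 0 ≤ U p G m) (hn : ∀ n, (K n).Normal)
    (hs : ∀ n, Step p n ((K n).relIndex (K (n + 1)))) : ∀ n, K n ≤ U p G (m + n)
  | 0 => h0
  | n + 1 => by
    have ih := le_U_of_chain K m hm h0 hn hs n
    have hst : Step p n ((U p G (m + n)).relIndex (K (n + 1))) :=
      (hs n).of_dvd (Subgroup.relIndex_dvd_of_le_left _ ih)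
    have := hn (n + 1)
    by_cases he : Even n
    · exact le_succ_even (hm.add he) (hst.1 he)
    · exact le_succ_odd (fun h => he ((Nat.even_add.1 h).1 hm)) (hst.2 he)

theorem map_U_le [Finite G] [Finite H] [Fact p.Prime] {f : G →* H} (hf : Function.Surjective f)
    (n : ℕ) : (U p G n).map f ≤ U p H n := by
  have := le_U_of_chain (fun i => (U p G i).map f) 0 ⟨0, rfl⟩
    (by simp [U_zero]) (fun i => (U_normal p G i).map f hf)
    (fun i => (step_U i).of_dvd (PSolvable.relIndex_map_dvd f _ _)) n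
  simpa using this

theorem comap_U_le [Finite G] [Finite H] [Fact p.Prime] {f : G →* H}
    (hker : (Nat.card f.ker).Coprime p) (n : ℕ) : (U p H (n + 1)).comap f ≤ U p G (n + 1) := by
  have key : ∀ A B : Subgroup H, A.Normal → (A.comap f).relIndex (B.comap f) ∣ A.relIndex B := by
    intro A B hA
    rw [Subgroup.relIndex_comap, Subgroup.map_comap_eq, inf_comm]
    exact PSolvable.relIndex_inf_dvd_of_normal _
  have hfirst : Step p 0 ((⊥ : Subgroup G).relIndex ((U p H 1).comap f)) := by
    refine ⟨fun _ => ?_, fun h => absurd ⟨0, rfl⟩ h⟩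
    rw [← Subgroup.relIndex_mul_relIndex ⊥ f.ker _ bot_le (Subgroup.comap_mono bot_le),
      Subgroup.relIndex_bot_left]
    refine Nat.Coprime.mul_left hker ?_
    have h1 : f.ker = (U p H 0).comap f := rfl
    rw [h1]
    exact Nat.Coprime.coprime_dvd_left (key _ _ (U_normal p H 0)) ((step_U 0).1 ⟨0, rfl⟩)
  have := le_U_of_chain (G := G) (fun i => match i with
      | 0 => ⊥
      | i + 1 => (U p H (i + 1)).comap f) 0 ⟨0, rfl⟩ bot_le
    (fun i => match i with
      | 0 => inferInstance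
      | i + 1 => (U_normal p H (i + 1)).comap f)
    (fun i => match i with
      | 0 => hfirst
      | i + 1 => (step_U (i + 1)).of_dvd (key _ _ (U_normal p H (i + 1)))) (n + 1)
  simpa using this

theorem U_one [Finite G] [Fact p.Prime] : U p G 1 = Cfsg.pPrimeCore p G := by
  refine le_antisymm (FittingCores.le_pPrimeCore (U_normal p G 1) ?_) ?_
  · have h := (step_U (p := p) (G := G) 0).1 ⟨0, rfl⟩
    rwa [U_zero, Subgroup.relIndex_bot_left] at h
  · have := FittingCores.pPrimeCore_normal (G := G) p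
    refine le_succ_even (n := 0) ⟨0, rfl⟩ ?_
    rw [U_zero, Subgroup.relIndex_bot_left]
    exact FittingCores.pPrimeCore_coprime p

theorem U_two [Finite G] [Fact p.Prime] : U p G 2 = Cfsg.pPrimePCore p G := by
  have hn := FittingCores.pPrimeCore_normal (G := G) p
  have hpn := FittingCores.pCore_normal (G := G ⧸ Cfsg.pPrimeCore p G) p
  refine le_antisymm ?_ ?_
  · rw [Cfsg.pPrimePCore, ← Subgroup.map_le_iff_le_comap]
    refine FittingCores.le_pCore ((U_normal p G 2).map _ (QuotientGroup.mk'_surjective _)) ?_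
    obtain ⟨m, hm⟩ := (step_U (p := p) (G := G) 1).2 (by decide)
    rw [U_one] at hm
    exact IsPGroup.of_card (n := m) (by rw [card_map_mk', hm])
  · have : (Cfsg.pPrimePCore p G).Normal := hpn.comap _
    refine le_succ_odd (n := 1) (by decide) ?_
    obtain ⟨m, hm⟩ := (FittingCores.pCore_isPGroup (G := G ⧸ Cfsg.pPrimeCore p G) p).exists_card_eq
    refine ⟨m, ?_⟩
    rw [U_one, ← card_map_mk', Cfsg.pPrimePCore,
      Subgroup.map_comap_eq_self_of_surjective (QuotientGroup.mk'_surjective _), hm]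

theorem pLengthLE_of_surjective [Finite G] [Finite H] [Fact p.Prime] (f : G →* H)
    (hf : Function.Surjective f) {k : ℕ} (h : Cfsg.PLengthLE p k G) : Cfsg.PLengthLE p k H := by
  rw [pLengthLE_iff] at h ⊢
  rw [← top_le_iff, ← Subgroup.map_top_of_surjective f hf, ← h]
  exact map_U_le hf _

theorem pLengthLE_quotient [Finite G] [Fact p.Prime] (N : Subgroup G) [N.Normal] {k : ℕ}
    (h : Cfsg.PLengthLE p k G) : Cfsg.PLengthLE p k (G ⧸ N) :=
  pLengthLE_of_surjective _ (QuotientGroup.mk'_surjective N) h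

/-- Extension by a normal `p'`-subgroup, or a subgroup: `p`-length cannot grow. -/
theorem pLengthLE_of_ker_coprime [Finite G] [Finite H] [Fact p.Prime] (f : G →* H)
    (hker : (Nat.card f.ker).Coprime p) {k : ℕ} (h : Cfsg.PLengthLE p k H) :
    Cfsg.PLengthLE p k G := by
  rw [pLengthLE_iff] at h ⊢
  rw [← top_le_iff, ← Subgroup.comap_top f, ← h]
  exact comap_U_le hker _

theorem pLengthLE_mono [Finite G] {k l : ℕ} (hkl : k ≤ l) (h : Cfsg.PLengthLE p k G) :
    Cfsg.PLengthLE p l G := by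
  rw [pLengthLE_iff] at h ⊢
  exact top_le_iff.1 (h ▸ U_mono (by omega))

theorem pLengthLE_succ_iff [Finite G] [Fact p.Prime] {k : ℕ} :
    Cfsg.PLengthLE p (k + 1) G ↔ Cfsg.PLengthLE p k (G ⧸ U p G 2) := by
  set f := QuotientGroup.mk' (U p G 2) with hf
  have hfs : Function.Surjective f := QuotientGroup.mk'_surjective _
  have h1 : ∀ n, (U p G (n + 2)).map f ≤ U p (G ⧸ U p G 2) n := fun n => by
    have := le_U_of_chain (fun i => (U p G (i + 2)).map f) 0 ⟨0, rfl⟩
      ((le_of_eq (QuotientGroup.map_mk'_self _)).trans bot_le)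
      (fun i => (U_normal p G (i + 2)).map f hfs)
      (fun i => by
        have hst : Step p i ((U p G (i + 2)).relIndex (U p G (i + 1 + 2))) := by
          have hst := step_U (p := p) (G := G) (i + 2)
          simpa [Step, Nat.even_add] using hst
        exact hst.of_dvd (PSolvable.relIndex_map_dvd f _ _)) n
    simpa using this
  have h2 : ∀ n, (U p (G ⧸ U p G 2) n).comap f ≤ U p G (2 + n) := fun n => by
    exact le_U_of_chain (fun i => (U p (G ⧸ U p G 2) i).comap f) 2 ⟨1, rfl⟩
      (le_of_eq (by rw [U_zero, MonoidHom.comap_bot, hf, QuotientGroup.ker_mk']))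
      (fun i => (U_normal p _ i).comap f) (fun i => (step_U i).of_dvd (by
        rw [Subgroup.relIndex_comap, Subgroup.map_comap_eq_self_of_surjective hfs])) n
  rw [pLengthLE_iff, pLengthLE_iff]
  constructor <;> intro h
  · rw [← top_le_iff, ← Subgroup.map_top_of_surjective f hfs, ← h]
    exact le_trans (le_of_eq (by congr 2)) (h1 (2 * k + 1))
  · rw [← top_le_iff, ← Subgroup.comap_top f, ← h]
    exact (h2 _).trans (le_of_eq (by congr 1; omega))

theorem pLengthLE_zero_iff [Finite G] [Fact p.Prime] :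
    Cfsg.PLengthLE p 0 G ↔ (Nat.card G).Coprime p := by
  rw [pLengthLE_iff, U_one]
  refine ⟨fun h => ?_, fun h => top_le_iff.1 (FittingCores.le_pPrimeCore inferInstance ?_)⟩
  · have := FittingCores.pPrimeCore_coprime (G := G) p
    rwa [h, Subgroup.card_top] at this
  · rwa [Subgroup.card_top]

/-- Two normal subgroups meeting trivially: the `p`-length is that of the two quotients. -/
theorem pLengthLE_inf [Finite G] [Fact p.Prime] (A B : Subgroup G) [A.Normal] [B.Normal]
    [(A ⊓ B).Normal] {k : ℕ} (hA : Cfsg.PLengthLE p k (G ⧸ A)) (hB : Cfsg.PLengthLE p k (G ⧸ B)) :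
    Cfsg.PLengthLE p k (G ⧸ (A ⊓ B)) := by
  rw [pLengthLE_iff] at hA hB ⊢
  set f := QuotientGroup.map (A ⊓ B) A (MonoidHom.id G) (fun x hx => hx.1) with hf
  set g := QuotientGroup.map (A ⊓ B) B (MonoidHom.id G) (fun x hx => hx.2) with hg
  set W : ℕ → Subgroup (G ⧸ (A ⊓ B)) := fun i => (U p (G ⧸ A) i).comap f ⊓ (U p (G ⧸ B) i).comap g
    with hW
  have h0 : W 0 = ⊥ := by
    rw [eq_bot_iff]
    rintro x ⟨hxA, hxB⟩
    obtain ⟨x, rfl⟩ := QuotientGroup.mk'_surjective _ x
    exact (QuotientGroup.eq_one_iff x).2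
      ⟨(QuotientGroup.eq_one_iff x).1 hxA, (QuotientGroup.eq_one_iff x).1 hxB⟩
  have key : ∀ {L : Type u} [Group L] (t : G ⧸ (A ⊓ B) →* L) (C D : Subgroup L), C.Normal →
      (C.comap t).relIndex (D.comap t) ∣ C.relIndex D := by
    intro L _ t C D hC
    rw [Subgroup.relIndex_comap, Subgroup.map_comap_eq, inf_comm]
    exact PSolvable.relIndex_inf_dvd_of_normal _
  have hle : ∀ i, W i ≤ W (i + 1) := fun i =>
    inf_le_inf (Subgroup.comap_mono (U_le_succ i)) (Subgroup.comap_mono (U_le_succ i))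
  have hchain := le_U_of_chain (p := p) W 0 ⟨0, rfl⟩ (h0.le.trans bot_le)
    (fun i => @Subgroup.normal_inf_normal _ _ _ _ ((U_normal p _ i).comap f) ((U_normal p _ i).comap g))
    (fun i => ?_) (2 * k + 1)
  · simp only [hW, hA, hB, Subgroup.comap_top, le_refl, inf_of_le_left, Nat.zero_add] at hchain
    exact top_le_iff.1 hchain
  · -- both factors of `W (i+1) / W i` embed in the factors of the quotients
    set M := (U p (G ⧸ A) i).comap f ⊓ (U p (G ⧸ B) (i + 1)).comap g with hM
    have hMn : ((U p (G ⧸ A) i).comap f).Normal := (U_normal p _ i).comap f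
    have hNn : ((U p (G ⧸ B) i).comap g).Normal := (U_normal p _ i).comap g
    have hsplit := Subgroup.relIndex_mul_relIndex (W i) (M ⊓ W (i + 1)) (W (i + 1))
      (le_inf (inf_le_inf le_rfl (Subgroup.comap_mono (U_le_succ i))) (hle i)) inf_le_right
    have hd1 : (W i).relIndex (M ⊓ W (i + 1)) ∣
        (U p (G ⧸ B) i).relIndex (U p (G ⧸ B) (i + 1)) := by
      refine dvd_trans ?_ (key g _ _ (U_normal p _ i))
      have e : (W i).relIndex (M ⊓ W (i + 1)) =
          ((U p (G ⧸ B) i).comap g).relIndex (M ⊓ W (i + 1)) := by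
        rw [← Subgroup.inf_relIndex_right]
        conv_rhs => rw [← Subgroup.inf_relIndex_right]
        congr 1
        ext x
        simp only [hW, hM, Subgroup.mem_inf]
        tauto
      rw [e, show M ⊓ W (i + 1) = ((U p (G ⧸ B) (i + 1)).comap g) ⊓ (M ⊓ W (i + 1)) from
        (inf_eq_right.2 (inf_le_right.trans inf_le_right)).symm]
      exact PSolvable.relIndex_inf_dvd_of_normal _
    have hd2 : (M ⊓ W (i + 1)).relIndex (W (i + 1)) ∣
        (U p (G ⧸ A) i).relIndex (U p (G ⧸ A) (i + 1)) := by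
      refine dvd_trans ?_ (key f _ _ (U_normal p _ i))
      have e : (M ⊓ W (i + 1)).relIndex (W (i + 1)) =
          ((U p (G ⧸ A) i).comap f).relIndex (W (i + 1)) := by
        rw [← Subgroup.inf_relIndex_right]
        conv_rhs => rw [← Subgroup.inf_relIndex_right]
        congr 1
        ext x
        simp only [hW, hM, Subgroup.mem_inf]
        tauto
      rw [e, show W (i + 1) = ((U p (G ⧸ A) (i + 1)).comap f) ⊓ W (i + 1) from
        (inf_eq_right.2 inf_le_left).symm]
      exact PSolvable.relIndex_inf_dvd_of_normal _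
    rw [← hsplit]
    refine ⟨fun he => ?_, fun he => ?_⟩
    · exact Nat.Coprime.mul_left (((step_U i).of_dvd hd1).1 he) (((step_U i).of_dvd hd2).1 he)
    · obtain ⟨a, ha⟩ := ((step_U i).of_dvd hd1).2 he
      obtain ⟨b, hb⟩ := ((step_U i).of_dvd hd2).2 he
      exact ⟨a + b, by rw [ha, hb, pow_add]⟩

theorem pPrimeCore_quotient_U_odd [Finite G] [Fact p.Prime] (k : ℕ) :
    Cfsg.pPrimeCore p (G ⧸ U p G (2 * k + 1)) = ⊥ := by
  set f := QuotientGroup.mk' (U p G (2 * k + 1)) with hf
  have := FittingCores.pPrimeCore_normal (G := G ⧸ U p G (2 * k + 1)) p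
  set X := (Cfsg.pPrimeCore p (G ⧸ U p G (2 * k + 1))).comap f with hX
  have hXn : X.Normal := this.comap f
  have hUX : U p G (2 * k + 1) ≤ X := fun x hx => by
    rw [hX, Subgroup.mem_comap, hf, QuotientGroup.mk'_apply, (QuotientGroup.eq_one_iff x).2 hx]
    exact Subgroup.one_mem _
  have hle : X ≤ U p G (2 * k + 1) := by
    refine le_succ_even ⟨k, by ring⟩ ?_
    rw [← Subgroup.relIndex_mul_relIndex _ _ _ (U_le_succ (2 * k)) hUX]
    refine Nat.Coprime.mul_left (relIndex_succ_even ⟨k, by ring⟩) ?_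
    rw [← card_map_mk', hX, Subgroup.map_comap_eq_self_of_surjective (QuotientGroup.mk'_surjective _)]
    exact FittingCores.pPrimeCore_coprime p
  rw [eq_bot_iff, ← Subgroup.map_comap_eq_self_of_surjective (QuotientGroup.mk'_surjective _)
    (Cfsg.pPrimeCore p (G ⧸ U p G (2 * k + 1)))]
  rintro _ ⟨x, hx, rfl⟩
  exact (QuotientGroup.eq_one_iff x).2 (hle hx)

theorem map_U_succ_odd (k : ℕ) :
    (U p G (2 * k + 2)).map (QuotientGroup.mk' (U p G (2 * k + 1))) =
      Cfsg.pCore p (G ⧸ U p G (2 * k + 1)) := by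
  rw [U_succ_odd (n := 2 * k + 1) (by simp),
    Subgroup.map_comap_eq_self_of_surjective (QuotientGroup.mk'_surjective _)]

theorem pCore_quotient_U_even [Finite G] [Fact p.Prime] (k : ℕ) :
    Cfsg.pCore p (G ⧸ U p G (2 * k + 2)) = ⊥ := by
  set f := QuotientGroup.mk' (U p G (2 * k + 2)) with hf
  have := FittingCores.pCore_normal (G := G ⧸ U p G (2 * k + 2)) p
  set X := (Cfsg.pCore p (G ⧸ U p G (2 * k + 2))).comap f with hX
  have hXn : X.Normal := this.comap f
  have hUX : U p G (2 * k + 2) ≤ X := fun x hx => by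
    rw [hX, Subgroup.mem_comap, hf, QuotientGroup.mk'_apply, (QuotientGroup.eq_one_iff x).2 hx]
    exact Subgroup.one_mem _
  have hle : X ≤ U p G (2 * k + 2) := by
    refine le_succ_odd (by simp) ?_
    obtain ⟨a, ha⟩ := relIndex_succ_odd (p := p) (G := G) (n := 2 * k + 1) (by simp)
    obtain ⟨b, hb⟩ := (FittingCores.pCore_isPGroup (G := G ⧸ U p G (2 * k + 2)) p).exists_card_eq
    refine ⟨a + b, ?_⟩
    rw [← Subgroup.relIndex_mul_relIndex _ _ _ (U_le_succ (2 * k + 1)) hUX, ha, pow_add,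
      ← card_map_mk', hX,
      Subgroup.map_comap_eq_self_of_surjective (QuotientGroup.mk'_surjective _), hb]
  rw [eq_bot_iff, ← Subgroup.map_comap_eq_self_of_surjective (QuotientGroup.mk'_surjective _)
    (Cfsg.pCore p (G ⧸ U p G (2 * k + 2)))]
  rintro _ ⟨x, hx, rfl⟩
  exact (QuotientGroup.eq_one_iff x).2 (hle hx)

end Cfsg.Agent.PSeries
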