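import Cfsg.Agent.Lib.Solvable.Basic
import Mathlib.GroupTheory.SchurZassenhaus

/-!
The conjugacy half of the Schur–Zassenhaus theorem, and Glauberman's lemma on coprime action
on a set.
-/

namespace Cfsg.Agent.SchurZ

open scoped Pointwise
open Cfsg.Agent.SolvBasic

/-- Conjugacy for an abelian normalized subgroup, by averaging the cocycle. -/
theorem conj_of_abelian {G : Type*} [Group G] [Finite G] {A H K : Subgroup G}
    [IsMulCommutative A] (hH : H ≤ Subgroup.normalizer (A : Set G))
    (hK : K ≤ Subgroup.normalizer (A : Set G)) (hle : H ≤ A ⊔ K) (hKA : A ⊓ K = ⊥)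
    (hcard : Nat.card H = Nat.card K) (hcop : (Nat.card A).Coprime (Nat.card H)) :
    ∃ a ∈ A, MulAut.conj a • H = K := by
  classical
  have := Fintype.ofFinite H
  open scoped IsMulCommutative in
  have hex : ∀ h : H, ∃ a : A, (a : G) * (h : G) ∈ K := fun h => by
    obtain ⟨n, hn, k, hk, hnk⟩ := (mem_sup_iff_of_le_normalizer hK).1 (hle h.2)
    exact ⟨⟨n⁻¹, A.inv_mem hn⟩, by rw [hnk]; simpa using hk⟩
  choose f hf using hex
  have hfu : ∀ (h : H) (a : G), a ∈ A → a * (h : G) ∈ K → a = f h := by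
    intro h a ha hak
    have h1 : a * ((f h : A) : G)⁻¹ ∈ A ⊓ K :=
      ⟨A.mul_mem ha (A.inv_mem (f h).2), by simpa [mul_assoc] using K.mul_mem hak (K.inv_mem (hf h))⟩
    rw [hKA, Subgroup.mem_bot] at h1
    exact mul_inv_eq_one.1 h1
  have hn : ∀ (h : H) (a : A), (h : G) * a * (h : G)⁻¹ ∈ A := fun h a =>
    (Subgroup.mem_normalizer_iff.1 (hH h.2) a).1 a.2
  let c : H → A →* A := fun h =>
    { toFun := fun a => ⟨(h : G) * a * (h : G)⁻¹, hn h a⟩
      map_one' := Subtype.ext (by simp)
      map_mul' := fun a b => Subtype.ext (by simp [mul_assoc]) }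
  have hcoc : ∀ h h' : H, f (h * h') = f h * c h (f h') := by
    intro h h'
    refine (Subtype.ext (hfu _ _ (A.mul_mem (f h).2 (hn h (f h'))) ?_)).symm
    have := K.mul_mem (hf h) (hf h')
    simpa [c, mul_assoc] using this
  let m : A := ∏ h : H, f h
  have hm : ∀ h : H, m = f h ^ Nat.card H * c h m := by
    intro h
    calc m = ∏ h' : H, f (h * h') := (Equiv.prod_comp (Equiv.mulLeft h) f).symm
      _ = ∏ h' : H, f h * c h (f h') := Finset.prod_congr rfl fun h' _ => hcoc h h'
      _ = f h ^ Nat.card H * c h m := by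
        rw [Finset.prod_mul_distrib, Finset.prod_const, Finset.card_univ, Nat.card_eq_fintype_card,
          map_prod]
  obtain ⟨a, ha⟩ : ∃ a : A, a ^ Nat.card H = m :=
    ⟨_, (powCoprime hcop).apply_symm_apply m⟩
  have hfix : ∀ h : H, a = f h * c h a := fun h => by
    apply (powCoprime hcop).injective
    simp only [powCoprime_apply, mul_pow]
    rw [← map_pow, ha]
    exact hm h
  refine ⟨a, a.2, Subgroup.eq_of_le_of_card_ge ?_ (le_of_eq ?_)⟩
  · intro x hx
    rw [mem_conjSmul] at hx
    have h1 := congrArg (fun t : A => (t : G)) (hfix ⟨_, hx⟩)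
    simp only [Subgroup.coe_mul, c, MonoidHom.coe_mk, OneHom.coe_mk] at h1
    have h2 := hf ⟨_, hx⟩
    generalize ((f ⟨_, hx⟩ : A) : G) = b at h1 h2
    have hx' : x = b * ((a : G)⁻¹ * x * a) := by
      calc x = (a : G) * ((a : G)⁻¹ * x * a) * (a : G)⁻¹ := by simp [mul_assoc]
        _ = b * ((a : G)⁻¹ * x * a * a * ((a : G)⁻¹ * x * a)⁻¹) * ((a : G)⁻¹ * x * a) * (a : G)⁻¹ :=
            by rw [← h1]
        _ = _ := by simp [mul_assoc]
    rw [hx']
    exact h2
  · rw [card_conjSmul, hcard]

/-- The conjugacy half of the Schur–Zassenhaus theorem, in terms of orders. -/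
theorem conj_of_card {G : Type*} [Group G] [Finite G] (N : Subgroup G) (hn : N.Normal)
    (hN : (Nat.card N).Coprime N.index) (hsolv : Group.IsSolvable N ∨ Group.IsSolvable (G ⧸ N))
    (H K : Subgroup G) (hH : Nat.card H = N.index) (hK : Nat.card K = N.index) :
    ∃ g : G, MulAut.conj g • H = K := by
  induction hc : Nat.card G using Nat.strong_induction_on generalizing G with
  | _ n ih =>
  subst hc
  have hHN : H ⊓ N = ⊥ := (Subgroup.disjoint_of_coprime_natCard (hH ▸ hN.symm)).eq_bot
  have hKN : K ⊓ N = ⊥ := (Subgroup.disjoint_of_coprime_natCard (hK ▸ hN.symm)).eq_bot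
  have hfull : ∀ L : Subgroup G, L ⊓ N = ⊥ → Nat.card L = N.index →
      L.map (QuotientGroup.mk' N) = ⊤ := fun L hL hLc => by
    apply Subgroup.eq_top_of_card_eq
    rw [card_map_mk'_of_inf_eq_bot hL, hLc, Subgroup.index_eq_card]
  rcases hsolv with hs | hs
  · by_cases hN0 : N = ⊥
    · subst hN0
      have hH' : H = ⊤ := Subgroup.eq_top_of_card_eq _ (by rw [hH, Subgroup.index_bot])
      have hK' : K = ⊤ := Subgroup.eq_top_of_card_eq _ (by rw [hK, Subgroup.index_bot])
      exact ⟨1, by rw [conjSmul_one, hH', hK']⟩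
    obtain ⟨M, p, -, hMn, hM, hMN, hMc, -, -, -⟩ := exists_minimal_normal_abelian hn hN0
    have hlt : Nat.card (G ⧸ M) < Nat.card G := by
      rw [← Subgroup.index_eq_card, ← M.card_mul_index]
      exact lt_mul_left (Nat.pos_of_ne_zero Subgroup.index_ne_zero_of_finite)
        (M.one_lt_card_iff_ne_bot.2 hM)
    have hidx : (N.map (QuotientGroup.mk' M)).index = N.index :=
      Subgroup.index_map_eq _ (QuotientGroup.mk'_surjective M) (by rwa [QuotientGroup.ker_mk'])
    have hsN : Group.IsSolvable (N.map (QuotientGroup.mk' M)) :=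
      Group.isSolvable_of_surjective ((QuotientGroup.mk' M).subgroupMap_surjective N)
    have hHM : H ⊓ M = ⊥ := le_bot_iff.1 (hHN ▸ inf_le_inf_left H hMN)
    have hKM : K ⊓ M = ⊥ := le_bot_iff.1 (hKN ▸ inf_le_inf_left K hMN)
    obtain ⟨g', hg'⟩ := ih _ hlt (N.map (QuotientGroup.mk' M))
      (hn.map _ (QuotientGroup.mk'_surjective M))
      (by rw [hidx]; exact hN.coprime_dvd_left (Subgroup.card_map_dvd N _))
      (Or.inl hsN) (H.map (QuotientGroup.mk' M)) (K.map (QuotientGroup.mk' M))
      (by rw [card_map_mk'_of_inf_eq_bot hHM, hidx, hH])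
      (by rw [card_map_mk'_of_inf_eq_bot hKM, hidx, hK]) rfl
    obtain ⟨g, rfl⟩ := QuotientGroup.mk'_surjective M g'
    rw [← map_conjSmul] at hg'
    have hle : MulAut.conj g • H ≤ M ⊔ K := by
      have h1 := congrArg (Subgroup.comap (QuotientGroup.mk' M)) hg'
      rw [Subgroup.comap_map_eq, Subgroup.comap_map_eq, QuotientGroup.ker_mk'] at h1
      exact sup_comm K M ▸ h1 ▸ le_sup_left
    obtain ⟨a, -, ha⟩ := conj_of_abelian (A := M) (H := MulAut.conj g • H) (K := K)
      Subgroup.le_normalizer_of_normal Subgroup.le_normalizer_of_normal hle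
      (inf_comm K M ▸ hKM) (by rw [card_conjSmul, hH, hK])
      (by rw [card_conjSmul, hH]; exact hN.coprime_dvd_left (Subgroup.card_dvd_of_le hMN))
    exact ⟨a * g, by rw [← conjSmul_conjSmul, ha]⟩
  · by_cases hH0 : H = ⊥
    · have : K = ⊥ := Subgroup.card_eq_one.1 (by rw [hK, ← hH, hH0, Subgroup.card_bot])
      exact ⟨1, by rw [conjSmul_one, hH0, this]⟩
    have hfH := hfull H hHN hH
    have hfK := hfull K hKN hK
    have hinj : Function.Injective ((QuotientGroup.mk' N).domRestrict H) := by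
      rw [← MonoidHom.ker_eq_bot_iff, MonoidHom.ker_domRestrict, QuotientGroup.ker_mk',
        Subgroup.subgroupOf_eq_bot, disjoint_iff, inf_comm]
      exact hHN
    have : Group.IsSolvable H := Group.isSolvable_of_isSolvable_injective hinj
    have : Group.IsSolvable (⊤ : Subgroup H) := inferInstance
    obtain ⟨A₀, p, hp, hAn, hA, -, -, -, hApg, -⟩ :=
      exists_minimal_normal_abelian (inferInstance : (⊤ : Subgroup H).Normal)
        (fun h => hH0 (by rw [← H.range_subtype, MonoidHom.range_eq_map, h, Subgroup.map_bot]))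
    have := Fact.mk hp
    set A := A₀.map H.subtype with hAdef
    have hAH : A ≤ H := Subgroup.map_subtype_le A₀
    have hAne : A ≠ ⊥ := fun h =>
      hA ((Subgroup.map_eq_bot_iff_of_injective _ H.subtype_injective).1 h)
    have hApg' : IsPGroup p A := hApg.map H.subtype
    have hAN : A ⊓ N = ⊥ := le_bot_iff.1 (hHN ▸ inf_le_inf_right N hAH)
    set L := (A.map (QuotientGroup.mk' N)).comap (QuotientGroup.mk' N) with hL
    have hLn : L.Normal := by
      refine Subgroup.Normal.comap ?_ _
      rw [hAdef, Subgroup.map_map]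
      refine hAn.map _ fun q => ?_
      obtain ⟨h, hh, rfl⟩ : q ∈ H.map (QuotientGroup.mk' N) := hfH ▸ trivial
      exact ⟨⟨h, hh⟩, rfl⟩
    have hL' : L = A ⊔ N := by rw [hL, Subgroup.comap_map_eq, QuotientGroup.ker_mk']
    have hAL : A ≤ L := hL' ▸ le_sup_left
    set B := K ⊓ L with hB
    have hBmap : B.map (QuotientGroup.mk' N) = A.map (QuotientGroup.mk' N) := by
      refine le_antisymm ?_ fun q hq => ?_
      · rintro _ ⟨y, hy, rfl⟩
        exact hy.2
      · obtain ⟨y, hy, rfl⟩ : q ∈ K.map (QuotientGroup.mk' N) := hfK ▸ trivial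
        exact ⟨y, ⟨hy, hq⟩, rfl⟩
    have hBcard : Nat.card B = Nat.card A := by
      rw [← card_map_mk'_of_inf_eq_bot hAN, ← hBmap,
        card_map_mk'_of_inf_eq_bot (le_bot_iff.1 (hKN ▸ inf_le_inf_right N inf_le_left))]
    have hBL : B ≤ L := inf_le_right
    have hnp : ∀ C : Subgroup G, C ≤ L → Nat.card C = Nat.card A → ¬ p ∣ C.relIndex L := by
      intro C hCL hC hdvd
      have h1 : Nat.card L = Nat.card N * Nat.card A := by
        rw [hL', sup_comm,
          card_sup_of_inf_eq_bot Subgroup.le_normalizer_of_normal (inf_comm A N ▸ hAN)]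
      have h2 : C.relIndex L * Nat.card C = Nat.card L := by
        rw [← Subgroup.relIndex_bot_left, ← Subgroup.relIndex_bot_left,
          mul_comm, Subgroup.relIndex_mul_relIndex _ _ _ bot_le hCL]
      rw [h1, hC] at h2
      rw [Nat.eq_of_mul_eq_mul_right Nat.card_pos h2] at hdvd
      have hpH : p ∣ Nat.card H :=
        (hApg'.card_eq_or_dvd.resolve_left fun h => hAne (Subgroup.card_eq_one.1 h)).trans
          (Subgroup.card_dvd_of_le hAH)
      exact hp.not_dvd_one (hN ▸ Nat.dvd_gcd hdvd (hH ▸ hpH))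
    have hBpg : IsPGroup p B := by
      obtain ⟨k, hk⟩ := IsPGroup.iff_card.1 hApg'
      exact IsPGroup.of_card (hBcard.trans hk)
    let PA : Sylow p L := (hApg'.comap_subtype (K := L)).toSylow (hnp A hAL rfl)
    let PB : Sylow p L := (hBpg.comap_subtype (K := L)).toSylow (hnp B hBL hBcard)
    obtain ⟨l, hl⟩ := MulAction.exists_smul_eq L PB PA
    have hl' : MulAut.conj (l : G) • B = A := by
      have h1 := congrArg (fun S : Sylow p L => (S : Subgroup L).map L.subtype) hl
      simp only [Sylow.coe_subgroup_smul, map_subtype_conjSmul] at h1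
      simpa [PA, PB, Subgroup.map_subgroupOf_eq_of_le hBL,
        Subgroup.map_subgroupOf_eq_of_le hAL] using h1
    set K' := MulAut.conj (l : G) • K with hK'
    suffices h : ∃ g : G, MulAut.conj g • H = K' by
      obtain ⟨g, hg⟩ := h
      exact ⟨(l : G)⁻¹ * g, by rw [← conjSmul_conjSmul, hg, hK', conjSmul_inv_conjSmul]⟩
    have hKA : K' ⊓ L = A := by
      rw [← hl', hB, Subgroup.smul_inf, hLn.conj_smul_eq_self, hK']
    have hK'c : Nat.card K' = N.index := by rw [hK', card_conjSmul, hK]
    have hK'N : K' ⊓ N = ⊥ := by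
      rw [hK', ← hn.conj_smul_eq_self (l : G), ← Subgroup.smul_inf, hKN, Subgroup.smul_bot]
    have hHM : H ≤ Subgroup.normalizer (A : Set G) := by
      have h1 := Subgroup.le_normalizer_map (H := A₀) H.subtype
      rwa [Subgroup.normalizer_eq_top_iff.2 hAn, ← MonoidHom.range_eq_map, Subgroup.range_subtype] at h1
    have hKM : K' ≤ Subgroup.normalizer (A : Set G) := by
      rw [← hKA]
      exact (le_inf Subgroup.le_normalizer Subgroup.le_normalizer_of_normal).trans
        Subgroup.inf_normalizer_le_normalizer_inf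
    by_cases hM : Subgroup.normalizer (A : Set G) = ⊤
    · have hAn' : A.Normal := Subgroup.normalizer_eq_top_iff.1 hM
      have hAK : A ≤ K' := hKA ▸ inf_le_left
      have hker : (QuotientGroup.mk' A).ker = A := QuotientGroup.ker_mk' A
      have hlt : Nat.card (G ⧸ A) < Nat.card G := by
        rw [← Subgroup.index_eq_card, ← A.card_mul_index]
        exact lt_mul_left (Nat.pos_of_ne_zero Subgroup.index_ne_zero_of_finite)
          (A.one_lt_card_iff_ne_bot.2 hAne)
      set N' := N.map (QuotientGroup.mk' A) with hN'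
      have hN'c : Nat.card N' = Nat.card N :=
        card_map_mk'_of_inf_eq_bot (inf_comm A N ▸ hAN)
      have hcard' : ∀ C : Subgroup G, A ≤ C → Nat.card C = N.index →
          Nat.card (C.map (QuotientGroup.mk' A)) = N'.index := by
        intro C hAC hC
        have e1 : Nat.card (C.map (QuotientGroup.mk' A)) * Nat.card A = N.index := by
          have : C.index * (Nat.card (C.map (QuotientGroup.mk' A)) * Nat.card A) =
              C.index * N.index := by
            rw [← mul_assoc, ← Subgroup.index_map_eq (H := C) (QuotientGroup.mk'_surjective A)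
              (by rwa [hker]), Subgroup.index_mul_card, ← Subgroup.index_eq_card,
              Subgroup.index_mul_card, Subgroup.index_map_eq (H := C)
                (QuotientGroup.mk'_surjective A) (by rwa [hker]), ← hC, Subgroup.index_mul_card]
          exact Nat.eq_of_mul_eq_mul_left (Nat.pos_of_ne_zero Subgroup.index_ne_zero_of_finite) this
        have e2 : N'.index * Nat.card A = N.index := by
          refine Nat.eq_of_mul_eq_mul_left (Nat.card_pos (α := N)) ?_
          calc Nat.card N * (N'.index * Nat.card A) = Nat.card N' * N'.index * Nat.card A := by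
                rw [hN'c, mul_assoc]
            _ = _ := by
                rw [Subgroup.card_mul_index, ← Subgroup.index_eq_card, Subgroup.index_mul_card,
                  Subgroup.card_mul_index]
        exact Nat.eq_of_mul_eq_mul_right Nat.card_pos (e1.trans e2.symm)
      have hcop' : (Nat.card N').Coprime N'.index := by
        rw [hN'c]
        exact hN.coprime_dvd_right (Subgroup.index_map_dvd _ (QuotientGroup.mk'_surjective A))
      have hs' : Group.IsSolvable ((G ⧸ A) ⧸ N') := by
        let φ : G ⧸ N →* (G ⧸ A) ⧸ N' := QuotientGroup.map N N' (QuotientGroup.mk' A)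
          (fun x hx => Subgroup.mem_map_of_mem _ hx)
        refine Group.isSolvable_of_surjective (f := φ) fun q => ?_
        obtain ⟨r, rfl⟩ := QuotientGroup.mk'_surjective N' q
        obtain ⟨g, rfl⟩ := QuotientGroup.mk'_surjective A r
        exact ⟨(g : G ⧸ N), rfl⟩
      obtain ⟨g', hg'⟩ := ih _ hlt N' (hn.map _ (QuotientGroup.mk'_surjective A)) hcop'
        (Or.inr hs') (H.map (QuotientGroup.mk' A)) (K'.map (QuotientGroup.mk' A))
        (hcard' H hAH hH) (hcard' K' hAK hK'c) rfl
      obtain ⟨g, rfl⟩ := QuotientGroup.mk'_surjective A g'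
      rw [← map_conjSmul] at hg'
      have h1 := congrArg (Subgroup.comap (QuotientGroup.mk' A)) hg'
      rw [Subgroup.comap_map_eq, Subgroup.comap_map_eq, hker, sup_eq_left.2 hAK,
        sup_eq_left.2] at h1
      · exact ⟨g, h1⟩
      · rw [← hAn'.conj_smul_eq_self g]
        exact Subgroup.pointwise_smul_le_pointwise_smul_iff.2 hAH
    · set M := Subgroup.normalizer (A : Set G) with hMdef
      have hlt : Nat.card M < Nat.card G := lt_of_le_of_ne (Subgroup.card_le_card_group M)
        fun h => hM (Subgroup.eq_top_of_card_eq _ h)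
      have hnM : (N.subgroupOf M).Normal := inferInstance
      have hidxM : (N.subgroupOf M).index = N.index := by
        have h1 : Nat.card (M.map (QuotientGroup.mk' N)) = N.index := by
          rw [eq_top_iff.2 (hfH.ge.trans (Subgroup.map_mono hHM)), Subgroup.card_top,
            Subgroup.index_eq_card]
        rw [← h1, ← Subgroup.relIndex_ker, QuotientGroup.ker_mk', Subgroup.relIndex]
      have hsM : Group.IsSolvable (M ⧸ N.subgroupOf M) :=
        Group.isSolvable_of_isSolvable_injective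
          (f := QuotientGroup.map (N.subgroupOf M) N M.subtype le_rfl) (by
            rw [← MonoidHom.ker_eq_bot_iff, eq_bot_iff]
            intro q hq
            obtain ⟨x, rfl⟩ := QuotientGroup.mk'_surjective _ q
            rw [Subgroup.mem_bot]
            exact (QuotientGroup.eq_one_iff x).2 ((QuotientGroup.eq_one_iff (x : G)).1 hq))
      obtain ⟨g, hg⟩ := ih _ hlt (N.subgroupOf M) hnM
        (by
          rw [hidxM]
          exact hN.coprime_dvd_left
            (Subgroup.card_comap_dvd_of_injective N M.subtype M.subtype_injective))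
        (Or.inr hsM) (H.subgroupOf M) (K'.subgroupOf M)
        (by rw [hidxM, Nat.card_congr (Subgroup.subgroupOfEquivOfLe hHM).toEquiv, hH])
        (by rw [hidxM, Nat.card_congr (Subgroup.subgroupOfEquivOfLe hKM).toEquiv, hK'c]) rfl
      refine ⟨(g : G), ?_⟩
      have h1 := congrArg (Subgroup.map M.subtype) hg
      rwa [map_subtype_conjSmul, Subgroup.map_subgroupOf_eq_of_le hHM,
        Subgroup.map_subgroupOf_eq_of_le hKM] at h1

/-- The conjugacy half of the Schur–Zassenhaus theorem, for complements. -/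
theorem conj_of_complement {G : Type*} [Group G] [Finite G] (N : Subgroup G) [hn : N.Normal]
    (hN : (Nat.card N).Coprime N.index) (hsolv : Group.IsSolvable N ∨ Group.IsSolvable (G ⧸ N))
    (H K : Subgroup G) (hH : Subgroup.IsComplement' N H) (hK : Subgroup.IsComplement' N K) :
    ∃ g : G, MulAut.conj g • H = K :=
  conj_of_card N hn hN hsolv H K hH.symm.index_eq_card.symm hK.symm.index_eq_card.symm

variable {G : Type*} [Group G]

lemma inf_eq_bot {A K : Subgroup G} (hcop : (Nat.card A).Coprime (Nat.card K)) : K ⊓ A = ⊥ :=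
  (Subgroup.disjoint_of_coprime_natCard hcop.symm).eq_bot

lemma card_sup [Finite G] {A K : Subgroup G} (hAK : A ≤ Subgroup.normalizer (K : Set G))
    (hcop : (Nat.card A).Coprime (Nat.card K)) :
    Nat.card (K ⊔ A : Subgroup G) = Nat.card K * Nat.card A :=
  card_sup_of_inf_eq_bot hAK (inf_eq_bot hcop)

/-- An element of `K` normalizing `A` centralizes it, when `A` normalizes `K` and `K ⊓ A = ⊥`. -/
lemma mem_centralizer_of_mem_normalizer {A K : Subgroup G}
    (hAK : A ≤ Subgroup.normalizer (K : Set G)) (h : K ⊓ A = ⊥) {c : G} (hc : c ∈ K)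
    (hcA : c ∈ Subgroup.normalizer (A : Set G)) : c ∈ Subgroup.centralizer (A : Set G) := by
  rw [Subgroup.mem_centralizer_iff]
  intro a ha
  have h1 : a * c * a⁻¹ * c⁻¹ ∈ K ⊓ A := by
    refine ⟨K.mul_mem ((Subgroup.mem_normalizer_iff.1 (hAK ha) c).1 hc) (K.inv_mem hc), ?_⟩
    have h2 : c * a⁻¹ * c⁻¹ ∈ A := (Subgroup.mem_normalizer_iff.1 hcA _).1 (A.inv_mem ha)
    simpa [mul_assoc] using A.mul_mem ha h2
  rw [h, Subgroup.mem_bot] at h1
  have h3 := mul_inv_eq_one.1 h1
  exact mul_inv_eq_iff_eq_mul.1 h3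

/-- Complements of `K` in `K ⊔ A` are conjugate to `A` by an element of `K`. -/
theorem conj_in [Finite G] {A K B : Subgroup G} (hAK : A ≤ Subgroup.normalizer (K : Set G))
    (hcop : (Nat.card A).Coprime (Nat.card K)) (hsolv : Group.IsSolvable A ∨ Group.IsSolvable K)
    (hB : B ≤ K ⊔ A) (hBc : Nat.card B = Nat.card A) :
    ∃ k ∈ K, MulAut.conj k • A = B := by
  set M := K ⊔ A with hM
  have hKM : K ≤ M := le_sup_left
  have hAM : A ≤ M := le_sup_right
  have hn : (K.subgroupOf M).Normal :=
    Subgroup.normal_subgroupOf_of_le_normalizer (sup_le Subgroup.le_normalizer hAK)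
  have cK : Nat.card (K.subgroupOf M) = Nat.card K :=
    Nat.card_congr (Subgroup.subgroupOfEquivOfLe hKM).toEquiv
  have cA : Nat.card (A.subgroupOf M) = Nat.card A :=
    Nat.card_congr (Subgroup.subgroupOfEquivOfLe hAM).toEquiv
  have cB : Nat.card (B.subgroupOf M) = Nat.card B :=
    Nat.card_congr (Subgroup.subgroupOfEquivOfLe hB).toEquiv
  have hidx : (K.subgroupOf M).index = Nat.card A := by
    have h1 := (K.subgroupOf M).card_mul_index
    rw [cK, card_sup hAK hcop] at h1
    exact Nat.eq_of_mul_eq_mul_left Nat.card_pos h1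
  have hs : Group.IsSolvable (K.subgroupOf M) ∨ Group.IsSolvable (M ⧸ K.subgroupOf M) := by
    rcases hsolv with h | h
    · right
      refine Group.isSolvable_of_surjective
        (f := (QuotientGroup.mk' _).comp (Subgroup.inclusion hAM)) fun q => ?_
      obtain ⟨⟨x, hx⟩, rfl⟩ := QuotientGroup.mk'_surjective _ q
      obtain ⟨k, hk, a, ha, rfl⟩ := (mem_sup_iff_of_le_normalizer hAK).1 hx
      refine ⟨⟨a, ha⟩, QuotientGroup.eq.2 ?_⟩
      rw [Subgroup.mem_subgroupOf]
      simpa [mul_assoc] using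
        (Subgroup.mem_normalizer_iff.1 (inv_mem (hAK ha)) k).1 hk
    · exact Or.inl (Group.isSolvable_of_surjective
        (f := (Subgroup.subgroupOfEquivOfLe hKM).symm.toMonoidHom)
        (Subgroup.subgroupOfEquivOfLe hKM).symm.surjective)
  obtain ⟨⟨g, hgM⟩, hg⟩ := conj_of_card (K.subgroupOf M) hn (by rw [cK, hidx]; exact hcop.symm) hs
    (A.subgroupOf M) (B.subgroupOf M) (by rw [cA, hidx]) (by rw [cB, hidx, hBc])
  have h1 := congrArg (Subgroup.map M.subtype) hg
  rw [map_subtype_conjSmul, Subgroup.map_subgroupOf_eq_of_le hAM,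
    Subgroup.map_subgroupOf_eq_of_le hB] at h1
  obtain ⟨k, hk, a, ha, rfl⟩ := (mem_sup_iff_of_le_normalizer hAK).1 hgM
  refine ⟨k, hk, ?_⟩
  rw [← h1, ← conjSmul_conjSmul, Subgroup.conj_smul_eq_self_of_mem ha]

/-- A subgroup `S` with `S ≤ K ⊔ A` and `K ⊔ S = K ⊔ A` contains a complement of `K ⊓ S`. -/
lemma exists_complement_in [Finite G] {A K S : Subgroup G}
    (hAK : A ≤ Subgroup.normalizer (K : Set G)) (hcop : (Nat.card A).Coprime (Nat.card K))
    (hS : S ≤ K ⊔ A) (hKS : K ⊔ S = K ⊔ A) :
    Nat.card S = Nat.card (K ⊓ S : Subgroup G) * Nat.card A ∧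
    ∃ B ≤ S, Nat.card B = Nat.card A := by
  have hSN : S ≤ Subgroup.normalizer (K : Set G) :=
    hS.trans (sup_le Subgroup.le_normalizer hAK)
  have hc : Nat.card S = Nat.card (K ⊓ S : Subgroup G) * Nat.card A := by
    have h1 := card_sup_mul_card_inf hSN
    rw [hKS, card_sup hAK hcop, mul_assoc] at h1
    rw [← Nat.eq_of_mul_eq_mul_left Nat.card_pos h1, mul_comm]
  refine ⟨hc, ?_⟩
  have hn : (K.subgroupOf S).Normal := Subgroup.normal_subgroupOf_of_le_normalizer hSN
  have cK : Nat.card (K.subgroupOf S) = Nat.card (K ⊓ S : Subgroup G) := by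
    rw [← Subgroup.inf_subgroupOf_right,
      Nat.card_congr (Subgroup.subgroupOfEquivOfLe inf_le_right).toEquiv]
  have hidx : (K.subgroupOf S).index = Nat.card A := by
    have h1 := (K.subgroupOf S).card_mul_index
    rw [cK, hc] at h1
    exact Nat.eq_of_mul_eq_mul_left Nat.card_pos h1
  obtain ⟨B, hB⟩ := Subgroup.exists_right_complement'_of_coprime (N := K.subgroupOf S) (by
    rw [cK, hidx]
    exact (hcop.coprime_dvd_right (Subgroup.card_dvd_of_le inf_le_left)).symm)
  refine ⟨B.map S.subtype, Subgroup.map_subtype_le B, ?_⟩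
  rw [Subgroup.card_map_of_injective S.subtype_injective, ← hidx, hB.symm.index_eq_card]

/-- Glauberman's lemma: if `A` acts coprimely on `K` and both act compatibly on a nonempty set on
which `K` is transitive, then `A` fixes a point and `C_K(A)` is transitive on the fixed points. -/
theorem glauberman [Finite G] {X : Type*} [MulAction G X] {A K : Subgroup G}
    (hAK : A ≤ Subgroup.normalizer (K : Set G)) (hcop : (Nat.card A).Coprime (Nat.card K))
    (hsolv : Group.IsSolvable A ∨ Group.IsSolvable K) (Y : Set X) (hne : Y.Nonempty)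
    (hA : ∀ a ∈ A, ∀ y ∈ Y, a • y ∈ Y) (hK : ∀ k ∈ K, ∀ y ∈ Y, k • y ∈ Y)
    (htr : ∀ x ∈ Y, ∀ y ∈ Y, ∃ k ∈ K, k • x = y) :
    (∃ y ∈ Y, ∀ a ∈ A, a • y = y) ∧
      ∀ x ∈ Y, ∀ y ∈ Y, (∀ a ∈ A, a • x = x) → (∀ a ∈ A, a • y = y) →
        ∃ c ∈ K ⊓ Subgroup.centralizer (A : Set G), c • x = y := by
  have hKA : ∀ g ∈ K ⊔ A, ∀ y ∈ Y, g • y ∈ Y := by
    intro g hg y hy
    obtain ⟨k, hk, a, ha, rfl⟩ := (mem_sup_iff_of_le_normalizer hAK).1 hg
    rw [mul_smul]
    exact hK k hk _ (hA a ha y hy)
  have hsup : ∀ x ∈ Y, K ⊔ (MulAction.stabilizer G x ⊓ (K ⊔ A)) = K ⊔ A := by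
    intro x hx
    refine le_antisymm (sup_le le_sup_left inf_le_right) fun g hg => ?_
    obtain ⟨k, hk, hkx⟩ := htr x hx _ (hKA g hg x hx)
    rw [← mul_inv_cancel_left k g]
    refine mul_mem (Subgroup.mem_sup_left hk) (Subgroup.mem_sup_right
      (Subgroup.mem_inf.2 ⟨?_, mul_mem (inv_mem (Subgroup.mem_sup_left hk)) hg⟩))
    rw [MulAction.mem_stabilizer_iff, mul_smul, inv_smul_eq_iff, hkx]
  constructor
  · obtain ⟨x, hx⟩ := hne
    obtain ⟨-, B, hBS, hBc⟩ := exists_complement_in hAK hcop inf_le_right (hsup x hx)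
    obtain ⟨k, hk, rfl⟩ := conj_in hAK hcop hsolv (hBS.trans inf_le_right) hBc
    refine ⟨k⁻¹ • x, hK _ (inv_mem hk) x hx, fun a ha => ?_⟩
    have h1 : k * a * k⁻¹ ∈ MulAction.stabilizer G x :=
      (hBS (mem_conjSmul.2 (by simpa [mul_assoc] using ha))).1
    rw [MulAction.mem_stabilizer_iff, mul_smul, mul_smul, ← eq_inv_smul_iff] at h1
    exact h1
  · intro x hx y hy hfx hfy
    set S := MulAction.stabilizer G y ⊓ (K ⊔ A) with hS
    obtain ⟨k₀, hk₀, hk₀x⟩ := htr x hx y hy
    obtain ⟨hSc, -⟩ := exists_complement_in hAK hcop inf_le_right (hsup y hy)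
    have hAS : A ≤ S := fun a ha => ⟨hfy a ha, Subgroup.mem_sup_right ha⟩
    have hAKS : A ≤ Subgroup.normalizer ((K ⊓ S : Subgroup G) : Set G) :=
      (le_inf hAK (hAS.trans Subgroup.le_normalizer)).trans
        Subgroup.inf_normalizer_le_normalizer_inf
    have hcopS := hcop.coprime_dvd_right
      (Subgroup.card_dvd_of_le (inf_le_left : K ⊓ S ≤ K))
    have hSeq : (K ⊓ S) ⊔ A = S := by
      refine Subgroup.eq_of_le_of_card_ge (sup_le inf_le_right hAS) (le_of_eq ?_)
      rw [card_sup hAKS hcopS, ← hSc]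
    have hsolvS : Group.IsSolvable A ∨ Group.IsSolvable (K ⊓ S : Subgroup G) :=
      hsolv.imp id fun h => @isSolvable_of_le G _ _ K inf_le_left h
    have hBS : MulAut.conj k₀ • A ≤ (K ⊓ S) ⊔ A := by
      rw [hSeq]
      intro b hb
      rw [mem_conjSmul] at hb
      refine Subgroup.mem_inf.2 ⟨?_, ?_⟩
      · rw [MulAction.mem_stabilizer_iff]
        have h1 := hfx _ hb
        rw [mul_smul, mul_smul, hk₀x, inv_smul_eq_iff, hk₀x] at h1
        exact h1
      · have : b = k₀ * (k₀⁻¹ * b * k₀) * k₀⁻¹ := by simp [mul_assoc]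
        rw [this]
        exact mul_mem (mul_mem (Subgroup.mem_sup_left hk₀) (Subgroup.mem_sup_right hb))
          (inv_mem (Subgroup.mem_sup_left hk₀))
    obtain ⟨s, hs, hsA⟩ := conj_in hAKS hcopS hsolvS hBS (card_conjSmul _ _)
    have hc : s⁻¹ * k₀ ∈ K := mul_mem (inv_mem hs.1) hk₀
    refine ⟨s⁻¹ * k₀, ⟨hc, mem_centralizer_of_mem_normalizer hAK (inf_eq_bot hcop) hc ?_⟩, ?_⟩
    · rw [mem_normalizer_iff_conjSmul, ← conjSmul_conjSmul, ← hsA, conjSmul_inv_conjSmul]
    · rw [mul_smul, hk₀x, inv_smul_eq_iff, eq_comm]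
      exact hs.2.1

end Cfsg.Agent.SchurZ
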