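import Cfsg.Agent.Lib.Solvable.Frobenius
import Cfsg.Agent.Lib.Solvable.Coprime
import Cfsg.Agent.Lib.FGStruct.AbelianCyclic
import Mathlib.GroupTheory.SpecificGroups.Quaternion

/-! Groups acting fixed point freely: abelian subgroups cyclic, quaternion recognition. -/

set_option autoImplicit false
open scoped Pointwise commutatorElement

namespace Cfsg.Agent.FpfStruct

variable {G : Type*} [Group G] [Finite G]

omit [Finite G] in
lemma conj_prod {V : Type*} [CommGroup V] {A : Type*} [Group A] [Fintype A] (φ : A →* MulAut V)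
    (v : V) (b : A) : φ b (∏ a : A, φ a v) = ∏ a : A, φ a v := by
  rw [map_prod]
  exact Fintype.prod_equiv (Equiv.mulLeft b) _ _ fun a => by
    rw [Equiv.coe_mulLeft, map_mul, MulAut.mul_apply]

theorem abelian_cyclic {K A : Subgroup G} (hK : K ≠ ⊥) (hAK : A ≤ Subgroup.normalizer (K : Set G))
    (hfpf : ∀ a ∈ A, a ≠ 1 → K ⊓ Subgroup.centralizer {a} = ⊥) [IsMulCommutative A] :
    IsCyclic A := by
  by_contra hA
  refine hK ?_
  rw [eq_bot_iff]
  refine (CoprimeAct.generated_by_centralizers hA hAK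
    (FrobeniusStruct.coprime_of_fpf hAK hfpf).symm).ge.trans ?_
  exact iSup₂_le fun a ha => (hfpf a ha.1 ha.2).le

/-- A group acting fixed point freely on a nontrivial abelian group and of order a product of two
primes is cyclic. -/
theorem pq_cyclic {V A : Subgroup G} [IsMulCommutative V] (hV : V ≠ ⊥)
    (hAV : A ≤ Subgroup.normalizer (V : Set G))
    (hfpf : ∀ a ∈ A, a ≠ 1 → V ⊓ Subgroup.centralizer {a} = ⊥) {p q : ℕ} (hp : p.Prime)
    (hq : q.Prime) (hA : Nat.card A = p * q) : IsCyclic A := by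
  wlog hpq : p ≤ q generalizing p q with H
  · exact H hq hp (by rw [hA, mul_comm]) (le_of_not_ge hpq)
  by_cases hcomm : IsMulCommutative A
  · exact abelian_cyclic hV hAV hfpf
  exfalso
  have : Fact q.Prime := ⟨hq⟩
  have : Fact p.Prime := ⟨hp⟩
  have hlt : p < q := lt_of_le_of_ne hpq fun h => hcomm
    (IsPGroup.isMulCommutative_of_card_eq_prime_sq (p := p) (by rw [hA, ← h, sq]))
  obtain ⟨Q⟩ := (inferInstance : Nonempty (Sylow q A))
  have hQc : Nat.card (Q : Subgroup A) = q := by
    rw [Q.card_eq_multiplicity, hA, Nat.factorization_mul hp.ne_zero hq.ne_zero, Finsupp.add_apply,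
      hq.factorization_self, Nat.factorization_eq_zero_of_not_dvd fun h =>
        hlt.ne' ((Nat.prime_dvd_prime_iff_eq hq hp).1 h), zero_add, pow_one]
  obtain ⟨b, hb⟩ := exists_prime_orderOf_dvd_card' (G := A) p (hA ▸ dvd_mul_right p q)
  have hQn : (Q : Subgroup A).Normal := Subgroup.normal_of_index_eq_minFac_card (by
    have h1 := (Q : Subgroup A).index_mul_card
    rw [hQc, hA] at h1
    rw [Nat.eq_of_mul_eq_mul_right hq.pos h1, hA]
    refine le_antisymm ?_ (Nat.minFac_le_of_dvd hp.two_le (dvd_mul_right p q))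
    have hne : p * q ≠ 1 := by
      have := hp.two_le; have := hq.two_le; nlinarith
    rcases (Nat.Prime.dvd_mul (Nat.minFac_prime hne)).1
      (Nat.minFac_dvd (p * q)) with h | h
    · exact ((Nat.prime_dvd_prime_iff_eq (Nat.minFac_prime hne) hp).1 h).ge
    · exact ((Nat.prime_dvd_prime_iff_eq (Nat.minFac_prime hne) hq).1 h).ge.trans' hlt.le)
  have hcyc : IsCyclic (Q : Subgroup A) := isCyclic_of_prime_card hQc
  have hinj : Function.Injective fun x : (Q : Subgroup A) => (x : A) * b * (x : A)⁻¹ * b⁻¹ := by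
    have key : ∀ x ∈ (Q : Subgroup A), Commute x b → x = 1 := by
      intro x hx hc
      by_contra hx1
      refine hcomm ⟨⟨fun u w => ?_⟩⟩
      have htop : Subgroup.zpowers x ⊔ Subgroup.zpowers b = ⊤ := by
        refine Subgroup.eq_top_of_card_eq _ (Nat.dvd_antisymm (Subgroup.card_subgroup_dvd_card _) ?_)
        rw [hA]
        refine Nat.Coprime.mul_dvd_of_dvd_of_dvd ((Nat.coprime_primes hp hq).2 hlt.ne) ?_ ?_
        · exact hb ▸ (Nat.card_zpowers b) ▸ Subgroup.card_dvd_of_le le_sup_right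
        · have h1 : orderOf x = q := by
            have := orderOf_dvd_natCard (⟨x, hx⟩ : (Q : Subgroup A))
            rw [Subgroup.orderOf_mk, hQc] at this
            exact (hq.eq_one_or_self_of_dvd _ this).resolve_left (mt orderOf_eq_one_iff.1 hx1)
          exact h1 ▸ (Nat.card_zpowers x) ▸ Subgroup.card_dvd_of_le le_sup_left
      have hxc : ({x, b} : Set A) ⊆ Set.centralizer {x, b} := by
        rintro y (rfl | rfl) z (rfl | rfl)
        · rfl
        · exact hc.symm
        · exact hc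
        · rfl
      have hle : Subgroup.zpowers x ⊔ Subgroup.zpowers b ≤ Subgroup.closure {x, b} :=
        sup_le (Subgroup.zpowers_le.2 (Subgroup.subset_closure (Or.inl rfl)))
          (Subgroup.zpowers_le.2 (Subgroup.subset_closure (Or.inr rfl)))
      rw [htop] at hle
      have := Subgroup.closure_le_centralizer_centralizer ({x, b} : Set A)
      have hu := this (hle (Subgroup.mem_top u))
      refine (Subgroup.mem_centralizer_iff.1 hu w ?_).symm
      have h2 : Subgroup.closure ({x, b} : Set A) ≤ Subgroup.centralizer {x, b} :=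
        (Subgroup.closure_le _).2 hxc
      exact h2 (hle (Subgroup.mem_top w))
    intro x y hxy
    simp only [mul_left_inj] at hxy
    have hc : Commute ((y : A)⁻¹ * x) b := by
      have := congrArg (fun t => (y : A)⁻¹ * t * (x : A)) hxy
      simpa [mul_assoc, Commute, SemiconjBy] using this
    have := key _ ((Q : Subgroup A).mul_mem ((Q : Subgroup A).inv_mem y.2) x.2) hc
    exact Subtype.ext (inv_mul_eq_one.1 this).symm
  open scoped IsMulCommutative in
  let _ : CommGroup V := inferInstance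
  let φ : A →* MulAut V :=
    (Subgroup.normalizerMonoidHom V).comp (Subgroup.inclusion hAV)
  have hfix : ∀ (a : A) (v : V), a ≠ 1 → φ a v = v → v = 1 := by
    intro a v ha hv
    have h1 : (v : G) ∈ V ⊓ Subgroup.centralizer {(a : G)} := Subgroup.mem_inf.2 ⟨v.2, by
      rw [Subgroup.mem_centralizer_singleton_iff]
      have := congrArg Subtype.val hv
      change (a : G) * v * (a : G)⁻¹ = v at this
      rw [mul_inv_eq_iff_eq_mul] at this
      exact this.symm⟩
    rw [hfpf a a.2 fun h => ha (Subtype.ext h), Subgroup.mem_bot] at h1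
    exact Subtype.ext h1
  have : Fintype (Q : Subgroup A) := Fintype.ofFinite _
  have hQ1 : ∀ v : V, (∏ x : (Q : Subgroup A), φ x v) = 1 := by
    intro v
    obtain ⟨x, hx, hx1⟩ := (Subgroup.ne_bot_iff_exists_ne_one).1 (fun h : (Q : Subgroup A) = ⊥ => by
      rw [h, Subgroup.card_bot] at hQc; exact hq.one_lt.ne hQc) |> fun ⟨x, hx⟩ =>
        (⟨(x : A), x.2, fun h => hx (Subtype.ext h)⟩ : ∃ x : A, x ∈ (Q : Subgroup A) ∧ x ≠ 1)
    exact hfix x _ hx1 (conj_prod (φ.comp (Q : Subgroup A).subtype) v ⟨x, hx⟩)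
  obtain ⟨v, hv⟩ := Subgroup.ne_bot_iff_exists_ne_one.1 hV
  have : Fintype (Subgroup.zpowers b) := Fintype.ofFinite _
  have hb1 : b ≠ 1 := fun h => hp.one_lt.ne (by rw [← hb, h, orderOf_one])
  -- the same for every power of `b`
  have hpow : ∀ j : ℕ, j ∈ Finset.range p → j ≠ 0 →
      (∏ x : (Q : Subgroup A), φ ((x : A) * b ^ j * (x : A)⁻¹) v) = 1 := by
    intro j hj hj0
    obtain ⟨k, hk⟩ : ∃ k : ℕ, (b ^ j) ^ k = b := by
      have hcop : (orderOf b).Coprime j := hb.symm ▸ hp.coprime_iff_not_dvd.2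
        (Nat.not_dvd_of_pos_of_lt (Nat.pos_of_ne_zero hj0) (Finset.mem_range.1 hj))
      obtain ⟨k, hk⟩ := exists_pow_eq_self_of_coprime hcop.symm
      exact ⟨k, hk⟩
    rw [← hQ1 (φ (b ^ j) v)]
    have hinj' : Function.Injective fun x : (Q : Subgroup A) =>
        (x : A) * b ^ j * (x : A)⁻¹ * (b ^ j)⁻¹ := by
      intro x y hxy
      apply hinj
      simp only [mul_left_inj] at hxy ⊢
      have := congrArg (fun t => t ^ k) hxy
      simpa only [conj_pow, hk] using this
    let e' : ↥(Q : Subgroup A) → ↥(Q : Subgroup A) := fun x =>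
      ⟨(x : A) * b ^ j * (x : A)⁻¹ * (b ^ j)⁻¹, by
        rw [mul_assoc (x : A) (b ^ j), mul_assoc (x : A)]
        exact mul_mem x.2 (hQn.conj_mem _ (inv_mem x.2) _)⟩
    have he' : Function.Injective e' := fun x y h => hinj' (congrArg Subtype.val h)
    refine Fintype.prod_equiv (Equiv.ofBijective e' (Finite.injective_iff_bijective.1 he'))
      _ _ fun x => ?_
    rw [← MulAut.mul_apply, ← map_mul]
    change _ = φ ((x : A) * b ^ j * (x : A)⁻¹ * (b ^ j)⁻¹ * b ^ j) v
    rw [inv_mul_cancel_right]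
  have hrow : ∀ x : (Q : Subgroup A),
      (∏ j ∈ Finset.range p, φ ((x : A) * b ^ j * (x : A)⁻¹) v) = 1 := by
    intro x
    set P := ∏ j ∈ Finset.range p, φ ((x : A) * b ^ j * (x : A)⁻¹) v with hP
    refine hfix ((x : A) * b * (x : A)⁻¹) P ?_ ?_
    · intro h
      apply hb1
      rwa [conj_eq_one_iff] at h
    · rw [hP, map_prod]
      simp only [← MulAut.mul_apply, ← map_mul]
      have h1 : ∀ j : ℕ, (x : A) * b * (x : A)⁻¹ * ((x : A) * b ^ j * (x : A)⁻¹) =
          (x : A) * b ^ (j + 1) * (x : A)⁻¹ := fun j => by rw [pow_succ']; simp [mul_assoc]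
      simp only [h1]
      have h2 := Finset.prod_range_succ' (fun j => φ ((x : A) * b ^ j * (x : A)⁻¹) v) p
      rw [Finset.prod_range_succ, ← hb, pow_orderOf_eq_one, pow_zero, hb] at h2
      exact (mul_right_cancel h2).symm
  have h0 : v ^ q = 1 := by
    have h1 : (∏ x : (Q : Subgroup A), ∏ j ∈ Finset.range p,
        φ ((x : A) * b ^ j * (x : A)⁻¹) v) = 1 := Finset.prod_eq_one fun x _ => hrow x
    rw [Finset.prod_comm, Finset.prod_eq_single 0 hpow
      (fun h => absurd (Finset.mem_range.2 hp.pos) h)] at h1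
    simpa [← Nat.card_eq_fintype_card, hQc] using h1
  have h3 := orderOf_dvd_of_pow_eq_one h0
  have h4 := orderOf_dvd_natCard v
  have h5 := (FrobeniusStruct.coprime_of_fpf hAV hfpf).coprime_dvd_left h4
  have h6 : (orderOf v).Coprime q := h5.coprime_dvd_right (hA ▸ dvd_mul_left q p)
  exact hv (orderOf_eq_one_iff.1 (Nat.dvd_one.1 (h6 ▸ Nat.dvd_gcd dvd_rfl h3)))

lemma abCyclic_of_unique {P : Type*} [Group P] [Finite P] {p : ℕ} [Fact p.Prime]
    (hP : IsPGroup p P)
    (huniq : ∀ H K : Subgroup P, Nat.card H = p → Nat.card K = p → H = K) :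
    AbCyc.AbCyclic P := by
  intro A hA
  by_contra hnc
  have := hA
  obtain ⟨q, E, hq, hE, hexp⟩ := CoprimeAct.exists_elementary_of_not_isCyclic hnc
  obtain ⟨k, hk⟩ := ((hP.to_subgroup A).to_subgroup E).exists_card_eq
  have hqp : q = p := by
    have : q ∣ p ^ k := hk ▸ hE ▸ dvd_pow_self q two_ne_zero
    exact (Nat.prime_dvd_prime_iff_eq hq Fact.out).1 (hq.dvd_of_dvd_pow this)
  subst hqp
  set E' := E.map A.subtype with hE'
  have hE'c : Nat.card E' = q ^ 2 := by
    rw [hE', Nat.card_congr (E.equivMapOfInjective _ A.subtype_injective).toEquiv.symm, hE]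
  have hord : ∀ x ∈ E', x ≠ 1 → orderOf x = q := by
    rintro _ ⟨e, he, rfl⟩ hne
    refine orderOf_eq_prime ?_ hne
    have := congrArg (fun t : E => ((t : A) : P)) (hexp ⟨e, he⟩)
    simpa using this
  obtain ⟨x, hx⟩ := exists_prime_orderOf_dvd_card' (G := P) q
    ((dvd_pow_self q two_ne_zero).trans (hE'c ▸ Subgroup.card_subgroup_dvd_card E'))
  have hle : E' ≤ Subgroup.zpowers x := fun y hy => by
    rcases eq_or_ne y 1 with rfl | hne
    · exact one_mem _
    · rw [huniq (Subgroup.zpowers x) (Subgroup.zpowers y) (by rw [Nat.card_zpowers, hx])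
        (by rw [Nat.card_zpowers, hord y hy hne])]
      exact Subgroup.mem_zpowers y
  have := Subgroup.card_le_of_le hle
  rw [hE'c, Nat.card_zpowers, hx] at this
  exact absurd this (not_le.2 (lt_self_pow₀ hq.one_lt one_lt_two))

lemma quaternion_of_structure {P : Type*} [Group P] [Finite P] (hP : IsPGroup 2 P) (A : Subgroup P)
    [A.Normal] (hA : IsCyclic A) (hidx : A.index = 2) (h4 : 4 ≤ Nat.card A)
    (hout : ∀ g, g ∉ A → orderOf g = 4) (hinv : ∀ g, orderOf g = 2 → g ∈ A) :
    ∃ n : ℕ, Nonempty (P ≃* QuaternionGroup (2 ^ n)) := by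
  obtain ⟨⟨a, haA⟩, ha'⟩ := hA.exists_generator
  have : Fact (Nat.Prime 2) := ⟨Nat.prime_two⟩
  obtain ⟨e, he⟩ := (hP.to_subgroup A).exists_card_eq
  rcases e with - | e
  · rw [he] at h4; norm_num at h4
  have ha : Subgroup.zpowers a = A := le_antisymm (Subgroup.zpowers_le.2 haA) fun y hy => by
    obtain ⟨k, hk⟩ := Subgroup.mem_zpowers_iff.1 (ha' ⟨y, hy⟩)
    exact Subgroup.mem_zpowers_iff.2 ⟨k, congrArg Subtype.val hk⟩
  have hord : orderOf a = 2 * 2 ^ e := by rw [← Nat.card_zpowers, ha, he, pow_succ']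
  set m := 2 ^ e with hm
  have hm0 : 0 < m := pow_pos two_pos e
  obtain ⟨g, -, hg⟩ := SetLike.not_le_iff_exists.1 (show ¬ (⊤ : Subgroup P) ≤ A from fun h => by
    rw [top_le_iff.1 h, Subgroup.index_top] at hidx; norm_num at hidx)
  have hsq : ∀ x, x ∉ A → x ^ 2 = a ^ m := by
    intro x hx
    have h2 : orderOf (x ^ 2) = 2 := by
      rw [orderOf_pow_of_dvd two_ne_zero (by rw [hout x hx]; norm_num), hout x hx]
    obtain ⟨k₀, hk₀⟩ := mem_powers_iff_mem_zpowers.2 (show x ^ 2 ∈ Subgroup.zpowers a by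
      rw [ha]; exact hinv _ h2)
    obtain ⟨k, hk, hk'⟩ : ∃ k, k < orderOf a ∧ a ^ k = x ^ 2 :=
      ⟨k₀ % orderOf a, Nat.mod_lt _ (orderOf_pos a), by rw [pow_mod_orderOf]; exact hk₀⟩
    rw [← hk'] at h2 ⊢
    have h3 : orderOf a ∣ k * 2 := orderOf_dvd_of_pow_eq_one (by
      rw [pow_mul, ← h2, pow_orderOf_eq_one])
    rw [hord, mul_comm 2 m] at h3
    obtain ⟨c, rfl⟩ := Nat.dvd_of_mul_dvd_mul_right two_pos h3
    rw [hord] at hk
    have : c < 2 := Nat.lt_of_mul_lt_mul_left (a := m) (by linarith)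
    interval_cases c
    · simp at h2
    · rw [mul_one]
  have hga : g * a ∉ A := fun h => hg (by simpa using A.mul_mem h (A.inv_mem haA))
  have hconj : g * a * g⁻¹ = a⁻¹ := by
    have h1 := (hsq _ hga).trans (hsq g hg).symm
    rw [sq, sq] at h1
    have h2 : a * g * a = g := mul_left_cancel (a := g) (by rw [← h1]; simp [mul_assoc])
    calc g * a * g⁻¹ = a⁻¹ * (a * g * a) * g⁻¹ := by simp [mul_assoc]
      _ = a⁻¹ := by rw [h2]; simp
  have : NeZero m := ⟨hm0.ne'⟩
  let E : ZMod (2 * m) →+ Additive P := ZMod.lift (2 * m) ⟨zmultiplesHom _ (Additive.ofMul a), by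
    rw [zmultiplesHom_apply, natCast_zsmul, ← hord]
    exact congrArg Additive.ofMul (pow_orderOf_eq_one a)⟩
  let F : ZMod (2 * m) → P := fun i => Additive.toMul (E i)
  have hFadd : ∀ i j, F (i + j) = F i * F j := fun i j => by simp [F]
  have hFsub : ∀ i j, F (i - j) = F i * (F j)⁻¹ := fun i j => by simp [F, sub_eq_add_neg]
  have hFint : ∀ k : ℤ, F (k : ZMod (2 * m)) = a ^ k := fun k => by simp [F, E]
  have hFm : F (m : ZMod (2 * m)) = a ^ m := by
    rw [← Int.cast_natCast, hFint, zpow_natCast]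
  have hFg : ∀ i, F i * g = g * (F i)⁻¹ := by
    intro i
    obtain ⟨k, rfl⟩ := ZMod.intCast_surjective i
    rw [hFint]
    have h1 : g * (a ^ k)⁻¹ * g⁻¹ = a ^ k := by
      rw [← zpow_neg, ← conj_zpow, hconj, inv_zpow', neg_neg]
    nth_rewrite 1 [← h1]
    simp [mul_assoc]
  have hFA : ∀ i, F i ∈ A := fun i => by
    obtain ⟨k, rfl⟩ := ZMod.intCast_surjective i
    rw [hFint, ← ha]
    exact Subgroup.zpow_mem_zpowers a k
  have hF0 : F 0 = 1 := by simp [F]
  let φ : QuaternionGroup m →* P :=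
    MonoidHom.mk' (fun x => match x with | .a i => F i | .xa i => g * F i) (by
      rintro (i | i) (j | j)
      · simp [QuaternionGroup.a_mul_a, hFadd]
      · simp only [QuaternionGroup.a_mul_xa]
        rw [← mul_assoc, hFg, sub_eq_add_neg, add_comm, hFadd, mul_assoc]
        congr 2
        simp [F]
      · simp [QuaternionGroup.xa_mul_a, hFadd, mul_assoc]
      · simp only [QuaternionGroup.xa_mul_xa]
        rw [add_sub_assoc, hFadd, hFm, ← hsq g hg, sq]
        have : F (j - i) = (F i)⁻¹ * F j := by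
          rw [sub_eq_add_neg, add_comm, hFadd]; congr 1; simp [F]
        rw [this]
        simp only [mul_assoc]
        rw [← mul_assoc (F i) g, hFg, mul_assoc])
  have hinj : Function.Injective φ := (injective_iff_map_eq_one φ).2 fun x hx => by
    rcases x with i | i
    · change F i = 1 at hx
      obtain ⟨k, rfl⟩ := ZMod.intCast_surjective i
      rw [hFint, ← orderOf_dvd_iff_zpow_eq_one, hord, ← ZMod.intCast_zmod_eq_zero_iff_dvd] at hx
      rw [hx]
      rfl
    · change g * F i = 1 at hx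
      exact absurd (eq_inv_of_mul_eq_one_left hx ▸ A.inv_mem (hFA i)) hg
  refine ⟨e, ⟨(MulEquiv.ofBijective φ ?_).symm⟩⟩
  rw [Nat.bijective_iff_injective_and_card]
  refine ⟨hinj, ?_⟩
  rw [Nat.card_eq_fintype_card, QuaternionGroup.card, ← A.index_mul_card, hidx, he, pow_succ']
  ring

/-- A finite `p`-group with all abelian subgroups cyclic is cyclic or generalized quaternion. -/
theorem cyclic_or_quaternion {P : Type*} [Group P] [Finite P] {p : ℕ} [Fact p.Prime]
    (hP : IsPGroup p P) (hab : AbCyc.AbCyclic P) :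
    IsCyclic P ∨ (p = 2 ∧ ∃ n : ℕ, Nonempty (P ≃* QuaternionGroup (2 ^ n))) := by
  rcases AbCyc.structure_of_pGroup hab hP with h | ⟨h2, A, hAn, hA, hidx, h4, hout, hinv⟩
  · exact Or.inl h
  · subst h2
    exact Or.inr ⟨rfl, quaternion_of_structure hP A hA hidx h4 hout hinv⟩

/-- Subgroups of a fixed-point-free group of automorphisms have all abelian subgroups cyclic. -/
theorem abCyclic {K A : Subgroup G} (hK : K ≠ ⊥) (hAK : A ≤ Subgroup.normalizer (K : Set G))
    (hfpf : ∀ a ∈ A, a ≠ 1 → K ⊓ Subgroup.centralizer {a} = ⊥) : AbCyc.AbCyclic A := by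
  intro B hB
  have := hB
  have hBA : B.map A.subtype ≤ A := Subgroup.map_subtype_le B
  have : IsMulCommutative (B.map A.subtype : Subgroup G) := by
    refine .of_setLike_mul_comm ?_
    rintro _ ⟨x, hx, rfl⟩ _ ⟨y, hy, rfl⟩
    rw [← map_mul, setLike_mul_comm (s := B) hx hy, map_mul]
  have := abelian_cyclic hK (hBA.trans hAK) fun a ha => hfpf a (hBA ha)
  exact isCyclic_of_surjective (B.equivMapOfInjective A.subtype A.subtype_injective).symm
    (B.equivMapOfInjective A.subtype A.subtype_injective).symm.surjective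

end Cfsg.Agent.FpfStruct
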