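import Cfsg.Agent.Lib.Solvable.Basic
import Cfsg.Agent.Lib.Transfer.Hall
import Mathlib.GroupTheory.Frattini

/-! In a finite nilpotent group the commutator subgroup lies in the Frattini subgroup. -/

set_option autoImplicit false
open scoped Pointwise commutatorElement

namespace Cfsg.Agent.SolvStruct

theorem commutator_le_frattini (P : Type*) [Group P] [Finite P] [Group.IsNilpotent P] :
    commutator P ≤ frattini P := by
  change commutator P ≤ Order.radical (Subgroup P)
  rw [Order.radical]
  refine le_iInf₂ fun M hM => ?_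
  have hMn : M.Normal := Cfsg.Agent.TransferHall.normal_of_isCoatom hM
  obtain ⟨x, -, hxM⟩ := SetLike.not_le_iff_exists.1 (show ¬ (⊤ : Subgroup P) ≤ M from
    fun h => hM.1 (top_le_iff.1 h))
  have htop : M ⊔ Subgroup.zpowers x = ⊤ := hM.2 _ (left_lt_sup.2 fun h =>
    hxM (h (Subgroup.mem_zpowers x)))
  have hn : Subgroup.zpowers x ≤ Subgroup.normalizer (M : Set P) := by
    rw [Subgroup.normalizer_eq_top]; exact le_top
  rw [commutator_def, Subgroup.commutator_le]
  intro a _ b _
  obtain ⟨m, hm, u, hu, rfl⟩ :=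
    (SolvBasic.mem_sup_iff_of_le_normalizer hn).1 (htop ▸ Subgroup.mem_top a)
  obtain ⟨m', hm', v, hv, rfl⟩ :=
    (SolvBasic.mem_sup_iff_of_le_normalizer hn).1 (htop ▸ Subgroup.mem_top b)
  rw [← QuotientGroup.eq_one_iff]
  change QuotientGroup.mk' M ⁅m * u, m' * v⁆ = 1
  rw [map_commutatorElement, map_mul, map_mul, show QuotientGroup.mk' M m = 1 from
    (QuotientGroup.eq_one_iff m).2 hm, show QuotientGroup.mk' M m' = 1 from
    (QuotientGroup.eq_one_iff m').2 hm', one_mul, one_mul, ← map_commutatorElement,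
    commutatorElement_eq_one_iff_commute.2 (setLike_mul_comm (s := Subgroup.zpowers x) hu hv),
    map_one]

end Cfsg.Agent.SolvStruct
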