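import Cfsg.Prelude.Def_SolvableStructure
import Cfsg.Agent.Lib.Solvable.SchurZassenhaus

/-!
Hall subgroups of finite solvable groups, complement systems and Sylow systems.
-/

namespace Cfsg.Agent.HallSolv

open scoped Pointwise
open Cfsg.Agent.SolvBasic

variable {G : Type*} [Group G]

lemma card_dvd_of_coprime [Finite G] {m n : ℕ} (hG : Nat.card G = m * n) {K : Subgroup G}
    (hK : (Nat.card K).Coprime n) : Nat.card K ∣ m :=
  hK.dvd_of_dvd_mul_right (hG ▸ K.card_subgroup_dvd_card)

lemma card_comap_mk (A : Subgroup G) [A.Normal] (L : Subgroup (G ⧸ A)) :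
    Nat.card (L.comap (QuotientGroup.mk' A)) = Nat.card A * Nat.card L := by
  have hle : A ≤ L.comap (QuotientGroup.mk' A) := fun x hx => by
    rw [Subgroup.mem_comap, QuotientGroup.mk'_apply, (QuotientGroup.eq_one_iff x).2 hx]
    exact one_mem _
  have h1 := Subgroup.relIndex_ker (QuotientGroup.mk' A) (K := L.comap (QuotientGroup.mk' A))
  rw [QuotientGroup.ker_mk',
    Subgroup.map_comap_eq_self_of_surjective (QuotientGroup.mk'_surjective A)] at h1
  have h2 := Subgroup.relIndex_mul_relIndex ⊥ A (L.comap (QuotientGroup.mk' A)) bot_le hle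
  rw [Subgroup.relIndex_bot_left, Subgroup.relIndex_bot_left, h1] at h2
  exact h2.symm

/-- Hall's theorem: existence together with the containment-up-to-conjugacy property. -/
theorem hall {G : Type*} [Group G] [Finite G] [Group.IsSolvable G] {m n : ℕ}
    (hG : Nat.card G = m * n) (hmn : m.Coprime n) :
    (∃ H : Subgroup G, Nat.card H = m) ∧
    ∀ H K : Subgroup G, Nat.card H = m → (Nat.card K).Coprime n →
      ∃ g : G, MulAut.conj g • K ≤ H := by
  induction hc : Nat.card G using Nat.strong_induction_on generalizing G m n with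
  | _ N ih =>
  subst hc
  rcases subsingleton_or_nontrivial G with hs | hnt
  · have hm1 : m = 1 := Nat.eq_one_of_mul_eq_one_right (hG ▸ Nat.card_of_subsingleton 1)
    refine ⟨⟨⊥, by rw [Subgroup.card_bot, hm1]⟩, fun H K _ _ => ⟨1, ?_⟩⟩
    rw [Subsingleton.elim (MulAut.conj (1 : G) • K) H]
  obtain ⟨M, p, hp, hMn, hM, -, -, -, hMp, -⟩ :=
    exists_minimal_normal_abelian (inferInstance : (⊤ : Subgroup G).Normal) top_ne_bot
  have := Fact.mk hp
  obtain ⟨k, hk⟩ := IsPGroup.iff_card.1 hMp
  have hlt : Nat.card (G ⧸ M) < Nat.card G := by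
    rw [← Subgroup.index_eq_card, ← M.card_mul_index]
    exact lt_mul_left (Nat.pos_of_ne_zero Subgroup.index_ne_zero_of_finite)
      (M.one_lt_card_iff_ne_bot.2 hM)
  have hMdvd : Nat.card M ∣ m * n := hG ▸ M.card_subgroup_dvd_card
  have hq : Nat.card M * Nat.card (G ⧸ M) = Nat.card G := by
    rw [← Subgroup.index_eq_card, M.card_mul_index]
  by_cases hpm : p ∣ m
  · -- `M` lies in every Hall subgroup
    have hMm : (Nat.card M).Coprime n := hk ▸ ((Nat.Coprime.coprime_dvd_left hpm hmn).pow_left k)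
    obtain ⟨m', rfl⟩ := hMm.dvd_of_dvd_mul_right hMdvd
    have hG' : Nat.card (G ⧸ M) = m' * n := by
      refine Nat.eq_of_mul_eq_mul_left (Nat.card_pos (α := M)) ?_
      rw [hq, hG, mul_assoc]
    have hmn' : m'.Coprime n := hmn.coprime_dvd_left (dvd_mul_left _ _)
    obtain ⟨⟨H', hH'⟩, hconj⟩ := ih _ hlt hG' hmn' rfl
    refine ⟨⟨H'.comap (QuotientGroup.mk' M), by rw [card_comap_mk, hH']⟩, fun H K hH hK => ?_⟩
    have hMH : M ≤ H := by
      have hcop : (Nat.card (M ⊔ H : Subgroup G)).Coprime n :=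
        Nat.Coprime.coprime_dvd_left ⟨_, (card_sup_mul_card_inf
          (H := H) Subgroup.le_normalizer_of_normal).symm⟩ (hMm.mul_left (hH ▸ hmn))
      have heq : H = M ⊔ H := Subgroup.eq_of_le_of_card_ge le_sup_right
        (Nat.le_of_dvd Nat.card_pos (hH ▸ card_dvd_of_coprime hG hcop))
      exact heq ▸ le_sup_left
    have hHc : Nat.card (H.map (QuotientGroup.mk' M)) = m' := by
      refine Nat.eq_of_mul_eq_mul_left (Nat.card_pos (α := M)) ?_
      rw [← card_comap_mk, Subgroup.comap_map_eq, QuotientGroup.ker_mk', sup_eq_left.2 hMH, hH]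
    obtain ⟨g', hg'⟩ := hconj (H.map (QuotientGroup.mk' M)) (K.map (QuotientGroup.mk' M)) hHc
      (hK.coprime_dvd_left (K.card_map_dvd _))
    obtain ⟨g, rfl⟩ := QuotientGroup.mk'_surjective M g'
    refine ⟨g, ?_⟩
    rw [← map_conjSmul, Subgroup.map_le_iff_le_comap, Subgroup.comap_map_eq, QuotientGroup.ker_mk',
      sup_eq_left.2 hMH] at hg'
    exact hg'
  · -- `M` meets every Hall subgroup trivially
    have hMm : (Nat.card M).Coprime m := hk ▸ ((hp.coprime_iff_not_dvd.2 hpm).pow_left k)
    obtain ⟨n', rfl⟩ := hMm.dvd_of_dvd_mul_left hMdvd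
    have hG' : Nat.card (G ⧸ M) = m * n' := by
      refine Nat.eq_of_mul_eq_mul_left (Nat.card_pos (α := M)) ?_
      rw [hq, hG]; ring
    have hmn' : m.Coprime n' := hmn.coprime_dvd_right (dvd_mul_left _ _)
    obtain ⟨⟨H', hH'⟩, hconj⟩ := ih _ hlt hG' hmn' rfl
    constructor
    · set L := H'.comap (QuotientGroup.mk' M) with hL
      have hLc : Nat.card L = Nat.card M * m := by rw [hL, card_comap_mk, hH']
      have hML : M ≤ L := fun x hx => by
        rw [hL, Subgroup.mem_comap, QuotientGroup.mk'_apply, (QuotientGroup.eq_one_iff x).2 hx]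
        exact one_mem _
      have cM : Nat.card (M.subgroupOf L) = Nat.card M :=
        Nat.card_congr (Subgroup.subgroupOfEquivOfLe hML).toEquiv
      have hidx : (M.subgroupOf L).index = m := by
        have h1 := (M.subgroupOf L).card_mul_index
        rw [cM, hLc] at h1
        exact Nat.eq_of_mul_eq_mul_left Nat.card_pos h1
      obtain ⟨C, hC⟩ := Subgroup.exists_right_complement'_of_coprime (N := M.subgroupOf L)
        (by rw [cM, hidx]; exact hMm)
      refine ⟨C.map L.subtype, ?_⟩
      rw [Subgroup.card_map_of_injective L.subtype_injective, ← hC.symm.index_eq_card, hidx]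
    intro H K hH hK
    have hHM : H ⊓ M = ⊥ := (Subgroup.disjoint_of_coprime_natCard (hH ▸ hMm.symm)).eq_bot
    have hKcop : (Nat.card K).Coprime (Nat.card M) := hK.coprime_dvd_right (dvd_mul_right _ _)
    obtain ⟨g', hg'⟩ := hconj (H.map (QuotientGroup.mk' M)) (K.map (QuotientGroup.mk' M))
      (by rw [card_map_mk'_of_inf_eq_bot hHM, hH])
      ((hK.coprime_dvd_right (dvd_mul_left _ _)).coprime_dvd_left (K.card_map_dvd _))
    obtain ⟨g, rfl⟩ := QuotientGroup.mk'_surjective M g'
    rw [← map_conjSmul] at hg'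
    set K' := MulAut.conj g • K with hK'
    have hK'c : (Nat.card K').Coprime (Nat.card M) := by rw [hK', card_conjSmul]; exact hKcop
    set B := H ⊓ (M ⊔ K') with hB
    have hBmap : B.map (QuotientGroup.mk' M) = K'.map (QuotientGroup.mk' M) := by
      refine le_antisymm ?_ ?_
      · refine (Subgroup.map_mono inf_le_right).trans ?_
        rw [Subgroup.map_sup, QuotientGroup.map_mk'_self, bot_sup_eq]
      · rintro _ ⟨k, hk', rfl⟩
        obtain ⟨h, hh, hhk⟩ := hg' ⟨k, hk', rfl⟩
        refine ⟨h, Subgroup.mem_inf.2 ⟨hh, ?_⟩, hhk⟩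
        have h1 : h * k⁻¹ ∈ M := by
          rw [← QuotientGroup.ker_mk' M, MonoidHom.mem_ker, map_mul, map_inv, hhk, mul_inv_cancel]
        rw [show h = h * k⁻¹ * k by group]
        exact mul_mem (Subgroup.mem_sup_left h1) (Subgroup.mem_sup_right hk')
    have hBc : Nat.card B = Nat.card K' := by
      have e1 : B ⊓ M = ⊥ := le_bot_iff.1 (hHM ▸ inf_le_inf_right M inf_le_left)
      have e2 : K' ⊓ M = ⊥ := (Subgroup.disjoint_of_coprime_natCard hK'c).eq_bot
      rw [← card_map_mk'_of_inf_eq_bot e1, hBmap, card_map_mk'_of_inf_eq_bot e2]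
    obtain ⟨x, -, hx⟩ := SchurZ.conj_in (A := K') (K := M) (B := B)
      Subgroup.le_normalizer_of_normal hK'c (Or.inr inferInstance) inf_le_right hBc
    exact ⟨x * g, by rw [← conjSmul_conjSmul, ← hK', hx]; exact inf_le_left⟩

/-- The finite set of prime divisors of `n`, as a set of `Nat.Primes`. -/
def primeSet (n : ℕ) : Finset Nat.Primes :=
  n.primeFactors.attach.map ⟨fun q : {x // x ∈ n.primeFactors} =>
      (⟨q.1, Nat.prime_of_mem_primeFactors q.2⟩ : Nat.Primes),
    fun a b h => Subtype.ext (congrArg (fun x : Nat.Primes => (x : ℕ)) h)⟩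

lemma mem_primeSet {n : ℕ} {p : Nat.Primes} : p ∈ primeSet n ↔ (p : ℕ) ∈ n.primeFactors := by
  rw [primeSet, Finset.mem_map]
  constructor
  · rintro ⟨⟨a, ha⟩, -, rfl⟩
    exact ha
  · exact fun h => ⟨⟨_, h⟩, Finset.mem_attach _ _, rfl⟩

lemma factorization_eq_zero_of_notMem_primeSet {n : ℕ} (hn : n ≠ 0) {p : Nat.Primes}
    (hp : p ∉ primeSet n) : n.factorization p = 0 :=
  Nat.factorization_eq_zero_of_not_dvd fun h =>
    hp (mem_primeSet.2 (Nat.mem_primeFactors.2 ⟨p.2, h, hn⟩))

lemma prod_primeSet {n : ℕ} (hn : n ≠ 0) :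
    ∏ p ∈ primeSet n, (p : ℕ) ^ n.factorization p = n := by
  rw [primeSet, Finset.prod_map]
  exact (Finset.prod_attach n.primeFactors (fun q => q ^ n.factorization q)).trans
    (Nat.prod_primeFactors_pow_factorization hn).symm

variable [Finite G] [Group.IsSolvable G] {m n : ℕ}

theorem exists_hall (hG : Nat.card G = m * n) (hmn : m.Coprime n) :
    ∃ H : Subgroup G, Nat.card H = m :=
  (hall hG hmn).1

theorem hall_conj_le (hG : Nat.card G = m * n) (hmn : m.Coprime n) {H K : Subgroup G}
    (hH : Nat.card H = m) (hK : (Nat.card K).Coprime n) : ∃ g : G, MulAut.conj g • K ≤ H :=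
  (hall hG hmn).2 H K hH hK

theorem hall_conj (hG : Nat.card G = m * n) (hmn : m.Coprime n) {H K : Subgroup G}
    (hH : Nat.card H = m) (hK : Nat.card K = m) : ∃ g : G, MulAut.conj g • H = K := by
  obtain ⟨g, hg⟩ := hall_conj_le hG hmn hK (hH ▸ hmn : (Nat.card H).Coprime n)
  exact ⟨g, Subgroup.eq_of_le_of_card_ge hg (by rw [card_conjSmul, hH, hK])⟩

theorem exists_hall_ge (hG : Nat.card G = m * n) (hmn : m.Coprime n) {K : Subgroup G}
    (hK : (Nat.card K).Coprime n) : ∃ H : Subgroup G, Nat.card H = m ∧ K ≤ H := by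
  obtain ⟨H, hH⟩ := exists_hall hG hmn
  obtain ⟨g, hg⟩ := hall_conj_le hG hmn hH hK
  refine ⟨MulAut.conj g⁻¹ • H, by rw [card_conjSmul, hH], ?_⟩
  rw [← conjSmul_inv_conjSmul g K]
  exact Subgroup.pointwise_smul_le_pointwise_smul_iff.2 hg

/-- Hall complement systems exist. -/
theorem exists_complementSystem :
    ∃ K : Nat.Primes → Subgroup G, Cfsg.IsComplementSystem K := by
  have h : ∀ p : Nat.Primes, ∃ H : Subgroup G,
      H.index = (p : ℕ) ^ (Nat.card G).factorization p := by
    intro p
    obtain ⟨c, hc⟩ := Nat.ordProj_dvd (Nat.card G) (p : ℕ)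
    have hcop : c.Coprime ((p : ℕ) ^ (Nat.card G).factorization p) := by
      have h1 := (Nat.coprime_ordCompl p.2 (Nat.card_pos (α := G)).ne').pow_left
        ((Nat.card G).factorization p)
      have h2 : Nat.card G / (p : ℕ) ^ (Nat.card G).factorization p = c := by
        conv_lhs => arg 1; rw [hc]
        exact Nat.mul_div_cancel_left _ (pow_pos p.2.pos _)
      rw [h2] at h1
      exact h1.symm
    obtain ⟨H, hH⟩ := exists_hall (hc.trans (mul_comm _ _)) hcop
    refine ⟨H, ?_⟩
    have h1 := H.card_mul_index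
    rw [hH] at h1
    have hc0 : 0 < c := Nat.pos_of_ne_zero fun h => by
      rw [h, mul_zero] at hc; exact (Nat.card_pos (α := G)).ne' hc
    exact Nat.eq_of_mul_eq_mul_left hc0 (h1.trans (hc.trans (mul_comm _ _)))
  choose K hK using h
  exact ⟨K, hK⟩

omit [Group.IsSolvable G] in
/-- Intersections in a complement system have the expected index. -/
theorem index_iInf_complementSystem {K : Nat.Primes → Subgroup G}
    (hK : Cfsg.IsComplementSystem K) (T : Finset Nat.Primes) :
    (⨅ p ∈ T, K p).index = ∏ p ∈ T, (p : ℕ) ^ (Nat.card G).factorization p := by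
  classical
  induction T using Finset.induction_on with
  | empty => simp
  | @insert a s ha ih =>
    rw [Finset.prod_insert ha, Finset.iInf_insert]
    have hcop : (K a).index.Coprime (⨅ p ∈ s, K p).index := by
      rw [ih, hK a]
      refine Nat.Coprime.prod_right fun q hq => Nat.Coprime.pow _ _ ?_
      exact (Nat.coprime_primes a.2 q.2).2 fun h => ha (Subtype.ext h ▸ hq)
    rw [← hK a, ← ih]
    exact le_antisymm Subgroup.index_inf_le (Nat.le_of_dvd
      (Nat.pos_of_ne_zero Subgroup.index_ne_zero_of_finite)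
      (hcop.mul_dvd_of_dvd_of_dvd (Subgroup.index_dvd_of_le inf_le_left)
        (Subgroup.index_dvd_of_le inf_le_right)))

omit [Group.IsSolvable G] in
/-- Subgroups of coprime index multiply to the whole group. -/
theorem exists_mul_of_coprime_index {H K : Subgroup G} (h : H.index.Coprime K.index) (g : G) :
    ∃ x ∈ H, ∃ y ∈ K, g = x * y := by
  have h3 : (H ⊓ K).index = H.index * K.index :=
    le_antisymm Subgroup.index_inf_le (Nat.le_of_dvd
      (Nat.pos_of_ne_zero Subgroup.index_ne_zero_of_finite)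
      (h.mul_dvd_of_dvd_of_dvd (Subgroup.index_dvd_of_le inf_le_left)
        (Subgroup.index_dvd_of_le inf_le_right)))
  have h4 : K.relIndex H = K.index := by
    have h5 := Subgroup.relIndex_mul_index (inf_le_left : H ⊓ K ≤ H)
    rw [h3, Subgroup.inf_relIndex_left, mul_comm H.index] at h5
    exact Nat.eq_of_mul_eq_mul_right (Nat.pos_of_ne_zero Subgroup.index_ne_zero_of_finite) h5
  have hf : ∀ a b : H, a⁻¹ * b ∈ K.subgroupOf H → ((a : G) : G ⧸ K) = (b : G) := fun a b hab =>
    QuotientGroup.eq.2 hab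
  let f : H ⧸ K.subgroupOf H → G ⧸ K := fun q =>
    Quotient.liftOn' q (fun a : H => ((a : G) : G ⧸ K)) fun a b hab =>
      hf a b (QuotientGroup.leftRel_apply.1 hab)
  have hinj : Function.Injective f := by
    intro x y
    induction x using QuotientGroup.induction_on with
    | H a =>
      induction y using QuotientGroup.induction_on with
      | H b =>
        intro hxy
        change ((a : G) : G ⧸ K) = ((b : G) : G ⧸ K) at hxy
        rw [QuotientGroup.eq] at hxy ⊢
        exact hxy
  have := Fintype.ofFinite (G ⧸ K)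
  obtain ⟨q, hq⟩ := (hinj.bijective_of_nat_card_le
    (by rw [← Subgroup.index_eq_card, ← Subgroup.index_eq_card]; exact h4.ge)).2 (g : G ⧸ K)
  induction q using QuotientGroup.induction_on with
  | H a =>
    exact ⟨a, a.2, (a : G)⁻¹ * g, QuotientGroup.eq.1 hq, (mul_inv_cancel_left _ _).symm⟩

omit [Group.IsSolvable G] in
/-- Any two complement systems are simultaneously conjugate as soon as corresponding members
are conjugate. -/
theorem complementSystem_conj {K L : Nat.Primes → Subgroup G} (hL : Cfsg.IsComplementSystem L)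
    (hconj : ∀ p, ∃ g : G, MulAut.conj g • K p = L p) :
    ∃ g : G, ∀ p : Nat.Primes, MulAut.conj g • K p = L p := by
  classical
  suffices h : ∀ T : Finset Nat.Primes, ∃ g : G, ∀ p ∈ T, MulAut.conj g • K p = L p by
    obtain ⟨g, hg⟩ := h (primeSet (Nat.card G))
    refine ⟨g, fun p => ?_⟩
    by_cases hp : p ∈ primeSet (Nat.card G)
    · exact hg p hp
    · obtain ⟨x, hx⟩ := hconj p
      have h1 : (L p) = ⊤ := by
        rw [← Subgroup.index_eq_one, hL p]
        have h0 : (Nat.card G).factorization p = 0 :=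
          factorization_eq_zero_of_notMem_primeSet (Nat.card_pos (α := G)).ne' hp
        rw [h0, pow_zero]
      have h2 : K p = ⊤ := by
        rw [← Subgroup.index_eq_one, ← index_conjSmul x, hx, Subgroup.index_eq_one]
        exact h1
      rw [h1, h2, Subgroup.eq_top_iff']
      intro y
      rw [mem_conjSmul]
      trivial
  intro T
  induction T using Finset.induction_on with
  | empty => exact ⟨1, by simp⟩
  | @insert a s ha ih =>
    obtain ⟨g, hg⟩ := ih
    obtain ⟨x, hx⟩ := hconj a
    have hcop : (⨅ p ∈ s, L p).index.Coprime (L a).index := by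
      rw [index_iInf_complementSystem hL, hL a]
      refine Nat.Coprime.prod_left fun q hq => Nat.Coprime.pow _ _ ?_
      exact (Nat.coprime_primes q.2 a.2).2 fun h => ha (Subtype.ext h ▸ hq)
    obtain ⟨w, hw, l, hl, hgx⟩ := exists_mul_of_coprime_index hcop (g * x⁻¹)
    refine ⟨w⁻¹ * g, fun p hp => ?_⟩
    rw [← conjSmul_conjSmul]
    rcases Finset.mem_insert.1 hp with rfl | hp
    · have h1 : MulAut.conj g • K p = MulAut.conj (g * x⁻¹) • L p := by
        rw [← hx, conjSmul_conjSmul, inv_mul_cancel_right]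
      rw [h1, hgx, conjSmul_conjSmul, inv_mul_cancel_left, Subgroup.conj_smul_eq_self_of_mem hl]
    · rw [hg p hp]
      refine Subgroup.conj_smul_eq_self_of_mem (inv_mem ?_)
      simp only [Subgroup.mem_iInf] at hw
      exact hw p hp

omit [Group.IsSolvable G] in
/-- A complement system gives a Sylow system. -/
theorem exists_sylowSystem_of_complementSystem {K : Nat.Primes → Subgroup G}
    (hK : Cfsg.IsComplementSystem K) :
    ∃ S : (p : Nat.Primes) → Sylow (p : ℕ) G,
      ∀ p q : Nat.Primes, (S p : Set G) * (S q : Set G) = (S q : Set G) * (S p : Set G) := by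
  classical
  set T : Finset Nat.Primes := primeSet (Nat.card G) with hT
  have hout : ∀ p : Nat.Primes, p ∉ T → (Nat.card G).factorization p = 0 := fun p hp =>
    factorization_eq_zero_of_notMem_primeSet (Nat.card_pos (α := G)).ne' hp
  have hprod : ∏ p ∈ T, (p : ℕ) ^ (Nat.card G).factorization p = Nat.card G :=
    prod_primeSet (Nat.card_pos (α := G)).ne'
  set f : Nat.Primes → ℕ := fun p => (p : ℕ) ^ (Nat.card G).factorization p with hf
  have hsplit : ∀ (U : Finset Nat.Primes), U ⊆ T → ∀ V : Finset Nat.Primes,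
      V ⊆ T → Disjoint U V → U ∪ V = T →
      Nat.card (⨅ r ∈ U, K r : Subgroup G) = ∏ r ∈ V, f r := by
    intro U _ V _ hd hUV
    have h1 := (⨅ r ∈ U, K r : Subgroup G).card_mul_index
    rw [index_iInf_complementSystem hK] at h1
    have h2 : Nat.card G = (∏ r ∈ V, f r) * ∏ r ∈ U, f r := by
      rw [mul_comm, ← Finset.prod_union hd, hUV]
      exact hprod.symm
    exact Nat.eq_of_mul_eq_mul_right
      (Finset.prod_pos (f := f) fun r _ => pow_pos r.2.pos _) (h1.trans h2)
  set P : Nat.Primes → Subgroup G := fun p => ⨅ r ∈ T.erase p, K r with hP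
  have hPc : ∀ p : Nat.Primes, Nat.card (P p) = f p := by
    intro p
    by_cases hp : p ∈ T
    · rw [hP, hsplit (T.erase p) (T.erase_subset p) {p} (by simpa using hp)
        (by simp) (by rw [Finset.union_comm, ← Finset.insert_eq, Finset.insert_erase hp]),
        Finset.prod_singleton]
    · have h0 : f p = 1 := by simp only [hf, hout p hp, pow_zero]
      rw [hP, h0, hsplit (T.erase p) (T.erase_subset p) ∅ (by simp) (by simp)
        (by rw [Finset.union_empty, Finset.erase_eq_of_notMem hp]), Finset.prod_empty]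
  refine ⟨fun p => haveI := Fact.mk p.2; Sylow.ofCard (P p) (hPc p), fun p q => ?_⟩
  have hp := Fact.mk p.2
  have hq := Fact.mk q.2
  change ((P p : Subgroup G) : Set G) * (P q : Subgroup G) =
    ((P q : Subgroup G) : Set G) * (P p : Subgroup G)
  by_cases hpq : p = q
  · rw [hpq]
  set W : Subgroup G := ⨅ r ∈ (T.erase p).erase q, K r with hW
  have hPW : P p ≤ W := biInf_mono fun r hr => Finset.mem_of_mem_erase hr
  have hQW : P q ≤ W := by
    rw [hW, Finset.erase_right_comm]
    exact biInf_mono fun r hr => Finset.mem_of_mem_erase hr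
  have hinj : ∀ A B : Nat.Primes, A ≠ B →
      Set.InjOn (fun x : G × G => x.1 * x.2) ((P A : Set G) ×ˢ (P B : Set G)) := by
    intro A B hAB x hx y hy hxy
    have hd : P A ⊓ P B = ⊥ := by
      refine (Subgroup.disjoint_of_coprime_natCard ?_).eq_bot
      rw [hPc, hPc]
      exact Nat.Coprime.pow _ _ ((Nat.coprime_primes A.2 B.2).2 fun h => hAB (Subtype.ext h))
    have h1 : y.1⁻¹ * x.1 = y.2 * x.2⁻¹ := by
      rw [eq_mul_inv_iff_mul_eq, mul_assoc, inv_mul_eq_iff_eq_mul]; exact hxy
    have h2 : y.1⁻¹ * x.1 ∈ P A ⊓ P B :=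
      Subgroup.mem_inf.2 ⟨mul_mem (inv_mem hy.1) hx.1, h1 ▸ mul_mem hy.2 (inv_mem hx.2)⟩
    rw [hd, Subgroup.mem_bot] at h2
    have e1 : x.1 = y.1 := (inv_mul_eq_one.1 h2).symm
    exact Prod.ext e1 (by simpa [e1] using hxy)
  have hWc : Nat.card W ≤ f p * f q := by
    have h1 := W.card_mul_index
    rw [hW, index_iInf_complementSystem hK, ← hW] at h1
    have h2 : Nat.card G ≤ f p * f q * ∏ r ∈ (T.erase p).erase q, f r := by
      conv_lhs => rw [← hprod]
      rw [mul_assoc, ← Finset.prod_insert (by simp), ← Finset.prod_insert (by simp [hpq])]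
      refine Finset.prod_le_prod_of_subset_of_one_le' (fun r hr => ?_)
        (fun r _ _ => Nat.one_le_pow _ _ r.2.pos)
      simp only [Finset.mem_insert, Finset.mem_erase]
      tauto
    rw [← h1] at h2
    exact Nat.le_of_mul_le_mul_right h2 (Finset.prod_pos fun r _ => pow_pos r.2.pos _)
  have key : ∀ A B : Nat.Primes, A ≠ B → P A ≤ W → P B ≤ W → f A * f B = f p * f q →
      (P A : Set G) * (P B : Set G) = (W : Set G) := by
    intro A B hAB hA hB hAB'
    have hsub : (P A : Set G) * (P B : Set G) ⊆ (W : Set G) :=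
      Set.mul_subset_iff.2 fun a ha b hb => mul_mem (hA ha) (hB hb)
    refine Set.eq_of_subset_of_ncard_le hsub ?_ (Set.toFinite _)
    have himg : (P A : Set G) * (P B : Set G) =
        (fun x : G × G => x.1 * x.2) '' ((P A : Set G) ×ˢ (P B : Set G)) := by
      rw [← Set.image2_mul, ← Set.image_prod]
    rw [himg, (hinj A B hAB).ncard_image, Set.ncard_prod]
    rw [← Nat.card_coe_set_eq, ← Nat.card_coe_set_eq, ← Nat.card_coe_set_eq]
    simp only [SetLike.coe_sort_coe, hPc, hAB']
    exact hWc
  rw [key p q hpq hPW hQW rfl, key q p (Ne.symm hpq) hQW hPW (mul_comm _ _)]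

end Cfsg.Agent.HallSolv
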