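import Cfsg.Agent.Lib.Solvable.Fitting
import Cfsg.Agent.Lib.Solvable.Basic
import Cfsg.Agent.Lib.LocalEven.Wielandt

/-! Auxiliary facts on solvable and nilpotent finite groups. -/

set_option autoImplicit false
open scoped Pointwise commutatorElement

namespace Cfsg.Agent.SolvMinNN

variable {G : Type*} [Group G] [Finite G]

theorem exists_normal_prime_index [Nontrivial G] [Group.IsSolvable G] :
    ∃ M : Subgroup G, M.Normal ∧ M.index.Prime ∧ commutator G ≤ M := by
  have hlt := Group.IsSolvable.commutator_lt_top_of_nontrivial G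
  obtain ⟨M, hM, hle⟩ := (eq_top_or_exists_le_coatom (commutator G)).resolve_left hlt.ne
  have hn : M.Normal := ⟨fun x hx g => by
    have h1 : g * x * g⁻¹ * x⁻¹ ∈ M :=
      hle (Subgroup.commutator_mem_commutator (Subgroup.mem_top g) (Subgroup.mem_top x))
    simpa using M.mul_mem h1 hx⟩
  obtain ⟨r, hr, hrd⟩ := Nat.exists_prime_and_dvd (fun h0 => hM.1 (Subgroup.index_eq_one.1 h0))
  have : Fact r.Prime := ⟨hr⟩
  obtain ⟨y, hy⟩ := exists_prime_orderOf_dvd_card' (G := G ⧸ M) r hrd
  refine ⟨M, hn, ?_, hle⟩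
  obtain ⟨x, rfl⟩ := QuotientGroup.mk'_surjective M y
  have htop : M ⊔ Subgroup.zpowers x = ⊤ := hM.2 _ (left_lt_sup.2 fun h0 => hr.one_lt.ne' (by
    rw [← hy, show QuotientGroup.mk' M x = 1 from
      (QuotientGroup.eq_one_iff x).2 (h0 (Subgroup.mem_zpowers x)), orderOf_one]))
  have h2 := congrArg (Subgroup.map (QuotientGroup.mk' M)) htop
  rw [Subgroup.map_sup, QuotientGroup.map_mk'_self, bot_sup_eq, MonoidHom.map_zpowers,
    Subgroup.map_top_of_surjective _ (QuotientGroup.mk'_surjective M)] at h2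
  rw [Subgroup.index_eq_card, ← Subgroup.card_top, ← h2, Nat.card_zpowers, hy]
  exact hr

/-- In a nilpotent group, subgroups which are groups for different primes centralise each other. -/
theorem le_centralizer_of_nilpotent {W A B : Subgroup G} [Group.IsNilpotent W] (hA : A ≤ W)
    (hB : B ≤ W) {p q : ℕ} (hp : p.Prime) (hq : q.Prime) (hpq : p ≠ q) (hAp : IsPGroup p A)
    (hBq : IsPGroup q B) : A ≤ Subgroup.centralizer (B : Set G) := by
  have : Fact p.Prime := ⟨hp⟩
  have : Fact q.Prime := ⟨hq⟩
  have hle : ∀ {r : ℕ} {X : Subgroup G}, IsPGroup r X → X.subgroupOf W ≤ Cfsg.pCore r W :=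
    fun hX => FittingCores.le_pCore_of_isSubnormal (LEWielandt.isSubnormal_of_isNilpotent _)
      hX.comap_subtype
  intro a ha
  rw [Subgroup.mem_centralizer_iff]
  intro b hb
  have h1 := Subgroup.commute_of_normal_of_disjoint _ _ (FittingCores.pCore_normal (G := W) p)
    (FittingCores.pCore_normal (G := W) q) (IsPGroup.disjoint_of_ne p q hpq _ _
      (FittingCores.pCore_isPGroup (G := W) p) (FittingCores.pCore_isPGroup (G := W) q))
    _ _ (hle hAp (show (⟨a, hA ha⟩ : W) ∈ A.subgroupOf W from ha))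
    (hle hBq (show (⟨b, hB hb⟩ : W) ∈ B.subgroupOf W from hb))
  exact (congrArg Subtype.val h1.eq).symm

theorem commutative_of_sylows [Group.IsNilpotent G]
    (h : ∀ (p : ℕ) [Fact p.Prime] (P : Sylow p G), IsMulCommutative (P : Subgroup G)) :
    IsMulCommutative G := by
  have htop : Subgroup.center G = ⊤ := by
    refine FittingCores.eq_top_of_forall_sylow_le fun p hp => ?_
    have : Fact p.Prime := ⟨hp⟩
    obtain ⟨P⟩ := (inferInstance : Nonempty (Sylow p G))
    have hPab := h p P
    refine ⟨P, fun x hx => ?_⟩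
    have hall : Subgroup.centralizer {x} = ⊤ := by
      refine FittingCores.eq_top_of_forall_sylow_le fun q hq => ?_
      have : Fact q.Prime := ⟨hq⟩
      obtain ⟨Q⟩ := (inferInstance : Nonempty (Sylow q G))
      rcases eq_or_ne q p with rfl | hne
      · refine ⟨P, fun y hy => Subgroup.mem_centralizer_singleton_iff.2 ?_⟩
        exact setLike_mul_comm (s := (P : Subgroup G)) hy hx
      · refine ⟨Q, fun y hy => Subgroup.mem_centralizer_singleton_iff.2 ?_⟩
        have := le_centralizer_of_nilpotent (W := ⊤) (B := (P : Subgroup G))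
          (A := (Q : Subgroup G)) le_top le_top hq hp hne Q.isPGroup' P.isPGroup' hy
        exact (Subgroup.mem_centralizer_iff.1 this x hx).symm
    rw [Subgroup.mem_center_iff]
    exact fun g => Subgroup.mem_centralizer_singleton_iff.1 (hall ▸ Subgroup.mem_top g)
  exact ⟨⟨fun a b => (Subgroup.mem_center_iff.1 (htop ▸ Subgroup.mem_top b : b ∈ Subgroup.center G) a)⟩⟩

end Cfsg.Agent.SolvMinNN
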