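import Cfsg.Agent.Lib.Solvable.Basic
import Mathlib.GroupTheory.Complement
import Mathlib.GroupTheory.GroupAction.Quotient

/-! Gaschütz's theorem by averaging over cosets. -/

set_option autoImplicit false
open scoped Pointwise commutatorElement IsMulCommutative

namespace Cfsg.Agent.SolvGaschutz

variable {G : Type*} [Group G] [Finite G] {K U : Subgroup G}

lemma exists_root [IsMulCommutative K] {n : ℕ} (hn : (Nat.card K).Coprime n) (x : K) :
    ∃ y : K, y ^ n = x :=
  (powCoprime hn).surjective x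

lemma root_unique [IsMulCommutative K] {n : ℕ} (hn : (Nat.card K).Coprime n) {x y : K}
    (h : x ^ n = y ^ n) : x = y :=
  (powCoprime hn).injective h

theorem existence [K.Normal] [IsMulCommutative K] (hKU : K ≤ U)
    (hcop : (Nat.card K).Coprime U.index) {A : Subgroup G} (hAU : A ≤ U) (hAK : A ⊓ K = ⊥)
    (hKA : K ⊔ A = U) : ∃ H : Subgroup G, Subgroup.IsComplement' K H := by
  have : Fintype (G ⧸ U) := Fintype.ofFinite _
  let t : G ⧸ U → G := fun q => q.out
  have hnorm : A ≤ Subgroup.normalizer (K : Set G) := by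
    rw [Subgroup.normalizer_eq_top]; exact le_top
  have hex : ∀ (g : G) (q : G ⧸ U), ∃ x : K, ∃ a ∈ A, g * t q = x * t (g • q) * a := by
    intro g q
    have h1 : (t (g • q))⁻¹ * (g * t q) ∈ U := by
      rw [← QuotientGroup.eq]
      show QuotientGroup.mk (Quotient.out (g • q)) = _
      rw [QuotientGroup.out_eq']
      conv_lhs => rw [← QuotientGroup.out_eq' q]
      rfl
    obtain ⟨k, hk, a, ha, he⟩ :=
      (SolvBasic.mem_sup_iff_of_le_normalizer hnorm).1
        (show (t (g • q))⁻¹ * (g * t q) ∈ K ⊔ A by rw [hKA]; exact h1)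
    refine ⟨⟨t (g • q) * k * (t (g • q))⁻¹, (inferInstance : K.Normal).conj_mem k hk _⟩, a, ha, ?_⟩
    calc g * t q = t (g • q) * ((t (g • q))⁻¹ * (g * t q)) := by simp
      _ = _ := by rw [he]; simp [mul_assoc]
  choose T a ha hT using hex
  have huniq : ∀ (g : G) (q : G ⧸ U) (x : K) (b : G), b ∈ A →
      g * t q = x * t (g • q) * b → x = T g q := by
    intro g q x b hb he
    set u := t (g • q) with hu
    have h1 : u⁻¹ * ((T g q : G)⁻¹ * x) * u = a g q * b⁻¹ := by
      rw [hT g q] at he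
      calc u⁻¹ * ((T g q : G)⁻¹ * x) * u = u⁻¹ * (T g q : G)⁻¹ * (x * u * b) * b⁻¹ := by
            simp [mul_assoc]
        _ = u⁻¹ * (T g q : G)⁻¹ * ((T g q : G) * u * a g q) * b⁻¹ := by rw [← he]
        _ = _ := by simp [mul_assoc]
    have h2 : u⁻¹ * ((T g q : G)⁻¹ * x) * u ∈ A ⊓ K := Subgroup.mem_inf.2
      ⟨h1 ▸ A.mul_mem (ha g q) (A.inv_mem hb),
        (inferInstance : K.Normal).conj_mem' _ (K.mul_mem (K.inv_mem (T g q).2) x.2) u⟩
    rw [hAK, Subgroup.mem_bot] at h2
    have h3 := congrArg (fun w => u * w * u⁻¹) h2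
    simp [mul_assoc] at h3
    exact Subtype.ext (inv_mul_eq_one.1 h3).symm
  let c : G → K := fun g => ∏ q, T g q
  have hc : ∀ g h, c (g * h) = MulAut.conjNormal g (c h) * c g := by
    intro g h
    have h1 : ∀ q, T (g * h) q = MulAut.conjNormal g (T h q) * T g (h • q) := fun q =>
      (huniq _ _ _ (a g (h • q) * a h q) (A.mul_mem (ha _ _) (ha _ _)) (by
        rw [mul_smul, Subgroup.coe_mul, MulAut.conjNormal_apply, mul_assoc g h, hT h q]
        calc g * ((T h q : G) * t (h • q) * a h q)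
            = g * (T h q : G) * g⁻¹ * (g * t (h • q)) * a h q := by simp [mul_assoc]
          _ = _ := by rw [hT g (h • q)]; simp [mul_assoc])).symm
    simp only [c, h1, Finset.prod_mul_distrib, map_prod]
    congr 1
    exact Fintype.prod_equiv (MulAction.toPerm h) (fun q => T g (h • q)) (fun q => T g q)
      fun q => rfl
  have hcK : ∀ k : K, c k = k ^ U.index := by
    intro k
    have h1 : ∀ q, T k q = k := fun q => by
      have hq : (k : G) • q = q := by
        obtain ⟨g, rfl⟩ := QuotientGroup.mk_surjective q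
        refine QuotientGroup.eq.2 ?_
        have h := hKU ((inferInstance : K.Normal).conj_mem' _ (K.inv_mem k.2) g)
        simpa [mul_assoc] using h
      exact (huniq _ _ k 1 A.one_mem (by rw [hq, mul_one])).symm
    simp only [c, h1, Finset.prod_const, Finset.card_univ]
    rw [Subgroup.index_eq_card, Nat.card_eq_fintype_card]
  have hconjK : ∀ (k : K) (x : K), MulAut.conjNormal (k : G) x = x := fun k x =>
    Subtype.ext (by
      rw [MulAut.conjNormal_apply, setLike_mul_comm (s := K) k.2 x.2, mul_inv_cancel_right])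
  let H : Subgroup G :=
    { carrier := {g | c g = 1}
      one_mem' := by
        have := hcK 1
        rwa [one_pow] at this
      mul_mem' := fun {x y} hx hy => by
        change c x = 1 at hx; change c y = 1 at hy
        change c (x * y) = 1
        rw [hc, hx, hy, map_one, one_mul]
      inv_mem' := fun {x} hx => by
        change c x = 1 at hx
        change c x⁻¹ = 1
        have h1 := hc x⁻¹ x
        rw [inv_mul_cancel, hx, map_one, one_mul] at h1
        have h2 := hcK 1
        rw [one_pow] at h2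
        exact h1.symm.trans h2 }
  refine ⟨H, Subgroup.isComplement'_of_disjoint_and_mul_eq_univ (disjoint_iff.2 ?_) ?_⟩
  · rw [eq_bot_iff]
    rintro x ⟨hxK, hxH⟩
    have h1 : (⟨x, hxK⟩ : K) ^ U.index = 1 := (hcK ⟨x, hxK⟩).symm.trans hxH
    rw [Subgroup.mem_bot]
    exact congrArg Subtype.val (root_unique hcop (h1.trans (one_pow _).symm))
  · rw [Set.eq_univ_iff_forall]
    intro g
    obtain ⟨k, hk⟩ := exists_root hcop (c g)
    refine ⟨k, k.2, (k : G)⁻¹ * g, ?_, mul_inv_cancel_left _ _⟩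
    change c _ = 1
    have h1 : ((k : G)⁻¹) = ((k⁻¹ : K) : G) := rfl
    rw [h1, hc, hconjK, hcK, inv_pow, hk, mul_inv_cancel]

theorem conjugacy [K.Normal] [IsMulCommutative K] (hKU : K ≤ U)
    (hcop : (Nat.card K).Coprime U.index) {H₀ H₁ : Subgroup G}
    (h₀ : Subgroup.IsComplement' K H₀) (h₁ : Subgroup.IsComplement' K H₁)
    (hU : H₀ ⊓ U = H₁ ⊓ U) : ∃ g : G, MulAut.conj g • H₀ = H₁ := by
  have : Fintype (G ⧸ U) := Fintype.ofFinite _
  have hdec : ∀ g : G, ∃ d : K, (d : G)⁻¹ * g ∈ H₁ := fun g => by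
    obtain ⟨⟨⟨k, hk⟩, ⟨h, hh⟩⟩, rfl⟩ := h₁.2 g
    exact ⟨⟨k, hk⟩, by simpa using hh⟩
  choose d hd using hdec
  have huniq : ∀ (g : G) (x : K), (x : G)⁻¹ * g ∈ H₁ → x = d g := by
    intro g x hx
    have h2 : (x : G)⁻¹ * d g ∈ K ⊓ H₁ := Subgroup.mem_inf.2
      ⟨K.mul_mem (K.inv_mem x.2) (d g).2, by
        simpa [mul_assoc] using H₁.mul_mem hx (H₁.inv_mem (hd g))⟩
    rw [h₁.disjoint.eq_bot, Subgroup.mem_bot] at h2
    exact Subtype.ext (inv_mul_eq_one.1 h2)
  have hdc : ∀ g h : G, d (g * h) = d g * MulAut.conjNormal g (d h) := by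
    intro g h
    refine (huniq _ _ ?_).symm
    have hcomm := setLike_mul_comm (s := K) (d g).2 (MulAut.conjNormal g (d h)).2
    rw [Subgroup.coe_mul, hcomm, MulAut.conjNormal_apply]
    simpa [mul_assoc] using H₁.mul_mem (hd g) (hd h)
  have hdW : ∀ w ∈ H₀, w ∈ U → d w = 1 := fun w hw hwU =>
    (huniq w 1 (by simpa using (Subgroup.mem_inf.1 (hU ▸ Subgroup.mem_inf.2 ⟨hw, hwU⟩)).1)).symm
  have hrep : ∀ q : G ⧸ U, ∃ s ∈ H₀, QuotientGroup.mk s = q := fun q => by
    obtain ⟨g, rfl⟩ := QuotientGroup.mk_surjective q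
    obtain ⟨⟨⟨k, hk⟩, ⟨h, hh⟩⟩, rfl⟩ := h₀.2 g
    refine ⟨h, hh, QuotientGroup.eq.2 ?_⟩
    change h⁻¹ * (k * h) ∈ U
    rw [← mul_assoc]
    exact hKU ((inferInstance : K.Normal).conj_mem' k hk h)
  choose s hs hsq using hrep
  let e : K := ∏ q, d (s q)
  obtain ⟨f, hf⟩ := exists_root hcop e
  have key : ∀ g ∈ H₀, d g = f * (MulAut.conjNormal g f)⁻¹ := by
    intro g hg
    refine root_unique hcop ?_
    have h1 : ∀ q, d (s (g • q)) = d g * MulAut.conjNormal g (d (s q)) := fun q => by
      rw [← hdc]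
      set w := (s (g • q))⁻¹ * (g * s q) with hw
      have hwU : w ∈ U := by
        rw [hw, ← QuotientGroup.eq, hsq]
        conv_lhs => rw [← hsq q]
        rfl
      have hw0 : w ∈ H₀ := H₀.mul_mem (H₀.inv_mem (hs _)) (H₀.mul_mem hg (hs q))
      have h2 : g * s q = s (g • q) * w := by rw [hw, mul_inv_cancel_left]
      rw [h2, hdc, hdW w hw0 hwU, map_one, mul_one]
    have h3 : e = d g ^ U.index * MulAut.conjNormal g e := by
      have h4 : ∏ q, d (s (g • q)) = e :=
        Fintype.prod_equiv (MulAction.toPerm g) (fun q => d (s (g • q))) (fun q => d (s q))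
          fun q => rfl
      nth_rewrite 1 [← h4]
      simp only [h1, Finset.prod_mul_distrib, Finset.prod_const, Finset.card_univ, e, map_prod,
        Subgroup.index_eq_card, Nat.card_eq_fintype_card]
    rw [mul_pow, inv_pow, ← map_pow, hf]
    exact eq_mul_inv_of_mul_eq h3.symm
  refine ⟨((f : G))⁻¹, Subgroup.eq_of_le_of_card_ge (fun x hx => ?_) ?_⟩
  · rw [SolvBasic.mem_conjSmul, inv_inv] at hx
    set g := (f : G) * x * (f : G)⁻¹ with hg
    have h1 := hd g
    rw [key g hx, Subgroup.coe_mul, Subgroup.coe_inv, MulAut.conjNormal_apply] at h1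
    have hxg : x = (f : G)⁻¹ * g * f := by rw [hg]; simp [mul_assoc]
    have h2 := setLike_mul_comm (s := K) (K.inv_mem f.2)
      ((inferInstance : K.Normal).conj_mem _ f.2 g)
    rw [hxg]
    simp only [mul_inv_rev, inv_inv] at h1
    rw [← h2] at h1
    simpa [mul_assoc] using h1
  · rw [SolvBasic.card_conjSmul]
    have e₀ := h₀.card_mul
    rw [← h₁.card_mul] at e₀
    exact (mul_left_cancel₀ Nat.card_pos.ne' e₀).ge

end Cfsg.Agent.SolvGaschutz
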