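import Cfsg.Agent.Lib.Solvable.CoprimeFree
import Cfsg.Prelude.Def_Transfer
import Mathlib.Algebra.Module.ZMod
import Mathlib.FieldTheory.IsAlgClosed.AlgebraicClosure
import Mathlib.LinearAlgebra.TensorProduct.Tower

/-! From a fixed point free action inside a group to a representation. -/

set_option autoImplicit false
open scoped Pointwise TensorProduct

open Module

universe u

namespace Cfsg.Agent.CoprimeFree

/-- Automorphisms of a group of exponent `p` as linear maps. -/
def autEnd (p : ℕ) (W : Type*) [CommGroup W] [Module (ZMod p) (Additive W)] :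
    MulAut W →* Module.End (ZMod p) (Additive W) where
  toFun α := (MonoidHom.toAdditive α.toMonoidHom).toZModLinearMap p
  map_one' := rfl
  map_mul' _ _ := rfl

/-- Linearise an action on an abelian group of exponent `p` and extend the scalars. -/
theorem linearise {p r : ℕ} [hp : Fact p.Prime] (W : Type u) [CommGroup W] [Finite W]
    [Module (ZMod p) (Additive W)] {Q : Type*} [Group Q] (α : MulAut W) (β : Q →* MulAut W)
    (θ : MulAut Q) (hα : α ^ r = 1) (hfix : ∀ w, α w = w → w = 1)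
    (hconj : ∀ t, α * β t = β (θ t) * α) :
    ∃ (K : Type) (_ : Field K) (_ : IsAlgClosed K) (_ : CharP K p) (U : Type u)
      (_ : AddCommGroup U) (_ : Module K U) (_ : FiniteDimensional K U) (τ : Q →* Module.End K U)
      (T : Module.End K U), (∀ s t, τ s = τ t → β s = β t) ∧ T ^ r = 1 ∧
      (∑ i ∈ Finset.range r, T ^ i = 0) ∧ ∀ t, T * τ t = τ (θ t) * T := by
  set X₀ := autEnd p W α with hX₀
  set τ₀ : Q →* Module.End (ZMod p) (Additive W) := (autEnd p W).comp β with hτ₀
  have hinj : ∀ s t, τ₀ s = τ₀ t → β s = β t := fun s t h => MulEquiv.ext fun w =>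
    congrArg Additive.toMul (congrArg (fun F : Module.End (ZMod p) (Additive W) => F (Additive.ofMul w)) h)
  have hX₀r : X₀ ^ r = 1 := by rw [hX₀, ← map_pow, hα, map_one]
  have hconj₀ : ∀ t, X₀ * τ₀ t = τ₀ (θ t) * X₀ := fun t => by
    rw [hX₀, hτ₀, MonoidHom.comp_apply, MonoidHom.comp_apply, ← map_mul, hconj, map_mul]
  have hsum : ∑ i ∈ Finset.range r, X₀ ^ i = 0 := by
    refine LinearMap.ext fun v => ?_
    set u := (∑ i ∈ Finset.range r, X₀ ^ i) v with hu
    have hfix' : X₀ u = u := by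
      have h : (X₀ - 1) * ∑ i ∈ Finset.range r, X₀ ^ i = 0 := by rw [mul_geom_sum, hX₀r, sub_self]
      have := congrArg (fun F : Module.End (ZMod p) (Additive W) => F v) h
      simp only [Module.End.mul_apply, LinearMap.sub_apply, Module.End.one_apply, LinearMap.zero_apply,
        sub_eq_zero] at this
      exact this
    have h1 : α (Additive.toMul u) = Additive.toMul u := congrArg Additive.toMul hfix'
    exact congrArg Additive.ofMul (hfix _ h1)
  have : CharP (AlgebraicClosure (ZMod p)) p := charP_of_injective_algebraMap' (ZMod p) p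
  have : Module.Finite (ZMod p) (Additive W) := Module.Finite.of_finite
  let Φ : Module.End (ZMod p) (Additive W) →ₐ[ZMod p]
      Module.End (AlgebraicClosure (ZMod p)) (AlgebraicClosure (ZMod p) ⊗[ZMod p] Additive W) :=
    Module.End.baseChangeHom (ZMod p) (AlgebraicClosure (ZMod p)) (Additive W)
  have hΦ : Function.Injective Φ :=
    LinearMap.baseChangeHom_injective (ZMod p) (Additive W) (AlgebraicClosure (ZMod p))
  refine ⟨AlgebraicClosure (ZMod p), inferInstance, inferInstance, inferInstance,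
    AlgebraicClosure (ZMod p) ⊗[ZMod p] Additive W, inferInstance, inferInstance, inferInstance,
    Φ.toRingHom.toMonoidHom.comp τ₀, Φ X₀, fun s t h => hinj s t (hΦ h), ?_, ?_, fun t => ?_⟩
  · rw [← map_pow, hX₀r, map_one]
  · simp_rw [← map_pow, ← map_sum, hsum, map_zero]
  · change Φ X₀ * Φ (τ₀ t) = Φ (τ₀ (θ t)) * Φ X₀
    rw [← map_mul, hconj₀, map_mul]

variable {G : Type u} [Group G] [Finite G]

theorem exists_rep {p r : ℕ} [hp : Fact p.Prime] [hr : Fact r.Prime] (X Q V : Subgroup G)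
    (hX : Nat.card X = r) (hXQ : X ≤ Subgroup.normalizer (Q : Set G))
    (hV : Cfsg.IsElementaryAbelian p V) (hXV : X ≤ Subgroup.normalizer (V : Set G))
    (hQV : Q ≤ Subgroup.normalizer (V : Set G))
    (hCV : V ⊓ Subgroup.centralizer (X : Set G) = ⊥) :
    ∃ x ∈ X, x ≠ 1 ∧ ∃ (K : Type) (_ : Field K) (_ : IsAlgClosed K) (_ : CharP K p) (W : Type u)
      (_ : AddCommGroup W) (_ : Module K W) (_ : FiniteDimensional K W) (τ : Q →* Module.End K W)
      (T : Module.End K W) (θ : MulAut Q),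
      (∀ s t : Q, τ s = τ t → (s : G) * (t : G)⁻¹ ∈ Subgroup.centralizer (V : Set G)) ∧ θ ^ r = 1 ∧ T ^ r = 1 ∧
      (∑ i ∈ Finset.range r, T ^ i = 0) ∧ (∀ t, T * τ t = τ (θ t) * T) ∧
      ∀ t : Q, ((θ t : Q) : G) = x * t * x⁻¹ := by
  obtain ⟨⟨x, hx⟩, hx1⟩ : ∃ x : X, x ≠ 1 := by
    have : Nontrivial X := Finite.one_lt_card_iff_nontrivial.1 (hX ▸ hr.out.one_lt)
    exact exists_ne 1
  have hx1' : x ≠ 1 := fun h => hx1 (Subtype.ext h)
  have hxr : x ^ r = 1 := by
    have h := pow_card_eq_one' (x := (⟨x, hx⟩ : X))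
    rw [hX] at h
    exact congrArg Subtype.val h
  have hgen : Subgroup.zpowers x = X :=
    Subgroup.eq_of_le_of_card_ge (Subgroup.zpowers_le.2 hx) (by
      rw [Nat.card_zpowers, hX, orderOf_eq_prime hxr hx1'])
  let θ : MulAut Q := Q.normalizerMonoidHom ⟨x, hXQ hx⟩
  let α : MulAut V := V.normalizerMonoidHom ⟨x, hXV hx⟩
  let β : Q →* MulAut V := V.normalizerMonoidHom.comp (Subgroup.inclusion hQV)
  have hβ : ∀ s t : Q, β s = β t → (s : G) * (t : G)⁻¹ ∈ Subgroup.centralizer (V : Set G) := by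
    intro s t hst
    have h1 : β (s * t⁻¹) = 1 := by rw [map_mul, map_inv, hst, mul_inv_cancel]
    refine Subgroup.mem_centralizer_iff.2 fun v hv => ?_
    have h := congrArg (fun F : MulAut V => ((F ⟨v, hv⟩ : V) : G)) h1
    change ((s * t⁻¹ : Q) : G) * v * ((s * t⁻¹ : Q) : G)⁻¹ = v at h
    exact (mul_inv_eq_iff_eq_mul.1 h).symm
  have hθ : θ ^ r = 1 := by
    rw [← map_pow, show (⟨x, hXQ hx⟩ : Subgroup.normalizer (Q : Set G)) ^ r = 1 from Subtype.ext hxr,
      map_one]
  have hα : α ^ r = 1 := by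
    rw [← map_pow, show (⟨x, hXV hx⟩ : Subgroup.normalizer (V : Set G)) ^ r = 1 from Subtype.ext hxr,
      map_one]
  have hfix : ∀ w, α w = w → w = 1 := by
    intro w hw
    refine Subtype.ext ((Subgroup.eq_bot_iff_forall _).1 hCV w ⟨w.2, Subgroup.mem_centralizer_iff.2 fun y hy => ?_⟩)
    rw [SetLike.mem_coe, ← hgen] at hy
    obtain ⟨i, rfl⟩ := hy
    have h1 : x * (w : G) * x⁻¹ = w := congrArg Subtype.val hw
    exact (Commute.zpow_left (show Commute x (w : G) from mul_inv_eq_iff_eq_mul.1 h1) i).eq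
  have hconj : ∀ t, α * β t = β (θ t) * α := fun t => by
    change V.normalizerMonoidHom _ * V.normalizerMonoidHom _ =
      V.normalizerMonoidHom _ * V.normalizerMonoidHom _
    rw [← map_mul, ← map_mul]
    refine congrArg _ (Subtype.ext ?_)
    change x * (t : G) = x * (t : G) * x⁻¹ * x
    rw [inv_mul_cancel_right]
  have := hV.1
  letI instC : CommGroup V := { (inferInstance : Group V) with mul_comm := fun a b => mul_comm' a b }
  letI instM : Module (ZMod p) (Additive V) := AddCommGroup.zmodModule fun v => by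
    change Additive.ofMul ((Additive.toMul v) ^ p) = 0
    rw [show (Additive.toMul v) ^ p = 1 from Subtype.ext (hV.2 _ (Additive.toMul v).2)]
    rfl
  obtain ⟨K, i1, i2, i3, U, i4, i5, i6, τ, T, hτ, hT, hsum, hc⟩ :=
    linearise (p := p) V α β θ hα hfix hconj
  exact ⟨x, hx, hx1', K, i1, i2, i3, U, i4, i5, i6, τ, T, θ, fun s t h => hβ s t (hτ s t h), hθ, hT, hsum, hc, fun t => rfl⟩

theorem injective_of_faithful {Q V : Subgroup G} {A : Type*}
    (hfaith : Q ⊓ Subgroup.centralizer (V : Set G) = ⊥) {τ : Q → A}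
    (h : ∀ s t : Q, τ s = τ t → (s : G) * (t : G)⁻¹ ∈ Subgroup.centralizer (V : Set G)) :
    Function.Injective τ := fun s t hst => Subtype.ext (mul_inv_eq_one.1
      ((Subgroup.eq_bot_iff_forall _).1 hfaith _ ⟨Q.mul_mem s.2 (Q.inv_mem t.2), h s t hst⟩))

theorem natCast_ne_zero {K : Type*} [Field K] {p n : ℕ} [CharP K p] [hp : Fact p.Prime]
    (hn : n.Prime) (hpn : p ≠ n) : (n : K) ≠ 0 := by
  rw [Ne, CharP.cast_eq_zero_iff K p, Nat.prime_dvd_prime_iff_eq hp.out hn]
  exact hpn

end Cfsg.Agent.CoprimeFree
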