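import Cfsg.Agent.Lib.Solvable.FrobeniusModule
import Cfsg.Agent.Lib.Solvable.CoprimeFreeGroup
import Cfsg.Agent.Lib.Solvable.Coprime
import Cfsg.Agent.Lib.Solvable.Structure

/-! Frobenius groups acting coprimely on nilpotent groups. -/

set_option autoImplicit false
open scoped Pointwise TensorProduct commutatorElement

open Module

universe u

namespace Cfsg.Agent.FrobeniusModule

theorem finrank_range_baseChange {k L : Type*} [Field k] [Field L] [Algebra k L] {V W : Type*}
    [AddCommGroup V] [Module k V] [AddCommGroup W] [Module k W] [FiniteDimensional k V]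
    [FiniteDimensional k W] (f : V →ₗ[k] W) :
    finrank L (LinearMap.range (f.baseChange L)) = finrank k (LinearMap.range f) := by
  have hcomp : (LinearMap.range f).subtype ∘ₗ f.rangeRestrict = f := rfl
  have h1 : Function.Surjective (f.rangeRestrict.baseChange L) := by
    rw [LinearMap.baseChange_eq_ltensor]
    exact LinearMap.lTensor_surjective L (LinearMap.surjective_rangeRestrict f)
  have h2 : Function.Injective ((LinearMap.range f).subtype.baseChange L) := by
    rw [LinearMap.baseChange_eq_ltensor]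
    exact Module.Flat.lTensor_preserves_injective_linearMap (R := k) (M := L) _ (Submodule.injective_subtype _)
  conv_lhs => rw [← hcomp, LinearMap.baseChange_comp, LinearMap.range_comp,
    LinearMap.range_eq_top.2 h1, Submodule.map_top]
  rw [LinearMap.finrank_range_of_inj h2, Module.finrank_baseChange]

/-- The linear version over a prime field. -/
theorem count_linear {l : ℕ} [hl : Fact l.Prime] (V : Type u) [CommGroup V] [Finite V]
    [Module (ZMod l) (Additive V)] {Q : Type*} [Group Q] [Finite Q] [Group.IsSolvable Q]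
    (hQ : (Nat.card Q).Coprime l) (β : Q →* MulAut V) (α : MulAut V) (θ : MulAut Q) (n : ℕ)
    (hn : 0 < n) (hθ : θ ^ n = 1) (hα : α ^ n = 1) (hconj : ∀ t, α * β t = β (θ t) * α)
    (hfix : ∀ i, 0 < i → i < n → ∀ t, (θ ^ i) t = t → t = 1)
    (hnofix : ∀ v, (∀ t, β t v = v) → v = 1) :
    Nat.card V = Nat.card {v : V // α v = v} ^ n ∧
      (n.Prime → Nat.card {v : V // α v = v} = l → ∀ s t, β s * β t = β t * β s) := by
  classical
  have := Fintype.ofFinite Q
  set E := CoprimeFree.autEnd l V with hE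
  set X₀ := E α with hX₀
  set τ₀ : Q →* Module.End (ZMod l) (Additive V) := E.comp β with hτ₀
  have : Module.Finite (ZMod l) (Additive V) := Module.Finite.of_finite
  let L := AlgebraicClosure (ZMod l)
  have : CharP L l := charP_of_injective_algebraMap' (ZMod l) l
  let Φ : Module.End (ZMod l) (Additive V) →ₐ[ZMod l]
      Module.End L (L ⊗[ZMod l] Additive V) :=
    Module.End.baseChangeHom (ZMod l) L (Additive V)
  have hΦ : Function.Injective Φ := LinearMap.baseChangeHom_injective (ZMod l) (Additive V) L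
  have hQL : (Nat.card Q : L) ≠ 0 := by
    rw [Ne, CharP.cast_eq_zero_iff L l]
    exact (hl.out.coprime_iff_not_dvd.1 hQ.symm)
  have hS : ∑ t : Q, τ₀ t = 0 := by
    refine LinearMap.ext fun v => ?_
    rw [LinearMap.zero_apply]
    refine congrArg Additive.ofMul (hnofix (Additive.toMul ((∑ t : Q, τ₀ t) v)) fun s => ?_)
    have h : τ₀ s ((∑ t : Q, τ₀ t) v) = (∑ t : Q, τ₀ t) v := by
      rw [← Module.End.mul_apply, Finset.mul_sum]
      simp_rw [← map_mul]
      exact congrArg (fun F : Module.End (ZMod l) (Additive V) => F v)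
        (Equiv.sum_comp (Equiv.mulLeft s) fun t => τ₀ t)
    exact congrArg Additive.toMul h
  have hnofix' : ∀ v : L ⊗[ZMod l] Additive V, (∀ t, Φ (τ₀ t) v = v) → v = 0 := by
    intro v hv
    have h : (∑ t : Q, Φ (τ₀ t)) v = 0 := by rw [← map_sum, hS, map_zero, LinearMap.zero_apply]
    rw [LinearMap.sum_apply, Finset.sum_congr rfl (fun t _ => hv t), Finset.sum_const,
      Finset.card_univ, ← Nat.cast_smul_eq_nsmul L, ← Nat.card_eq_fintype_card] at h
    exact (smul_eq_zero.1 h).resolve_left hQL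
  obtain ⟨hdim, hcomm⟩ := main (K := L) _ Q (L ⊗[ZMod l] Additive V) rfl hQL
    (Φ.toRingHom.toMonoidHom.comp τ₀) (Φ X₀) θ n hn hθ
    (by rw [← map_pow, hX₀, ← map_pow, hα, map_one, map_one])
    (fun t => by
      change Φ X₀ * Φ (τ₀ t) = Φ (τ₀ (θ t)) * Φ X₀
      rw [← map_mul, ← map_mul, hX₀, hτ₀, MonoidHom.comp_apply, MonoidHom.comp_apply, ← map_mul,
        hconj, map_mul])
    hfix hnofix'
  have hker : finrank L (LinearMap.ker (Φ X₀ - 1)) = finrank (ZMod l) (LinearMap.ker (X₀ - 1)) := by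
    have hbc : Φ X₀ - 1 = (X₀ - 1).baseChange L :=
      (congrArg (fun F => Φ X₀ - F) (map_one Φ).symm).trans (map_sub Φ X₀ 1).symm
    have h1 := LinearMap.finrank_range_add_finrank_ker (Φ X₀ - 1)
    have h2 := LinearMap.finrank_range_add_finrank_ker (X₀ - 1)
    rw [Module.finrank_baseChange] at h1
    have h3 := finrank_range_baseChange (L := L) (X₀ - 1)
    rw [← hbc] at h3
    omega
  have hcardC : Nat.card {v : V // α v = v} = l ^ finrank (ZMod l) (LinearMap.ker (X₀ - 1)) := by
    have h := Module.natCard_eq_pow_finrank (K := ZMod l) (V := LinearMap.ker (X₀ - 1))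
    rw [Nat.card_zmod] at h
    rw [← h]
    refine Nat.card_congr (Equiv.subtypeEquiv Additive.ofMul fun v => ?_)
    rw [LinearMap.mem_ker, LinearMap.sub_apply, Module.End.one_apply, sub_eq_zero]
    exact Iff.rfl
  rw [Module.finrank_baseChange, hker] at hdim
  refine ⟨?_, fun hnp hC => ?_⟩
  · rw [hcardC, ← pow_mul, mul_comm, ← hdim]
    have h := Module.natCard_eq_pow_finrank (K := ZMod l) (V := Additive V)
    rw [Nat.card_zmod] at h
    exact h
  · have h1 : finrank L (LinearMap.ker (Φ X₀ - 1)) = 1 := by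
      rw [hker]
      rw [hcardC] at hC
      exact Nat.pow_right_injective hl.out.two_le (hC.trans (pow_one l).symm)
    intro s t
    have h := hcomm hnp h1 s t
    have h2 : E (β s * β t) = E (β t * β s) := hΦ (by
      rw [map_mul, map_mul, map_mul, map_mul]
      exact h)
    exact MulEquiv.ext fun v => congrArg Additive.toMul
      (congrArg (fun F : Module.End (ZMod l) (Additive V) => F (Additive.ofMul v)) h2)

/-- A Frobenius group acting on an elementary abelian group. -/
theorem count_elementary {G : Type u} [Group G] [Finite G] {l : ℕ} [Fact l.Prime]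
    (K V : Subgroup G) (x : G) (hK : Group.IsSolvable K) (hl : (Nat.card K).Coprime l)
    (hV : Cfsg.IsElementaryAbelian l V) (hKV : K ≤ Subgroup.normalizer (V : Set G))
    (hxV : x ∈ Subgroup.normalizer (V : Set G)) (hxK : x ∈ Subgroup.normalizer (K : Set G))
    (hfix : ∀ i, 0 < i → i < orderOf x → ∀ t ∈ K, x ^ i * t = t * x ^ i → t = 1)
    (hCK : V ⊓ Subgroup.centralizer (K : Set G) = ⊥) :
    Nat.card V = Nat.card (V ⊓ Subgroup.centralizer ({x} : Set G) : Subgroup G) ^ orderOf x ∧
      ((orderOf x).Prime → Nat.card (V ⊓ Subgroup.centralizer ({x} : Set G) : Subgroup G) = l →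
        ⁅K, K⁆ ≤ Subgroup.centralizer (V : Set G)) := by
  let θ : MulAut K := K.normalizerMonoidHom ⟨x, hxK⟩
  let α : MulAut V := V.normalizerMonoidHom ⟨x, hxV⟩
  let β : K →* MulAut V := V.normalizerMonoidHom.comp (Subgroup.inclusion hKV)
  have hθk : ∀ (i : ℕ) (t : K), (((θ ^ i) t : K) : G) = x ^ i * t * (x ^ i)⁻¹ := fun i t => by
    change ((((K.normalizerMonoidHom ⟨x, hxK⟩) ^ i) t : K) : G) = _
    rw [← map_pow]
    rfl
  have hθ : θ ^ orderOf x = 1 := MulEquiv.ext fun t => Subtype.ext (by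
    rw [hθk, pow_orderOf_eq_one]; simp)
  have hα : α ^ orderOf x = 1 := by
    rw [← map_pow, show (⟨x, hxV⟩ : Subgroup.normalizer (V : Set G)) ^ orderOf x = 1 from
      Subtype.ext (pow_orderOf_eq_one x), map_one]
  have hconj : ∀ t, α * β t = β (θ t) * α := fun t => by
    change V.normalizerMonoidHom _ * V.normalizerMonoidHom _ =
      V.normalizerMonoidHom _ * V.normalizerMonoidHom _
    rw [← map_mul, ← map_mul]
    refine congrArg _ (Subtype.ext ?_)
    change x * (t : G) = x * (t : G) * x⁻¹ * x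
    rw [inv_mul_cancel_right]
  have := hV.1
  letI instC : CommGroup V := { (inferInstance : Group V) with mul_comm := fun a b => mul_comm' a b }
  letI instM : Module (ZMod l) (Additive V) := AddCommGroup.zmodModule fun v => by
    change Additive.ofMul ((Additive.toMul v) ^ l) = 0
    rw [show (Additive.toMul v) ^ l = 1 from Subtype.ext (hV.2 _ (Additive.toMul v).2)]
    rfl
  obtain ⟨hcard, hcomm⟩ := count_linear (l := l) V hl β α θ (orderOf x) (orderOf_pos x) hθ hα hconj
    (fun i hi hin t ht => Subtype.ext (hfix i hi hin t t.2 (by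
      have h := congrArg Subtype.val ht
      rw [hθk, mul_inv_eq_iff_eq_mul] at h
      exact h)))
    (fun v hv => Subtype.ext ((Subgroup.eq_bot_iff_forall _).1 hCK v
      ⟨v.2, Subgroup.mem_centralizer_iff.2 fun t ht => by
        have h : t * (v : G) * t⁻¹ = v := congrArg Subtype.val (hv ⟨t, ht⟩)
        exact mul_inv_eq_iff_eq_mul.1 h⟩))
  have hC : Nat.card {v : V // α v = v} =
      Nat.card (V ⊓ Subgroup.centralizer ({x} : Set G) : Subgroup G) := by
    refine Nat.card_congr
      { toFun := fun v => ⟨(v.1 : G), v.1.2, Subgroup.mem_centralizer_iff.2 fun y hy => by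
          rw [Set.mem_singleton_iff.1 hy]
          have h : x * (v.1 : G) * x⁻¹ = v.1 := congrArg Subtype.val v.2
          exact mul_inv_eq_iff_eq_mul.1 h⟩
        invFun := fun v => ⟨⟨v.1, v.2.1⟩, Subtype.ext (by
          change x * v.1 * x⁻¹ = v.1
          rw [mul_inv_eq_iff_eq_mul]
          exact Subgroup.mem_centralizer_iff.1 v.2.2 x rfl)⟩
        left_inv := fun v => rfl
        right_inv := fun v => rfl }
  rw [hC] at hcard hcomm
  refine ⟨hcard, fun hp hl' => Subgroup.commutator_le.2 fun s hs t ht =>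
    Subgroup.mem_centralizer_iff.2 fun v hv => ?_⟩
  have h : β ⁅(⟨s, hs⟩ : K), ⟨t, ht⟩⁆ = 1 := by
    rw [map_commutatorElement]
    exact commutatorElement_eq_one_iff_mul_comm.2 (hcomm hp hl' _ _)
  have h' : ⁅s, t⁆ * v * ⁅s, t⁆⁻¹ = v :=
    congrArg (fun F : MulAut V => ((F ⟨v, hv⟩ : V) : G)) h
  exact (mul_inv_eq_iff_eq_mul.1 h').symm

/-- The same for a nilpotent group. -/
theorem count_nilpotent : ∀ (c : ℕ) (G : Type u) [Group G] [Finite G] (K M : Subgroup G) [M.Normal]
    (x : G), Nat.card M = c → Group.IsSolvable K → Group.IsNilpotent M →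
    (Nat.card K).Coprime (Nat.card M) → (orderOf x).Coprime (Nat.card M) →
    x ∈ Subgroup.normalizer (K : Set G) →
    (∀ i, 0 < i → i < orderOf x → ∀ t ∈ K, x ^ i * t = t * x ^ i → t = 1) →
    M ⊓ Subgroup.centralizer (K : Set G) = ⊥ →
    Nat.card M = Nat.card (M ⊓ Subgroup.centralizer ({x} : Set G) : Subgroup G) ^ orderOf x ∧
      ((orderOf x).Prime → IsCyclic (M ⊓ Subgroup.centralizer ({x} : Set G) : Subgroup G) →
        ⁅K, K⁆ ≤ Subgroup.centralizer (M : Set G)) := by
  intro c
  induction c using Nat.strong_induction_on with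
  | _ c IH =>
  intro G _ _ K M _ x hc hKs hMn hcopK hcopx hxK hfix hCK
  rcases eq_or_ne M ⊥ with rfl | hM
  · refine ⟨by rw [bot_inf_eq, Subgroup.card_bot, one_pow], fun _ _ => ?_⟩
    intro a _
    exact Subgroup.mem_centralizer_iff.2 fun v hv => by
      rw [Subgroup.mem_bot.1 hv, one_mul, mul_one]
  have hMnt : Nontrivial M := (Subgroup.nontrivial_iff_ne_bot M).2 hM
  have : Nontrivial (Subgroup.center M) := (Subgroup.nontrivial_iff_ne_bot _).2 fun h =>
    SolvStruct.inf_center_ne_bot (G := M) (N := ⊤) top_ne_bot (by rw [h, inf_bot_eq])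
  obtain ⟨l, hl, hld⟩ := Nat.exists_prime_and_dvd (Finite.one_lt_card (α := Subgroup.center M)).ne'
  have := Fact.mk hl
  obtain ⟨⟨z, hz⟩, hz'⟩ := exists_prime_orderOf_dvd_card' l hld
  let M₀ : Subgroup G :=
    { carrier := {g | g ∈ M ⊓ Subgroup.centralizer (M : Set G) ∧ g ^ l = 1}
      one_mem' := ⟨one_mem _, one_pow l⟩
      mul_mem' := fun {a b} ha hb => ⟨mul_mem ha.1 hb.1, by
        have hab : Commute a b := Subgroup.mem_centralizer_iff.1 hb.1.2 a ha.1.1
        rw [hab.mul_pow, ha.2, hb.2, mul_one]⟩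
      inv_mem' := fun {a} ha => ⟨inv_mem ha.1, by rw [inv_pow, ha.2, inv_one]⟩ }
  have hM₀M : M₀ ≤ M := fun g hg => hg.1.1
  have hM₀n : M₀.Normal := ⟨fun a ha g => ⟨(inferInstance :
    (M ⊓ Subgroup.centralizer (M : Set G)).Normal).conj_mem a ha.1 g,
    by rw [conj_pow, ha.2, mul_one, mul_inv_cancel]⟩⟩
  have hM₀ea : Cfsg.IsElementaryAbelian l M₀ :=
    ⟨.of_setLike_mul_comm fun a ha b hb => Subgroup.mem_centralizer_iff.1 hb.1.2 a ha.1.1,
      fun a ha => ha.2⟩
  have hM₀1 : M₀ ≠ ⊥ := by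
    intro h
    have hzM₀ : (z : G) ∈ M₀ := by
      refine ⟨⟨z.2, Subgroup.mem_centralizer_iff.2 fun b hb =>
        congrArg Subtype.val (Subgroup.mem_center_iff.1 hz ⟨b, hb⟩)⟩, ?_⟩
      have h1 : (⟨z, hz⟩ : Subgroup.center M) ^ l = 1 := hz' ▸ pow_orderOf_eq_one _
      simpa [Subtype.ext_iff] using h1
    rw [h, Subgroup.mem_bot] at hzM₀
    rw [show (⟨z, hz⟩ : Subgroup.center M) = 1 from Subtype.ext (Subtype.ext hzM₀), orderOf_one] at hz'
    exact hl.ne_one hz'.symm
  have hlM : l ∣ Nat.card M := hld.trans (Subgroup.card_subgroup_dvd_card _)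
  have hKl : (Nat.card K).Coprime l := hcopK.coprime_dvd_right hlM
  have hCK₀ : M₀ ⊓ Subgroup.centralizer (K : Set G) = ⊥ :=
    le_bot_iff.1 (hCK ▸ inf_le_inf_right _ hM₀M)
  obtain ⟨hcard₀, hcomm₀⟩ := count_elementary K M₀ x hKs hKl hM₀ea
    (by rw [Subgroup.normalizer_eq_top]; exact le_top)
    (by rw [Subgroup.normalizer_eq_top]; exact Subgroup.mem_top _) hxK hfix hCK₀
  -- the quotient
  set f := QuotientGroup.mk' M₀ with hf
  have hfs : Function.Surjective f := QuotientGroup.mk'_surjective M₀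
  have hKM : K ⊓ M = ⊥ := Subgroup.inf_eq_bot_of_coprime hcopK
  have hMfn : (M.map f).Normal := Subgroup.Normal.map inferInstance f hfs
  have hcardM : Nat.card M = Nat.card M₀ * Nat.card (M.map f) := by
    rw [← Subgroup.card_mul_index (M₀.subgroupOf M), Nat.card_congr (Subgroup.subgroupOfEquivOfLe hM₀M).toEquiv]
    congr 1
    rw [← Subgroup.relIndex, ← Subgroup.relIndex_ker (f := f), hf, QuotientGroup.ker_mk']
  have hlt : Nat.card (M.map f) < c := by
    rw [← hc, hcardM]
    exact (Nat.lt_mul_iff_one_lt_left Nat.card_pos).2 ((Subgroup.one_lt_card_iff_ne_bot M₀).2 hM₀1)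
  have hfinj : ∀ t ∈ K, f t = 1 → t = 1 := fun t ht h =>
    (Subgroup.eq_bot_iff_forall _).1 hKM t ⟨ht, hM₀M ((QuotientGroup.eq_one_iff t).1 h)⟩
  have hordx : orderOf (f x) = orderOf x := by
    refine dvd_antisymm (orderOf_map_dvd f x) (orderOf_dvd_of_pow_eq_one ?_)
    have hmem : x ^ orderOf (f x) ∈ M₀ := by
      rw [← QuotientGroup.eq_one_iff]
      change f _ = 1
      rw [map_pow, pow_orderOf_eq_one]
    exact orderOf_eq_one_iff.1 (Nat.eq_one_of_dvd_coprimes hcopx (orderOf_pow_dvd _)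
      (Subgroup.orderOf_dvd_natCard M (hM₀M hmem)))
  have hxKf : f x ∈ Subgroup.normalizer ((K.map f : Subgroup (G ⧸ M₀)) : Set (G ⧸ M₀)) :=
    Subgroup.le_normalizer_map f ⟨x, hxK, rfl⟩
  have hfixf : ∀ i, 0 < i → i < orderOf (f x) → ∀ t ∈ K.map f,
      (f x) ^ i * t = t * (f x) ^ i → t = 1 := by
    rintro i hi hin _ ⟨t, ht, rfl⟩ h
    rw [hordx] at hin
    have hmem : x ^ i * t * (x ^ i)⁻¹ * t⁻¹ ∈ K :=
      K.mul_mem ((Subgroup.mem_normalizer_iff.1 ((Subgroup.normalizer (K : Set G)).pow_mem hxK i) t).1 ht)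
        (K.inv_mem ht)
    have h1 := hfinj _ hmem (by
      rw [map_mul, map_mul, map_mul, map_inv, map_inv, map_pow, h]
      group)
    rw [hfix i hi hin t ht (by rwa [mul_inv_eq_one, mul_inv_eq_iff_eq_mul] at h1), map_one]
  have hsolvM : Group.IsSolvable M := inferInstance
  have hMK : K ≤ Subgroup.normalizer (M : Set G) := by rw [Subgroup.normalizer_eq_top]; exact le_top
  have hMx : Subgroup.zpowers x ≤ Subgroup.normalizer (M : Set G) := by
    rw [Subgroup.normalizer_eq_top]; exact le_top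
  have hcopx' : (Nat.card (Subgroup.zpowers x)).Coprime (Nat.card M) := by rwa [Nat.card_zpowers]
  have hCKf : M.map f ⊓ Subgroup.centralizer ((K.map f : Subgroup (G ⧸ M₀)) : Set (G ⧸ M₀)) = ⊥ := by
    rw [← CoprimeAct.map_inf_centralizer f hMK hcopK (Or.inr hsolvM), hCK, Subgroup.map_bot]
  have hnilf : Group.IsNilpotent (M.map f) :=
    Group.nilpotent_of_surjective (f.subgroupMap M) (f.subgroupMap_surjective M)
  have hsolvKf : Group.IsSolvable (K.map f) :=
    Group.isSolvable_of_surjective (f.subgroupMap_surjective K)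
  obtain ⟨hcardQ, hcommQ⟩ := IH _ hlt (G ⧸ M₀) (K.map f) (M.map f) (f x) rfl hsolvKf hnilf
    ((hcopK.coprime_dvd_left (Subgroup.card_map_dvd K f)).coprime_dvd_right (Subgroup.card_map_dvd M f))
    (by rw [hordx]; exact hcopx.coprime_dvd_right (Subgroup.card_map_dvd M f))
    hxKf hfixf hCKf
  rw [hordx] at hcardQ hcommQ
  set C := M ⊓ Subgroup.centralizer ({x} : Set G) with hC
  have hCf : M.map f ⊓ Subgroup.centralizer ({f x} : Set (G ⧸ M₀)) = C.map f := by
    have h := CoprimeAct.map_inf_centralizer f hMx hcopx' (Or.inr hsolvM)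
    rw [MonoidHom.map_zpowers, Subgroup.zpowers_eq_closure, Subgroup.centralizer_closure,
      Subgroup.zpowers_eq_closure, Subgroup.centralizer_closure] at h
    exact h.symm
  rw [hCf] at hcardQ hcommQ
  have hcardC : Nat.card C = Nat.card (M₀ ⊓ Subgroup.centralizer ({x} : Set G) : Subgroup G) *
      Nat.card (C.map f) := by
    rw [← Subgroup.card_mul_index (M₀.subgroupOf C)]
    congr 1
    · rw [← Subgroup.inf_subgroupOf_right, Nat.card_congr (Subgroup.subgroupOfEquivOfLe inf_le_right).toEquiv,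
        hC, ← inf_assoc, inf_eq_left.2 hM₀M]
    · rw [← Subgroup.relIndex, ← Subgroup.relIndex_ker (f := f), hf, QuotientGroup.ker_mk']
  refine ⟨by rw [hcardM, hcard₀, hcardQ, hcardC, mul_pow], fun hp hcyc => ?_⟩
  have := hcyc
  have hcycQ : IsCyclic (C.map f) := isCyclic_of_surjective (f.subgroupMap C) (f.subgroupMap_surjective C)
  have h₀ : Nat.card (M₀ ⊓ Subgroup.centralizer ({x} : Set G) : Subgroup G) = l := by
    set C₀ := M₀ ⊓ Subgroup.centralizer ({x} : Set G) with hC₀
    have hle : C₀ ≤ C := inf_le_inf_right _ hM₀M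
    have : IsCyclic C₀ := isCyclic_of_injective (Subgroup.inclusion hle) (Subgroup.inclusion_injective hle)
    have hdvd : Nat.card C₀ ∣ l := by
      rw [← IsCyclic.exponent_eq_card, Monoid.exponent_dvd_iff_forall_pow_eq_one]
      exact fun g => Subtype.ext (g.2.1.2)
    refine (hl.eq_one_or_self_of_dvd _ hdvd).resolve_left fun h1 => hM₀1 ?_
    rw [← Subgroup.card_eq_one, hcard₀, h1, one_pow]
  have hA₀ := hcomm₀ hp h₀
  have hA := hcommQ hp hcycQ
  rw [← Subgroup.map_commutator] at hA
  set A := ⁅K, K⁆ with hAdef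
  have hAK : A ≤ K := Subgroup.commutator_le_self K
  have hmap : M.map f = (M ⊓ Subgroup.centralizer (A : Set G)).map f := by
    rw [CoprimeAct.map_inf_centralizer f (hAK.trans hMK)
      (hcopK.coprime_dvd_left (Subgroup.card_dvd_of_le hAK)) (Or.inr hsolvM), left_eq_inf]
    exact Subgroup.le_centralizer_iff.1 hA
  rw [Subgroup.le_centralizer_iff]
  intro m hm
  obtain ⟨c', hc', hcm⟩ := hmap ▸ Subgroup.mem_map_of_mem f hm
  have hk : c'⁻¹ * m ∈ M₀ := QuotientGroup.eq.1 hcm
  rw [← mul_inv_cancel_left c' m]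
  exact mul_mem hc'.2 (Subgroup.le_centralizer_iff.1 hA₀ hk)

end Cfsg.Agent.FrobeniusModule
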