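import Cfsg.Agent.Lib.Solvable.CoprimeFreeGroup
import Cfsg.Agent.Lib.Solvable.Coprime
import Cfsg.Agent.Lib.Solvable.NilpotentFrattini
import Cfsg.Agent.Lib.Transfer.PGroup
import Cfsg.Agent.Lib.OddOrder.FittingOf

/-! An element of prime order with no fixed point on the Fitting subgroup of a solvable group of
odd order centralises the group modulo the Fitting subgroup. -/

set_option autoImplicit false
open scoped Pointwise commutatorElement
open Cfsg (fittingOf pCoreOf)
open Cfsg.Agent.OddOrder

universe u

namespace Cfsg.Agent.FpfFitting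

variable {G : Type u} [Group G] [Finite G]

instance coreCompl_normal (q : ℕ) (K : Subgroup G) [K.Normal] :
    (FitOf.coreCompl q K).Normal := by
  have h : ∀ s : ℕ, (pCoreOf s K).Normal := fun s =>
    FittingCores.normal_map_of_characteristic inferInstance (FittingCores.pCore_characteristic s)
  have : ∀ s : Nat.Primes, (⨆ _ : (s : ℕ) ≠ q, pCoreOf (s : ℕ) K).Normal := fun s => by
    have := h (s : ℕ)
    exact Subgroup.iSup_normal _
  exact Subgroup.iSup_normal _

theorem centralizer_zpowers (x : G) :
    Subgroup.centralizer (Subgroup.zpowers x : Set G) = Subgroup.centralizer ({x} : Set G) := by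
  rw [Subgroup.zpowers_eq_closure, Subgroup.centralizer_closure]

/-- A `q`-group normalised by `x` centralises, after commutating with `x`, each `p`-subgroup on
which `x` acts without fixed points. -/
theorem commutator_le_centralizer {p q r : ℕ} [Fact p.Prime] [Fact q.Prime] [Fact r.Prime]
    (hq2 : q ≠ 2) (hqr : q ≠ r) (hpr : p ≠ r) (hpq : p ≠ q) (P : Subgroup G) [P.Normal]
    (hP : IsPGroup p P) (X Q : Subgroup G) (hX : Nat.card X = r) (hQ : IsPGroup q Q)
    (hXQ : X ≤ Subgroup.normalizer (Q : Set G)) (hC : P ⊓ Subgroup.centralizer (X : Set G) = ⊥) :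
    ⁅Q, X⁆ ≤ Subgroup.centralizer (P : Set G) := by
  set Φ := (frattini P).map P.subtype with hΦ
  have : Φ.Normal := FittingCores.normal_map_of_characteristic inferInstance inferInstance
  set f := QuotientGroup.mk' Φ with hf
  set V := P.map f with hV
  have hVn : V.Normal := Subgroup.Normal.map inferInstance f (QuotientGroup.mk'_surjective _)
  have hVea : Cfsg.IsElementaryAbelian p V := by
    have : Group.IsNilpotent P := hP.isNilpotent
    refine ⟨.of_setLike_mul_comm ?_, ?_⟩
    · rintro _ ⟨a, ha, rfl⟩ _ ⟨b, hb, rfl⟩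
      rw [← commutatorElement_eq_one_iff_mul_comm, ← map_commutatorElement]
      exact (QuotientGroup.eq_one_iff _).2 (Subgroup.mem_map_of_mem P.subtype
        (SolvStruct.commutator_le_frattini _ (Subgroup.commutator_mem_commutator
          (Subgroup.mem_top (⟨a, ha⟩ : P)) (Subgroup.mem_top ⟨b, hb⟩))))
    · rintro _ ⟨a, ha, rfl⟩
      rw [← map_pow]
      exact (QuotientGroup.eq_one_iff _).2 (Subgroup.mem_map_of_mem P.subtype
        (PGroupBasics.pow_mem_frattini hP ⟨a, ha⟩))
  have hnorm : ∀ S : Subgroup G, S ≤ Subgroup.normalizer (P : Set G) := fun S => by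
    rw [Subgroup.normalizer_eq_top]; exact le_top
  have hcopXP : (Nat.card X).Coprime (Nat.card P) := by
    obtain ⟨a, ha⟩ := hP.exists_card_eq
    rw [hX, ha]
    exact ((Nat.coprime_primes Fact.out Fact.out).2 (Ne.symm hpr)).pow_right a
  have hXs : Group.IsSolvable X := Group.isSolvable_of_comm fun a b => by
    have : IsCyclic X := isCyclic_of_prime_card (p := r) hX
    exact mul_comm' a b
  have hCV : V ⊓ Subgroup.centralizer ((X.map f : Subgroup (G ⧸ Φ)) : Set (G ⧸ Φ)) = ⊥ := by
    rw [hV, ← CoprimeAct.map_inf_centralizer f (hnorm X) hcopXP (Or.inl hXs), hC, Subgroup.map_bot]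
  have hXf : Nat.card (X.map f) = r := by
    have hd : Nat.card (X.map f) ∣ r := hX ▸ Subgroup.card_map_dvd X f
    refine ((Fact.out : r.Prime).eq_one_or_self_of_dvd _ hd).resolve_left fun h1 => ?_
    rw [Subgroup.card_eq_one, Subgroup.map_eq_bot_iff, hf, QuotientGroup.ker_mk'] at h1
    have h2 := Nat.Coprime.eq_one_of_dvd hcopXP
      (Subgroup.card_dvd_of_le (h1.trans (Subgroup.map_subtype_le _)))
    rw [hX] at h2
    exact (Fact.out : r.Prime).ne_one h2
  obtain ⟨y, hy, hy1, K, _, _, _, W, _, _, _, τ, T, θ, hτ, hθ, hT, hsum, hconj, hθx⟩ :=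
    CoprimeFree.exists_rep (p := p) (X.map f) (Q.map f) V hXf
      ((Subgroup.map_mono hXQ).trans (Subgroup.le_normalizer_map f))
      hVea (by rw [Subgroup.normalizer_eq_top]; exact le_top)
      (by rw [Subgroup.normalizer_eq_top]; exact le_top) hCV
  have hact := CoprimeFree.action_trivial hq2 hqr
    (CoprimeFree.natCast_ne_zero (K := K) (p := p) (Fact.out : r.Prime) hpr)
    (CoprimeFree.natCast_ne_zero (p := p) (Fact.out : q.Prime) hpq) (hQ.map f) τ T θ hθ hT hsum hconj
  have hgen : Subgroup.zpowers y = X.map f :=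
    Subgroup.eq_of_le_of_card_ge (Subgroup.zpowers_le.2 hy) (by
      rw [Nat.card_zpowers]
      have hdvd : orderOf y ∣ r := hXf ▸ Subgroup.orderOf_dvd_natCard _ hy
      rcases (Fact.out : r.Prime).eq_one_or_self_of_dvd _ hdvd with h | h
      · exact absurd (orderOf_eq_one_iff.1 h) hy1
      · rw [h, hXf])
  set C := Subgroup.centralizer (V : Set (G ⧸ Φ)) with hCdef
  have hCn : C.Normal := inferInstance
  have hle : ⁅Q.map f, X.map f⁆ ≤ C := by
    rw [Subgroup.commutator_le]
    intro t ht a ha
    have h := hτ _ _ (hact ⟨t, ht⟩)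
    rw [hθx] at h
    rw [← hgen] at ha
    obtain ⟨i, rfl⟩ := ha
    set g := QuotientGroup.mk' C with hg
    have hcomm : Commute (g y) (g t) := by
      have h1 : g (y * t * y⁻¹ * t⁻¹) = 1 := (QuotientGroup.eq_one_iff _).2 h
      rw [map_mul, map_mul, map_mul, map_inv, map_inv, mul_inv_eq_one, mul_inv_eq_iff_eq_mul] at h1
      exact h1
    rw [← QuotientGroup.eq_one_iff]
    change g ⁅t, y ^ i⁆ = 1
    rw [map_commutatorElement, map_zpow]
    exact commutatorElement_eq_one_iff_mul_comm.2 (hcomm.zpow_left i).symm.eq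
  have hWq : IsPGroup q (⁅Q, X⁆ : Subgroup G) := hQ.to_le (CoprimeAct.commutator_le_left hXQ)
  refine CoprimeAct.le_centralizer_of_frattini (hnorm _) ?_ fun w hw k hk => ?_
  · obtain ⟨b, hb⟩ := hWq.exists_card_eq
    obtain ⟨a, ha⟩ := (hP.to_subgroup (frattini P)).exists_card_eq
    rw [hb, ha]
    exact Nat.coprime_pow_primes b a Fact.out Fact.out (Ne.symm hpq)
  · have hwC : f w ∈ C := hle (Subgroup.map_commutator Q X f ▸ Subgroup.mem_map_of_mem f hw)
    change w * k * w⁻¹ * k⁻¹ ∈ Φ
    rw [← QuotientGroup.eq_one_iff]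
    change f _ = 1
    rw [map_mul, map_mul, map_mul, map_inv, map_inv, mul_inv_eq_one, mul_inv_eq_iff_eq_mul]
    exact (Subgroup.mem_centralizer_iff.1 hwC _ (Subgroup.mem_map_of_mem f hk)).symm

theorem fpf_fitting [Group.IsSolvable G] (hodd : Odd (Nat.card G)) (K : Subgroup G) [K.Normal]
    {x : G} {r : ℕ} [hr : Fact r.Prime] (hx : orderOf x = r) (hcop : r.Coprime (Nat.card K))
    (hC : fittingOf K ⊓ Subgroup.centralizer ({x} : Set G) = ⊥) :
    ⁅K, Subgroup.zpowers x⁆ ≤ fittingOf K := by
  set X := Subgroup.zpowers x with hXdef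
  have hX : Nat.card X = r := by rw [hXdef, Nat.card_zpowers, hx]
  have hXs : Group.IsSolvable X := Group.isSolvable_of_comm fun a b => mul_comm' a b
  set F := fittingOf K with hFdef
  have hFn : F.Normal := FittingCores.normal_map_of_characteristic inferInstance FittingCores.fitting_characteristic
  set π := QuotientGroup.mk' F with hπ
  set Kb := K.map π with hKb
  have hKbn : Kb.Normal := Subgroup.Normal.map inferInstance π (QuotientGroup.mk'_surjective _)
  have hKback : Kb.comap π = K := by
    rw [hKb, Subgroup.comap_map_eq, hπ, QuotientGroup.ker_mk',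
      sup_eq_left.2 (FitOf.fittingOf_le K)]
  have hnorm : ∀ (S T : Subgroup G) [T.Normal], S ≤ Subgroup.normalizer (T : Set G) := fun S T _ => by
    rw [Subgroup.normalizer_eq_top]; exact le_top
  have hcore : ∀ s : ℕ, (pCoreOf s K).Normal := fun s =>
    FittingCores.normal_map_of_characteristic inferInstance (FittingCores.pCore_characteristic s)
  have hFx : fittingOf Kb ≤ Subgroup.centralizer ((X.map π : Subgroup (G ⧸ F)) : Set (G ⧸ F)) := by
    refine FitOf.fittingOf_le_iff.2 fun q hq => ?_
    have := Fact.mk hq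
    set Lb := pCoreOf q Kb with hLb
    have hLbn : Lb.Normal :=
      FittingCores.normal_map_of_characteristic inferInstance (FittingCores.pCore_characteristic q)
    set L := Lb.comap π with hL
    have hLn : L.Normal := inferInstance
    have hLK : L ≤ K := hKback ▸ Subgroup.comap_mono (FitOf.pCoreOf_le q Kb)
    have hcopL : (Nat.card X).Coprime (Nat.card L) := by
      rw [hX]; exact hcop.coprime_dvd_right (Subgroup.card_dvd_of_le hLK)
    suffices h : L ≤ (Subgroup.centralizer ((X.map π : Subgroup (G ⧸ F)) : Set (G ⧸ F))).comap π by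
      intro c hc
      obtain ⟨g, rfl⟩ := QuotientGroup.mk'_surjective F c
      exact h hc
    rw [← Subgroup.subgroupOf_eq_top]
    refine FittingCores.eq_top_of_forall_sylow_le fun s hs => ?_
    have := Fact.mk hs
    obtain ⟨P, hP⟩ := CoprimeAct.exists_invariant_sylow (hnorm X L) hcopL (Or.inl hXs) s
    refine ⟨P, fun t ht => ?_⟩
    rw [Subgroup.mem_subgroupOf, Subgroup.mem_comap]
    set Q := (P : Subgroup L).map L.subtype with hQdef
    have htQ : (t : G) ∈ Q := Subgroup.mem_map_of_mem L.subtype ht
    by_cases hsq : s = q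
    · subst hsq
      suffices hW : ⁅Q, X⁆ ≤ F by
        refine Subgroup.mem_centralizer_iff.2 ?_
        rintro _ ⟨a, ha, rfl⟩
        rw [← commutatorElement_eq_one_iff_mul_comm, ← map_commutatorElement]
        refine (QuotientGroup.eq_one_iff _).2 ?_
        rw [← commutatorElement_inv]
        exact inv_mem (hW (Subgroup.commutator_mem_commutator htQ ha))
      by_cases hsK : s ∣ Nat.card K
      swap
      · have hQ1 : Q = ⊥ := Subgroup.card_eq_one.1 (Nat.eq_one_of_dvd_coprimes
          (show (Nat.card K).Coprime (Nat.card Q) by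
            obtain ⟨b, hb⟩ := (P.isPGroup'.map L.subtype).exists_card_eq
            rw [hQdef, hb]
            exact ((hs.coprime_iff_not_dvd.2 hsK).symm).pow_right b)
          (Subgroup.card_dvd_of_le ((Subgroup.map_subtype_le _).trans hLK)) dvd_rfl)
        rw [hQ1, Subgroup.commutator_bot_left]
        exact bot_le
      have hsr : s ≠ r := fun h => hr.out.ne_one
        (Nat.eq_one_of_dvd_coprimes hcop dvd_rfl (h ▸ hsK))
      have hs2 : s ≠ 2 := fun h => (Nat.not_even_iff_odd.2 hodd) (even_iff_two_dvd.2
        (h ▸ hsK.trans (Subgroup.card_subgroup_dvd_card K)))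
      set Z := FitOf.coreCompl s K with hZ
      have hWZ : ⁅Q, X⁆ ≤ Subgroup.centralizer (Z : Set G) := by
        rw [Subgroup.le_centralizer_iff, hZ, FitOf.coreCompl_le_iff]
        intro p hp hps
        rw [Subgroup.le_centralizer_iff]
        have := Fact.mk hp
        have := hcore p
        by_cases hpK : pCoreOf p K = ⊥
        · intro w _
          rw [hpK]
          exact Subgroup.mem_centralizer_iff.2 fun a ha => by
            rw [SetLike.mem_coe, Subgroup.mem_bot] at ha; rw [ha, one_mul, mul_one]
        have hpr : p ≠ r := fun h => by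
          obtain ⟨a, ha⟩ := (FitOf.isPGroup_pCoreOf p K).exists_card_eq
          have h1 := Subgroup.card_dvd_of_le (FitOf.pCoreOf_le p K)
          rcases Nat.eq_zero_or_pos a with rfl | ha0
          · exact hpK (Subgroup.card_eq_one.1 (by rw [ha, pow_zero]))
          · exact hr.out.ne_one (Nat.eq_one_of_dvd_coprimes hcop dvd_rfl
              (h ▸ (dvd_pow_self p ha0.ne').trans (ha ▸ h1)))
        refine commutator_le_centralizer hs2 hsr hpr hps (pCoreOf p K) (FitOf.isPGroup_pCoreOf p K)
          X Q hX (P.isPGroup'.map _) hP ?_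
        rw [hXdef, centralizer_zpowers, eq_bot_iff, ← hC]
        exact inf_le_inf_right _ (FitOf.pCoreOf_le_fittingOf hp K)
      have : Z.Normal := coreCompl_normal s K
      set N := L ⊓ Subgroup.centralizer (Z : Set G) with hN
      have hNnil : Group.IsNilpotent N := by
        set g : N →* G ⧸ Z := (QuotientGroup.mk' Z).comp N.subtype with hg
        have hrange : IsPGroup s g.range := by
          rintro ⟨_, n, rfl⟩
          obtain ⟨a, ha⟩ := FitOf.isPGroup_pCoreOf s Kb ⟨π n, n.2.1⟩
          have hF : ((n : G)) ^ s ^ a ∈ F := (QuotientGroup.eq_one_iff _).1 (by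
            have h : π (n : G) ^ s ^ a = 1 := by simpa using congrArg Subtype.val ha
            rw [← map_pow] at h
            exact h)
          rw [hFdef, FitOf.fittingOf_eq_sup hs K, ← hZ, ← SetLike.mem_coe,
            Subgroup.coe_mul_of_left_le_normalizer_right _ _ (hnorm _ Z)] at hF
          obtain ⟨u, hu, z, hz, huz⟩ := hF
          obtain ⟨b, hb⟩ := FitOf.isPGroup_pCoreOf s K ⟨u, hu⟩
          have hub : u ^ s ^ b = 1 := by simpa [Subtype.ext_iff] using hb
          refine ⟨a + b, Subtype.ext ?_⟩
          change QuotientGroup.mk' Z (n : G) ^ s ^ (a + b) = 1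
          rw [← map_pow, pow_add, pow_mul, ← huz]
          refine (QuotientGroup.eq_one_iff _).2 ?_
          have huz' : Commute u z := (Subgroup.mem_centralizer_iff.1
            (FitOf.pCoreOf_le_centralizer_coreCompl hs K hu) z hz).symm
          rw [huz'.mul_pow, hub, one_mul]
          exact Z.pow_mem hz _
        have : Group.IsNilpotent g.range := hrange.isNilpotent
        refine Subgroup.isNilpotent_of_ker_le_center g.rangeRestrict fun n hn => ?_
        rw [MonoidHom.ker_rangeRestrict] at hn
        have hnZ : (n : G) ∈ Z := (QuotientGroup.eq_one_iff _).1 hn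
        exact Subgroup.mem_center_iff.2 fun m =>
          Subtype.ext (Subgroup.mem_centralizer_iff.1 m.2.2 _ hnZ).symm
      have hNF : N ≤ F := FitOf.le_fittingOf (inf_le_left.trans hLK) (hnorm K N)
      refine le_trans (le_inf ?_ hWZ) hNF
      exact (CoprimeAct.commutator_le_left hP).trans (Subgroup.map_subtype_le _)
    · -- other Sylow subgroups lie in `F`
      have htF : (t : G) ∈ F := by
        obtain ⟨a, ha⟩ := FitOf.isPGroup_pCoreOf q Kb ⟨π t, t.2⟩
        have h1 : orderOf (π (t : G)) ∣ q ^ a := by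
          rw [← Subgroup.orderOf_mk _ (show π (t : G) ∈ Lb from t.2)]
          exact orderOf_dvd_of_pow_eq_one ha
        obtain ⟨b, hb⟩ := P.isPGroup' ⟨t, ht⟩
        have h2 : orderOf (π (t : G)) ∣ s ^ b := orderOf_dvd_of_pow_eq_one (by
          have h3 : (t : G) ^ s ^ b = 1 := by simpa [Subtype.ext_iff] using hb
          rw [← map_pow, h3, map_one])
        exact (QuotientGroup.eq_one_iff _).1 (orderOf_eq_one_iff.1 (Nat.eq_one_of_dvd_coprimes
          (Nat.coprime_pow_primes a b Fact.out hs (Ne.symm hsq)) h1 h2))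
      rw [show π (t : G) = 1 from (QuotientGroup.eq_one_iff _).2 htF]
      exact one_mem _
  -- the three subgroup lemma
  set Xb := X.map π with hXb
  set D := ⁅Kb, Xb⁆ with hD
  have hFbn : (fittingOf Kb).Normal :=
    FittingCores.normal_map_of_characteristic inferInstance FittingCores.fitting_characteristic
  have hFX : ⁅fittingOf Kb, Xb⁆ = ⊥ := Subgroup.commutator_eq_bot_iff_le_centralizer.2 hFx
  have hKbs : Group.IsSolvable Kb := inferInstance
  have hXbn : Xb ≤ Subgroup.normalizer (Kb : Set (G ⧸ F)) := by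
    rw [Subgroup.normalizer_eq_top]; exact le_top
  have h3 : ⁅D, fittingOf Kb⁆ = ⊥ := by
    refine Subgroup.commutator_commutator_eq_bot_of_rotate ?_ ?_
    · rw [Subgroup.commutator_comm Xb, hFX, Subgroup.commutator_bot_left]
    · rw [← le_bot_iff, ← hFX]
      exact Subgroup.commutator_mono (Subgroup.commutator_le_left _ _) le_rfl
  have hDF : D ≤ fittingOf Kb := (le_inf (CoprimeAct.commutator_le_left hXbn)
    (Subgroup.commutator_eq_bot_iff_le_centralizer.1 h3)).trans (FitOf.inf_centralizer_fittingOf_le Kb)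
  have hcopb : (Nat.card Xb).Coprime (Nat.card Kb) := by
    refine Nat.Coprime.coprime_dvd_left (Subgroup.card_map_dvd X π)
      (Nat.Coprime.coprime_dvd_right (Subgroup.card_map_dvd K π) ?_)
    rwa [hX]
  have hD1 : D = ⊥ := by
    rw [hD, ← CoprimeAct.commutator_commutator hXbn hcopb (Or.inr hKbs), ← le_bot_iff, ← hFX]
    exact Subgroup.commutator_mono hDF le_rfl
  rw [hD, hKb, hXb, ← Subgroup.map_commutator, Subgroup.map_eq_bot_iff, hπ, QuotientGroup.ker_mk'] at hD1
  exact hD1

end Cfsg.Agent.FpfFitting
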