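import Cfsg.Agent.Lib.Solvable.Coprime
import Cfsg.Prelude.Def_Transfer
import Mathlib.GroupTheory.Sylow
import Mathlib.GroupTheory.Nilpotent

/-! The order formula of Brauer and Wielandt for a coprime elementary abelian group of rank two:
`|K| · |C_K(B)| ^ p = ∏ |C_K(D)|` over the subgroups `D` of order `p` of `B`. -/

set_option autoImplicit false
set_option linter.style.haveILetI false

namespace Cfsg.Agent.WielandtOrder

open Subgroup
open scoped Pointwise commutatorElement

/-- The abelian form, for a family of subgroups of size `p` partitioning the non-identity elements. -/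
theorem abelian_formula {V B : Type*} [CommGroup V] [Finite V] [Group B] [Fintype B] [DecidableEq B]
    {ι : Type*} [Fintype ι] [DecidableEq ι] (c : B →* MulAut V) (p : ℕ) (hp : 0 < p)
    (hcop : p.Coprime (Nat.card V)) (D : ι → Finset B) (hD1 : ∀ i, (1 : B) ∈ D i)
    (hDc : ∀ i, (D i).card = p) (hDmul : ∀ i, ∀ x ∈ D i, ∀ y ∈ D i, x * y ∈ D i)
    (hcomm : ∀ x y : B, x * y = y * x)
    (hpart : ∀ b : B, b ≠ 1 → ∃! i, b ∈ D i) (hι : Fintype.card ι = p + 1)
    (hB : Fintype.card B = p ^ 2) :
    Nat.card V * Nat.card {v : V // ∀ b, c b v = v} ^ p =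
      ∏ i, Nat.card {v : V // ∀ b ∈ D i, c b v = v} := by
  classical
  let N : ι → V →* V := fun i => ∏ b ∈ D i, (c b).toMonoidHom
  let NB : V →* V := ∏ b : B, (c b).toMonoidHom
  have hN : ∀ i v, N i v = ∏ b ∈ D i, c b v := fun i v => by simp [N]
  have hNB : ∀ v, NB v = ∏ b : B, c b v := fun v => by simp [NB]
  have hNfix : ∀ i v, ∀ b ∈ D i, c b (N i v) = N i v := by
    intro i v b hb
    rw [hN, map_prod]
    refine Finset.prod_bij' (fun x _ => b * x) (fun x _ => b⁻¹ * x) (fun x hx => hDmul i b hb x hx) ?_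
      (fun x _ => by simp) (fun x _ => by simp) (fun x _ => by rw [map_mul]; rfl)
    intro x hx
    have himg : (D i).image (b * ·) = D i := Finset.eq_of_subset_of_card_le
      (fun y hy => by obtain ⟨z, hz, rfl⟩ := Finset.mem_image.1 hy; exact hDmul i b hb z hz)
      (Finset.card_image_of_injective _ (mul_right_injective b)).ge
    rw [← himg] at hx
    obtain ⟨z, hz, rfl⟩ := Finset.mem_image.1 hx
    simpa using hz
  have hNBfix : ∀ v b, c b (NB v) = NB v := by
    intro v b
    rw [hNB, map_prod]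
    exact Fintype.prod_equiv (Equiv.mulLeft b) _ _ fun x => by simp [map_mul]
  have hNBN : ∀ i v, NB (N i v) = NB v ^ p := by
    intro i v
    rw [hN, map_prod, ← hDc i, ← Finset.prod_const]
    refine Finset.prod_congr rfl fun b _ => ?_
    rw [hNB, hNB]
    exact Fintype.prod_equiv (Equiv.mulRight b) _ _ fun x => by simp [map_mul]
  have hsum : ∀ v, ∏ i, N i v = v ^ p * NB v := by
    intro v
    have hsplit : ∀ i, N i v = v * ∏ b ∈ (D i).erase 1, c b v := fun i => by
      rw [hN, ← Finset.mul_prod_erase _ _ (hD1 i), map_one]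
      rfl
    have hrest : ∏ i, ∏ b ∈ (D i).erase 1, c b v = ∏ b ∈ Finset.univ.erase (1 : B), c b v := by
      rw [← Finset.prod_biUnion]
      · refine Finset.prod_congr (Finset.ext fun b => ?_) fun _ _ => rfl
        simp only [Finset.mem_biUnion, Finset.mem_univ, true_and, Finset.mem_erase, and_true]
        exact ⟨fun ⟨i, h1, _⟩ => h1, fun h => ⟨_, h, (hpart b h).choose_spec.1⟩⟩
      · intro i _ j _ hij
        rw [Function.onFun, Finset.disjoint_left]
        intro b hb hb'
        rw [Finset.mem_erase] at hb hb'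
        exact hij ((hpart b hb.1).unique hb.2 hb'.2)
    rw [Finset.prod_congr rfl (fun i _ => hsplit i), Finset.prod_mul_distrib, hrest, Finset.prod_const,
      Finset.card_univ, hι, hNB, ← Finset.mul_prod_erase _ _ (Finset.mem_univ (1 : B)), map_one,
      pow_succ, mul_assoc]
    rfl
  have hpow : ∀ (w : V) (k : ℕ), w ^ p ^ k = 1 → w = 1 := by
    intro w k h
    rw [← orderOf_eq_one_iff]
    exact Nat.eq_one_of_dvd_coprimes (hcop.pow_left k) (orderOf_dvd_of_pow_eq_one h) (orderOf_dvd_natCard w)
  let C0 := {v : V // ∀ b, c b v = v}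
  let Ci := fun i => {v : V // ∀ b ∈ D i, c b v = v}
  have hNBC0 : ∀ x : C0, NB x.1 = x.1 ^ p ^ 2 := fun x => by
    rw [hNB, Finset.prod_congr rfl (fun b _ => x.2 b), Finset.prod_const, Finset.card_univ, hB]
  -- `V × C0^ι → C0 × ∏ C_i`
  let U : V × (ι → C0) → C0 × (∀ i, Ci i) := fun x =>
    (⟨NB x.1, hNBfix x.1⟩, fun i => ⟨N i x.1 * (x.2 i).1, fun b hb => by
      rw [map_mul, hNfix i x.1 b hb, (x.2 i).2 b]⟩)
  have hUinj : Function.Injective U := by
    rintro ⟨v, d⟩ ⟨v', d'⟩ h
    have h1 : NB v = NB v' := congrArg (fun z => z.1.1) h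
    have h2 : ∀ i, N i v * (d i).1 = N i v' * (d' i).1 := fun i => congrArg (fun z => (z.2 i).1) h
    have hd : ∀ i, (d i).1 = (d' i).1 := fun i => by
      have h3 := congrArg NB (h2 i)
      rw [map_mul, map_mul, hNBN, hNBN, h1, mul_left_cancel_iff, hNBC0, hNBC0] at h3
      exact mul_inv_eq_one.1 (hpow _ 2 (by rw [mul_pow, inv_pow, h3, mul_inv_cancel]))
    have hv : ∀ i, N i v = N i v' := fun i => by
      have := h2 i
      rwa [hd i, mul_left_inj] at this
    have h4 : v ^ p = v' ^ p := by
      have := (hsum v).symm.trans ((Finset.prod_congr rfl fun i _ => hv i).trans (hsum v'))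
      rwa [h1, mul_left_inj] at this
    refine Prod.ext (mul_inv_eq_one.1 (hpow _ 1 ?_)) (funext fun i => Subtype.ext (hd i))
    rw [pow_one, mul_pow, inv_pow, h4, mul_inv_cancel]
  -- `C0 × ∏ C_i → V × C0^ι`
  let T : C0 × (∀ i, Ci i) → V × (ι → C0) := fun x =>
    ((∏ i, (x.2 i).1) * x.1.1, fun i => ⟨NB (x.2 i).1, hNBfix _⟩)
  have hTinj : Function.Injective T := by
    rintro ⟨a, x⟩ ⟨a', x'⟩ h
    have h1 : (∏ i, (x i).1) * a.1 = (∏ i, (x' i).1) * a'.1 := congrArg (fun z => z.1) h
    have h2 : ∀ i, NB (x i).1 = NB (x' i).1 := fun i => congrArg (fun z => (z.2 i).1) h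
    have ha : a.1 = a'.1 := by
      have h3 := congrArg NB h1
      rw [map_mul, map_mul, map_prod, map_prod, Finset.prod_congr rfl (fun i _ => h2 i),
        mul_left_cancel_iff, hNBC0, hNBC0] at h3
      exact mul_inv_eq_one.1 (hpow _ 2 (by rw [mul_pow, inv_pow, h3, mul_inv_cancel]))
    rw [ha, mul_left_inj] at h1
    have hx : ∀ j, (x j).1 = (x' j).1 := fun j => by
      -- apply the norm of `D j`; its effect on the other factors only depends on their total norms
      have hcross : ∀ i, i ≠ j → ∀ w : Ci i, N j w.1 ^ p = NB w.1 := by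
        intro i hij w
        have hbij : Function.Bijective fun z : {x // x ∈ D j} × {x // x ∈ D i} => (z.1.1 * z.2.1 : B) := by
          rw [Fintype.bijective_iff_injective_and_card]
          refine ⟨?_, by simp [hDc, hB, pow_two]⟩
          rintro ⟨⟨a, ha⟩, ⟨b, hb⟩⟩ ⟨⟨a', ha'⟩, ⟨b', hb'⟩⟩ he
          simp only at he
          have hinv : ∀ k, ∀ z ∈ D k, z⁻¹ ∈ D k := fun k z hz => by
            have himg : (D k).image (z * ·) = D k := Finset.eq_of_subset_of_card_le
              (fun y hy => by obtain ⟨u, hu, rfl⟩ := Finset.mem_image.1 hy; exact hDmul k z hz u hu)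
              (Finset.card_image_of_injective _ (mul_right_injective z)).ge
            have h5 := hD1 k
            rw [← himg] at h5
            obtain ⟨u, hu, huz⟩ := Finset.mem_image.1 h5
            rwa [← eq_inv_of_mul_eq_one_right huz]
          have h6 : a'⁻¹ * a = b' * b⁻¹ := by
            rw [inv_mul_eq_iff_eq_mul, ← mul_assoc, ← he, mul_inv_cancel_right]
          by_cases h7 : a'⁻¹ * a = 1
          · have e1 : a = a' := (inv_mul_eq_one.1 h7).symm
            subst e1
            simp only [Prod.mk.injEq, Subtype.mk.injEq, true_and]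
            exact mul_left_cancel he
          · exfalso
            exact hij ((hpart _ h7).unique (h6 ▸ hDmul i b' hb' _ (hinv i b hb))
              (hDmul j _ (hinv j a' ha') a ha))
        calc N j w.1 ^ p = ∏ a : {x // x ∈ D j}, ∏ _b : {x // x ∈ D i}, c a.1 w.1 := by
              rw [hN, ← Finset.prod_pow, ← Finset.prod_coe_sort]
              simp [hDc]
          _ = ∏ z : {x // x ∈ D j} × {x // x ∈ D i}, c (z.1.1 * z.2.1) w.1 := by
              rw [Fintype.prod_prod_type]
              exact Finset.prod_congr rfl fun a _ => Finset.prod_congr rfl fun b _ => by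
                rw [map_mul, MulAut.mul_apply, w.2 b.1 b.2]
          _ = NB w.1 := by
              rw [hNB]
              exact Fintype.prod_bijective _ hbij _ _ fun z => rfl
      have hN1 : ∀ w : Ci j, N j w.1 = w.1 ^ p := fun w => by
        rw [hN, Finset.prod_congr rfl (fun b hb => w.2 b hb), Finset.prod_const, hDc]
      have h8 := congrArg (fun z => N j z ^ p) h1
      simp only [map_prod, ← Finset.prod_pow] at h8
      rw [← Finset.mul_prod_erase _ _ (Finset.mem_univ j), ← Finset.mul_prod_erase _ _ (Finset.mem_univ j),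
        hN1, hN1, Finset.prod_congr rfl (fun i hi => hcross i (Finset.ne_of_mem_erase hi) (x i)),
        Finset.prod_congr rfl (fun i hi => hcross i (Finset.ne_of_mem_erase hi) (x' i)),
        Finset.prod_congr rfl (fun i _ => h2 i), mul_left_inj, ← pow_mul, ← pow_mul] at h8
      exact mul_inv_eq_one.1 (hpow _ 2 (by rw [pow_two, mul_pow, inv_pow, h8, mul_inv_cancel]))
    exact Prod.ext (Subtype.ext ha) (funext fun i => Subtype.ext (hx i))
  have hle1 := Nat.card_le_card_of_injective U hUinj
  have hle2 := Nat.card_le_card_of_injective T hTinj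
  simp only [Nat.card_prod, Nat.card_pi, Nat.card_fun, Nat.card_eq_fintype_card (α := ι), hι,
    Finset.prod_const, Finset.card_univ] at hle1 hle2
  have hpos : 0 < Nat.card C0 := Nat.card_pos_iff.2 ⟨⟨⟨1, fun b => map_one (c b)⟩⟩, inferInstance⟩
  have heq := le_antisymm hle1 hle2
  refine Nat.eq_of_mul_eq_mul_right hpos ?_
  rw [mul_assoc, ← pow_succ, heq, mul_comm]

variable {G : Type*} [Group G] [Finite G]

/-- The subgroups of order `p` in `B`. -/
def lines (p : ℕ) (B : Subgroup G) : Set (Subgroup G) := {D | D ≤ B ∧ Nat.card D = p}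

open Classical in
noncomputable instance (p : ℕ) (B : Subgroup G) : Fintype (lines p B) := Fintype.ofFinite _

variable {p : ℕ} [Fact p.Prime] {B : Subgroup G}

theorem existsUnique_line (hB : IsElementaryAbelian p B) {b : G} (hb : b ∈ B) (hb1 : b ≠ 1) :
    ∃! D : lines p B, b ∈ (D : Subgroup G) := by
  have ho : orderOf b = p := orderOf_eq_prime (hB.2 b hb) hb1
  refine ⟨⟨zpowers b, zpowers_le.2 hb, by rw [Nat.card_zpowers, ho]⟩, mem_zpowers b, fun D hD => ?_⟩
  exact Subtype.ext (eq_of_le_of_card_ge (zpowers_le.2 hD) (by rw [Nat.card_zpowers, ho, D.2.2])).symm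

theorem card_lines (hB : IsElementaryAbelian p B) (hBc : Nat.card B = p ^ 2) :
    Fintype.card (lines p B) = p + 1 := by
  classical
  haveI : Fintype G := Fintype.ofFinite G
  have hp := (Fact.out : p.Prime)
  let F : lines p B → Finset G := fun D => (Finset.univ.filter fun g => g ∈ (D : Subgroup G)).erase 1
  have hc : ∀ D, (F D).card = p - 1 := fun D => by
    rw [Finset.card_erase_of_mem (by simp), ← Fintype.card_subtype, ← Nat.card_eq_fintype_card]
    exact congrArg (· - 1) D.2.2
  have hdisj : ((Finset.univ : Finset (lines p B)) : Set (lines p B)).PairwiseDisjoint F := by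
    intro D _ E _ hDE
    rw [Function.onFun, Finset.disjoint_left]
    intro g hg hg'
    simp only [F, Finset.mem_erase, Finset.mem_filter, Finset.mem_univ, true_and] at hg hg'
    exact hDE ((existsUnique_line hB (D.2.1 hg.2) hg.1).unique hg.2 hg'.2)
  have hU : Finset.univ.biUnion F = (Finset.univ.filter fun g => g ∈ B).erase 1 := by
    ext g
    simp only [F, Finset.mem_biUnion, Finset.mem_erase, Finset.mem_filter, Finset.mem_univ, true_and]
    exact ⟨fun ⟨D, h1, h2⟩ => ⟨h1, D.2.1 h2⟩, fun ⟨h1, h2⟩ => by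
      obtain ⟨D, hD, -⟩ := existsUnique_line hB h2 h1
      exact ⟨D, h1, hD⟩⟩
  have := congrArg Finset.card hU
  rw [Finset.card_biUnion hdisj, Finset.sum_congr rfl (fun D _ => hc D), Finset.sum_const,
    Finset.card_univ, Finset.card_erase_of_mem (by simp [B.one_mem]), ← Fintype.card_subtype,
    smul_eq_mul] at this
  simp only [← Nat.card_eq_fintype_card] at this ⊢
  rw [show Nat.card {x // x ∈ B} = p ^ 2 from hBc] at this
  refine Nat.eq_of_mul_eq_mul_right (Nat.sub_pos_of_lt hp.one_lt) ?_
  rw [this]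
  obtain ⟨m, rfl⟩ := Nat.exists_eq_add_of_le hp.one_lt.le
  simp only [Nat.add_sub_cancel_left]
  ring_nf
  omega

/-- The defect of the formula is multiplicative; here: the formula for a solvable `X`. -/
theorem formula_solvable (hB : IsElementaryAbelian p B) (hBc : Nat.card B = p ^ 2) :
    ∀ X : Subgroup G, Group.IsSolvable X → B ≤ normalizer (X : Set G) →
      (Nat.card B).Coprime (Nat.card X) →
      Nat.card X * Nat.card ↥(X ⊓ centralizer (B : Set G)) ^ p =
        ∏ D : lines p B, Nat.card ↥(X ⊓ centralizer ((D : Subgroup G) : Set G)) := by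
  intro X
  induction X using WellFoundedLT.induction with
  | ind X IH =>
  intro hXs hBX hcop
  classical
  by_cases hXb : X = ⊥
  · subst hXb
    have : ∀ S : Set G, Nat.card ↥((⊥ : Subgroup G) ⊓ centralizer S) = 1 := fun S => by simp
    simp [this]
  haveI := hXs
  haveI : Nontrivial X := (nontrivial_iff_ne_bot X).2 hXb
  let N := ⁅X, X⁆
  have hNX : N < X := by
    refine lt_of_le_of_ne ((commutator_le).2 fun a ha b hb => by
      simpa [commutatorElement_def] using X.mul_mem (X.mul_mem (X.mul_mem ha hb) (X.inv_mem ha)) (X.inv_mem hb)) fun h => ?_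
    refine (Group.IsSolvable.commutator_lt_top_of_nontrivial (G := X)).ne ?_
    apply map_injective X.subtype_injective
    rw [_root_.commutator_def, map_commutator, ← MonoidHom.range_eq_map, range_subtype]
    exact h
  have hXN : X ≤ normalizer (N : Set G) := fun x hx => by
    rw [mem_normalizer_iff_map_conj_eq, map_commutator, mem_normalizer_iff_map_conj_eq.1 (le_normalizer hx)]
  have hBN : B ≤ normalizer (N : Set G) := fun x hx => by
    rw [mem_normalizer_iff_map_conj_eq, map_commutator, mem_normalizer_iff_map_conj_eq.1 (hBX hx)]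
  haveI hNs : Group.IsSolvable N :=
    Group.isSolvable_of_isSolvable_injective (Subgroup.inclusion_injective hNX.le)
  have hIH := IH N hNX hNs hBN (hcop.coprime_dvd_right (card_dvd_of_le hNX.le))
  haveI hn : (N.subgroupOf X).Normal := (normal_subgroupOf_iff_le_normalizer hNX.le).2 hXN
  let f := QuotientGroup.mk' (N.subgroupOf X)
  have hab : ∀ a b : X, f a * f b = f b * f a := fun a b => by
    rw [← commutatorElement_eq_one_iff_mul_comm, ← map_commutatorElement]
    refine (QuotientGroup.eq_one_iff _).2 ?_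
    show ((⁅a, b⁆ : X) : G) ∈ N
    simpa [commutatorElement_def] using commutator_mem_commutator a.2 b.2
  letI : CommGroup (↥X ⧸ N.subgroupOf X) :=
    { mul_comm := fun a b => by
        obtain ⟨a, rfl⟩ := QuotientGroup.mk'_surjective _ a
        obtain ⟨b, rfl⟩ := QuotientGroup.mk'_surjective _ b
        exact hab a b }
  let c₀ : B →* MulAut X := X.normalizerMonoidHom.comp (inclusion hBX)
  have hc₀ : ∀ (e : B) (z : X), ((c₀ e z : X) : G) = (e : G) * z * (e : G)⁻¹ := fun e z => rfl
  have hmap : ∀ e : B, (N.subgroupOf X).map (c₀ e).toMonoidHom = N.subgroupOf X := by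
    intro e
    ext z
    constructor
    · rintro ⟨y, hy, rfl⟩
      exact (mem_normalizer_iff.1 (hBN e.2) _).1 hy
    · intro hz
      refine ⟨c₀ e⁻¹ z, ?_, by show c₀ e (c₀ e⁻¹ z) = z; rw [← MulAut.mul_apply, ← map_mul, mul_inv_cancel, map_one, MulAut.one_apply]⟩
      show ((c₀ e⁻¹ z : X) : G) ∈ N
      rw [hc₀]
      exact (mem_normalizer_iff.1 (hBN (e⁻¹).2) _).1 hz
  let c : B →* MulAut (↥X ⧸ N.subgroupOf X) :=
    { toFun := fun e => QuotientGroup.congr _ _ (c₀ e) (hmap e)
      map_one' := MulEquiv.ext fun q => by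
        induction q using QuotientGroup.induction_on with
        | _ z => show f (c₀ 1 z) = f z; rw [map_one]; rfl
      map_mul' := fun a b => MulEquiv.ext fun q => by
        induction q using QuotientGroup.induction_on with
        | _ z => show f (c₀ (a * b) z) = f (c₀ a (c₀ b z)); rw [map_mul]; rfl }
  have hcf : ∀ e z, c e (f z) = f (c₀ e z) := fun e z => rfl
  -- lifting of fixed points
  have hlift : ∀ S : Subgroup G, S ≤ B →
      Nat.card ↥(X ⊓ centralizer (S : Set G)) =
        Nat.card ↥(N ⊓ centralizer (S : Set G)) *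
          Nat.card {v : ↥X ⧸ N.subgroupOf X // ∀ e : B, (e : G) ∈ S → c e v = v} := by
    intro S hS
    let W : Subgroup X := (centralizer (S : Set G)).subgroupOf X
    have himg : ∀ v, (∀ e : B, (e : G) ∈ S → c e v = v) ↔ v ∈ W.map f := by
      intro v
      obtain ⟨z, rfl⟩ := QuotientGroup.mk'_surjective _ v
      constructor
      · intro h
        obtain ⟨w, hw, hwz⟩ := CoprimeAct.exists_mem_centralizer (A := S) (K := X) (hS.trans hBX)
          (hcop.coprime_dvd_left (card_dvd_of_le hS)) (Or.inr hXs) hNX.le hXN (hS.trans hBN)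
          (k := (z : G)) z.2 (fun e he => by
            have h1 := h ⟨e, hS he⟩ he
            rw [hcf] at h1
            have h2 : c₀ ⟨e, hS he⟩ z * z⁻¹ ∈ N.subgroupOf X := (QuotientGroup.eq_one_iff _).1 (by
              show f _ = 1
              rw [map_mul, map_inv, h1, mul_inv_cancel])
            simpa [mem_subgroupOf, hc₀] using h2)
        exact ⟨⟨w, hw.1⟩, hw.2, (QuotientGroup.eq.2 (show z⁻¹ * (⟨w, hw.1⟩ : X) ∈ N.subgroupOf X from hwz)).symm⟩
      · rintro ⟨w, hw, hwz⟩ e he
        rw [← hwz, hcf]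
        congr 1
        refine Subtype.ext ?_
        rw [hc₀, show (e : G) * (w : G) = (w : G) * (e : G) from mem_centralizer_iff.1 hw e he, mul_inv_cancel_right]
    have h1 : Nat.card {v : ↥X ⧸ N.subgroupOf X // ∀ e : B, (e : G) ∈ S → c e v = v} =
        Nat.card (W.map f) := Nat.card_congr (Equiv.subtypeEquivRight himg)
    have h2 : Nat.card W = Nat.card ↥(X ⊓ centralizer (S : Set G)) := by
      rw [← card_map_of_injective X.subtype_injective]
      exact congrArg (fun H : Subgroup G => Nat.card H) ((subgroupOf_map_subtype _ _).trans (inf_comm _ _))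
    have h3 : Nat.card ↥(N ⊓ centralizer (S : Set G)) = Nat.card (f.comp W.subtype).ker := by
      refine Nat.card_congr
        { toFun := fun y => ⟨⟨⟨y.1, hNX.le y.2.1⟩, y.2.2⟩, (QuotientGroup.eq_one_iff _).2 y.2.1⟩
          invFun := fun y => ⟨((y.1 : X) : G), ⟨(QuotientGroup.eq_one_iff (y.1 : X)).1 y.2, y.1.2⟩⟩
          left_inv := fun _ => rfl
          right_inv := fun _ => rfl }
    rw [h1, h3, ← h2, show W.map f = (f.comp W.subtype).range by rw [MonoidHom.range_comp, range_subtype],
      ← Subgroup.index_ker, card_mul_index]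
  haveI : Fintype B := Fintype.ofFinite B
  have habf := abelian_formula c p (Fact.out : p.Prime).pos (by
      refine Nat.Coprime.coprime_dvd_right (card_quotient_dvd_card _) ?_
      have := hcop
      rw [hBc, Nat.coprime_pow_left_iff (by norm_num)] at this
      exact this)
    (fun D : lines p B => Finset.univ.filter fun e : B => (e : G) ∈ (D : Subgroup G)) (fun D => by simp)
    (fun D => by
      rw [← Fintype.card_subtype, ← Nat.card_eq_fintype_card]
      exact (Nat.card_congr (subgroupOfEquivOfLe D.2.1).toEquiv).trans D.2.2)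
    (fun D x hx y hy => by simpa using (D : Subgroup G).mul_mem (by simpa using hx) (by simpa using hy))
    (fun x y => hB.1.is_comm.comm x y)
    (fun b hb => by simpa using existsUnique_line hB b.2 (fun h => hb (Subtype.ext h)))
    (card_lines hB hBc) (by rw [← Nat.card_eq_fintype_card, hBc])
  have hl : ∀ D : lines p B, _ = _ := fun D => hlift D.1 D.2.1
  rw [hlift B le_rfl, Finset.prod_congr rfl (fun D _ => hl D), Finset.prod_mul_distrib, ← hIH]
  have hX : Nat.card X = Nat.card N * Nat.card (↥X ⧸ N.subgroupOf X) := by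
    rw [← Nat.card_congr (subgroupOfEquivOfLe hNX.le).toEquiv]
    exact ((N.subgroupOf X).card_mul_index).symm
  have e1 : Nat.card {v : ↥X ⧸ N.subgroupOf X // ∀ e : B, (e : G) ∈ B → c e v = v} =
      Nat.card {v : ↥X ⧸ N.subgroupOf X // ∀ e : B, c e v = v} :=
    Nat.card_congr (Equiv.subtypeEquivRight fun v => ⟨fun h e => h e e.2, fun h e _ => h e⟩)
  have e2 : ∏ D : lines p B, Nat.card {v : ↥X ⧸ N.subgroupOf X // ∀ e : B, (e : G) ∈ (D : Subgroup G) → c e v = v} =
      Nat.card (↥X ⧸ N.subgroupOf X) * Nat.card {v : ↥X ⧸ N.subgroupOf X // ∀ e : B, c e v = v} ^ p := by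
    rw [habf]
    simp
  rw [e1, e2, hX]
  ring

/-- The order formula. -/
theorem formula (hB : IsElementaryAbelian p B) (hBc : Nat.card B = p ^ 2) (K : Subgroup G)
    (hBK : B ≤ normalizer (K : Set G)) (hcop : (Nat.card B).Coprime (Nat.card K)) :
    Nat.card K * Nat.card ↥(K ⊓ centralizer (B : Set G)) ^ p =
      ∏ D : lines p B, Nat.card ↥(K ⊓ centralizer ((D : Subgroup G) : Set G)) := by
  classical
  have hBp : IsPGroup p B := IsPGroup.of_card hBc
  haveI : Group.IsNilpotent B := hBp.isNilpotent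
  have hBs : Group.IsSolvable B := inferInstance
  have hne : ∏ D : lines p B, Nat.card ↥(K ⊓ centralizer ((D : Subgroup G) : Set G)) ≠ 0 :=
    Finset.prod_ne_zero_iff.2 fun D _ => Nat.card_pos.ne'
  refine Nat.eq_of_factorization_eq (mul_ne_zero Nat.card_pos.ne' (pow_ne_zero _ Nat.card_pos.ne')) hne fun q => ?_
  by_cases hq : q.Prime
  swap
  · simp [Nat.factorization_eq_zero_of_not_prime, hq]
  haveI := Fact.mk hq
  obtain ⟨Q, hQ⟩ := CoprimeAct.exists_invariant_sylow hBK hcop (Or.inl hBs) q
  set Qg := (Q : Subgroup K).map K.subtype with hQg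
  have hQgK : Qg ≤ K := map_subtype_le _
  have hQp : IsPGroup q Qg := Q.isPGroup'.map _
  haveI : Group.IsNilpotent Qg := hQp.isNilpotent
  have hform := formula_solvable hB hBc Qg inferInstance hQ (hcop.coprime_dvd_right (card_dvd_of_le hQgK))
  have hcent : ∀ S : Subgroup G, S ≤ B →
      Nat.card ↥(Qg ⊓ centralizer (S : Set G)) =
        q ^ (Nat.card ↥(K ⊓ centralizer (S : Set G))).factorization q := by
    intro S hS
    set KS := K ⊓ centralizer (S : Set G) with hKS
    have hBKS : B ≤ normalizer (KS : Set G) := by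
      refine (le_inf hBK ?_).trans inf_normalizer_le_normalizer_inf
      refine le_trans (fun b hb => ?_) le_normalizer
      rw [mem_centralizer_iff]
      exact fun s hs => congrArg Subtype.val (hB.1.is_comm.comm ⟨s, hS hs⟩ ⟨b, hb⟩)
    have hcop' := hcop.coprime_dvd_right (card_dvd_of_le (inf_le_left : KS ≤ K))
    obtain ⟨R, hR⟩ := CoprimeAct.exists_invariant_sylow hBKS hcop' (Or.inl hBs) q
    obtain ⟨Q', hRQ', hQ'⟩ := CoprimeAct.exists_invariant_sylow_ge hBK hcop (Or.inl hBs)
      (U := (R : Subgroup KS).map KS.subtype) ((map_subtype_le _).trans inf_le_left) (R.isPGroup'.map _) hR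
    obtain ⟨c, hc, hcQ⟩ := CoprimeAct.invariant_sylow_conj hBK hcop (Or.inl hBs) Q' Q hQ' hQ
    have hlow : q ^ (Nat.card KS).factorization q ≤ Nat.card ↥(Qg ⊓ centralizer (S : Set G)) := by
      rw [← R.card_eq_multiplicity, ← card_map_of_injective KS.subtype_injective,
        ← card_map_of_injective (MulAut.conj (c : G)).injective (f := (MulAut.conj (c : G)).toMonoidHom)]
      refine card_le_of_le ?_
      rintro _ ⟨x, hx, rfl⟩
      refine ⟨?_, ?_⟩
      · obtain ⟨y, hy, rfl⟩ := hRQ' hx
        refine ⟨c * y * c⁻¹, ?_, rfl⟩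
        rw [← hcQ]
        exact ⟨y, hy, rfl⟩
      · have hxS : x ∈ centralizer (S : Set G) := (map_subtype_le _ hx).2
        have hcS : (c : G) ∈ centralizer (S : Set G) := centralizer_le hS hc
        exact mul_mem (mul_mem hcS hxS) (Subgroup.inv_mem _ hcS)
    obtain ⟨m, hm⟩ := (hQp.to_le (inf_le_left : Qg ⊓ centralizer (S : Set G) ≤ Qg)).exists_card_eq
    have hdvd : q ^ m ∣ Nat.card KS := hm ▸ card_dvd_of_le (inf_le_inf_right _ hQgK)
    rw [hm] at hlow ⊢
    exact le_antisymm (Nat.pow_le_pow_right hq.pos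
      ((hq.pow_dvd_iff_le_factorization Nat.card_pos.ne').1 hdvd)) hlow
  have hK : Nat.card Qg = q ^ (Nat.card K).factorization q := by
    rw [hQg, card_map_of_injective K.subtype_injective, Q.card_eq_multiplicity]
  have hl : ∀ D : lines p B, _ = _ := fun D => hcent D.1 D.2.1
  rw [hK, hcent B le_rfl, Finset.prod_congr rfl (fun D _ => hl D), Finset.prod_pow_eq_pow_sum,
    ← pow_mul, ← pow_add] at hform
  have := Nat.pow_right_injective hq.two_le hform
  rw [Nat.factorization_mul Nat.card_pos.ne' (pow_ne_zero _ Nat.card_pos.ne'), Finsupp.add_apply,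
    Nat.factorization_pow, Finsupp.smul_apply, smul_eq_mul,
    Nat.factorization_prod (fun D _ => Nat.card_pos.ne'), Finsupp.finset_sum_apply, mul_comm p]
  exact this

theorem card_mul_set (X Y : Subgroup G) :
    Nat.card ↥((X : Set G) * (Y : Set G)) * Nat.card ↥(X ⊓ Y) = Nat.card X * Nat.card Y := by
  classical
  have hsec : ∀ z : ↥((X : Set G) * (Y : Set G)), ∃ x y, x ∈ X ∧ y ∈ Y ∧ x * y = (z : G) := fun z => by
    obtain ⟨x, hx, y, hy, h⟩ := z.2
    exact ⟨x, y, hx, hy, h⟩
  choose sx sy hsx hsy hs using hsec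
  rw [← Nat.card_prod, ← Nat.card_prod]
  refine Nat.card_congr
    { toFun := fun zi => (⟨sx zi.1 * zi.2, X.mul_mem (hsx _) zi.2.2.1⟩,
        ⟨(zi.2 : G)⁻¹ * sy zi.1, Y.mul_mem (Y.inv_mem zi.2.2.2) (hsy _)⟩)
      invFun := fun xy =>
        let z : ↥((X : Set G) * (Y : Set G)) := ⟨xy.1 * xy.2, Set.mul_mem_mul xy.1.2 xy.2.2⟩
        (z, ⟨(sx z)⁻¹ * xy.1, X.mul_mem (X.inv_mem (hsx z)) xy.1.2, by
          have h1 : sx z * sy z = (xy.1 : G) * xy.2 := hs z
          rw [show (sx z)⁻¹ * (xy.1 : G) = sy z * (xy.2 : G)⁻¹ by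
            rw [inv_mul_eq_iff_eq_mul, ← mul_assoc, h1, mul_inv_cancel_right]]
          exact Y.mul_mem (hsy z) (Y.inv_mem xy.2.2)⟩)
      left_inv := ?_
      right_inv := ?_ }
  · rintro ⟨z, i, hi⟩
    have hz : (⟨sx z * i * (i⁻¹ * sy z), Set.mul_mem_mul (X.mul_mem (hsx _) hi.1)
        (Y.mul_mem (Y.inv_mem hi.2) (hsy _))⟩ : ↥((X : Set G) * (Y : Set G))) = z :=
      Subtype.ext (by rw [← hs z]; group)
    simp only [hz]
    simp
  · rintro ⟨⟨x, hx⟩, ⟨y, hy⟩⟩
    simp only [Prod.mk.injEq, Subtype.mk.injEq]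
    refine ⟨by group, ?_⟩
    have h := hs ⟨x * y, Set.mul_mem_mul hx hy⟩
    calc _ = x⁻¹ * (sx ⟨x * y, Set.mul_mem_mul hx hy⟩ * sy ⟨x * y, Set.mul_mem_mul hx hy⟩) := by group
      _ = y := by rw [h]; group

end Cfsg.Agent.WielandtOrder
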