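import Cfsg.Agent.Lib.Solvable.SchurZassenhaus
import Cfsg.Agent.Lib.Solvable.Fitting
import Cfsg.Agent.Lib.Char.FrobeniusKernel
import Cfsg.Agent.Lib.PLocal.FixedPointFree
import Cfsg.Agent.S0039

/-!
Structure of finite Frobenius groups: the kernel is nilpotent and equals the Fitting subgroup,
complements are conjugate.
-/

namespace Cfsg.Agent.FrobeniusStruct

open scoped Pointwise
open Cfsg.Agent.SolvBasic

variable {G : Type*} [Group G]

/-- A fixed-point-free action forces `|H| ∣ |K| - 1`. -/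
theorem card_dvd_sub_one [Finite G] {K H : Subgroup G} (hn : H ≤ Subgroup.normalizer (K : Set G))
    (hfpf : ∀ h ∈ H, h ≠ 1 → K ⊓ Subgroup.centralizer {h} = ⊥) :
    Nat.card H ∣ Nat.card K - 1 := by
  classical
  let : MulAction H {x : K // x ≠ 1} :=
    { smul := fun h x => ⟨⟨(h : G) * (x : K) * (h : G)⁻¹,
          (Subgroup.mem_normalizer_iff.1 (hn h.2) _).1 (x : K).2⟩, fun hx => x.2 (by
        have h1 : (h : G) * (x : K) * (h : G)⁻¹ = 1 := congrArg Subtype.val hx
        rw [conj_eq_one_iff] at h1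
        exact Subtype.ext h1)⟩
      one_smul := fun x => Subtype.ext (Subtype.ext (by
        change ((1 : H) : G) * _ * ((1 : H) : G)⁻¹ = _
        simp))
      mul_smul := fun a b x => Subtype.ext (Subtype.ext (by
        change ((a * b : H) : G) * _ * ((a * b : H) : G)⁻¹ =
          (a : G) * ((b : G) * _ * (b : G)⁻¹) * (a : G)⁻¹
        simp [mul_assoc])) }
  have hfree : ∀ x : {x : K // x ≠ 1}, MulAction.stabilizer H x = ⊥ := by
    intro x
    rw [eq_bot_iff]
    intro h hh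
    rw [Subgroup.mem_bot]
    by_contra h1
    rw [MulAction.mem_stabilizer_iff] at hh
    have h2 : (h : G) * (x : K) * (h : G)⁻¹ = (x : K) :=
      congrArg (fun t : {x : K // x ≠ 1} => ((t : K) : G)) hh
    have h3 : ((x : K) : G) ∈ K ⊓ Subgroup.centralizer {(h : G)} := by
      refine Subgroup.mem_inf.2 ⟨(x : K).2, ?_⟩
      rw [Subgroup.mem_centralizer_singleton_iff]
      exact (mul_inv_eq_iff_eq_mul.1 h2).symm
    rw [hfpf h h.2 (fun h0 => h1 (Subtype.ext h0)), Subgroup.mem_bot] at h3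
    exact x.2 (Subtype.ext h3)
  have h4 := Nat.card_congr (MulAction.selfEquivOrbitsQuotientProd hfree)
  rw [Nat.card_prod] at h4
  have h5 : Nat.card {x : K // x ≠ 1} = Nat.card K - 1 := by
    have := Fintype.ofFinite K
    rw [Nat.card_eq_fintype_card, Nat.card_eq_fintype_card, Fintype.card_subtype_compl,
      Fintype.card_subtype_eq]
  exact ⟨_, (h5.symm.trans h4).trans (mul_comm _ _)⟩

theorem card_mod_eq_one [Finite G] {K H : Subgroup G} (hn : H ≤ Subgroup.normalizer (K : Set G))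
    (hfpf : ∀ h ∈ H, h ≠ 1 → K ⊓ Subgroup.centralizer {h} = ⊥) :
    Nat.card K % Nat.card H = 1 % Nat.card H :=
  ((Nat.modEq_iff_dvd' Nat.card_pos).2 (card_dvd_sub_one hn hfpf)).symm

theorem coprime_of_fpf [Finite G] {K H : Subgroup G} (hn : H ≤ Subgroup.normalizer (K : Set G))
    (hfpf : ∀ h ∈ H, h ≠ 1 → K ⊓ Subgroup.centralizer {h} = ⊥) :
    (Nat.card K).Coprime (Nat.card H) := by
  refine Nat.coprime_of_dvd' fun p _ hK hH => ?_
  have h1 : p ∣ Nat.card K - 1 := hH.trans (card_dvd_sub_one hn hfpf)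
  have h2 := Nat.dvd_sub hK h1
  have hpos := Nat.card_pos (α := K)
  rwa [show Nat.card K - (Nat.card K - 1) = 1 by omega] at h2

/-- A finite group with a fixed-point-free complement has nilpotent kernel. -/
theorem nilpotent_of_fpf [Finite G] {K H : Subgroup G} [K.Normal] (hH : H ≠ ⊥)
    (hfpf : ∀ h ∈ H, h ≠ 1 → K ⊓ Subgroup.centralizer {h} = ⊥) : Group.IsNilpotent K := by
  obtain ⟨r, hr, hdvd⟩ := Nat.exists_prime_and_dvd
    (fun h => hH (Subgroup.card_eq_one.1 h) : Nat.card H ≠ 1)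
  have := Fact.mk hr
  obtain ⟨h, hh⟩ := exists_prime_orderOf_dvd_card' (G := H) r hdvd
  refine FixedPointFreeThompson.isNilpotent_of_conj K hr (h : G) ?_ fun x hx hxh => ?_
  · rw [← hh, ← Subgroup.coe_pow, pow_orderOf_eq_one]; rfl
  · have h1 : (h : G) ≠ 1 := fun h0 => by
      rw [show h = 1 from Subtype.ext h0, orderOf_one] at hh
      exact hr.ne_one hh.symm
    have h2 : x ∈ K ⊓ Subgroup.centralizer {(h : G)} :=
      Subgroup.mem_inf.2 ⟨hx, Subgroup.mem_centralizer_singleton_iff.2 hxh.symm⟩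
    rwa [hfpf h h.2 h1, Subgroup.mem_bot] at h2

/-- The data attached to a Frobenius complement. -/
theorem exists_kernel [Finite G] {H : Subgroup G} (hH : Cfsg.IsFrobeniusComplement H) :
    ∃ N : Subgroup G, (N : Set G) = Cfsg.frobeniusKernel H ∧ N.Normal ∧ N ≠ ⊥ ∧
      Subgroup.IsComplement' N H ∧ (∀ h ∈ H, h ≠ 1 → N ⊓ Subgroup.centralizer {h} = ⊥) ∧
      (Nat.card N).Coprime (Nat.card H) ∧ Nat.card N = H.index ∧ Group.IsNilpotent N := by
  obtain ⟨N, hset, hn, hc⟩ := Char.frobeniusKernel_isSubgroup hH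
  have hne : N ≠ ⊥ := fun h => hH.2.1 (Subgroup.isComplement'_bot_left.1 (h ▸ hc))
  have hfpf := (S0039.result N H hc hne hH.1).1 hH
  exact ⟨N, hset, hn, hne, hc, hfpf,
    coprime_of_fpf Subgroup.le_normalizer_of_normal hfpf, hc.index_eq_card.symm,
    nilpotent_of_fpf hH.1 hfpf⟩

/-- The kernel of a Frobenius group is its Fitting subgroup. -/
theorem kernel_eq_fitting [Finite G] {N H : Subgroup G} [N.Normal] (hne : N ≠ ⊥)
    (hc : Subgroup.IsComplement' N H) (hH : H ≠ ⊥)
    (hfpf : ∀ h ∈ H, h ≠ 1 → N ⊓ Subgroup.centralizer {h} = ⊥) :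
    N = Cfsg.fittingSubgroup G := by
  have hnil := nilpotent_of_fpf hH hfpf
  refine le_antisymm (FittingCores.le_fitting inferInstance hnil) fun f hf => ?_
  set F := Cfsg.fittingSubgroup G with hF
  have hFn : F.Normal := FittingCores.fitting_normal
  obtain ⟨n, hn, h, hh, rfl⟩ : ∃ n ∈ N, ∃ h ∈ H, f = n * h := by
    have := hc.sup_eq_top ▸ Subgroup.mem_top f
    rwa [mem_sup_iff_of_le_normalizer Subgroup.le_normalizer_of_normal] at this
  have hNF : N ≤ F := FittingCores.le_fitting inferInstance hnil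
  have hhF : h ∈ F := by
    have := mul_mem (inv_mem (hNF hn)) hf
    rwa [inv_mul_cancel_left] at this
  suffices h1 : h = 1 by rw [h1, mul_one]; exact hn
  by_contra h1
  -- `h` centralizes a nontrivial element of the centre of the nilpotent group `F`
  have := FittingCores.fitting_nilpotent (G := G)
  have hneF : N.subgroupOf F ≠ ⊥ := fun h0 => hne (by
    rw [Subgroup.subgroupOf_eq_bot, disjoint_iff, inf_eq_left.2 hNF] at h0
    exact h0)
  classical
  have hex : ∃ k, N.subgroupOf F ⊓ Subgroup.upperCentralSeries F k ≠ ⊥ := by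
    obtain ⟨k, hk⟩ := Group.IsNilpotent.nilpotent F
    exact ⟨k, by rwa [hk, inf_top_eq]⟩
  have hi0 : Nat.find hex ≠ 0 := fun h => Nat.find_spec hex (by
    rw [h, Subgroup.upperCentralSeries_zero, inf_bot_eq])
  obtain ⟨j, hj⟩ := Nat.exists_eq_succ_of_ne_zero hi0
  have hjb : N.subgroupOf F ⊓ Subgroup.upperCentralSeries F j = ⊥ :=
    not_not.1 (Nat.find_min hex (by rw [hj]; exact Nat.lt_succ_self j))
  refine Nat.find_spec hex (eq_bot_iff.2 fun x hx => ?_)
  rw [hj] at hx
  obtain ⟨hxN, hxZ⟩ := Subgroup.mem_inf.1 hx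
  rw [Subgroup.mem_upperCentralSeries_succ_iff] at hxZ
  have hcomm : x * ⟨h, hhF⟩ = ⟨h, hhF⟩ * x := by
    rw [← commutatorElement_eq_one_iff_mul_comm, ← Subgroup.mem_bot, ← hjb]
    refine Subgroup.mem_inf.2 ⟨?_, hxZ ⟨h, hhF⟩⟩
    rw [Subgroup.mem_subgroupOf]
    have hxN' : (x : G) ∈ N := hxN
    have h2 := mul_mem hxN' ((inferInstance : N.Normal).conj_mem _ (inv_mem hxN') h)
    simpa [commutatorElement_def, mul_assoc] using h2
  have hxbot : (x : G) ∈ N ⊓ Subgroup.centralizer {h} :=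
    Subgroup.mem_inf.2 ⟨hxN, Subgroup.mem_centralizer_singleton_iff.2
      (congrArg Subtype.val hcomm)⟩
  rw [hfpf h hh h1, Subgroup.mem_bot] at hxbot
  rw [Subgroup.mem_bot]
  exact Subtype.ext hxbot

/-- All Frobenius complements are conjugate. -/
theorem complement_conj [Finite G] {H H₀ : Subgroup G} (hH : Cfsg.IsFrobeniusComplement H)
    (hH₀ : Cfsg.IsFrobeniusComplement H₀) : ∃ g : G, MulAut.conj g • H₀ = H := by
  obtain ⟨N, -, hn, hne, hc, hfpf, hcop, -, hnil⟩ := exists_kernel hH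
  obtain ⟨N₀, -, hn₀, hne₀, hc₀, hfpf₀, -⟩ := exists_kernel hH₀
  have heq : N₀ = N :=
    (kernel_eq_fitting hne₀ hc₀ hH₀.1 hfpf₀).trans (kernel_eq_fitting hne hc hH.1 hfpf).symm
  subst heq
  exact SchurZ.conj_of_complement N₀ (by rw [hc.symm.index_eq_card]; exact hcop)
    (Or.inl (inferInstance : Group.IsSolvable N₀)) H₀ H hc₀ hc

/-- A subgroup of order dividing `|H|` lies in a conjugate of the complement `H`. -/
theorem exists_conj_le [Finite G] {H L : Subgroup G} (hH : Cfsg.IsFrobeniusComplement H)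
    (hL : Nat.card L ∣ Nat.card H) : ∃ x : G, L ≤ MulAut.conj x • H := by
  obtain ⟨N, -, hn, -, hc, -, hcop, -, hnil⟩ := exists_kernel hH
  have hLN : (Nat.card L).Coprime (Nat.card N) := hcop.symm.coprime_dvd_left hL
  set M := N ⊔ L with hM
  have hMn : M ≤ Subgroup.normalizer (N : Set G) := Subgroup.le_normalizer_of_normal
  have hmul : ∀ y ∈ M, ∃ n ∈ N, ∃ h ∈ H, y = n * h := fun y _ => by
    have := hc.sup_eq_top ▸ Subgroup.mem_top y
    rwa [mem_sup_iff_of_le_normalizer Subgroup.le_normalizer_of_normal] at this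
  have hinf : N ⊔ H ⊓ M = M := by
    refine le_antisymm (sup_le le_sup_left inf_le_right) fun y hy => ?_
    obtain ⟨n, hn', h, hh, rfl⟩ := hmul y hy
    refine mul_mem (Subgroup.mem_sup_left hn') (Subgroup.mem_sup_right (Subgroup.mem_inf.2 ⟨hh, ?_⟩))
    have := mul_mem (inv_mem ((le_sup_left : N ≤ M) hn')) hy
    rwa [inv_mul_cancel_left] at this
  have hcard : Nat.card (H ⊓ M : Subgroup G) = Nat.card L := by
    have h1 := card_sup_of_inf_eq_bot (N := N) (H := H ⊓ M) Subgroup.le_normalizer_of_normal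
      (le_bot_iff.1 (hc.disjoint.eq_bot ▸ inf_le_inf_left N inf_le_left))
    have h2 := card_sup_of_inf_eq_bot (N := N) (H := L) Subgroup.le_normalizer_of_normal
      (Subgroup.disjoint_of_coprime_natCard hLN.symm).eq_bot
    rw [hinf, hM, h2] at h1
    exact (Nat.eq_of_mul_eq_mul_left Nat.card_pos h1).symm
  obtain ⟨k, -, hk⟩ := SchurZ.conj_in (A := L) (K := N) (B := H ⊓ M)
    Subgroup.le_normalizer_of_normal hLN (Or.inr inferInstance) inf_le_right hcard
  refine ⟨k⁻¹, ?_⟩
  rw [← conjSmul_inv_conjSmul k L, hk]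
  exact Subgroup.pointwise_smul_le_pointwise_smul_iff.2 inf_le_left

end Cfsg.Agent.FrobeniusStruct
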