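import Cfsg.Agent.Lib.PStable.Involved
import Cfsg.Agent.Lib.OddOrder.MinSimple
import Cfsg.Agent.Lib.Components.PNormalizer
import Cfsg.Agent.Lib.CN.Basic
import Mathlib.LinearAlgebra.Projectivization.PSL.PSL2

/-! Centralizers of self-centralizing normal subgroups of the Fitting subgroup of a Hall subgroup of a
solvable group. -/

set_option autoImplicit false
set_option linter.style.haveILetI false
set_option linter.unusedSectionVars false

namespace Cfsg.Agent.ScnCentralizer

open Subgroup
open scoped Pointwise commutatorElement MatrixGroups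

theorem sl2_not_solvable (p : ℕ) [Fact p.Prime] (hp : 5 ≤ p) :
    ¬ Group.IsSolvable (Matrix.SpecialLinearGroup (Fin 2) (ZMod p)) := by
  intro h
  haveI := h
  haveI : IsSimpleGroup (Matrix.ProjectiveSpecialLinearGroup (Fin 2) (ZMod p)) :=
    Matrix.ProjectiveSpecialLinearGroup.rank_two_simple (by rw [Nat.card_zmod]; omega)
  let Q := Matrix.SpecialLinearGroup (Fin 2) (ZMod p) ⧸ center (Matrix.SpecialLinearGroup (Fin 2) (ZMod p))
  haveI : IsSimpleGroup Q := inferInstanceAs (IsSimpleGroup (Matrix.ProjectiveSpecialLinearGroup (Fin 2) (ZMod p)))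
  haveI : Group.IsSolvable Q := Group.isSolvable_of_surjective
    (f := QuotientGroup.mk' (center (Matrix.SpecialLinearGroup (Fin 2) (ZMod p)))) (QuotientGroup.mk'_surjective _)
  have hcomm : ∀ a b : Q, a * b = b * a := fun a b => IsSimpleGroup.comm_iff_isSolvable.2 inferInstance a b
  let u : Matrix.SpecialLinearGroup (Fin 2) (ZMod p) := ⟨!![1, 1; 0, 1], by simp [Matrix.det_fin_two]⟩
  let v : Matrix.SpecialLinearGroup (Fin 2) (ZMod p) := ⟨!![1, 0; 1, 1], by simp [Matrix.det_fin_two]⟩
  have h1 : (u * v)⁻¹ * (v * u) ∈ center (Matrix.SpecialLinearGroup (Fin 2) (ZMod p)) :=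
    QuotientGroup.eq.1 (hcomm (QuotientGroup.mk u) (QuotientGroup.mk v))
  obtain ⟨r, -, hr⟩ := Matrix.SpecialLinearGroup.mem_center_iff.1 h1
  have h2 : (v * u).1 = (u * v).1 * Matrix.scalar (Fin 2) r := by
    rw [hr, ← Matrix.SpecialLinearGroup.coe_mul, mul_inv_cancel_left]
  change v.1 * u.1 = u.1 * v.1 * Matrix.scalar (Fin 2) r at h2
  have e1 := congrFun (congrFun h2 0) 1
  have e2 := congrFun (congrFun h2 1) 1
  simp [u, v, Matrix.mul_apply, Fin.sum_univ_two] at e1 e2
  rw [← e1] at e2
  have h3 : ((1 : ℕ) : ZMod p) = 0 := by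
    rw [Nat.cast_one]
    linear_combination e2
  rw [ZMod.natCast_eq_zero_iff] at h3
  exact absurd (Nat.le_of_dvd one_pos h3) (by omega)

theorem isQuad_of_solvable {G : Type*} [Group G] [Finite G] [Group.IsSolvable G] {p : ℕ} [Fact p.Prime]
    (hp : 5 ≤ p) : ZJ.IsQuad p G := by
  refine PStable.isQuad_of_not_involves_sl2 (by omega) fun h => ?_
  obtain ⟨K, ψ, hψ⟩ := PStable.exists_surjective_of_involves h
  exact sl2_not_solvable p hp (Group.isSolvable_of_surjective (f := ψ) hψ)

variable {S : Type*} [Group S] [Finite S]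

/-- `r`-subgroups of the Fitting subgroup lie in `O_r`. -/
theorem pSub_le_pCore {r : ℕ} [Fact r.Prime] {T N : Subgroup S} (hN : N.Normal) (hNn : Group.IsNilpotent N)
    (hT : IsPGroup r T) (h : T ≤ N) : T ≤ pCore r S := by
  haveI := hNn
  obtain ⟨P, hP⟩ := (hT.comap_of_injective N.subtype N.subtype_injective).exists_le_sylow
  intro x hx
  exact FittingCores.sylow_le_pCore_of_nilpotent hN r P ⟨⟨x, h hx⟩, hP hx, rfl⟩

theorem sylow_mem {r : ℕ} [Fact r.Prime] {T N : Subgroup S} (hN : N.Normal) (hNn : Group.IsNilpotent N)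
    (h : T ≤ N) (P : Sylow r T) : (P : Subgroup T).map T.subtype ≤ pCore r S :=
  pSub_le_pCore hN hNn (P.isPGroup'.map _) ((map_subtype_le _).trans h)

theorem commute_cores {q r : ℕ} [Fact q.Prime] [Fact r.Prime] (h : q ≠ r) :
    pCore q S ≤ centralizer (pCore r S : Set S) := by
  haveI := FittingCores.pCore_normal (G := S) q
  haveI := FittingCores.pCore_normal (G := S) r
  rw [← commutator_eq_bot_iff_le_centralizer, eq_bot_iff]
  refine (Components.commutator_le_inf_of_normalizer le_normalizer_of_normal le_normalizer_of_normal).trans ?_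
  exact (disjoint_iff.1 (IsPGroup.disjoint_of_ne q r h _ _ (FittingCores.pCore_isPGroup q)
    (FittingCores.pCore_isPGroup r))).le

/-- A `p`-element centralizing the other cores and acting quadratically on `O_p` lies in `O_p`. -/
theorem mem_pCore_of_quadratic [Group.IsSolvable S] {p : ℕ} [hp : Fact p.Prime] (hp5 : 5 ≤ p) {a : S}
    (ha : IsPGroup p (zpowers a))
    (hcop : ∀ r : ℕ, r.Prime → r ≠ p → a ∈ centralizer (pCore r S : Set S))
    (hq : ⁅⁅pCore p S, zpowers a⁆, zpowers a⁆ = ⊥) : a ∈ pCore p S := by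
  classical
  haveI := FittingCores.pCore_normal (G := S) p
  set B := pCore p S with hB
  have hmk := isQuad_of_solvable (G := S) hp5 B a (FittingCores.pCore_isPGroup p) ha hq
  set C := centralizer (B : Set S) with hC
  haveI : C.Normal := Subgroup.normal_centralizer
  let K : Subgroup S := ⨅ r : {r : ℕ // r.Prime ∧ r ≠ p}, centralizer (pCore (r : ℕ) S : Set S)
  haveI hKn : K.Normal := normal_iInf_normal fun r => by
    haveI := FittingCores.pCore_normal (G := S) (r : ℕ)
    exact Subgroup.normal_centralizer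
  haveI := FittingCores.pCore_normal (G := S ⧸ C) p
  let M := K ⊓ (pCore p (S ⧸ C)).comap (QuotientGroup.mk' C)
  haveI hMn : M.Normal := normal_inf_normal _ _
  have haM : a ∈ M := mem_inf.2 ⟨mem_iInf.2 fun r => hcop r r.2.1 r.2.2, hmk⟩
  have hKC : K ⊓ C ≤ fittingSubgroup S := by
    refine le_trans ?_ FittingCores.centralizer_fitting_le
    rw [FittingCores.fitting_eq_iSup_pCore, le_centralizer_iff]
    refine iSup_le fun r => ?_
    rw [le_centralizer_iff]
    by_cases hr : (r : ℕ) = p
    · rw [hr]; exact inf_le_right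
    · exact inf_le_left.trans (iInf_le (fun r : {r : ℕ // r.Prime ∧ r ≠ p} =>
        centralizer (pCore (r : ℕ) S : Set S)) ⟨r, r.2, hr⟩)
  obtain ⟨P, hP⟩ := (ha.comap_of_injective M.subtype M.subtype_injective).exists_le_sylow
  set P' := (P : Subgroup M).map M.subtype with hP'
  set Z := K ⊓ C with hZ
  haveI : Z.Normal := normal_inf_normal _ _
  have hZM : Z ≤ M := fun z hz => mem_inf.2 ⟨(mem_inf.1 hz).1, by
    show QuotientGroup.mk' C z ∈ pCore p (S ⧸ C)
    rw [show QuotientGroup.mk' C z = 1 from (QuotientGroup.eq_one_iff z).2 (mem_inf.1 hz).2]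
    exact one_mem _⟩
  have hBM : M ≤ P' ⊔ Z := by
    have hle : P' ⊔ Z ≤ M := sup_le (map_subtype_le _) hZM
    have h1 : (P' ⊔ Z).relIndex M ∣ P'.relIndex M := relIndex_dvd_of_le_left M le_sup_left
    have h2 : ¬ p ∣ P'.relIndex M := by
      rw [hP', relIndex, subgroupOf, comap_map_eq_self_of_injective M.subtype_injective]
      exact P.not_dvd_index
    have h3 : (P' ⊔ Z).relIndex M ∣ Z.relIndex M := relIndex_dvd_of_le_left M le_sup_right
    obtain ⟨k, hk⟩ : ∃ k, Z.relIndex M = p ^ k := by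
      have hlt : (M.map (QuotientGroup.mk' C)) ≤ pCore p (S ⧸ C) := map_le_iff_le_comap.2 inf_le_right
      have hpg : IsPGroup p (M.map (QuotientGroup.mk' C)) := (FittingCores.pCore_isPGroup p).to_le hlt
      obtain ⟨k, hk⟩ := hpg.exists_card_eq
      refine ⟨k, ?_⟩
      rw [← hk, ← relIndex_ker, QuotientGroup.ker_mk']
      have : Z = M ⊓ C := le_antisymm (le_inf hZM inf_le_right) (inf_le_inf_right C inf_le_left)
      rw [this, inf_relIndex_left]
    obtain ⟨j, hj, hje⟩ := (Nat.dvd_prime_pow hp.out).1 (hk ▸ h3)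
    rcases Nat.eq_zero_or_pos j with rfl | hj0
    · exact relIndex_eq_one.1 (by rw [hje, pow_zero])
    · exact absurd ((dvd_pow_self p hj0.ne').trans (hje ▸ h1)) h2
  have hnorm : M ≤ normalizer (P' : Set S) := by
    refine hBM.trans (sup_le le_normalizer ?_)
    haveI := FittingCores.fitting_nilpotent (G := S)
    rw [← subgroupOf_eq_top]
    refine FittingCores.eq_top_of_forall_sylow_le fun t ht => ?_
    haveI := Fact.mk ht
    refine ⟨default, fun z hz => ?_⟩
    have hzt : (z : S) ∈ pCore t S := sylow_mem FittingCores.fitting_normal inferInstance hKC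
      (default : Sylow t Z) ⟨z, hz, rfl⟩
    show (z : S) ∈ normalizer (P' : Set S)
    by_cases htp : t = p
    · subst htp
      refine le_normalizer ?_
      have h1 : IsPGroup t ((pCore t S ⊓ M).subgroupOf M) :=
        ((FittingCores.pCore_isPGroup t).to_le inf_le_left).comap_of_injective M.subtype M.subtype_injective
      haveI : ((pCore t S ⊓ M).subgroupOf M).Normal := normal_subgroupOf
      exact ⟨⟨z, hZM z.2⟩, h1.le_sylow_of_normal P (mem_inf.2 ⟨hzt, hZM z.2⟩), rfl⟩
    · refine centralizer_le_normalizer _ (mem_centralizer_iff.2 fun m hm => ?_)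
      have hmK : m ∈ K := (mem_inf.1 ((map_subtype_le _ : P' ≤ M) hm)).1
      exact (mem_centralizer_iff.1 (mem_iInf.1 hmK ⟨t, ht, htp⟩) _ hzt).symm
  haveI : (P : Subgroup M).Normal := by
    have : P'.subgroupOf M = (P : Subgroup M) := by
      rw [hP', subgroupOf, comap_map_eq_self_of_injective M.subtype_injective]
    rw [← this]
    exact (normal_subgroupOf_iff_le_normalizer (map_subtype_le _)).2 hnorm
  haveI := P.characteristic_of_normal inferInstance
  have hPn : P'.Normal := FittingCores.normal_map_of_characteristic hMn inferInstance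
  exact FittingCores.le_pCore hPn (P.isPGroup'.map _)
    ⟨⟨a, haM⟩, hP (show (⟨a, haM⟩ : M) ∈ (zpowers a).comap M.subtype from mem_zpowers a), rfl⟩

/-- When `O_{π'}(S) = 1`, every element of prime power order for a prime in `π` centralizing `A` lies in `A`. -/
theorem mem_of_core_trivial [Group.IsSolvable S] {π : Set ℕ} (h2 : 2 ∉ π) (h3 : 3 ∉ π)
    (hO : Cfsg.piCore πᶜ S = ⊥) {W A : Subgroup S} [Group.IsNilpotent W] (hFW : fittingSubgroup S ≤ W)
    (hWπ : ∀ r : ℕ, r.Prime → r ∣ Nat.card W → r ∈ π) (hA : IsSCN W A)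
    {t : ℕ} [Fact t.Prime] (ht : t ∈ π) {x : S} (hx : IsPGroup t (zpowers x))
    (hxA : x ∈ centralizer (A : Set S)) : x ∈ A := by
  classical
  obtain ⟨hAW, hAn, hAs⟩ := hA
  have hAab : ∀ a ∈ A, ∀ b ∈ A, a * b = b * a := fun a ha b hb =>
    (mem_centralizer_iff.1 (mem_inf.1 (hAs.ge ha)).2 b hb).symm
  have h5 : ∀ r : ℕ, r.Prime → r ∈ π → 5 ≤ r := fun r hr hrπ => by
    have := hr.two_le
    rcases eq_or_ne r 2 with rfl | h; · exact absurd hrπ h2
    rcases eq_or_ne r 3 with rfl | h'; · exact absurd hrπ h3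
    rcases eq_or_ne r 4 with rfl | h''; · norm_num at hr
    omega
  have hW : ∀ r : ℕ, r.Prime → pCore r S ≤ W := fun r hr => (FittingCores.pCore_le_fitting hr).trans hFW
  -- `A` lies in the Fitting subgroup
  have hAF : A ≤ fittingSubgroup S := by
    rw [← subgroupOf_eq_top]
    refine FittingCores.eq_top_of_forall_sylow_le fun r hr => ?_
    haveI := Fact.mk hr
    refine ⟨default, fun a ha => ?_⟩
    have hra : IsPGroup r (zpowers (a : S)) :=
      ((default : Sylow r A).isPGroup'.map A.subtype).to_le (zpowers_le.2 ⟨a, ha, rfl⟩)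
    show (a : S) ∈ fittingSubgroup S
    by_cases ha1 : (a : S) = 1
    · rw [ha1]; exact one_mem _
    have hrπ : r ∈ π := hWπ r hr (by
      obtain ⟨k, hk⟩ := hra.exists_card_eq
      have hk0 : k ≠ 0 := by
        rintro rfl
        rw [pow_zero, Nat.card_zpowers, orderOf_eq_one_iff] at hk
        exact ha1 hk
      exact (dvd_pow_self r hk0).trans (hk.symm.dvd.trans (card_dvd_of_le (zpowers_le.2 (hAW a.2)))))
    refine FittingCores.pCore_le_fitting hr (mem_pCore_of_quadratic (h5 r hr hrπ) hra (fun q hq hqr => ?_) ?_)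
    · haveI := Fact.mk hq
      have hcomm : ∀ y ∈ pCore q S, Commute (a : S) y := fun y hy => by
        obtain ⟨i, hi⟩ := IsPGroup.iff_orderOf.mp hra ⟨(a : S), mem_zpowers _⟩
        obtain ⟨j, hj⟩ := IsPGroup.iff_orderOf.mp (FittingCores.pCore_isPGroup (G := S) q) ⟨y, hy⟩
        rw [orderOf_mk] at hi hj
        refine CN.commute_of_coprime (inferInstance : Group.IsNilpotent W) (hAW a.2) (hW q hq hy) ?_
        rw [hi, hj]
        exact ((Nat.coprime_primes hr hq).2 (Ne.symm hqr)).pow i j
      exact mem_centralizer_iff.2 fun y hy => (hcomm y hy).eq.symm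
    · rw [commutator_eq_bot_iff_le_centralizer]
      refine le_trans ?_ (le_centralizer_iff.1 (zpowers_le.2 (show (a : S) ∈ centralizer (A : Set S) from
        mem_centralizer_iff.2 fun b hb => hAab b hb a a.2)))
      refine (commutator_mono le_rfl (zpowers_le.2 a.2)).trans ?_
      rw [commutator_comm]
      exact Components.commutator_le_of_le_normalizer ((hW r hr).trans hAn)
  haveI := FittingCores.fitting_nilpotent (G := S)
  -- a Sylow subgroup of `A` is `A ∩ O_r(S)`
  have hcore : ∀ q : ℕ, q.Prime → ∀ y ∈ pCore q S,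
      (∀ b ∈ A ⊓ pCore q S, b * y = y * b) → y ∈ A := by
    intro q hq y hy hc
    haveI := Fact.mk hq
    rw [← hAs]
    refine mem_inf.2 ⟨hW q hq hy, ?_⟩
    have htop : (centralizer ({y} : Set S)).subgroupOf A = ⊤ :=
      FittingCores.eq_top_of_forall_sylow_le fun r hr => by
        haveI := Fact.mk hr
        refine ⟨default, fun b hb => ?_⟩
        have hbr : (b : S) ∈ pCore r S := sylow_mem FittingCores.fitting_normal inferInstance hAF
          (default : Sylow r A) ⟨b, hb, rfl⟩
        show (b : S) ∈ centralizer ({y} : Set S)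
        rw [mem_centralizer_singleton_iff]
        rcases eq_or_ne r q with rfl | hne
        · exact hc b (mem_inf.2 ⟨b.2, hbr⟩)
        · exact (mem_centralizer_iff.1 (commute_cores hne hbr) y hy).symm
    exact mem_centralizer_iff.2 fun b hb => mem_centralizer_singleton_iff.1 (htop.ge (mem_top (⟨b, hb⟩ : A)))
  rw [← hAs]
  refine mem_inf.2 ⟨hFW (FittingCores.pCore_le_fitting (Fact.out : t.Prime) (mem_pCore_of_quadratic
    (h5 t Fact.out ht) hx (fun q hq hqt => ?_) ?_)), hxA⟩
  · haveI := Fact.mk hq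
    haveI := FittingCores.pCore_normal (G := S) q
    refine mem_centralizer_iff.2 fun y hy => (AxB.thompson (P := pCore q S) (A := A ⊓ pCore q S)
      (FittingCores.pCore_isPGroup q) ((FittingCores.pCore_isPGroup q).to_le inf_le_right)
      le_normalizer_of_normal (fun z hz => Normal.conj_mem inferInstance z hz x)
      (fun b hb => mem_centralizer_iff.1 hxA b (mem_inf.1 hb).1) (pow_orderOf_eq_one x) ?_
      (fun z hz hzA => (mem_centralizer_iff.1 hxA z (hcore q hq z hz hzA)).symm) y hy).symm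
    obtain ⟨i, hi⟩ := IsPGroup.iff_orderOf.mp hx ⟨x, mem_zpowers x⟩
    rw [orderOf_mk] at hi
    rw [hi]
    exact ((Nat.coprime_primes hq Fact.out).2 hqt).pow_right i
  · haveI := FittingCores.pCore_normal (G := S) t
    set B := pCore t S
    rw [commutator_eq_bot_iff_le_centralizer]
    refine le_trans ?_ (le_centralizer_iff.1 (zpowers_le.2 hxA))
    rw [commutator_le]
    intro y hy z hz
    refine hcore t Fact.out _ ?_ fun b hb => ?_
    · rw [commutatorElement_def, mul_assoc, mul_assoc, ← mul_assoc z]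
      exact mul_mem hy (Normal.conj_mem inferInstance _ (inv_mem hy) z)
    · have hzA : z ∈ centralizer (A : Set S) := zpowers_le.2 hxA hz
      have h1 : y * z * y⁻¹ ∈ centralizer (A : Set S) :=
        (mem_normalizer_iff.1 (Components.normalizer_le_normalizer_centralizer A
          (hAn (hW t Fact.out hy))) z).1 hzA
      exact mem_centralizer_iff.1 (show ⁅y, z⁆ ∈ centralizer (A : Set S) by
        rw [commutatorElement_def]; exact mul_mem h1 (inv_mem hzA)) b (mem_inf.1 hb).1

theorem piCore_compl_quotient (π : Set ℕ) :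
    Cfsg.piCore πᶜ (S ⧸ Cfsg.piCore πᶜ S) = ⊥ := by
  set N := Cfsg.piCore πᶜ S with hN
  set M := (Cfsg.piCore πᶜ (S ⧸ N)).comap (QuotientGroup.mk' N) with hM
  have hle : M ≤ N := by
    refine le_sSup ⟨inferInstance, fun r hr hd => ?_⟩
    have h1 : Nat.card N * (N.relIndex M) = Nat.card M := by
      rw [← relIndex_bot_left, ← relIndex_bot_left,
        relIndex_mul_relIndex _ _ _ bot_le (fun x hx => by
          show QuotientGroup.mk' N x ∈ Cfsg.piCore πᶜ (S ⧸ N)
          rw [show QuotientGroup.mk' N x = 1 from (QuotientGroup.eq_one_iff x).2 hx]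
          exact one_mem _)]
    rw [← h1] at hd
    rcases hr.dvd_mul.1 hd with h | h
    · exact OddOrder.MinSimple.isPi_piCore _ _ r hr h
    · rw [← QuotientGroup.ker_mk' N, relIndex_ker, hM, map_comap_eq_self_of_surjective (QuotientGroup.mk'_surjective N)] at h
      exact OddOrder.MinSimple.isPi_piCore _ _ r hr h
  show Cfsg.piCore πᶜ (S ⧸ N) = ⊥
  rw [← map_comap_eq_self_of_surjective (QuotientGroup.mk'_surjective N) (Cfsg.piCore πᶜ (S ⧸ N)), Subgroup.map_eq_bot_iff,
    QuotientGroup.ker_mk']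
  exact hle

theorem fitting_le_hall [Group.IsSolvable S] {π : Set ℕ} (hO : Cfsg.piCore πᶜ S = ⊥) {H : Subgroup S}
    (hH : IsPiHall π H) : fittingSubgroup S ≤ H ∧
      fittingSubgroup S ≤ (fittingSubgroup H).map H.subtype := by
  haveI := FittingCores.fitting_normal (G := S)
  haveI := FittingCores.fitting_nilpotent (G := S)
  have hFH : fittingSubgroup S ≤ H := by
    rw [FittingCores.fitting_eq_iSup_pCore]
    refine iSup_le fun r => ?_
    haveI := Fact.mk r.2
    haveI := FittingCores.pCore_normal (G := S) (r : ℕ)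
    by_cases hr : (r : ℕ) ∈ π
    · obtain ⟨k, hk⟩ := (FittingCores.pCore_isPGroup (G := S) (r : ℕ)).exists_card_eq
      have h1 : H.relIndex (pCore (r : ℕ) S) ∣ Nat.card (pCore (r : ℕ) S) := relIndex_dvd_card _ _
      have h2 : H.relIndex (pCore (r : ℕ) S) ∣ H.index := by
        set P := pCore (r : ℕ) S
        have e1 := Cfsg.Agent.SolvBasic.card_sup_mul_card_inf
          (le_normalizer_of_normal : H ≤ normalizer (P : Set S))
        have e2 : Nat.card ↥(P ⊓ H) * H.relIndex P = Nat.card P := by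
          rw [← inf_relIndex_left P H, ← relIndex_bot_left, ← relIndex_bot_left,
            relIndex_mul_relIndex _ _ _ bot_le inf_le_left]
        have e3 := card_subgroup_dvd_card (P ⊔ H)
        have e4 : Nat.card ↥(P ⊔ H) = Nat.card H * H.relIndex P := by
          refine Nat.eq_of_mul_eq_mul_right (Nat.card_pos (α := ↥(P ⊓ H))) ?_
          rw [e1, ← e2]; ring
        rw [e4, ← card_mul_index H] at e3
        exact Nat.dvd_of_mul_dvd_mul_left Nat.card_pos e3
      obtain ⟨j, hj, hje⟩ := (Nat.dvd_prime_pow r.2).1 (hk ▸ h1)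
      rcases Nat.eq_zero_or_pos j with rfl | hj0
      · exact relIndex_eq_one.1 (by rw [hje, pow_zero])
      · exfalso
        refine hH.2 r r.2 hr ((dvd_pow_self (r : ℕ) hj0.ne').trans ?_)
        rw [← hje]
        exact h2
    · have hle : pCore (r : ℕ) S ≤ Cfsg.piCore πᶜ S := le_sSup ⟨inferInstance, fun q hq hd => ?_⟩
      · exact (hle.trans hO.le).trans bot_le
      obtain ⟨k, hk⟩ := (FittingCores.pCore_isPGroup (G := S) (r : ℕ)).exists_card_eq
      rw [hk] at hd
      rwa [Set.mem_compl_iff, (Nat.prime_dvd_prime_iff_eq hq r.2).1 (hq.dvd_of_dvd_pow hd)]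
  refine ⟨hFH, fun x hx => ⟨⟨x, hFH hx⟩, FittingCores.le_fitting normal_subgroupOf
    (Group.nilpotent_of_mulEquiv (subgroupOfEquivOfLe hFH).symm) hx, rfl⟩⟩

theorem main [Group.IsSolvable S] {π : Set ℕ} (h2 : 2 ∉ π) (h3 : 3 ∉ π) {H : Subgroup S}
    (hH : IsPiHall π H) {A : Subgroup S} (hA : IsSCN ((fittingSubgroup H).map H.subtype) A)
    {t : ℕ} [Fact t.Prime] (ht : t ∈ π) {x : S} (hx : IsPGroup t (zpowers x))
    (hxA : x ∈ centralizer (A : Set S)) : x ∈ A := by
  classical
  set N := Cfsg.piCore πᶜ S with hN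
  have hNπ : ∀ r : ℕ, r.Prime → r ∣ Nat.card N → r ∉ π := fun r hr hd =>
    OddOrder.MinSimple.isPi_piCore πᶜ S r hr hd
  let q := QuotientGroup.mk' N
  haveI : Group.IsSolvable (S ⧸ N) := Group.isSolvable_of_surjective (f := q) (QuotientGroup.mk'_surjective _)
  have hco : ∀ m : ℕ, (∀ r : ℕ, r.Prime → r ∣ m → r ∈ π) → m.Coprime (Nat.card N) := fun m hm =>
    Nat.coprime_of_dvd fun r hr h1 h2 => hNπ r hr h2 (hm r hr h1)
  have hinj : ∀ h ∈ H, q h = 1 → h = 1 := fun h hh h1 => by
    have hd1 : orderOf h ∣ Nat.card H := Subgroup.orderOf_dvd_natCard H hh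
    have hd2 : orderOf h ∣ Nat.card N := Subgroup.orderOf_dvd_natCard N ((QuotientGroup.eq_one_iff h).1 h1)
    exact orderOf_eq_one_iff.1 (Nat.eq_one_of_dvd_coprimes (hco _ hH.1) hd1 hd2)
  let e : ↥H ≃* ↥(H.map q) := MulEquiv.ofBijective (q.subgroupMap H) ⟨by
    rw [← MonoidHom.ker_eq_bot_iff, eq_bot_iff]
    exact fun h hh => mem_bot.2 (Subtype.ext (hinj h h.2 (congrArg Subtype.val hh))),
    q.subgroupMap_surjective H⟩
  set W := (fittingSubgroup H).map H.subtype with hW
  have hWb : (fittingSubgroup ↥(H.map q)).map (H.map q).subtype = W.map q := by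
    rw [← FittingCores.fitting_map_equiv e, hW, map_map, map_map]
    rfl
  have hHb : IsPiHall π (H.map q) :=
    ⟨fun r hr hd => hH.1 r hr (hd.trans (card_map_dvd _ _)),
      fun r hr hrπ hd => hH.2 r hr hrπ (hd.trans (index_map_dvd _ (QuotientGroup.mk'_surjective _)))⟩
  have hO := piCore_compl_quotient (S := S) π
  obtain ⟨-, hF⟩ := fitting_le_hall hO hHb
  rw [hWb] at hF
  haveI := FittingCores.fitting_nilpotent (G := H)
  haveI : Group.IsNilpotent W := Components.isNilpotent_map _ _
  haveI : Group.IsNilpotent (W.map q) := Components.isNilpotent_map _ _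
  have hWH : W ≤ H := map_subtype_le _
  have hAW := hA.1
  have hscn : IsSCN (W.map q) (A.map q) := by
    refine ⟨map_mono hAW, (map_mono hA.2.1).trans (le_normalizer_map q), le_antisymm ?_ ?_⟩
    · rintro y hy
      obtain ⟨⟨w, hw, rfl⟩, hc⟩ := mem_inf.1 hy
      refine mem_map_of_mem q (hA.2.2.le (mem_inf.2 ⟨hw, mem_centralizer_iff.2 fun a ha => ?_⟩))
      have h1 : q (a * w * (w * a)⁻¹) = 1 := by
        rw [map_mul, map_inv, map_mul, map_mul,
          mem_centralizer_iff.1 hc (q a) (mem_map_of_mem q ha), mul_inv_cancel]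
      exact mul_inv_eq_one.1 (hinj _ (mul_mem (mul_mem (hWH (hAW ha)) (hWH hw))
        (inv_mem (mul_mem (hWH hw) (hWH (hAW ha))))) h1)
    · refine le_inf (map_mono hAW) ?_
      rintro _ ⟨a, ha, rfl⟩
      refine mem_centralizer_iff.2 ?_
      rintro _ ⟨b, hb, rfl⟩
      rw [← map_mul, ← map_mul, mem_centralizer_iff.1 (mem_inf.1 (hA.2.2.ge ha)).2 b hb]
  have hres := mem_of_core_trivial h2 h3 hO (W := W.map q) (A := A.map q) hF
    (fun r hr hd => hH.1 r hr ((hd.trans (card_map_dvd _ _)).trans (card_dvd_of_le hWH)))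
    hscn ht (x := q x) (by rw [← MonoidHom.map_zpowers]; exact hx.map q)
    (by
      refine mem_centralizer_iff.2 ?_
      rintro _ ⟨a, ha, rfl⟩
      rw [← map_mul, ← map_mul, mem_centralizer_iff.1 hxA a ha])
  obtain ⟨a, ha, hax⟩ := hres
  have h1 : a⁻¹ * x ∈ N := QuotientGroup.eq.1 hax
  have hc : Commute a⁻¹ x := ((show Commute a x from mem_centralizer_iff.1 hxA a ha).inv_left)
  have hd : orderOf (a⁻¹ * x) ∣ Nat.lcm (orderOf a⁻¹) (orderOf x) := hc.orderOf_mul_dvd_lcm
  have hπ : ∀ r : ℕ, r.Prime → r ∣ orderOf (a⁻¹ * x) → r ∈ π := by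
    intro r hr hd'
    rcases hr.dvd_mul.1 ((hd'.trans hd).trans (Nat.lcm_dvd_mul _ _)) with h | h
    · rw [orderOf_inv] at h
      exact hH.1 r hr (h.trans (Subgroup.orderOf_dvd_natCard H (hWH (hAW ha))))
    · obtain ⟨k, hk⟩ := IsPGroup.iff_orderOf.mp hx ⟨x, mem_zpowers x⟩
      rw [orderOf_mk] at hk
      rw [hk] at h
      rwa [(Nat.prime_dvd_prime_iff_eq hr Fact.out).1 (hr.dvd_of_dvd_pow h)]
  have h2' : a⁻¹ * x = 1 := orderOf_eq_one_iff.1
    (Nat.eq_one_of_dvd_coprimes (hco _ hπ) dvd_rfl (Subgroup.orderOf_dvd_natCard N h1))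
  rwa [← inv_mul_eq_one.1 h2']

end Cfsg.Agent.ScnCentralizer
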