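import Cfsg.Agent.Lib.Solvable.Structure
import Cfsg.Agent.Lib.Solvable.Hall
import Cfsg.Agent.Lib.Char.Burnside

/-!
Solvability criteria: factorizations, Hall complements, Sylow systems.
-/

namespace Cfsg.Agent.SolvCriteria

open scoped Pointwise
open Cfsg.Agent.SolvBasic

/-- If `G = H₁H₂ = H₁H₃` with solvable factors and coprime indices of `H₂`, `H₃`, then `G` is
solvable. -/
theorem solvable_of_factor {G : Type*} [Group G] [Finite G] (H₁ H₂ H₃ : Subgroup G)
    (h₁ : Group.IsSolvable H₁) (h₂ : Group.IsSolvable H₂) (h₃ : Group.IsSolvable H₃)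
    (h12 : ∀ g : G, ∃ x ∈ H₁, ∃ y ∈ H₂, g = x * y) (h13 : ∀ g : G, ∃ x ∈ H₁, ∃ y ∈ H₃, g = x * y)
    (hcop : H₂.index.Coprime H₃.index) : Group.IsSolvable G := by
  induction hc : Nat.card G using Nat.strong_induction_on generalizing G with
  | _ n ih =>
  subst hc
  by_cases hb : H₁ = ⊥
  · have htop : H₂ = ⊤ := eq_top_iff.2 fun g _ => by
      obtain ⟨x, hx, y, hy, rfl⟩ := h12 g
      rw [hb, Subgroup.mem_bot] at hx
      rwa [hx, one_mul]
    exact Group.isSolvable_of_surjective (f := H₂.subtype) fun g =>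
      ⟨⟨g, htop ▸ Subgroup.mem_top g⟩, rfl⟩
  have hnb : (⊤ : Subgroup H₁) ≠ ⊥ := fun h => hb (by
    rw [← H₁.range_subtype, MonoidHom.range_eq_map, h, Subgroup.map_bot])
  have : Group.IsSolvable (⊤ : Subgroup H₁) := inferInstance
  obtain ⟨A, p, hp, hAn, hA, -, -, -, hAp, -⟩ :=
    exists_minimal_normal_abelian (inferInstance : (⊤ : Subgroup H₁).Normal) hnb
  have := Fact.mk hp
  set A' := A.map H₁.subtype with hA'
  have hA'ne : A' ≠ ⊥ := fun h =>
    hA ((Subgroup.map_eq_bot_iff_of_injective _ H₁.subtype_injective).1 h)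
  -- one of `H₂`, `H₃` has index prime to `p`
  obtain ⟨B, hBs, hB, hpB⟩ : ∃ B : Subgroup G, Group.IsSolvable B ∧
      (∀ g : G, ∃ x ∈ H₁, ∃ y ∈ B, g = x * y) ∧ ¬ p ∣ B.index := by
    by_cases h : p ∣ H₂.index
    · exact ⟨H₃, h₃, h13, fun h' => hp.not_dvd_one (hcop ▸ Nat.dvd_gcd h h')⟩
    · exact ⟨H₂, h₂, h12, h⟩
  have hAB : A' ≤ B := by
    obtain ⟨Q⟩ := (inferInstance : Nonempty (Sylow p B))
    have hQ : ¬ p ∣ ((Q : Subgroup B).map B.subtype).index := by
      rw [Subgroup.index_map_subtype]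
      exact hp.not_dvd_mul Q.not_dvd_index hpB
    set R : Sylow p G := (Q.isPGroup'.map B.subtype).toSylow hQ with hR
    obtain ⟨R₁, hR₁⟩ := (hAp.map H₁.subtype).exists_le_sylow
    obtain ⟨g, hg⟩ := MulAction.exists_smul_eq G R R₁
    obtain ⟨x, hx, y, hy, rfl⟩ := hB g
    intro a ha
    have h1 : x * a * x⁻¹ ∈ A' := by
      obtain ⟨a', ha', rfl⟩ := ha
      exact ⟨⟨x, hx⟩ * a' * ⟨x, hx⟩⁻¹, hAn.conj_mem a' ha' _, rfl⟩
    have h2 := hR₁ h1
    rw [← hg, Sylow.coe_subgroup_smul, mem_conjSmul] at h2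
    have h3 : (x * y)⁻¹ * (x * a * x⁻¹) * (x * y) ∈ B := Subgroup.map_subtype_le _ h2
    have : a = y * ((x * y)⁻¹ * (x * a * x⁻¹) * (x * y)) * y⁻¹ := by simp [mul_assoc]
    rw [this]
    exact mul_mem (mul_mem hy h3) (inv_mem hy)
  set N := Subgroup.normalClosure (A' : Set G) with hN
  have hNB : N ≤ B := by
    rw [hN, Subgroup.normalClosure, Subgroup.closure_le]
    intro z hz
    rw [Group.mem_conjugatesOfSet_iff] at hz
    obtain ⟨a, ha, hcj⟩ := hz
    obtain ⟨g, rfl⟩ := isConj_iff.1 hcj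
    obtain ⟨y, hy, x, hx, rfl⟩ := SolvStruct.mul_comm_of_mul hB g
    have h1 : x * a * x⁻¹ ∈ A' := by
      obtain ⟨a', ha', rfl⟩ := ha
      exact ⟨⟨x, hx⟩ * a' * ⟨x, hx⟩⁻¹, hAn.conj_mem a' ha' _, rfl⟩
    have : y * x * a * (y * x)⁻¹ = y * (x * a * x⁻¹) * y⁻¹ := by simp [mul_assoc]
    rw [SetLike.mem_coe, this]
    exact mul_mem (mul_mem hy (hAB h1)) (inv_mem hy)
  have hNn : N.Normal := Subgroup.normalClosure_normal
  have hNne : N ≠ ⊥ := fun h => hA'ne (le_bot_iff.1 (h ▸ Subgroup.le_normalClosure))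
  have hlt : Nat.card (G ⧸ N) < Nat.card G := by
    rw [← Subgroup.index_eq_card, ← N.card_mul_index]
    exact lt_mul_left (Nat.pos_of_ne_zero Subgroup.index_ne_zero_of_finite)
      (N.one_lt_card_iff_ne_bot.2 hNne)
  have hsm : ∀ X : Subgroup G, Group.IsSolvable X →
      Group.IsSolvable (X.map (QuotientGroup.mk' N)) := fun X hX =>
    Group.isSolvable_of_surjective ((QuotientGroup.mk' N).subgroupMap_surjective X)
  have hmul : ∀ X : Subgroup G, (∀ g : G, ∃ x ∈ H₁, ∃ y ∈ X, g = x * y) →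
      ∀ q : G ⧸ N, ∃ x ∈ H₁.map (QuotientGroup.mk' N), ∃ y ∈ X.map (QuotientGroup.mk' N),
        q = x * y := by
    intro X hX q
    obtain ⟨g, rfl⟩ := QuotientGroup.mk'_surjective N q
    obtain ⟨x, hx, y, hy, rfl⟩ := hX g
    exact ⟨_, Subgroup.mem_map_of_mem _ hx, _, Subgroup.mem_map_of_mem _ hy, map_mul _ _ _⟩
  have hq := ih _ hlt (H₁.map (QuotientGroup.mk' N)) (H₂.map (QuotientGroup.mk' N))
    (H₃.map (QuotientGroup.mk' N)) (hsm _ h₁) (hsm _ h₂) (hsm _ h₃) (hmul _ h12) (hmul _ h13)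
    ((hcop.coprime_dvd_left (Subgroup.index_map_dvd _ (QuotientGroup.mk'_surjective N))).coprime_dvd_right
      (Subgroup.index_map_dvd _ (QuotientGroup.mk'_surjective N))) rfl
  exact (Group.isSolvable_iff_subgroup_quotient N).2 ⟨isSolvable_of_le hNB, hq⟩

/-- Three solvable subgroups whose indices are powers of distinct primes. -/
theorem solvable_of_three {G : Type*} [Group G] [Finite G] {H₁ H₂ H₃ : Subgroup G}
    (h₁ : Group.IsSolvable H₁) (h₂ : Group.IsSolvable H₂) (h₃ : Group.IsSolvable H₃)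
    {p q r a b c : ℕ} (hp : p.Prime) (hq : q.Prime) (hr : r.Prime) (hpq : p ≠ q) (hpr : p ≠ r)
    (hqr : q ≠ r) (e₁ : H₁.index = p ^ a) (e₂ : H₂.index = q ^ b) (e₃ : H₃.index = r ^ c) :
    Group.IsSolvable G :=
  solvable_of_factor H₁ H₂ H₃ h₁ h₂ h₃
    (HallSolv.exists_mul_of_coprime_index
      (e₁ ▸ e₂ ▸ Nat.Coprime.pow a b ((Nat.coprime_primes hp hq).2 hpq)))
    (HallSolv.exists_mul_of_coprime_index
      (e₁ ▸ e₃ ▸ Nat.Coprime.pow a c ((Nat.coprime_primes hp hr).2 hpr)))
    (e₂ ▸ e₃ ▸ Nat.Coprime.pow b c ((Nat.coprime_primes hq hr).2 hqr))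

/-- Either at most two primes divide `|G|`, making `G` solvable by Burnside, or three primes do. -/
theorem solvable_or_three_primes (G : Type*) [Group G] [Finite G] :
    Group.IsSolvable G ∨ ∃ p q r : ℕ, (p.Prime ∧ q.Prime ∧ r.Prime) ∧ (p ≠ q ∧ p ≠ r ∧ q ≠ r) ∧
      p ∣ Nat.card G ∧ q ∣ Nat.card G ∧ r ∣ Nat.card G := by
  classical
  set S := (Nat.card G).primeFactors with hS
  by_cases h3 : 2 < S.card
  · obtain ⟨p, q, r, hp, hq, hr, hne⟩ := Finset.two_lt_card_iff.1 h3
    obtain ⟨hp', hp'', -⟩ := Nat.mem_primeFactors.1 hp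
    obtain ⟨hq', hq'', -⟩ := Nat.mem_primeFactors.1 hq
    obtain ⟨hr', hr'', -⟩ := Nat.mem_primeFactors.1 hr
    exact Or.inr ⟨p, q, r, ⟨hp', hq', hr'⟩, hne, hp'', hq'', hr''⟩
  · left
    have hG := Nat.prod_primeFactors_pow_factorization (Nat.card_pos (α := G)).ne'
    rcases (show S.card = 0 ∨ S.card = 1 ∨ S.card = 2 by omega) with h | h | h
    · rw [← hS, Finset.card_eq_zero.1 h, Finset.prod_empty] at hG
      exact Char.isSolvable_of_card_pq 2 3 Nat.prime_two Nat.prime_three 1 G hG ⟨0, 0, rfl⟩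
    · obtain ⟨p, hp⟩ := Finset.card_eq_one.1 h
      have hpp := Nat.prime_of_mem_primeFactors (show p ∈ S by rw [hp]; simp)
      rw [← hS, hp, Finset.prod_singleton] at hG
      exact Char.isSolvable_of_card_pq p 2 hpp Nat.prime_two _ G hG
        ⟨(Nat.card G).factorization p, 0, by simp⟩
    · obtain ⟨p, q, hne, hpq⟩ := Finset.card_eq_two.1 h
      have hpp := Nat.prime_of_mem_primeFactors (show p ∈ S by rw [hpq]; simp)
      have hqp := Nat.prime_of_mem_primeFactors (show q ∈ S by rw [hpq]; simp)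
      rw [← hS, hpq, Finset.prod_pair hne] at hG
      exact Char.isSolvable_of_card_pq p q hpp hqp _ G hG ⟨_, _, rfl⟩

/-- The converse of Hall's theorem. -/
theorem solvable_of_hall_complements {G : Type*} [Group G] [Finite G]
    (h : ∀ p : ℕ, p.Prime → ∃ H : Subgroup G, H.index = p ^ (Nat.card G).factorization p) :
    Group.IsSolvable G := by
  induction hc : Nat.card G using Nat.strong_induction_on generalizing G with
  | _ n ih =>
  subst hc
  rcases solvable_or_three_primes G with hs | ⟨p, q, r, ⟨hp, hq, hr⟩, ⟨hpq, hpr, hqr⟩, dp, dq, dr⟩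
  · exact hs
  choose K hK using h
  have key : ∀ (s : ℕ) (hs : s.Prime), s ∣ Nat.card G → Group.IsSolvable (K s hs) := by
    intro s hs hsd
    set H := K s hs with hH
    have hpos : 0 < (Nat.card G).factorization s := hs.factorization_pos_of_dvd Nat.card_pos.ne' hsd
    have hcard : Nat.card H * s ^ (Nat.card G).factorization s = Nat.card G := by
      rw [← hK s hs, Subgroup.card_mul_index]
    have hlt : Nat.card H < Nat.card G :=
      calc Nat.card H < Nat.card H * s ^ (Nat.card G).factorization s :=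
            lt_mul_right Nat.card_pos (Nat.one_lt_pow hpos.ne' hs.one_lt)
        _ = _ := hcard
    have hfac : ∀ t : ℕ, t.Prime → (Nat.card G).factorization t =
        (Nat.card H).factorization t + if t = s then (Nat.card G).factorization s else 0 := by
      intro t ht
      conv_lhs => rw [← hcard]
      rw [Nat.factorization_mul Nat.card_pos.ne' (pow_ne_zero _ hs.ne_zero), Finsupp.add_apply,
        hs.factorization_pow, Finsupp.single_apply]
      congr 1
      simp only [eq_comm]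
    refine ih _ hlt (fun t ht => ?_) rfl
    by_cases hts : t = s
    · refine ⟨⊤, ?_⟩
      have h1 := hfac t ht
      rw [if_pos hts, ← hts] at h1
      rw [show (Nat.card H).factorization t = 0 by omega, pow_zero, Subgroup.index_top]
    · refine ⟨(K t ht).subgroupOf H, ?_⟩
      have h1 := hfac t ht
      rw [if_neg hts, add_zero] at h1
      rw [← h1, ← hK t ht]
      change (K t ht).relIndex H = _
      exact (SolvStruct.index_eq_relIndex_of_mul (HallSolv.exists_mul_of_coprime_index (by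
        rw [hH, hK s hs, hK t ht]
        exact Nat.Coprime.pow _ _ ((Nat.coprime_primes hs ht).2 (Ne.symm hts))))).symm
  exact solvable_of_three (key p hp dp) (key q hq dq) (key r hr dr) hp hq hr hpq hpr hqr
    (hK p hp) (hK q hq) (hK r hr)

variable {G : Type*} [Group G]

/-- The join of two permuting subgroups is their product set. -/
theorem coe_sup_of_comm {H K : Subgroup G}
    (h : (H : Set G) * (K : Set G) = (K : Set G) * (H : Set G)) :
    ((H ⊔ K : Subgroup G) : Set G) = (H : Set G) * (K : Set G) := by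
  refine le_antisymm ?_ (Set.mul_subset_iff.2 fun a ha b hb =>
    mul_mem (Subgroup.mem_sup_left ha) (Subgroup.mem_sup_right hb))
  let S : Subgroup G :=
    { carrier := (H : Set G) * (K : Set G)
      one_mem' := ⟨1, one_mem H, 1, one_mem K, one_mul 1⟩
      mul_mem' := by
        intro a b ha hb
        have h1 : (H : Set G) * K * ((H : Set G) * K) = (H : Set G) * K := by
          rw [mul_assoc, ← mul_assoc (K : Set G), ← h, mul_assoc (H : Set G) (K : Set G),
            coe_mul_coe, ← mul_assoc, coe_mul_coe]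
        rw [← h1]
        exact Set.mul_mem_mul ha hb
      inv_mem' := by
        rintro _ ⟨x, hx, y, hy, rfl⟩
        rw [h]
        exact ⟨y⁻¹, inv_mem hy, x⁻¹, inv_mem hx, (mul_inv_rev x y).symm⟩ }
  have hle : H ⊔ K ≤ S := sup_le (fun x hx => ⟨x, hx, 1, one_mem K, mul_one x⟩)
    (fun y hy => ⟨1, one_mem H, y, hy, one_mul y⟩)
  exact hle

/-- The order of a product of two permuting subgroups of coprime order. -/
theorem card_sup_of_comm [Finite G] {H K : Subgroup G}
    (h : (H : Set G) * (K : Set G) = (K : Set G) * (H : Set G))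
    (hcop : (Nat.card H).Coprime (Nat.card K)) :
    Nat.card (H ⊔ K : Subgroup G) = Nat.card H * Nat.card K := by
  have hinj : Set.InjOn (fun x : G × G => x.1 * x.2) ((H : Set G) ×ˢ (K : Set G)) := by
    intro x hx y hy hxy
    have h1 : y.1⁻¹ * x.1 = y.2 * x.2⁻¹ := by
      rw [eq_mul_inv_iff_mul_eq, mul_assoc, inv_mul_eq_iff_eq_mul]; exact hxy
    have h2 : y.1⁻¹ * x.1 ∈ H ⊓ K :=
      Subgroup.mem_inf.2 ⟨mul_mem (inv_mem hy.1) hx.1, h1 ▸ mul_mem hy.2 (inv_mem hx.2)⟩
    rw [(Subgroup.disjoint_of_coprime_natCard hcop).eq_bot, Subgroup.mem_bot] at h2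
    have e1 : x.1 = y.1 := (inv_mul_eq_one.1 h2).symm
    exact Prod.ext e1 (by simpa [e1] using hxy)
  calc Nat.card (H ⊔ K : Subgroup G) = ((H ⊔ K : Subgroup G) : Set G).ncard := Nat.card_coe_set_eq _
    _ = ((fun x : G × G => x.1 * x.2) '' ((H : Set G) ×ˢ (K : Set G))).ncard := by
      rw [coe_sup_of_comm h, ← Set.image2_mul, ← Set.image_prod]
    _ = _ := by
      rw [hinj.ncard_image, Set.ncard_prod, ← Nat.card_coe_set_eq, ← Nat.card_coe_set_eq]
      rfl

/-- A finite group with a Sylow system is solvable. -/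
theorem solvable_of_sylowSystem [Finite G] (S : (p : Nat.Primes) → Sylow (p : ℕ) G)
    (hS : ∀ p q : Nat.Primes, (S p : Set G) * (S q : Set G) = (S q : Set G) * (S p : Set G)) :
    Group.IsSolvable G := by
  classical
  refine solvable_of_hall_complements fun s hs => ?_
  have hcS : ∀ q : Nat.Primes,
      Nat.card (S q : Subgroup G) = (q : ℕ) ^ (Nat.card G).factorization q := fun q =>
    haveI := Fact.mk q.2; (S q).card_eq_multiplicity
  have key : ∀ T : Finset Nat.Primes, ∃ P : Subgroup G,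
      Nat.card P = ∏ q ∈ T, (q : ℕ) ^ (Nat.card G).factorization q ∧
      ∀ r : Nat.Primes, (P : Set G) * (S r : Set G) = (S r : Set G) * (P : Set G) := by
    intro T
    induction T using Finset.induction_on with
    | empty => exact ⟨⊥, by simp, fun r => by simp⟩
    | @insert a T ha ih =>
      obtain ⟨P, hP, hPc⟩ := ih
      refine ⟨(S a : Subgroup G) ⊔ P, ?_, fun r => ?_⟩
      · rw [card_sup_of_comm (hPc a).symm, hcS, hP, Finset.prod_insert ha]
        rw [hcS, hP]
        refine Nat.Coprime.prod_right fun x hx => Nat.Coprime.pow _ _ ?_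
        exact (Nat.coprime_primes a.2 x.2).2 fun e => ha (Subtype.ext e ▸ hx)
      · rw [coe_sup_of_comm (hPc a).symm]
        have h2 := hPc r
        have h3 := hS a r
        calc ((S a : Subgroup G) : Set G) * (P : Set G) * (S r : Set G)
            = (S a : Set G) * ((P : Set G) * (S r : Set G)) := mul_assoc _ _ _
          _ = (S a : Set G) * ((S r : Set G) * (P : Set G)) := by rw [h2]
          _ = (S a : Set G) * (S r : Set G) * (P : Set G) := (mul_assoc _ _ _).symm
          _ = (S r : Set G) * (S a : Set G) * (P : Set G) := by rw [h3]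
          _ = _ := mul_assoc _ _ _
  obtain ⟨sp, rfl⟩ : ∃ sp : Nat.Primes, (sp : ℕ) = s := ⟨⟨s, hs⟩, rfl⟩
  obtain ⟨P, hP, -⟩ := key ((HallSolv.primeSet (Nat.card G)).erase sp)
  refine ⟨P, ?_⟩
  have h1 := P.card_mul_index
  have hn : Nat.card G ≠ 0 := Nat.card_pos.ne'
  by_cases hmem : sp ∈ HallSolv.primeSet (Nat.card G)
  · conv_rhs at h1 => rw [← HallSolv.prod_primeSet hn, ← Finset.prod_erase_mul _ _ hmem]
    rw [hP] at h1
    exact Nat.eq_of_mul_eq_mul_left (Finset.prod_pos fun x _ => pow_pos x.2.pos _) h1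
  · have h0 := HallSolv.factorization_eq_zero_of_notMem_primeSet hn hmem
    rw [hP, Finset.erase_eq_of_notMem hmem, HallSolv.prod_primeSet hn] at h1
    rw [h0, pow_zero]
    exact (mul_eq_left₀ hn).1 h1

end Cfsg.Agent.SolvCriteria
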