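import Mathlib

/-! Linear algebra for the theorem B of Hall and Higman. -/

set_option autoImplicit false

open Module

namespace Cfsg.Agent.HHLinear

variable {K : Type*} [Field K] {V : Type*} [AddCommGroup V] [Module K V]

/-- Nonzero common eigenvectors with pairwise different systems of eigenvalues are independent. -/
theorem linearIndependent_of_eigen {ι M U : Type*} [AddCommGroup M] [Module K M] (T : U → Module.End K M)
    (v : ι → M) (hv : ∀ i, v i ≠ 0) (χ : ι → U → K) (h : ∀ i u, T u (v i) = χ i u • v i)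
    (hχ : Function.Injective χ) : LinearIndependent K v := by
  classical
  rw [linearIndependent_iff']
  intro s
  induction s using Finset.induction with
  | empty => simp
  | @insert a s ha ih =>
    intro c hc
    have key : ∀ i ∈ s, c i = 0 := by
      intro i hi
      obtain ⟨u, hu⟩ := Function.ne_iff.1 (fun he => (ne_of_mem_of_not_mem hi ha) (hχ he) :
        χ i ≠ χ a)
      have h1 : T u (∑ j ∈ insert a s, c j • v j) - χ a u • (∑ j ∈ insert a s, c j • v j) = 0 := by
        rw [hc]; simp
      rw [map_sum, Finset.smul_sum, ← Finset.sum_sub_distrib, Finset.sum_insert ha] at h1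
      simp only [map_smul, h, smul_comm (χ a u), sub_self, zero_add, ← smul_sub, ← sub_smul] at h1
      have h2 := ih (fun j => c j * (χ j u - χ a u)) (by simpa [mul_smul] using h1) i hi
      exact (mul_eq_zero.1 h2).resolve_right (sub_ne_zero.2 hu)
    rw [Finset.sum_insert ha, Finset.sum_eq_zero (fun i hi => by rw [key i hi, zero_smul]),
      add_zero] at hc
    intro i hi
    rcases Finset.mem_insert.1 hi with rfl | hi
    · exact (smul_eq_zero.1 hc).resolve_right (hv i)
    · exact key i hi

theorem sub_one_pow_pred {p : ℕ} [hp : Fact p.Prime] [CharP K p] {A : Type*} [Ring A]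
    [Algebra K A] (a : A) (n : ℕ) :
    (a - 1) ^ (p ^ n - 1) = ∑ i ∈ Finset.range (p ^ n), a ^ i := by
  have h : ((Polynomial.X : Polynomial K) - 1) ^ (p ^ n - 1) =
      ∑ i ∈ Finset.range (p ^ n), Polynomial.X ^ i := by
    have hne : (Polynomial.X : Polynomial K) - 1 ≠ 0 := Polynomial.X_sub_C_ne_zero 1
    refine mul_right_cancel₀ hne ?_
    rw [geom_sum_mul, ← pow_succ, Nat.sub_add_cancel (Nat.one_le_pow n p hp.out.pos),
      sub_pow_char_pow, one_pow]
  simpa using congrArg (Polynomial.aeval a) h

/-- Amplification along an orbit of independent subspaces. -/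
theorem sub_one_pow_amplify {p : ℕ} [hp : Fact p.Prime] [CharP K p] (X : Module.End K V) (k m : ℕ)
    (Us : Submodule K V) (hstab : ∀ v ∈ Us, (X ^ p ^ k) v ∈ Us)
    (hind : ∀ w ∈ Us, w ≠ 0 → ∑ i ∈ Finset.range (p ^ k), (X ^ i) w ≠ 0)
    (v : V) (hv : v ∈ Us) (hm : ((X ^ p ^ k - 1) ^ m) v ≠ 0) :
    ((X - 1) ^ (p ^ k * m + (p ^ k - 1))) v ≠ 0 := by
  have hcharEnd : ((X - 1) ^ p ^ k) = X ^ p ^ k - 1 := by
    have h : ((Polynomial.X : Polynomial K) - 1) ^ p ^ k = Polynomial.X ^ p ^ k - 1 := by
      rw [sub_pow_char_pow, one_pow]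
    simpa using congrArg (Polynomial.aeval X) h
  have hw : ((X ^ p ^ k - 1) ^ m) v ∈ Us := by
    clear hm
    induction m with
    | zero => simpa using hv
    | succ m ih =>
      rw [pow_succ', Module.End.mul_apply, LinearMap.sub_apply, Module.End.one_apply]
      exact Us.sub_mem (hstab _ ih) ih
  have := hind _ hw hm
  rw [pow_add, pow_mul, hcharEnd, sub_one_pow_pred (K := K)]
  rw [← ((Commute.refl X).pow_left (p ^ k) |>.sub_left (Commute.one_left X) |>.pow_left m |> fun h =>
    (Commute.sum_right (Finset.range (p ^ k)) (fun i => X ^ i) _ fun i _ => h.pow_right i).eq.symm)]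
  simpa [LinearMap.sum_apply] using this

/-- An operator with `T ^ p ^ n = 1` fixes a nonzero vector of each nonzero invariant subspace. -/
theorem exists_fixed {p : ℕ} [hp : Fact p.Prime] [CharP K p] (T : Module.End K V) (n : ℕ)
    (hT : T ^ p ^ n = 1) (U : Submodule K V) (hU : ∀ v ∈ U, T v ∈ U) {v : V} (hv : v ∈ U)
    (hv0 : v ≠ 0) : ∃ w ∈ U, w ≠ 0 ∧ T w = w := by
  classical
  have hnil : ((T - 1) ^ p ^ n) = 0 := by
    have h : ((Polynomial.X : Polynomial K) - 1) ^ p ^ n = Polynomial.X ^ p ^ n - 1 := by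
      rw [sub_pow_char_pow, one_pow]
    simpa [hT] using congrArg (Polynomial.aeval T) h
  have hex : ∃ j : ℕ, ((T - 1 : Module.End K V) ^ j) v = 0 := ⟨p ^ n, by rw [hnil]; rfl⟩
  obtain ⟨j, hj⟩ := Nat.exists_eq_succ_of_ne_zero (n := Nat.find hex) (fun h => hv0 (by
    simpa [h] using Nat.find_spec hex))
  refine ⟨((T - 1) ^ j) v, ?_, Nat.find_min hex (by omega), ?_⟩
  · clear hj
    induction j with
    | zero => simpa using hv
    | succ j ih =>
      rw [pow_succ', Module.End.mul_apply, LinearMap.sub_apply, Module.End.one_apply]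
      exact U.sub_mem (hU _ ih) ih
  · have h := Nat.find_spec hex
    rw [hj, pow_succ', Module.End.mul_apply, LinearMap.sub_apply, Module.End.one_apply, sub_eq_zero] at h
    exact h

section Block

variable [FiniteDimensional K V]

/-- A unipotent `g` of order dividing `N = p ^ n` whose commutant consists of scalars and traces is a
single Jordan block of size `N - 1` or has a block of full size. -/
theorem single_block {p : ℕ} [hp : Fact p.Prime] [CharP K p] (g g' : Module.End K V) (hgg' : g * g' = 1)
    (hg'g : g' * g = 1) (n : ℕ) (hgN : g ^ p ^ n = 1) (hg1 : g ≠ 1)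
    (hfix : ∀ Z : Module.End K V, Commute Z g → ∃ (α : K) (T : Module.End K V),
      Z = α • 1 + ∑ i ∈ Finset.range (p ^ n), g ^ i * T * g' ^ i)
    (hN : (g - 1) ^ (p ^ n - 1) = 0) :
    finrank K V + 1 = p ^ n ∧ (g - 1) ^ (p ^ n - 2) ≠ 0 := by
  classical
  set N := p ^ n with hNdef
  set ν := g - 1 with hν
  have hν0 : ν ≠ 0 := sub_ne_zero.2 hg1
  have hex : ∃ j, ν ^ j = 0 := ⟨_, hN⟩
  set s := Nat.find hex with hsdef
  have hs : ν ^ s = 0 := Nat.find_spec hex
  have hsN : s ≤ N - 1 := Nat.find_le hN
  have hs2 : 2 ≤ s := by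
    by_contra h
    have : s = 0 ∨ s = 1 := by omega
    rcases this with h0 | h0 <;> rw [h0] at hs
    · exact hν0 (by rw [← mul_one ν, show (1 : Module.End K V) = 0 by simpa using hs, mul_zero])
    · exact hν0 (by simpa using hs)
  have hge : ∀ j, s ≤ j → ν ^ j = 0 := fun j hj => by
    rw [← Nat.sub_add_cancel hj, pow_add, hs, mul_zero]
  -- traces in the form `∑ ν^j T c_j`
  have hgc : Commute g' g := by rw [Commute, SemiconjBy, hg'g, hgg']
  set η := g' - 1 with hη
  have hηs : ∀ j, s ≤ j → η ^ j = 0 := fun j hj => by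
    have h1 : η = -(g' * ν) := by rw [hη, hν, mul_sub, hg'g, mul_one, neg_sub]
    have hc : Commute g' ν := hgc.sub_right (Commute.one_right _)
    rw [h1, neg_pow, hc.mul_pow, hge j hj, mul_zero, mul_zero]
  have htr : ∀ T : Module.End K V, ∑ i ∈ Finset.range N, g ^ i * T * g' ^ i =
      ∑ j ∈ Finset.range N, ((N - 1).choose j : Module.End K V) *
        (ν ^ j * (T * (g' ^ j * η ^ (N - 1 - j)))) := by
    intro T
    set L := LinearMap.mulLeft K g
    set R := LinearMap.mulRight K g'
    have h1 : ∀ i : ℕ, g ^ i * T * g' ^ i = ((L * R) ^ i) T := fun i => by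
      rw [(LinearMap.commute_mulLeft_right g g').mul_pow, LinearMap.pow_mulLeft,
        LinearMap.pow_mulRight, Module.End.mul_apply]
      simp [LinearMap.mulLeft_apply, LinearMap.mulRight_apply, mul_assoc]
    simp_rw [h1]
    rw [← LinearMap.sum_apply, ← sub_one_pow_pred (K := K)]
    have hL : L - 1 = LinearMap.mulLeft K ν := by
      ext Y; simp [L, hν, sub_mul]
    have hR : R - 1 = LinearMap.mulRight K η := by
      ext Y; simp [R, hη, mul_sub]
    have hdec : L * R - 1 = (L - 1) * R + (R - 1) := by rw [sub_mul, one_mul]; abel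
    have hcomm : Commute ((L - 1) * R) (R - 1) := by
      refine Commute.mul_left ?_ ((Commute.refl R).sub_right (Commute.one_right _))
      rw [hL, hR]
      exact LinearMap.commute_mulLeft_right _ _
    rw [hdec, hcomm.add_pow, LinearMap.sum_apply, Nat.sub_add_cancel (Nat.one_le_pow n p hp.out.pos)]
    refine Finset.sum_congr rfl fun j _ => ?_
    rw [← nsmul_eq_mul', LinearMap.smul_apply, ← nsmul_eq_mul]
    congr 1
    rw [Module.End.mul_apply, hR, LinearMap.pow_mulRight, LinearMap.mulRight_apply,
      ((show Commute (L - 1) R by rw [hL]; exact LinearMap.commute_mulLeft_right _ _)).mul_pow,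
      Module.End.mul_apply, LinearMap.pow_mulRight, LinearMap.mulRight_apply, hL,
      LinearMap.pow_mulLeft, LinearMap.mulLeft_apply]
    have hc : Commute (η ^ (N - 1 - j)) (g' ^ j) :=
      ((Commute.refl g').sub_left (Commute.one_left _)).pow_pow _ _
    simp only [mul_assoc]
    rw [hc.eq]
  -- traces map into `im ν^{N-s}` and kill `ker ν`
  have himg : ∀ (T : Module.End K V) (v : V), ∃ w : V,
      (∑ i ∈ Finset.range N, g ^ i * T * g' ^ i) v = (ν ^ (N - s)) w := by
    intro T v
    rw [htr, LinearMap.sum_apply]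
    suffices h : ∀ j ∈ Finset.range N, (((N - 1).choose j : Module.End K V) *
        (ν ^ j * (T * (g' ^ j * η ^ (N - 1 - j))))) v ∈ LinearMap.range (ν ^ (N - s)) by
      obtain ⟨w, hw⟩ := Submodule.sum_mem _ h
      exact ⟨w, hw.symm⟩
    intro j _
    rw [← mul_assoc, Nat.cast_comm, mul_assoc, Module.End.mul_apply]
    by_cases hj : N - s ≤ j
    · rw [← Nat.add_sub_cancel' hj, pow_add, Module.End.mul_apply]
      exact LinearMap.mem_range_self _ _
    · rw [hηs _ (by omega)]
      simp
  have hkill : ∀ (T : Module.End K V) (v : V), ν v = 0 →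
      (∑ i ∈ Finset.range N, g ^ i * T * g' ^ i) v = 0 := by
    intro T v hv
    have hgv : g v = v := by
      rw [hν, LinearMap.sub_apply, Module.End.one_apply, sub_eq_zero] at hv; exact hv
    have hg'v : g' v = v := by
      conv_lhs => rw [← hgv]
      rw [← Module.End.mul_apply, hg'g, Module.End.one_apply]
    have hpow : ∀ i : ℕ, (g' ^ i) v = v := by
      intro i
      induction i with
      | zero => simp
      | succ i ih => rw [pow_succ', Module.End.mul_apply, ih, hg'v]
    have h2 : ∀ i, (g ^ i * T * g' ^ i) v = (g ^ i) (T v) := fun i => by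
      rw [Module.End.mul_apply, hpow, Module.End.mul_apply]
    simp_rw [LinearMap.sum_apply, h2]
    rw [← LinearMap.sum_apply, ← sub_one_pow_pred (K := K), hge (N - 1) hsN]
    rfl
  obtain ⟨u, hu⟩ : ∃ u, (ν ^ (s - 1)) u ≠ 0 := by
    by_contra h
    push Not at h
    exact Nat.find_min hex (show s - 1 < s by omega) (LinearMap.ext h)
  set e := (ν ^ (s - 1)) u with he
  have hνe : ν e = 0 := by
    rw [he, ← Module.End.mul_apply, ← pow_succ', hge _ (by omega)]; rfl
  -- the kernel of `ν` is the line through `e`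
  obtain ⟨lam, hlam⟩ := Projective.exists_dual_eq_one K hu
  let π : Module.End K V :=
    ∑ i ∈ Finset.range s, (lam ∘ₗ ν ^ (s - 1 - i)).smulRight ((ν ^ i) u)
  have hπ : ∀ w, π w = ∑ i ∈ Finset.range s, lam ((ν ^ (s - 1 - i)) w) • (ν ^ i) u := fun w => by
    simp [π, LinearMap.sum_apply]
  have hπν : Commute π g := by
    have h : π * ν = ν * π := by
      refine LinearMap.ext fun w => ?_
      rw [Module.End.mul_apply, Module.End.mul_apply, hπ, hπ, map_sum]
      obtain ⟨s', hs'⟩ : ∃ s', s = s' + 1 := ⟨s - 1, by omega⟩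
      rw [hs', Finset.sum_range_succ', Finset.sum_range_succ]
      congr 1
      · refine Finset.sum_congr rfl fun i hi => ?_
        rw [Finset.mem_range] at hi
        rw [map_smul, ← Module.End.mul_apply, ← pow_succ, ← Module.End.mul_apply (ν) (ν ^ i),
          ← pow_succ', show s' + 1 - 1 - (i + 1) + 1 = s' + 1 - 1 - i by omega]
      · rw [← Module.End.mul_apply, ← pow_succ, hge _ (by omega), map_smul,
          ← Module.End.mul_apply (ν) (ν ^ s'), ← pow_succ', hge (s' + 1) (by omega)]
        simp
    have : g = ν + 1 := by rw [hν, sub_add_cancel]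
    rw [this]
    exact (show Commute π ν from h).add_right (Commute.one_right _)
  have hπker : ∀ w, ν w = 0 → π w = lam w • e := by
    intro w hw
    rw [hπ, Finset.sum_eq_single (s - 1)]
    · simp [he]
    · intro i hi hne
      rw [Finset.mem_range] at hi
      rw [← Nat.sub_add_cancel (show 1 ≤ s - 1 - i by omega), pow_succ, Module.End.mul_apply, hw]
      simp
    · intro h; simp at h; omega
  obtain ⟨α, T, hπdec⟩ := hfix π hπν
  have hline : ∀ w, ν w = 0 → lam w • e = α • w := fun w hw => by
    rw [← hπker w hw, hπdec, LinearMap.add_apply, hkill T w hw, LinearMap.smul_apply,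
      Module.End.one_apply, add_zero]
  have hα : α = 1 := by
    have := hline e hνe
    rw [he, hlam, one_smul] at this
    exact (smul_left_injective K hu (show (1 : K) • e = α • e by rw [one_smul]; exact this)).symm
  have hker : ∀ w, ν w = 0 → ∃ t : K, w = t • e := fun w hw => ⟨lam w, by
    rw [hline w hw, hα, one_smul]⟩
  -- the dimension is `s`
  have hspan : ∀ j ≤ s, ∀ w, (ν ^ j) w = 0 →
      w ∈ Submodule.span K (Set.range fun i : Fin s => (ν ^ (i : ℕ)) u) := by
    intro j
    induction j with
    | zero => intro _ w hw; simp at hw; simp [hw]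
    | succ j ih =>
      intro hj w hw
      rw [pow_succ', Module.End.mul_apply] at hw
      obtain ⟨t, ht⟩ := hker _ hw
      have h1 : (ν ^ j) (w - t • (ν ^ (s - 1 - j)) u) = 0 := by
        rw [map_sub, map_smul, ← Module.End.mul_apply (ν ^ j), ← pow_add,
          show j + (s - 1 - j) = s - 1 by omega, ← he, ht, sub_self]
      have h2 := ih (by omega) _ h1
      have h3 : t • (ν ^ (s - 1 - j)) u ∈
          Submodule.span K (Set.range fun i : Fin s => (ν ^ (i : ℕ)) u) :=
        Submodule.smul_mem _ _ (Submodule.subset_span ⟨⟨s - 1 - j, by omega⟩, rfl⟩)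
      simpa using Submodule.add_mem _ h2 h3
  have hdim_le : finrank K V ≤ s := by
    have htop : Submodule.span K (Set.range fun i : Fin s => (ν ^ (i : ℕ)) u) = ⊤ :=
      eq_top_iff.2 fun w _ => hspan s le_rfl w (by rw [hs]; rfl)
    have := finrank_range_le_card (R := K) fun i : Fin s => (ν ^ (i : ℕ)) u
    rw [Set.finrank, htop, finrank_top, Fintype.card_fin] at this
    exact this
  have hle_dim : s ≤ finrank K V := by
    refine Nat.find_le ?_
    have h := Module.End.ker_pow_le_ker_pow_finrank ν s
    rw [hs, LinearMap.ker_zero, top_le_iff, LinearMap.ker_eq_top] at h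
    exact h
  -- `N - s ≤ 1`
  have hNs : N - s ≤ 1 := by
    by_contra h
    obtain ⟨β, T', hdec⟩ := hfix ν ((Commute.refl g).sub_left (Commute.one_left _))
    have hβ : β = 0 := by
      have := congrArg (fun F : Module.End K V => F e) hdec
      simp only [LinearMap.add_apply, hkill T' e hνe, LinearMap.smul_apply, Module.End.one_apply,
        hνe, add_zero] at this
      exact (smul_eq_zero.1 this.symm).resolve_right hu
    obtain ⟨w, hw⟩ := himg T' u
    have : ν u = (ν ^ (N - s)) w := by
      have h' := congrArg (fun F : Module.End K V => F u) hdec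
      simp only [LinearMap.add_apply, hβ, zero_smul, zero_add, hw] at h'
      exact h'
    apply hu
    rw [he, show s - 1 = (s - 2) + 1 by omega, pow_succ, Module.End.mul_apply, this,
      ← Module.End.mul_apply, ← pow_add, hge _ (by omega)]
    rfl
  refine ⟨by omega, fun h => ?_⟩
  exact Nat.find_min hex (show N - 2 < s by omega) h

end Block

section Burnside

variable [FiniteDimensional K V] [IsAlgClosed K] {Q : Type*} [Group Q]

/-- Burnside: the image of an irreducible representation spans all endomorphisms; and Schur. -/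
theorem span_eq_top_and_schur (ρ : Q →* Module.End K V) [Nontrivial V]
    (hirr : ∀ U : Submodule K V, (∀ t, ∀ v ∈ U, ρ t v ∈ U) → U = ⊥ ∨ U = ⊤) :
    Submodule.span K (Set.range ρ) = ⊤ ∧
      ∀ f : Module.End K V, (∀ t, Commute f (ρ t)) → ∃ c : K, f = c • 1 := by
  classical
  set A := Algebra.adjoin K (Set.range ρ) with hA
  have hspan : Subalgebra.toSubmodule A = Submodule.span K (Set.range ρ) := by
    rw [hA, Algebra.adjoin_eq_span]
    congr 1
    rw [← MonoidHom.coe_mrange, Submonoid.closure_eq]
  have : IsScalarTower K A V := ⟨fun c a v => by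
    change ((c • a : A) : Module.End K V) v = c • ((a : Module.End K V) v)
    rfl⟩
  have : IsSimpleModule A V := isSimpleModule_iff _ _ |>.2
    { toNontrivial := ⟨⊥, ⊤, fun h => by
        obtain ⟨v, hv⟩ := exists_ne (0 : V)
        exact hv ((Submodule.mem_bot A).1 (h ▸ Submodule.mem_top))⟩
      eq_bot_or_eq_top := fun U => by
        rcases hirr (U.restrictScalars K) (fun t v hv =>
          U.smul_mem ⟨ρ t, Algebra.subset_adjoin ⟨t, rfl⟩⟩ hv) with h | h
        · exact Or.inl ((Submodule.restrictScalars_eq_bot_iff K A V).1 h)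
        · exact Or.inr ((Submodule.restrictScalars_eq_top_iff K A V).1 h) }
  have hschur := IsSimpleModule.algebraMap_end_bijective_of_isAlgClosed (A := A) (V := V) K
  have hsc : ∀ f : Module.End K V, (∀ t, Commute f (ρ t)) → ∃ c : K, f = c • 1 := by
    intro f hf
    have hcom : ∀ a ∈ A, Commute f a := fun a ha =>
      Algebra.adjoin_induction (p := fun a _ => Commute f a) (fun x hx => by obtain ⟨t, rfl⟩ := hx; exact hf t)
        (fun r => (Algebra.commutes r f).symm) (fun _ _ _ _ h1 h2 => h1.add_right h2)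
        (fun _ _ _ _ h1 h2 => h1.mul_right h2) ha
    let φ : Module.End A V :=
      { toFun := f
        map_add' := map_add f
        map_smul' := fun a v => by
          change f ((a : Module.End K V) v) = (a : Module.End K V) (f v)
          exact congrArg (fun F : Module.End K V => F v) (hcom a a.2).eq }
    obtain ⟨c, hc⟩ := hschur.2 φ
    refine ⟨c, LinearMap.ext fun v => ?_⟩
    exact (congrArg (fun F : Module.End A V => F v) hc).symm
  refine ⟨?_, hsc⟩
  rw [← hspan, eq_top_iff]
  intro f _
  let F : Module.End (Module.End A V) V :=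
    { toFun := f
      map_add' := map_add f
      map_smul' := fun φ v => by
        obtain ⟨c, rfl⟩ := hschur.2 φ
        change f (c • v) = c • f v
        rw [map_smul] }
  let b := Module.finBasis K V
  obtain ⟨r, hr⟩ := jacobson_density F (Finset.univ.image b)
  have hfr : f = (r : Module.End K V) :=
    b.ext fun i => hr (b i) (Finset.mem_image_of_mem _ (Finset.mem_univ i))
  rw [hfr]
  exact r.2

end Burnside

section Maschke

variable [FiniteDimensional K V] {Q : Type*} [Group Q] [Finite Q]

theorem exists_complement (ρ : Q →* Module.End K V) (hQ : (Nat.card Q : K) ≠ 0) (F : Submodule K V)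
    (hF : ∀ t, ∀ v ∈ F, ρ t v ∈ F) :
    ∃ U : Submodule K V, IsCompl F U ∧ ∀ t, ∀ v ∈ U, ρ t v ∈ U := by
  classical
  have : Fintype Q := Fintype.ofFinite Q
  obtain ⟨U₀, hU₀⟩ := Submodule.exists_isCompl F
  let π₀ : Module.End K V := F.subtype ∘ₗ F.projectionOnto U₀ hU₀
  let π : Module.End K V := (Nat.card Q : K)⁻¹ • ∑ t, ρ t * π₀ * ρ t⁻¹
  have hπ0 : ∀ v, π₀ v ∈ F := fun v => Subtype.prop _
  have hπ0F : ∀ v ∈ F, π₀ v = v := fun v hv => by
    simp [π₀, Submodule.projectionOnto_apply_left hU₀ ⟨v, hv⟩]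
  have hinv : ∀ t v, ρ t⁻¹ (ρ t v) = v := fun t v => by
    rw [← Module.End.mul_apply, ← map_mul, inv_mul_cancel, map_one, Module.End.one_apply]
  have hinv' : ∀ t v, ρ t (ρ t⁻¹ v) = v := fun t v => by
    simpa using hinv t⁻¹ v
  have hπF : ∀ v, π v ∈ F := fun v => by
    simp only [π, LinearMap.smul_apply, LinearMap.sum_apply, Module.End.mul_apply]
    exact F.smul_mem _ (F.sum_mem fun t _ => hF t _ (hπ0 _))
  have hπid : ∀ v ∈ F, π v = v := fun v hv => by
    simp only [π, LinearMap.smul_apply, LinearMap.sum_apply, Module.End.mul_apply]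
    rw [Finset.sum_congr rfl fun t _ => by rw [hπ0F _ (hF t⁻¹ v hv), hinv'], Finset.sum_const,
      Finset.card_univ, ← Nat.card_eq_fintype_card, ← Nat.cast_smul_eq_nsmul K, smul_smul,
      inv_mul_cancel₀ hQ, one_smul]
  refine ⟨LinearMap.ker π, ?_, ?_⟩
  · refine ⟨?_, ?_⟩
    · rw [Submodule.disjoint_def]
      intro v hv hk
      rw [LinearMap.mem_ker, hπid v hv] at hk
      exact hk
    · rw [codisjoint_iff, eq_top_iff]
      intro v _
      have h : v - π v ∈ LinearMap.ker π := by
        rw [LinearMap.mem_ker, map_sub, hπid _ (hπF v), sub_self]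
      simpa using Submodule.add_mem_sup (hπF v) h
  · intro s v hv
    rw [LinearMap.mem_ker] at hv ⊢
    have h : π (ρ s v) = ρ s (π v) := by
      simp only [π, LinearMap.smul_apply, LinearMap.sum_apply, Module.End.mul_apply, map_smul, map_sum]
      congr 1
      rw [← Equiv.sum_comp (Equiv.mulLeft s) fun t => ρ t (π₀ (ρ t⁻¹ (ρ s v)))]
      refine Finset.sum_congr rfl fun t _ => ?_
      simp only [Equiv.coe_mulLeft, mul_inv_rev, map_mul, Module.End.mul_apply, hinv]
    rw [h, hv, map_zero]

theorem exists_irreducible (ρ : Q →* Module.End K V) (U : Submodule K V) (hU0 : U ≠ ⊥)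
    (hU : ∀ t, ∀ v ∈ U, ρ t v ∈ U) :
    ∃ W : Submodule K V, W ≤ U ∧ W ≠ ⊥ ∧ (∀ t, ∀ v ∈ W, ρ t v ∈ W) ∧
      ∀ W' ≤ W, (∀ t, ∀ v ∈ W', ρ t v ∈ W') → W' = ⊥ ∨ W' = W := by
  obtain ⟨W, ⟨hWU, hW0, hW⟩, hmin⟩ := WellFounded.has_min (wellFounded_lt (α := Submodule K V))
    {W | W ≤ U ∧ W ≠ ⊥ ∧ ∀ t, ∀ v ∈ W, ρ t v ∈ W} ⟨U, le_rfl, hU0, hU⟩
  refine ⟨W, hWU, hW0, hW, fun W' hle hW' => ?_⟩
  by_cases h0 : W' = ⊥
  · exact Or.inl h0
  · exact Or.inr ((eq_or_lt_of_le hle).resolve_right (hmin W' ⟨hle.trans hWU, h0, hW'⟩))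

end Maschke

end Cfsg.Agent.HHLinear
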