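import Cfsg.Agent.Lib.Solvable.HHCore
import Cfsg.Agent.Lib.Solvable.Coprime
import Cfsg.Agent.Lib.Solvable.Fitting
import Cfsg.Agent.Lib.PLocal.PSolvable

/-! Theorem B of Hall and Higman. -/

set_option autoImplicit false
open scoped Pointwise commutatorElement TensorProduct

open Module

universe u

namespace Cfsg.Agent.HHThmB

variable {H : Type u} [Group H] [Finite H] {p : ℕ} [hp : Fact p.Prime]

theorem centralizer_pPrimeCore_le (hsol : Cfsg.IsPSolvable p H) (hO : Cfsg.pCore p H = ⊥) :
    Subgroup.centralizer (Cfsg.pPrimeCore p H : Set H) ≤ Cfsg.pPrimeCore p H := by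
  set R := Cfsg.pPrimeCore p H with hR
  have hRn : R.Normal := FittingCores.pPrimeCore_normal p
  set f := QuotientGroup.mk' R with hf
  have hfs : Function.Surjective f := QuotientGroup.mk'_surjective R
  set C := Subgroup.centralizer (R : Set H) with hC
  have hCn : C.Normal := inferInstance
  set X := C.map f with hX
  have hXn : X.Normal := hCn.map f hfs
  suffices hX1 : X = ⊥ by rwa [hX, Subgroup.map_eq_bot_iff, hf, QuotientGroup.ker_mk'] at hX1
  by_contra hX1
  have : Nontrivial X := (Subgroup.nontrivial_iff_ne_bot X).2 hX1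
  -- a normal subgroup `M ≠ 1` of `H/R` inside `X`, a `p`-group or a `p'`-group
  obtain ⟨M, hMn, hMX, hM1, hM⟩ : ∃ M : Subgroup (H ⧸ R), M.Normal ∧ M ≤ X ∧ M ≠ ⊥ ∧
      (IsPGroup p M ∨ (Nat.card M).Coprime p) := by
    rcases PSolvable.exists_core_ne_bot (PSolvable.subgroup X (PSolvable.quotient R hsol)) with hc | hc
    · refine ⟨(Cfsg.pCore p X).map X.subtype, FittingCores.normal_map_of_characteristic hXn
        (FittingCores.pCore_characteristic p), Subgroup.map_subtype_le _, fun h => hc ?_,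
        Or.inl ((FittingCores.pCore_isPGroup p).map _)⟩
      exact (Subgroup.map_eq_bot_iff_of_injective _ X.subtype_injective).1 h
    · refine ⟨(Cfsg.pPrimeCore p X).map X.subtype, FittingCores.normal_map_of_characteristic hXn
        (FittingCores.pPrimeCore_characteristic p), Subgroup.map_subtype_le _, fun h => hc ?_,
        Or.inr (by rw [Subgroup.card_map_of_injective X.subtype_injective]
                   exact FittingCores.pPrimeCore_coprime p)⟩
      exact (Subgroup.map_eq_bot_iff_of_injective _ X.subtype_injective).1 h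
  set D := C ⊓ M.comap f with hD
  have hDn : D.Normal := Subgroup.normal_inf_normal _ _
  have hgD : ∀ d : D, f (d : H) ∈ M := fun d => d.2.2
  set g : D →* M := (f.comp D.subtype).codRestrict M hgD with hg
  have hgker : ∀ d, d ∈ g.ker ↔ (d : H) ∈ R := fun d => by
    rw [MonoidHom.mem_ker, Subtype.ext_iff]
    exact QuotientGroup.eq_one_iff (d : H)
  have hcard : Nat.card D ∣ Nat.card R * Nat.card M := by
    rw [← g.ker.card_mul_index, Subgroup.index_ker]
    refine Nat.mul_dvd_mul ?_ (Subgroup.card_subgroup_dvd_card _)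
    exact Subgroup.card_dvd_of_injective (f := (D.subtype.comp g.ker.subtype).codRestrict R
      (fun d => (hgker d.1).1 d.2)) fun a b h => Subtype.ext (Subtype.ext (congrArg (fun t : R => (t : H)) h))
  suffices hDp : (Nat.card D).Coprime p by
    have hDR := FittingCores.le_pPrimeCore hDn hDp
    refine hM1 ((Subgroup.eq_bot_iff_forall M).2 fun m hm => ?_)
    obtain ⟨c, hc, rfl⟩ := hMX hm
    exact (QuotientGroup.eq_one_iff c).2 (hDR ⟨hc, hm⟩)
  rcases hM with hMp | hMp
  swap
  · exact ((FittingCores.pPrimeCore_coprime p).mul_left hMp).coprime_dvd_left hcard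
  have : Group.IsNilpotent M := hMp.isNilpotent
  have hnil : Group.IsNilpotent D := Subgroup.isNilpotent_of_ker_le_center g (fun d hd =>
    Subgroup.mem_center_iff.2 fun e => Subtype.ext
      (Subgroup.mem_centralizer_iff.1 e.2.1 (d : H) ((hgker d).1 hd)).symm)
  obtain ⟨S⟩ : Nonempty (Sylow p D) := inferInstance
  have hSn : (S : Subgroup D).Normal := inferInstance
  have hS1 : (S : Subgroup D) = ⊥ := by
    have hle := FittingCores.le_pCore_of_isSubnormal (p := p)
      (H := (S : Subgroup D).map D.subtype) ?_ (S.isPGroup'.map _)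
    · rw [hO, le_bot_iff] at hle
      exact (Subgroup.map_eq_bot_iff_of_injective _ D.subtype_injective).1 hle
    · exact (FittingCores.normal_map_of_characteristic hDn (Sylow.characteristic_of_normal S hSn)).isSubnormal
  refine ((hp.out.coprime_iff_not_dvd).2 fun hd => S.not_dvd_index ?_).symm
  rwa [hS1, Subgroup.index_bot]

variable {F : Type*} [Field F] [CharP F p] {V : Type*} [AddCommGroup V] [Module F V]
  [FiniteDimensional F V]

/-- Hall–Higman Theorem B, as non-vanishing of powers of `ρ x - 1`. -/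
theorem exists_bound (ρ : H →* Module.End F V) (hρ : Function.Injective ρ)
    (hsol : Cfsg.IsPSolvable p H) (hO : Cfsg.pCore p H = ⊥) (x : H) (n : ℕ) (hn : 1 ≤ n)
    (hx : orderOf x = p ^ n) :
    (ρ x - 1) ^ (p ^ n - 1) ≠ 0 ∨ ∃ n₀ q m : ℕ, 1 ≤ n₀ ∧ n₀ ≤ n ∧ q.Prime ∧ 1 ≤ m ∧
      p ^ n₀ - 1 = q ^ m ∧ (∀ Q : Sylow q H, ¬ IsMulCommutative Q) ∧
      (ρ x - 1) ^ (p ^ (n - n₀) * (p ^ n₀ - 1) - 1) ≠ 0 := by
  classical
  set R := Cfsg.pPrimeCore p H with hRdef
  have hRn : R.Normal := FittingCores.pPrimeCore_normal p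
  set A := Subgroup.zpowers x with hA
  set y := x ^ p ^ (n - 1) with hy
  have hxN : x ^ p ^ n = 1 := by rw [← hx, pow_orderOf_eq_one]
  have hy1 : y ≠ 1 := fun h => by
    have h1 := Nat.le_of_dvd (pow_pos hp.out.pos _) (hx ▸ orderOf_dvd_of_pow_eq_one h)
    exact absurd h1 (not_le.2 (Nat.pow_lt_pow_right hp.out.one_lt (by omega)))
  have hyA : y ∈ A := Subgroup.pow_mem _ (Subgroup.mem_zpowers x) _
  have hAR : ∀ K : Subgroup H, K ≤ R → (Nat.card A).Coprime (Nat.card K) := fun K hK => by
    rw [hA, Nat.card_zpowers, hx]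
    exact ((FittingCores.pPrimeCore_coprime p).coprime_dvd_left
      (Subgroup.card_dvd_of_le hK)).symm.pow_left n
  have hAs : Group.IsSolvable A := Group.isSolvable_of_comm fun a b => mul_comm' a b
  have hAn : A ≤ Subgroup.normalizer (R : Set H) := fun a _ => by
    rw [Subgroup.normalizer_eq_top]; exact Subgroup.mem_top _
  -- `y` moves some invariant `q`-subgroup of `R`
  have hex : ∃ (q : ℕ) (Q : Subgroup H), q.Prime ∧ Q ≤ R ∧ IsPGroup q Q ∧
      A ≤ Subgroup.normalizer (Q : Set H) ∧ ∃ t ∈ Q, y * t ≠ t * y := by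
    by_contra hcon
    push Not at hcon
    have hyR : y ∈ Subgroup.centralizer (R : Set H) := by
      have htop : ((Subgroup.centralizer ({y} : Set H)).subgroupOf R) = ⊤ := by
        refine FittingCores.eq_top_of_forall_sylow_le fun q hq => ?_
        have := Fact.mk hq
        obtain ⟨P, hP⟩ := CoprimeAct.exists_invariant_sylow hAn (hAR R le_rfl) (Or.inl hAs) q
        refine ⟨P, fun t ht => Subgroup.mem_subgroupOf.2 (Subgroup.mem_centralizer_iff.2 fun z hz => ?_)⟩
        rw [Set.mem_singleton_iff.1 hz]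
        exact hcon q _ hq (Subgroup.map_subtype_le _) (P.isPGroup'.map _) hP _
          (Subgroup.mem_map_of_mem R.subtype ht)
      exact Subgroup.mem_centralizer_iff.2 fun t ht => (Subgroup.mem_centralizer_iff.1
        ((Subgroup.subgroupOf_eq_top.1 htop) ht) y rfl).symm
    refine hy1 (orderOf_eq_one_iff.1 (Nat.eq_one_of_dvd_coprimes
      (((FittingCores.pPrimeCore_coprime p).coprime_dvd_left
        (Subgroup.orderOf_dvd_natCard _ (centralizer_pPrimeCore_le hsol hO hyR))).pow_right n) dvd_rfl ?_))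
    exact hx ▸ orderOf_pow_dvd _
  obtain ⟨q, Q', hq, hQ'⟩ := hex
  have := Fact.mk hq
  obtain ⟨Q, ⟨hQR, hQq, hQA, t₀, ht₀, ht₀y⟩, hQmin⟩ := WellFounded.has_min
    (wellFounded_lt (α := Subgroup H))
    {Q | Q ≤ R ∧ IsPGroup q Q ∧ A ≤ Subgroup.normalizer (Q : Set H) ∧ ∃ t ∈ Q, y * t ≠ t * y}
    ⟨Q', hQ'⟩
  have hsmall : ∀ T : Subgroup H, T < Q → A ≤ Subgroup.normalizer (T : Set H) →
      ∀ t ∈ T, y * t = t * y := fun T hT hTA t ht => by
    by_contra hne
    exact hQmin T ⟨hT.le.trans hQR, hQq.to_le hT.le, hTA, t, ht, hne⟩ hT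
  obtain ⟨e, he⟩ := hQq.exists_card_eq
  have hQne : Q ≠ ⊥ := by
    rintro rfl
    rw [Subgroup.mem_bot.1 ht₀] at ht₀y
    simp at ht₀y
  have hqp : q ≠ p := by
    rintro rfl
    have hQn : Nontrivial Q := (Subgroup.nontrivial_iff_ne_bot Q).2 hQne
    have hd : q ∣ Nat.card Q := hQq.card_eq_or_dvd.resolve_left (Finite.one_lt_card (α := Q)).ne'
    exact (hq.coprime_iff_not_dvd.1 (FittingCores.pPrimeCore_coprime (G := H) q).symm)
      (hd.trans (Subgroup.card_dvd_of_le hQR))
  -- the action
  let θ : MulAut Q := Q.normalizerMonoidHom ⟨x, hQA (Subgroup.mem_zpowers x)⟩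
  have hθpow : ∀ (i : ℕ) (t : Q), (((θ ^ i) t : Q) : H) = x ^ i * t * (x ^ i)⁻¹ := fun i t => by
    change ((((Q.normalizerMonoidHom ⟨x, hQA (Subgroup.mem_zpowers x)⟩) ^ i) t : Q) : H) = _
    rw [← map_pow]
    rfl
  have hθ : θ ^ p ^ n = 1 := MulEquiv.ext fun t => Subtype.ext (by
    rw [hθpow, hxN]; simp)
  have hfix : ∀ t : Q, (θ ^ p ^ (n - 1)) t = t ↔ y * t = t * y := fun t => by
    rw [Subtype.ext_iff, hθpow, ← hy, mul_inv_eq_iff_eq_mul]
  set Y := Subgroup.zpowers y with hY
  have hYA : Y ≤ A := Subgroup.zpowers_le.2 hyA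
  have hnormY : A ≤ Subgroup.normalizer (Y : Set H) := le_trans (fun a ha => by
    obtain ⟨i, rfl⟩ := ha
    refine Subgroup.mem_centralizer_iff.2 fun z hz => ?_
    obtain ⟨j, rfl⟩ := hz
    exact ((((Commute.refl x).pow_left (p ^ (n - 1))).zpow_left j).zpow_right i).eq)
    (Subgroup.centralizer_le_normalizer (Y : Set H))
  have hYQ : ⁅Q, Y⁆ = Q := by
    have hle : ⁅Q, Y⁆ ≤ Q := CoprimeAct.commutator_le_left (hYA.trans hQA)
    refine hle.eq_or_lt.resolve_right fun hlt => ?_
    have hinv : A ≤ Subgroup.normalizer ((⁅Q, Y⁆ : Subgroup H) : Set H) :=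
      fun a ha => SolvBasic.mem_normalizer_iff_conjSmul.2 (by
        change Subgroup.map (MulAut.conj a).toMonoidHom ⁅Q, Y⁆ = _
        rw [Subgroup.map_commutator]
        exact congrArg₂ (fun K L : Subgroup H => ⁅K, L⁆)
          (SolvBasic.conjSmul_eq_self_of_mem_normalizer (hQA ha))
          (SolvBasic.conjSmul_eq_self_of_mem_normalizer (hnormY ha)))
    have h1 : ⁅⁅Q, Y⁆, Y⁆ = ⊥ := Subgroup.commutator_eq_bot_iff_le_centralizer.2 fun t ht =>
      Subgroup.mem_centralizer_iff.2 fun z hz => by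
        obtain ⟨j, rfl⟩ := hz
        exact (Commute.zpow_left (show Commute y t from hsmall _ hlt hinv t ht) j).eq
    rw [CoprimeAct.commutator_commutator (hYA.trans hQA)
      ((hAR Q hQR).coprime_dvd_left (Subgroup.card_dvd_of_le hYA))
      (Or.inl (Group.isSolvable_of_comm fun a b => mul_comm' a b)),
      Subgroup.commutator_eq_bot_iff_le_centralizer] at h1
    exact ht₀y (Subgroup.mem_centralizer_iff.1 (h1 ht₀) y (Subgroup.mem_zpowers y))
  have hcentral : ∀ D : Subgroup H, D < Q → A ≤ Subgroup.normalizer (D : Set H) →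
      Q ≤ Subgroup.normalizer (D : Set H) → ∀ d ∈ D, ∀ t ∈ Q, d * t = t * d := by
    intro D hD hDA hDQ d hd t ht
    have hDY : ⁅D, Y⁆ = ⊥ := Subgroup.commutator_eq_bot_iff_le_centralizer.2 fun s hs =>
      Subgroup.mem_centralizer_iff.2 fun z hz => by
        obtain ⟨j, rfl⟩ := hz
        exact (Commute.zpow_left (show Commute y s from hsmall D hD hDA s hs) j).eq
    have h : ⁅⁅Q, Y⁆, D⁆ = ⊥ := by
      refine Subgroup.commutator_commutator_eq_bot_of_rotate ?_ ?_
      · rw [Subgroup.commutator_comm Y D, hDY, Subgroup.commutator_bot_left]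
      · rw [← le_bot_iff, ← hDY]
        exact Subgroup.commutator_mono (CoprimeAct.commutator_le_left hDQ) le_rfl
    rw [hYQ, Subgroup.commutator_eq_bot_iff_le_centralizer] at h
    exact Subgroup.mem_centralizer_iff.1 (h ht) d hd
  have hmin : (∀ a b : Q, a * b = b * a) ∨ ((∀ z ∈ Subgroup.center Q, (θ ^ p ^ (n - 1)) z = z) ∧
      (∀ u t : Q, ⁅u, t⁆ ∈ Subgroup.center Q) ∧
      ∀ t, (θ ^ p ^ (n - 1)) t * t⁻¹ ∈ Subgroup.center Q → t ∈ Subgroup.center Q) := by
    by_cases hab : ∀ a b : Q, a * b = b * a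
    · exact Or.inl hab
    right
    -- subgroups of `Q` invariant under `θ`
    have hmap : ∀ D : Subgroup Q, (∀ d ∈ D, θ d ∈ D) →
        A ≤ Subgroup.normalizer ((D.map Q.subtype : Subgroup H) : Set H) := fun D hD => by
      rw [hA, Subgroup.zpowers_le]
      refine Subgroup.mem_normalizer_iff.2 fun h => ?_
      have hbij : Function.Bijective (fun d : D => (⟨θ d, hD d d.2⟩ : D)) :=
        (Finite.injective_iff_bijective).1 fun a b hab => Subtype.ext (θ.injective (congrArg Subtype.val hab))
      constructor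
      · rintro ⟨d, hd, rfl⟩
        refine ⟨θ d, hD d hd, ?_⟩
        have := hθpow 1 d
        rw [pow_one, pow_one] at this
        exact this
      · rintro ⟨d, hd, hdh⟩
        obtain ⟨⟨d', hd'⟩, hd''⟩ := hbij.2 ⟨d, hd⟩
        refine ⟨d', hd', ?_⟩
        have := hθpow 1 d'
        rw [pow_one, pow_one, show θ d' = d from congrArg Subtype.val hd''] at this
        change (d' : H) = h
        have h2 : x * (d' : H) * x⁻¹ = x * h * x⁻¹ := this.symm.trans hdh
        exact mul_left_cancel (mul_right_cancel h2)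
    have hnQ : ∀ D : Subgroup Q, D.Normal → Q ≤ Subgroup.normalizer ((D.map Q.subtype : Subgroup H) : Set H) := by
      intro D hD t ht
      have h := Subgroup.le_normalizer_map Q.subtype (H := (D : Subgroup Q))
        (x := t) ⟨⟨t, ht⟩, (Subgroup.normalizer_eq_top (H := D)).symm ▸ Subgroup.mem_top _, rfl⟩
      exact h
    have hcen : ∀ D : Subgroup Q, D.Normal → (∀ d ∈ D, θ d ∈ D) → D ≠ ⊤ → D ≤ Subgroup.center Q := by
      intro D hD hDθ hDt d hd
      have hlt : D.map Q.subtype < Q := (Subgroup.map_subtype_le D).lt_of_ne fun h => hDt (by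
        rw [← Subgroup.map_injective Q.subtype_injective |>.eq_iff, h, ← MonoidHom.range_eq_map,
          Subgroup.range_subtype])
      exact Subgroup.mem_center_iff.2 fun t => Subtype.ext
        (hcentral _ hlt (hmap D hDθ) (hnQ D hD) _ (Subgroup.mem_map_of_mem Q.subtype hd) t t.2).symm
    have hZθ : ∀ z ∈ Subgroup.center Q, θ z ∈ Subgroup.center Q := fun z hz =>
      Subgroup.mem_center_iff.2 fun u => by
        obtain ⟨u', rfl⟩ := θ.surjective u
        rw [← map_mul, ← map_mul, Subgroup.mem_center_iff.1 hz u']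
    have hZlt : Subgroup.center Q ≠ ⊤ := fun h => hab fun a b =>
      (Subgroup.mem_center_iff.1 (show b ∈ Subgroup.center Q from h ▸ Subgroup.mem_top b) a)
    have hcomm : ∀ u t : Q, ⁅u, t⁆ ∈ Subgroup.center Q := by
      have : Group.IsNilpotent Q := hQq.isNilpotent
      have : Nontrivial Q := (Subgroup.nontrivial_iff_ne_bot Q).2 hQne
      have h := hcen (commutator Q) inferInstance (fun d hd => by
        have hc : (commutator Q).map θ.toMonoidHom ≤ commutator Q := by
          rw [commutator_def, Subgroup.map_commutator]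
          exact Subgroup.commutator_mono le_top le_top
        exact hc (Subgroup.mem_map_of_mem θ.toMonoidHom hd))
        (Group.IsSolvable.commutator_lt_top_of_nontrivial Q).ne
      intro u t
      exact h (Subgroup.commutator_mem_commutator (Subgroup.mem_top u) (Subgroup.mem_top t))
    refine ⟨fun z hz => (hfix z).2 ?_, hcomm, fun t ht => ?_⟩
    · have hlt : (Subgroup.center Q).map Q.subtype < Q := (Subgroup.map_subtype_le _).lt_of_ne fun h =>
        hZlt (by rw [← Subgroup.map_injective Q.subtype_injective |>.eq_iff, h, ← MonoidHom.range_eq_map,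
          Subgroup.range_subtype])
      exact hsmall _ hlt (hmap _ hZθ) _ (Subgroup.mem_map_of_mem Q.subtype hz)
    · set π := QuotientGroup.mk' (Subgroup.center Q) with hπ
      let T : Subgroup Q :=
        { carrier := {t | π ((θ ^ p ^ (n - 1)) t) = π t}
          one_mem' := by simp
          mul_mem' := fun {a b} ha hb => by
            change π ((θ ^ p ^ (n - 1)) (a * b)) = π (a * b)
            rw [map_mul, map_mul, map_mul, ha, hb]
          inv_mem' := fun {a} ha => by
            change π ((θ ^ p ^ (n - 1)) a⁻¹) = π a⁻¹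
            rw [map_inv, map_inv, map_inv, ha] }
      have hmemT : ∀ t, t ∈ T ↔ (θ ^ p ^ (n - 1)) t * t⁻¹ ∈ Subgroup.center Q := fun t => by
        change π _ = π _ ↔ _
        rw [← QuotientGroup.eq_one_iff, ← mul_inv_eq_one, ← map_inv, ← map_mul]
        rfl
      have hTn : T.Normal := ⟨fun a ha g => by
        change π _ = π _
        have hcomm' : ∀ u v : Q, π u * π v = π v * π u := fun u v => by
          rw [← commutatorElement_eq_one_iff_mul_comm, ← map_commutatorElement]
          exact (QuotientGroup.eq_one_iff _).2 (hcomm u v)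
        simp only [map_mul, map_inv]
        rw [hcomm' ((θ ^ p ^ (n - 1)) g), mul_inv_cancel_right, hcomm' g a, mul_inv_cancel_right]
        exact ha⟩
      have hTθ : ∀ a ∈ T, θ a ∈ T := fun a ha => (hmemT _).2 (by
        rw [show (θ ^ p ^ (n - 1)) (θ a) * (θ a)⁻¹ = θ ((θ ^ p ^ (n - 1)) a * a⁻¹) by
          rw [map_mul, map_inv, ← MulAut.mul_apply, ← MulAut.mul_apply, ← pow_succ, ← pow_succ']]
        exact hZθ _ ((hmemT a).1 ha))
      refine hcen T hTn hTθ (fun hT => hab ?_) ((hmemT t).2 ht)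
      -- then `Q = [Q, y]` is central
      have hQZ : Q ≤ (Subgroup.center Q).map Q.subtype := by
        conv_lhs => rw [← hYQ]
        rw [Subgroup.commutator_le]
        intro s hs g hg
        obtain ⟨j, rfl⟩ := mem_powers_iff_mem_zpowers.2 hg
        -- every power of `θ ^ p ^ (n-1)` is trivial modulo the centre
        have hall : ∀ (j : ℕ) (s : Q), π (((θ ^ p ^ (n - 1)) ^ j) s) = π s := by
          intro j
          induction j with
          | zero => simp
          | succ j ih =>
            intro s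
            rw [pow_succ, MulAut.mul_apply, ih]
            exact (show s ∈ T from hT ▸ Subgroup.mem_top s)
        set w := ((θ ^ p ^ (n - 1)) ^ j) ⟨s, hs⟩ with hw
        refine ⟨⟨s, hs⟩ * w⁻¹, ?_, ?_⟩
        · rw [SetLike.mem_coe, ← QuotientGroup.eq_one_iff]
          change π _ = 1
          rw [map_mul, map_inv, hw, hall, mul_inv_cancel]
        · simp only [Subgroup.coe_subtype, Subgroup.coe_mul, Subgroup.coe_inv, hw]
          rw [← pow_mul, hθpow, pow_mul, ← hy, commutatorElement_def]
          group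
      intro a b
      obtain ⟨b', hb', hbb⟩ := hQZ b.2
      rw [show b = b' from Subtype.ext hbb.symm]
      exact Subgroup.mem_center_iff.1 hb' a
  -- extend the scalars
  have hFK : CharP (AlgebraicClosure F) p := charP_of_injective_algebraMap' F p
  let Φ : Module.End F V →ₐ[F] Module.End (AlgebraicClosure F) (AlgebraicClosure F ⊗[F] V) :=
    Module.End.baseChangeHom F (AlgebraicClosure F) V
  have hΦ : Function.Injective Φ := LinearMap.baseChangeHom_injective F V (AlgebraicClosure F)
  let τ : Q →* Module.End (AlgebraicClosure F) (AlgebraicClosure F ⊗[F] V) :=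
    Φ.toRingHom.toMonoidHom.comp (ρ.comp Q.subtype)
  set X := Φ (ρ x) with hX
  have hXN : X ^ p ^ n = 1 := by rw [hX, ← map_pow, ← map_pow, hxN, map_one, map_one]
  have hconj : ∀ t, X * τ t = τ (θ t) * X := fun t => by
    change Φ (ρ x) * Φ (ρ t) = Φ (ρ ((θ t : Q) : H)) * Φ (ρ x)
    have h := hθpow 1 t
    rw [pow_one, pow_one] at h
    rw [← map_mul, ← map_mul, ← map_mul, ← map_mul, h, inv_mul_cancel_right]
  have hyQ : ∃ t : Q, (θ ^ p ^ (n - 1)) t ≠ t := ⟨⟨t₀, ht₀⟩, fun h => ht₀y ((hfix _).1 h)⟩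
  have hback : ∀ k : ℕ, (X - 1) ^ k ≠ 0 → (ρ x - 1) ^ k ≠ 0 := fun k hk h0 => hk (by
    have := congrArg Φ h0
    simpa [hX, map_pow, map_sub] using this)
  rcases HHCore.core hqp he τ ((hΦ.comp hρ).comp Q.subtype_injective) X θ n hn hθ hXN hconj hyQ hmin with
    h | ⟨n₀, m, h1, h2, h3, h4, hab, h5⟩
  · exact Or.inl (hback _ h)
  · refine Or.inr ⟨n₀, q, m, h1, h2, hq, h3, h4, fun S hS => hab fun a b => ?_, hback _ h5⟩
    obtain ⟨T, hT⟩ := hQq.exists_le_sylow
    obtain ⟨g, hg⟩ := MulAction.exists_smul_eq H T S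
    have hmem : ∀ a : Q, g * (a : H) * g⁻¹ ∈ (S : Subgroup H) := fun a => by
      rw [← hg]
      exact ⟨(a : H), hT a.2, rfl⟩
    have := setLike_mul_comm (hmem a) (hmem b)
    exact Subtype.ext (mul_right_cancel (b := g⁻¹) (by simpa [mul_assoc] using this))

end Cfsg.Agent.HHThmB
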