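import Mathlib.GroupTheory.FiniteAbelian.Duality
import Mathlib.RingTheory.RootsOfUnity.AlgebraicallyClosed
import Mathlib.GroupTheory.Perm.Cycle.Type
import Mathlib.GroupTheory.Solvable
import Mathlib.LinearAlgebra.FiniteDimensional.Basic

/-! Modules for a Frobenius group `Q ⋊ ⟨x⟩` with solvable kernel in coprime characteristic: if `Q`
has no fixed vector then the module is free over `⟨x⟩`. -/

set_option autoImplicit false
open scoped commutatorElement

open Module

universe u v w

namespace Cfsg.Agent.FrobeniusModule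

variable {K : Type w} [Field K] [IsAlgClosed K]

/-- The primitive idempotent attached to a character of an abelian group. -/
noncomputable def idem {A : Type*} [Group A] [Fintype A] {V : Type*} [AddCommGroup V] [Module K V]
    (τ : A →* Module.End K V) (χ : A →* Kˣ) : Module.End K V :=
  (Fintype.card A : K)⁻¹ • ∑ a : A, ((χ a⁻¹ : Kˣ) : K) • τ a

lemma idem_act {A : Type*} [Group A] [Fintype A] {V : Type*} [AddCommGroup V] [Module K V]
    (τ : A →* Module.End K V) (χ : A →* Kˣ) (a : A) :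
    τ a * idem τ χ = ((χ a : Kˣ) : K) • idem τ χ := by
  rw [idem, mul_smul_comm, Finset.mul_sum, smul_comm]
  congr 1
  rw [Finset.smul_sum, ← Equiv.sum_comp (Equiv.mulLeft a) fun b => ((χ a : Kˣ) : K) • (((χ b⁻¹ : Kˣ) : K) • τ b)]
  refine Finset.sum_congr rfl fun b _ => ?_
  simp only [Equiv.coe_mulLeft, mul_smul_comm, ← map_mul, smul_smul, ← Units.val_mul]
  congr 2
  simp [mul_comm]

theorem idem_spec {A : Type*} [CommGroup A] [Fintype A] (hA : (Fintype.card A : K) ≠ 0) {V : Type*}
    [AddCommGroup V] [Module K V] (τ : A →* Module.End K V) [Fintype (A →* Kˣ)]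
    [DecidableEq (A →* Kˣ)] :
    (∑ χ : A →* Kˣ, idem τ χ = 1) ∧
      ∀ χ ψ : A →* Kˣ, idem τ χ * idem τ ψ = if χ = ψ then idem τ ψ else 0 := by
  classical
  have : NeZero ((Monoid.exponent A : ℕ) : K) := ⟨fun h => hA (by
    obtain ⟨d, hd⟩ := Group.exponent_dvd_nat_card (G := A)
    rw [← Nat.card_eq_fintype_card, hd, Nat.cast_mul, h, zero_mul])⟩
  constructor
  · simp only [idem, ← Finset.smul_sum]
    rw [Finset.sum_comm]
    simp only [← Finset.sum_smul]
    rw [Finset.sum_eq_single (1 : A), ← smul_assoc]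
    · have hcard : Fintype.card (A →* Kˣ) = Fintype.card A := by
        rw [← Nat.card_eq_fintype_card, ← Nat.card_eq_fintype_card,
          CommGroup.card_monoidHom_of_hasEnoughRootsOfUnity A K]
      simp [map_one, hcard, hA]
    · intro a _ ha
      obtain ⟨φ, hφ⟩ := CommGroup.exists_apply_ne_one_of_hasEnoughRootsOfUnity A K
        (a := a⁻¹) (inv_ne_one.2 ha)
      have h : ((φ a⁻¹ : Kˣ) : K) * ∑ χ : A →* Kˣ, ((χ a⁻¹ : Kˣ) : K) =
          ∑ χ : A →* Kˣ, ((χ a⁻¹ : Kˣ) : K) := by
        rw [Finset.mul_sum]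
        conv_rhs => rw [← Equiv.sum_comp (Equiv.mulLeft φ)]
        simp
      have h0 : ∑ χ : A →* Kˣ, ((χ a⁻¹ : Kˣ) : K) = 0 := by
        by_contra h0
        refine hφ (Units.val_eq_one.1 (mul_right_cancel₀ h0 (h.trans (one_mul _).symm)))
      rw [h0, zero_smul]
    · exact fun h => absurd (Finset.mem_univ _) h
  · intro χ ψ
    conv_lhs => rw [idem, smul_mul_assoc, Finset.sum_mul]
    simp only [smul_mul_assoc, idem_act, smul_smul, ← Units.val_mul]
    rw [← Finset.sum_smul]
    split_ifs with h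
    · subst h
      rw [smul_smul]
      simp [inv_mul_cancel₀ hA]
    · obtain ⟨b, hb⟩ : ∃ b, χ b ≠ ψ b := by
        by_contra hc
        push Not at hc
        exact h (MonoidHom.ext hc)
      have hb' : (((χ b⁻¹ * ψ b) : Kˣ) : K) ≠ 1 := fun h1 => hb (by
        have h2 := Units.val_eq_one.1 h1
        rw [map_inv, inv_mul_eq_one] at h2
        exact h2)
      have hs : (((χ b⁻¹ * ψ b) : Kˣ) : K) * ∑ a : A, (((χ a⁻¹ * ψ a) : Kˣ) : K) =
          ∑ a : A, (((χ a⁻¹ * ψ a) : Kˣ) : K) := by
        rw [Finset.mul_sum]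
        conv_rhs => rw [← Equiv.sum_comp (Equiv.mulLeft b)]
        refine Finset.sum_congr rfl fun a _ => ?_
        rw [← Units.val_mul, Equiv.coe_mulLeft]
        congr 1
        simp only [map_inv, map_mul, mul_inv_rev]
        ac_rfl
      have h0 : ∑ a : A, (((χ a⁻¹ * ψ a) : Kˣ) : K) = 0 := by
        by_contra h0
        exact hb' (mul_right_cancel₀ h0 (hs.trans (one_mul _).symm))
      rw [h0, zero_smul, smul_zero]

theorem main : ∀ (c : ℕ) (Q : Type u) [Group Q] [Finite Q] [Group.IsSolvable Q] (V : Type v)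
    [AddCommGroup V] [Module K V] [FiniteDimensional K V], Nat.card Q = c →
    (Nat.card Q : K) ≠ 0 → ∀ (τ : Q →* Module.End K V) (X : Module.End K V) (θ : MulAut Q) (N : ℕ),
    0 < N → θ ^ N = 1 → X ^ N = 1 → (∀ t, X * τ t = τ (θ t) * X) →
    (∀ i, 0 < i → i < N → ∀ t, (θ ^ i) t = t → t = 1) → (∀ v, (∀ t, τ t v = v) → v = 0) →
    finrank K V = N * finrank K (LinearMap.ker (X - 1)) ∧
      (N.Prime → finrank K (LinearMap.ker (X - 1)) = 1 → ∀ s t, Commute (τ s) (τ t)) := by
  intro c
  induction c using Nat.strong_induction_on with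
  | _ c IH =>
  intro Q _ _ _ V _ _ _ hc hQK τ X θ N hN hθN hXN hconj hfix hnofix
  classical
  rcases subsingleton_or_nontrivial Q with hQ | hQ
  · have hV : ∀ v : V, v = 0 := fun v => hnofix v fun t => by
      rw [Subsingleton.elim t 1, map_one]; rfl
    have : Subsingleton V := ⟨fun a b => (hV a).trans (hV b).symm⟩
    have h0 : finrank K V = 0 := finrank_zero_of_subsingleton
    have h1 : finrank K (LinearMap.ker (X - 1)) = 0 := finrank_zero_of_subsingleton
    exact ⟨by rw [h0, h1, mul_zero], fun _ h => absurd (h.symm.trans h1) one_ne_zero⟩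
  -- an abelian characteristic subgroup
  obtain ⟨A, hAc, hA1, hAab⟩ : ∃ A : Subgroup Q, A.Characteristic ∧ A ≠ ⊥ ∧ ⁅A, A⁆ = ⊥ := by
    have hex : ∃ k, derivedSeries Q k = ⊥ := (Group.isSolvable_def Q).1 inferInstance
    obtain ⟨k, hk⟩ := Nat.exists_eq_succ_of_ne_zero (n := Nat.find hex) (fun h => by
      have := Nat.find_spec hex
      rw [h, derivedSeries_zero] at this
      exact top_ne_bot this)
    refine ⟨derivedSeries Q k, inferInstance, Nat.find_min hex (by omega), ?_⟩
    have := Nat.find_spec hex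
    rwa [hk, derivedSeries_succ] at this
  have hAn : A.Normal := inferInstance
  let _ : CommGroup A := { (inferInstance : Group A) with
    mul_comm := fun a b => Subtype.ext (by
      have h := Subgroup.commutator_mem_commutator a.2 b.2
      rw [hAab, Subgroup.mem_bot, commutatorElement_eq_one_iff_mul_comm] at h
      exact h) }
  have : Fintype A := Fintype.ofFinite A
  have hAK : (Fintype.card A : K) ≠ 0 := fun h => hQK (by
    obtain ⟨d, hd⟩ := Subgroup.card_subgroup_dvd_card A
    rw [hd, Nat.card_eq_fintype_card, Nat.cast_mul, h, zero_mul])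
  have : NeZero ((Monoid.exponent A : ℕ) : K) := ⟨fun h => hAK (by
    obtain ⟨d, hd⟩ := Group.exponent_dvd_nat_card (G := A)
    rw [← Nat.card_eq_fintype_card, hd, Nat.cast_mul, h, zero_mul])⟩
  have : Finite (A →* Kˣ) := Nat.finite_of_card_ne_zero (by
    rw [CommGroup.card_monoidHom_of_hasEnoughRootsOfUnity A K]; exact Nat.card_pos.ne')
  have : Fintype (A →* Kˣ) := Fintype.ofFinite _
  set τA : A →* Module.End K V := τ.comp A.subtype with hτA
  obtain ⟨hsum1, horth⟩ := idem_spec hAK τA
  set e := idem τA with he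
  -- the automorphism of `A`
  have hθA : ∀ a : A, θ a ∈ A := fun a => by
    have := hAc.fixed θ
    exact Subgroup.mem_comap.1 (show (a : Q) ∈ A.comap θ.toMonoidHom by rw [this]; exact a.2)
  let θA : MulAut A := MulEquiv.ofBijective
    ((θ.toMonoidHom.comp A.subtype).codRestrict A hθA)
    ((Finite.injective_iff_bijective).1 fun a b h => Subtype.ext (θ.injective (congrArg Subtype.val h)))
  have hθAv : ∀ a : A, ((θA a : A) : Q) = θ a := fun a => rfl
  have hθAk : ∀ (k : ℕ) (a : A), (((θA ^ k) a : A) : Q) = (θ ^ k) a := by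
    intro k
    induction k with
    | zero => simp
    | succ k ih => intro a; rw [pow_succ', MulAut.mul_apply, hθAv, ih, pow_succ', MulAut.mul_apply]
  let σ : Equiv.Perm (A →* Kˣ) :=
    { toFun := fun χ => χ.comp θA.symm.toMonoidHom
      invFun := fun χ => χ.comp θA.toMonoidHom
      left_inv := fun χ => MonoidHom.ext fun a => congrArg χ (θA.symm_apply_apply a)
      right_inv := fun χ => MonoidHom.ext fun a => congrArg χ (θA.apply_symm_apply a) }
  have hσk : ∀ (k : ℕ) (χ : A →* Kˣ) (a : A), ((σ ^ k) χ) ((θA ^ k) a) = χ a := by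
    intro k
    induction k with
    | zero => simp
    | succ k ih =>
      intro χ a
      rw [pow_succ' σ, pow_succ' θA, Equiv.Perm.mul_apply, MulAut.mul_apply]
      change ((σ ^ k) χ) (θA.symm (θA ((θA ^ k) a))) = χ a
      rw [θA.symm_apply_apply, ih]
  have hσN : σ ^ N = 1 := Equiv.ext fun χ => MonoidHom.ext fun a => by
    have h := hσk N χ a
    rwa [show (θA ^ N) a = a from Subtype.ext (by rw [hθAk, hθN]; rfl)] at h
  have hσ1 : ∀ k : ℕ, (σ ^ k) 1 = 1 := by
    intro k
    induction k with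
    | zero => rfl
    | succ k ih => rw [pow_succ', Equiv.Perm.mul_apply, ih]; rfl
  have hfree : ∀ χ : A →* Kˣ, χ ≠ 1 → ∀ i, 0 < i → i < N → (σ ^ i) χ ≠ χ := by
    intro χ hχ i hi hiN h
    let δ : A → A := fun b => b⁻¹ * (θA ^ i) b
    have hδ : Function.Bijective δ := (Finite.injective_iff_bijective).1 fun a b hab => by
      have h1 : (θA ^ i) (a * b⁻¹) = a * b⁻¹ := by
        rw [map_mul, map_inv]
        have h2 : (θA ^ i) a = a * (b⁻¹ * (θA ^ i) b) := by
          rw [show b⁻¹ * (θA ^ i) b = a⁻¹ * (θA ^ i) a from hab.symm, mul_inv_cancel_left]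
        rw [h2]; group
      have h3 := hfix i hi hiN ((a * b⁻¹ : A) : Q) (by rw [← hθAk, h1])
      exact mul_inv_eq_one.1 (Subtype.ext h3)
    refine hχ (MonoidHom.ext fun a => ?_)
    obtain ⟨b, rfl⟩ := hδ.2 a
    have h4 := hσk i χ b
    rw [h] at h4
    simp only [δ, map_mul, map_inv, h4, inv_mul_cancel, MonoidHom.one_apply]
  have hinj : ∀ χ : A →* Kˣ, χ ≠ 1 → ∀ i j, i < N → j < N → (σ ^ i) χ = (σ ^ j) χ → i = j := by
    intro χ hχ
    suffices h : ∀ i j, i ≤ j → j < N → (σ ^ i) χ = (σ ^ j) χ → i = j by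
      intro i j hi hj hij
      rcases le_total i j with hle | hle
      · exact h i j hle hj hij
      · exact (h j i hle hi hij.symm).symm
    intro i j hle hj hij
    by_contra hne
    refine hfree χ hχ (j - i) (by omega) (by omega) ((σ ^ i).injective ?_)
    rw [← Equiv.Perm.mul_apply, ← pow_add, Nat.add_sub_cancel' hle, hij]
  -- representatives
  let rep : (A →* Kˣ) → (A →* Kˣ) := fun χ => (Quotient.mk (Equiv.Perm.SameCycle.setoid σ) χ).out
  let D : Finset (A →* Kˣ) := Finset.univ.filter fun χ => χ ≠ 1 ∧ rep χ = χ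
  have horb : ∀ χ, ∃ k < N, (σ ^ k) (rep χ) = χ := fun χ => by
    have hsc : Equiv.Perm.SameCycle σ (rep χ) χ :=
      Quotient.exact (Quotient.out_eq (Quotient.mk (Equiv.Perm.SameCycle.setoid σ) χ))
    obtain ⟨z, hz⟩ := hsc.exists_nat_pow_eq
    refine ⟨z % N, Nat.mod_lt _ hN, ?_⟩
    rw [← Nat.mod_add_div z N, pow_add, pow_mul, hσN, one_pow, mul_one] at hz
    exact hz
  have hrepD : ∀ χ, χ ≠ 1 → rep χ ∈ D := fun χ hχ => by
    refine Finset.mem_filter.2 ⟨Finset.mem_univ _, fun h => hχ ?_, ?_⟩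
    · obtain ⟨k, -, hk⟩ := horb χ
      rw [← hk, h, hσ1]
    · change (Quotient.mk _ (rep χ)).out = rep χ
      rw [Quotient.out_eq]
  have hrepσ : ∀ (k : ℕ) d, d ∈ D → rep ((σ ^ k) d) = d := fun k d hd => by
    refine Eq.trans ?_ (Finset.mem_filter.1 hd).2.2
    exact congrArg Quotient.out (Quotient.sound
      ((Equiv.Perm.sameCycle_pow_left).2 (Equiv.Perm.SameCycle.refl _ _)))
  have hD1 : ∀ d ∈ D, d ≠ 1 := fun d hd => (Finset.mem_filter.1 hd).2.1
  -- commutation rules
  have hXe : ∀ χ, X * e χ = e (σ χ) * X := fun χ => by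
    simp only [he, idem, mul_smul_comm, smul_mul_assoc, Finset.mul_sum, Finset.sum_mul]
    congr 1
    rw [← Equiv.sum_comp θA.toEquiv fun a => ((σ χ a⁻¹ : Kˣ) : K) • (τA a * X)]
    refine Finset.sum_congr rfl fun a _ => ?_
    change _ • (X * τ (a : Q)) = ((χ (θA.symm (θA a)⁻¹) : Kˣ) : K) • (τ ((θA a : A) : Q) * X)
    rw [hconj, map_inv θA.symm, θA.symm_apply_apply, hθAv]
  have hXke : ∀ (k : ℕ) χ, X ^ k * e χ = e ((σ ^ k) χ) * X ^ k := by
    intro k
    induction k with
    | zero => simp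
    | succ k ih =>
      intro χ
      rw [pow_succ' X, mul_assoc, ih, ← mul_assoc, hXe, mul_assoc, pow_succ' σ, Equiv.Perm.mul_apply]
  have hτe : ∀ (t : Q) χ, τ t * e χ =
      e (χ.comp (MulAut.conjNormal t⁻¹ : MulAut A).toMonoidHom) * τ t := fun t χ => by
    simp only [he, idem, mul_smul_comm, smul_mul_assoc, Finset.mul_sum, Finset.sum_mul]
    congr 1
    rw [← Equiv.sum_comp (MulAut.conjNormal t : MulAut A).toEquiv fun a =>
      ((χ.comp (MulAut.conjNormal t⁻¹ : MulAut A).toMonoidHom a⁻¹ : Kˣ) : K) • (τA a * τ t)]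
    refine Finset.sum_congr rfl fun a _ => ?_
    have h1 : (MulAut.conjNormal t⁻¹ : MulAut A) ((MulAut.conjNormal t : MulAut A) a)⁻¹ = a⁻¹ := by
      refine Subtype.ext ?_
      simp only [MulAut.conjNormal_apply, Subgroup.coe_inv]
      group
    change _ • (τ t * τ (a : Q)) = ((χ ((MulAut.conjNormal t⁻¹ : MulAut A)
      ((MulAut.conjNormal t : MulAut A) a)⁻¹) : Kˣ) : K) • (τ (((MulAut.conjNormal t : MulAut A) a : A) : Q) * τ t)
    rw [h1, MulAut.conjNormal_apply, ← map_mul, ← map_mul, inv_mul_cancel_right]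
  set f := ∑ χ ∈ D, e χ with hf
  set e1 := e 1 with he1
  have he1X : ∀ k : ℕ, X ^ k * e1 = e1 * X ^ k := fun k => by rw [he1, hXke, hσ1]
  have he1τ : ∀ t, τ t * e1 = e1 * τ t := fun t => by rw [he1, hτe, MonoidHom.one_comp]
  have hee : e1 * e1 = e1 := by rw [he1, horth, if_pos rfl]
  have hfe : f * e1 = 0 := by
    rw [hf, Finset.sum_mul]
    exact Finset.sum_eq_zero fun χ hχ => by rw [he1, horth, if_neg (hD1 χ hχ)]
  have hef : e1 * f = 0 := by
    rw [hf, Finset.mul_sum]
    exact Finset.sum_eq_zero fun χ hχ => by rw [he1, horth, if_neg (Ne.symm (hD1 χ hχ))]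
  have hfXf : ∀ i < N, f * X ^ i * f = if i = 0 then f else 0 := by
    intro i hi
    have h1 : f * X ^ i * f = (∑ χ ∈ D, ∑ ψ ∈ D, e χ * e ((σ ^ i) ψ)) * X ^ i := by
      simp only [hf, mul_assoc, Finset.mul_sum, Finset.sum_mul, hXke]
      rw [Finset.sum_comm]
    rw [h1]
    split_ifs with h0
    · subst h0
      simp only [pow_zero, mul_one, Equiv.Perm.one_apply]
      rw [hf]
      refine Finset.sum_congr rfl fun χ hχ => ?_
      rw [Finset.sum_eq_single χ (fun ψ _ hne => by rw [horth, if_neg hne.symm])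
        (fun h => absurd hχ h), horth, if_pos rfl]
    · rw [Finset.sum_eq_zero fun χ hχ => Finset.sum_eq_zero fun ψ hψ => ?_, zero_mul]
      rw [horth, if_neg]
      intro h
      have h2 := congrArg rep h
      rw [hrepσ i ψ hψ, (Finset.mem_filter.1 hχ).2.2] at h2
      subst h2
      exact hfree χ (hD1 χ hχ) i (Nat.pos_of_ne_zero h0) hi h.symm
  have hXfX : ∀ i < N, X ^ i * f * X ^ (N - i) = ∑ χ ∈ D, e ((σ ^ i) χ) := fun i hi => by
    simp only [hf, Finset.mul_sum, Finset.sum_mul, hXke, mul_assoc, ← pow_add,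
      Nat.add_sub_cancel' hi.le, hXN, mul_one]
  have hone : e1 + ∑ i ∈ Finset.range N, X ^ i * f * X ^ (N - i) = 1 := by
    rw [Finset.sum_congr rfl fun i hi => hXfX i (Finset.mem_range.1 hi), ← hsum1,
      ← Finset.add_sum_erase Finset.univ e (Finset.mem_univ 1), ← Finset.sum_product']
    congr 1
    refine Finset.sum_bij (fun a _ => (σ ^ a.1) a.2) ?_ ?_ ?_ (fun a _ => rfl)
    · rintro ⟨k, d⟩ h
      refine Finset.mem_erase.2 ⟨fun hk => hD1 d (Finset.mem_product.1 h).2 ?_, Finset.mem_univ _⟩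
      exact (σ ^ k).injective (hk.trans (hσ1 k).symm)
    · rintro ⟨k, d⟩ h ⟨k', d'⟩ h' heq
      simp only [Finset.mem_product, Finset.mem_range] at h h'
      have hd : d = d' := by
        have := congrArg rep heq
        rwa [hrepσ k d h.2, hrepσ k' d' h'.2] at this
      subst hd
      rw [hinj d (hD1 d h.2) k k' h.1 h'.1 heq]
    · intro χ hχ
      obtain ⟨k, hk, hki⟩ := horb χ
      exact ⟨⟨k, rep χ⟩, Finset.mem_product.2 ⟨Finset.mem_range.2 hk,
        hrepD χ (Finset.ne_of_mem_erase hχ)⟩, hki⟩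
  -- the two summands
  set W := LinearMap.range e1 with hW
  set P := LinearMap.range f with hP
  have hWmem : ∀ w : W, e1 w = w := fun ⟨w, v, hv⟩ => by
    change e1 w = w
    rw [← hv, ← Module.End.mul_apply, hee]
  have hff : f * f = f := by simpa using hfXf 0 hN
  have hPmem : ∀ u : P, f u = u := fun ⟨u, v, hv⟩ => by
    change f u = u
    rw [← hv, ← Module.End.mul_apply, hff]
  have hecomm : ∀ (k : ℕ) (v : V), e1 ((X ^ k) v) = (X ^ k) (e1 v) := fun k v => by
    rw [← Module.End.mul_apply, ← Module.End.mul_apply, he1X]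
  have hfXPf : ∀ (k : ℕ) (u : P), f ((X ^ k) u) = if k % N = 0 then (u : V) else 0 := by
    intro k u
    have hk : X ^ k = X ^ (k % N) := by
      conv_lhs => rw [← Nat.mod_add_div k N, pow_add, pow_mul, hXN, one_pow, mul_one]
    rw [hk, ← hPmem u, ← Module.End.mul_apply, ← Module.End.mul_apply,
      hfXf _ (Nat.mod_lt _ hN)]
    split_ifs <;> simp [hPmem]
  have heP : ∀ u : P, e1 u = 0 := fun u => by
    rw [← hPmem u, ← Module.End.mul_apply, hef, LinearMap.zero_apply]
  have hfW : ∀ w : W, f w = 0 := fun w => by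
    rw [← hWmem w, ← Module.End.mul_apply, hfe, LinearMap.zero_apply]
  have hdec : ∀ v : V, e1 v + ∑ i ∈ Finset.range N, (X ^ i) (f ((X ^ (N - i)) v)) = v := fun v => by
    have := congrArg (fun F : Module.End K V => F v) hone
    simpa [LinearMap.add_apply, LinearMap.sum_apply, Module.End.mul_apply] using this
  let Φ : V →ₗ[K] W × (Fin N → P) :=
    { toFun := fun v => (⟨e1 v, ⟨v, rfl⟩⟩, fun i => ⟨f ((X ^ (N - (i : ℕ))) v), ⟨_, rfl⟩⟩)
      map_add' := fun a b => Prod.ext (Subtype.ext (map_add _ _ _))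
        (funext fun i => Subtype.ext (by simp))
      map_smul' := fun r a => Prod.ext (Subtype.ext (map_smul _ _ _))
        (funext fun i => Subtype.ext (by simp)) }
  have hΦ : Function.Bijective Φ := by
    constructor
    · intro a b h
      rw [← hdec a, ← hdec b]
      have h1 : e1 a = e1 b := congrArg (fun z : W × (Fin N → P) => ((z.1 : W) : V)) h
      rw [h1]
      congr 1
      refine Finset.sum_congr rfl fun i hi => congrArg (X ^ i) ?_
      exact congrArg (fun z : W × (Fin N → P) => ((z.2 ⟨i, Finset.mem_range.1 hi⟩ : P) : V)) h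
    · rintro ⟨w, g⟩
      refine ⟨(w : V) + ∑ i : Fin N, (X ^ (i : ℕ)) (g i), Prod.ext (Subtype.ext ?_) (funext fun j =>
        Subtype.ext ?_)⟩
      · change e1 _ = (w : V)
        simp [map_add, map_sum, hecomm, heP, hWmem]
      · change f _ = (g j : V)
        have h0 : f ((X ^ (N - (j : ℕ))) (w : V)) = 0 := by
          rw [← hWmem w, ← hecomm, ← Module.End.mul_apply f e1, hfe, LinearMap.zero_apply]
        rw [map_add, map_add, h0, zero_add, map_sum, map_sum, Finset.sum_eq_single j ?_ ?_]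
        · rw [← Module.End.mul_apply (X ^ (N - (j : ℕ))), ← pow_add, hfXPf, Nat.sub_add_cancel j.2.le, Nat.mod_self,
            if_pos rfl]
        · intro i _ hij
          rw [← Module.End.mul_apply (X ^ (N - (j : ℕ))), ← pow_add, hfXPf, if_neg]
          intro hmod
          have hi := i.2
          have hj := j.2
          obtain ⟨d, hd⟩ := Nat.dvd_of_mod_eq_zero hmod
          have hd1 : d = 1 := by
            rcases Nat.lt_trichotomy d 1 with h | h | h
            · obtain rfl : d = 0 := by omega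
              omega
            · exact h
            · have := Nat.mul_le_mul_left N h
              omega
          rw [hd1, mul_one] at hd
          exact hij (Fin.ext (by omega))
        · exact fun h => absurd (Finset.mem_univ _) h
  have hdimV : finrank K V = finrank K W + N * finrank K P := by
    rw [(LinearEquiv.ofBijective Φ hΦ).finrank_eq, finrank_prod, finrank_pi_fintype,
      Finset.sum_const, Finset.card_univ, Fintype.card_fin, smul_eq_mul]
  -- the action on `W`
  have hWX : ∀ v ∈ W, X v ∈ W := by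
    rintro _ ⟨v, rfl⟩
    exact ⟨X v, by simpa using hecomm 1 v⟩
  have hWτ : ∀ t, ∀ v ∈ W, τ t v ∈ W := by
    rintro t _ ⟨v, rfl⟩
    exact ⟨τ t v, by rw [← Module.End.mul_apply, ← he1τ]; rfl⟩
  let XW : Module.End K W := X.restrict hWX
  have hXWk : ∀ (k : ℕ) (w : W), (((XW ^ k) w : W) : V) = (X ^ k) w := by
    intro k
    induction k with
    | zero => intro w; rfl
    | succ k ih =>
      intro w
      rw [pow_succ', Module.End.mul_apply, pow_succ' X, Module.End.mul_apply, ← ih]
      rfl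
  let τW : Q →* Module.End K W :=
    { toFun := fun t => (τ t).restrict (hWτ t)
      map_one' := LinearMap.ext fun w => Subtype.ext (by simp)
      map_mul' := fun a b => LinearMap.ext fun w => Subtype.ext (by simp) }
  have hAker : A ≤ MonoidHom.ker τW := fun a ha => LinearMap.ext fun w => Subtype.ext (by
    change τ a (w : V) = w
    rw [← hWmem w, ← Module.End.mul_apply]
    have h := idem_act τA (1 : A →* Kˣ) ⟨a, ha⟩
    rw [MonoidHom.one_apply, Units.val_one, one_smul] at h
    exact congrArg (fun F : Module.End K V => F w) h)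
  let θb : MulAut (Q ⧸ A) := QuotientGroup.congr A A θ (le_antisymm
    (Subgroup.map_le_iff_le_comap.2 (le_of_eq (hAc.fixed θ).symm))
    (fun a ha => ⟨θ.symm a, by
      have h := hAc.fixed θ.symm
      exact Subgroup.mem_comap.1 (h.symm ▸ ha), θ.apply_symm_apply a⟩))
  have hθb : ∀ (k : ℕ) t, (θb ^ k) (QuotientGroup.mk t) = QuotientGroup.mk ((θ ^ k) t) := by
    intro k
    induction k with
    | zero => simp
    | succ k ih => intro t; rw [pow_succ', MulAut.mul_apply, ih, pow_succ' θ]; rfl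
  have hfixb : ∀ i, 0 < i → i < N → ∀ t : Q ⧸ A, (θb ^ i) t = t → t = 1 := by
    intro i hi hiN
    have hsurj : Function.Surjective fun s : Q => s⁻¹ * (θ ^ i) s := by
      refine (Finite.injective_iff_surjective).1 fun a b hab => ?_
      have h1 : (θ ^ i) (a * b⁻¹) = a * b⁻¹ := by
        rw [map_mul, map_inv]
        have h2 : (θ ^ i) a = a * (b⁻¹ * (θ ^ i) b) := by
          rw [← show a⁻¹ * (θ ^ i) a = b⁻¹ * (θ ^ i) b from hab, mul_inv_cancel_left]
        rw [h2]; group
      exact mul_inv_eq_one.1 (hfix i hi hiN _ h1)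
    have hinjb : Function.Injective fun s : Q ⧸ A => s⁻¹ * (θb ^ i) s := by
      refine (Finite.injective_iff_surjective).2 fun t => ?_
      obtain ⟨t, rfl⟩ := QuotientGroup.mk_surjective t
      obtain ⟨s, rfl⟩ := hsurj t
      exact ⟨QuotientGroup.mk s, by
        change (QuotientGroup.mk s : Q ⧸ A)⁻¹ * (θb ^ i) (QuotientGroup.mk s) = _
        rw [hθb]; rfl⟩
    exact fun t ht => hinjb (by simp [ht])
  have hlt : Nat.card (Q ⧸ A) < c := by
    rw [← hc, ← A.card_mul_index, ← Subgroup.index]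
    exact (Nat.lt_mul_iff_one_lt_left (Nat.pos_of_ne_zero Subgroup.index_ne_zero_of_finite)).2
      ((Subgroup.one_lt_card_iff_ne_bot A).2 hA1)
  have hQAK : (Nat.card (Q ⧸ A) : K) ≠ 0 := fun h => hQK (by
    obtain ⟨d, hd⟩ := Subgroup.card_quotient_dvd_card A
    rw [hd, Nat.cast_mul, h, zero_mul])
  obtain ⟨hdimW, hcommW⟩ := IH _ hlt (Q ⧸ A) W rfl hQAK (QuotientGroup.lift A τW hAker) XW θb N hN
    (MulEquiv.ext fun t => by
      obtain ⟨s, rfl⟩ := QuotientGroup.mk_surjective t
      rw [hθb, hθN]; rfl)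
    (LinearMap.ext fun w => Subtype.ext (by rw [hXWk, hXN]; rfl))
    (fun t => by
      obtain ⟨s, rfl⟩ := QuotientGroup.mk_surjective t
      refine LinearMap.ext fun w => Subtype.ext ?_
      change X (τ s w) = τ (θ s) (X w)
      exact congrArg (fun F : Module.End K V => F w) (hconj s))
    hfixb
    (fun w hw => Subtype.ext (hnofix w fun t => congrArg Subtype.val (hw (QuotientGroup.mk t))))
  -- fixed points of `X`
  set C := LinearMap.ker (X - 1) with hC
  set CW := LinearMap.ker (XW - 1) with hCW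
  have hCmem : ∀ v : C, ∀ k : ℕ, (X ^ k) (v : V) = v := by
    intro v k
    induction k with
    | zero => rfl
    | succ k ih =>
      rw [pow_succ', Module.End.mul_apply, ih]
      exact sub_eq_zero.1 v.2
  let Ψ : C →ₗ[K] CW × P :=
    { toFun := fun v => (⟨⟨e1 v, ⟨v, rfl⟩⟩, sub_eq_zero.2 (Subtype.ext (by
        change X (e1 (v : V)) = e1 v
        have h1 := hCmem v 1
        have h2 := hecomm 1 (v : V)
        rw [h1, pow_one] at h2
        exact h2.symm))⟩, ⟨f v, ⟨v, rfl⟩⟩)
      map_add' := fun a b => Prod.ext (Subtype.ext (Subtype.ext (map_add e1 _ _)))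
        (Subtype.ext (map_add f _ _))
      map_smul' := fun r a => Prod.ext (Subtype.ext (Subtype.ext (map_smul e1 _ _)))
        (Subtype.ext (map_smul f _ _)) }
  have hΨ : Function.Bijective Ψ := by
    constructor
    · intro a b h
      refine Subtype.ext ?_
      rw [← hdec (a : V), ← hdec (b : V)]
      have h1 : e1 (a : V) = e1 b := congrArg (fun z : CW × P => (((z.1 : CW) : W) : V)) h
      have h2 : f (a : V) = f b := congrArg (fun z : CW × P => ((z.2 : P) : V)) h
      rw [h1]
      congr 1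
      refine Finset.sum_congr rfl fun i _ => ?_
      rw [hCmem, hCmem, h2]
    · rintro ⟨w, u⟩
      have hw : X (((w : W) : V)) = ((w : W) : V) := congrArg Subtype.val (sub_eq_zero.1 w.2)
      refine ⟨⟨((w : W) : V) + ∑ i ∈ Finset.range N, (X ^ i) (u : V), ?_⟩, ?_⟩
      · have h := congrArg (fun F : Module.End K V => F (u : V))
          (show (X - 1) * ∑ i ∈ Finset.range N, X ^ i = 0 by rw [mul_geom_sum, hXN, sub_self])
        simp only [Module.End.mul_apply, LinearMap.sum_apply, LinearMap.zero_apply] at h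
        rw [hC, LinearMap.mem_ker, map_add, h, add_zero, LinearMap.sub_apply, Module.End.one_apply,
          hw, sub_self]
      · refine Prod.ext (Subtype.ext (Subtype.ext ?_)) (Subtype.ext ?_)
        · change e1 _ = ((w : W) : V)
          simp [map_add, map_sum, hecomm, heP, hWmem]
        · change f _ = (u : V)
          rw [map_add, hfW, zero_add, map_sum, Finset.sum_eq_single 0
            (fun i hi hne => by
              rw [hfXPf, if_neg]
              rw [Nat.mod_eq_of_lt (Finset.mem_range.1 hi)]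
              exact hne)
            (fun h => absurd (Finset.mem_range.2 hN) h), hfXPf, Nat.zero_mod, if_pos rfl]
  have hdimC : finrank K C = finrank K CW + finrank K P := by
    rw [(LinearEquiv.ofBijective Ψ hΨ).finrank_eq, finrank_prod]
  refine ⟨by rw [hdimV, hdimC, hdimW, Nat.mul_add], fun hNp h1 => ?_⟩
  have := Fact.mk hNp
  by_cases hP0 : finrank K P = 0
  · -- everything is fixed by `A`
    have hf0 : f = 0 := LinearMap.range_eq_bot.1 (Submodule.finrank_eq_zero.1 hP0)
    have he1one : e1 = 1 := by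
      have h := hone
      simp only [hf0, mul_zero, zero_mul, Finset.sum_const_zero, add_zero] at h
      exact h
    have hcW := hcommW hNp (by omega)
    intro s t
    refine LinearMap.ext fun v => ?_
    have hv : v ∈ W := ⟨v, by rw [he1one]; rfl⟩
    exact congrArg (fun F : Module.End K W => ((F ⟨v, hv⟩ : W) : V))
      (hcW (QuotientGroup.mk s) (QuotientGroup.mk t))
  have hP1 : finrank K P = 1 := by omega
  have he10 : e1 = 0 := LinearMap.range_eq_bot.1 (Submodule.finrank_eq_zero.1 (by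
    rw [← hW, hdimW, show finrank K CW = 0 by omega, mul_zero]))
  obtain ⟨χ₀, hχ₀D, hχ₀⟩ : ∃ χ ∈ D, e χ ≠ 0 := by
    by_contra h
    push Not at h
    apply hP0
    rw [hP, show f = 0 from Finset.sum_eq_zero h, LinearMap.range_zero, finrank_bot]
  have heD : ∀ χ ∈ D, χ ≠ χ₀ → e χ = 0 := by
    intro χ hχ hne
    by_contra h
    obtain ⟨a, ha⟩ : ∃ a, e χ a ≠ 0 := by
      by_contra h'; push Not at h'; exact h (LinearMap.ext h')
    obtain ⟨b, hb⟩ : ∃ b, e χ₀ b ≠ 0 := by
      by_contra h'; push Not at h'; exact hχ₀ (LinearMap.ext h')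
    have hfe' : ∀ ψ ∈ D, f * e ψ = e ψ := fun ψ hψ => by
      rw [hf, Finset.sum_mul, Finset.sum_eq_single ψ
        (fun φ _ hne => by rw [horth, if_neg hne]) (fun h => absurd hψ h), horth, if_pos rfl]
    let pa : P := ⟨e χ a, ⟨e χ a, by rw [← Module.End.mul_apply, hfe' χ hχ]⟩⟩
    let pb : P := ⟨e χ₀ b, ⟨e χ₀ b, by rw [← Module.End.mul_apply, hfe' χ₀ hχ₀D]⟩⟩
    obtain ⟨r, hr⟩ := (finrank_eq_one_iff_of_nonzero' pb
      (fun h0 => hb (congrArg Subtype.val h0))).1 hP1 pa
    have h2 := congrArg (fun z : P => e χ (z : V)) hr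
    simp only [SetLike.val_smul, map_smul] at h2
    rw [show e χ (pb : V) = 0 by
      change e χ (e χ₀ b) = 0
      rw [← Module.End.mul_apply, horth, if_neg hne]; rfl, smul_zero,
      show e χ (pa : V) = e χ a by
        change e χ (e χ a) = e χ a
        rw [← Module.End.mul_apply, horth, if_pos rfl]] at h2
    exact ha h2.symm
  have hfχ₀ : f = e χ₀ :=
    Finset.sum_eq_single χ₀ heD (fun h => absurd hχ₀D h)
  have hΩ : ∀ χ, e χ ≠ 0 → ∃ i < N, χ = (σ ^ i) χ₀ := by
    intro χ hχ
    have hχ1 : χ ≠ 1 := fun h => hχ (by rw [h, ← he1, he10])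
    obtain ⟨k, hk, hkχ⟩ := horb χ
    refine ⟨k, hk, ?_⟩
    by_cases hr : rep χ = χ₀
    · rw [← hr, hkχ]
    · exfalso
      apply hχ
      have h := hXke k (rep χ)
      rw [heD _ (hrepD χ hχ1) hr, mul_zero, hkχ] at h
      have h' := congrArg (fun F => F * X ^ (N - k)) h.symm
      simp only [mul_assoc, ← pow_add, Nat.add_sub_cancel' hk.le, hXN, mul_one, zero_mul] at h'
      exact h'
  -- `Q` fixes the character `χ₀`
  let act : MulAction Q (A →* Kˣ) :=
    { smul := fun t χ => χ.comp (MulAut.conjNormal t⁻¹ : MulAut A).toMonoidHom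
      one_smul := fun χ => MonoidHom.ext fun a => congrArg χ (Subtype.ext (by simp))
      mul_smul := fun s t χ => MonoidHom.ext fun a => congrArg χ (Subtype.ext (by simp [mul_assoc])) }
  have hsmul : ∀ (t : Q) (χ : A →* Kˣ) (a : A), (t • χ) a = χ ((MulAut.conjNormal t⁻¹ : MulAut A) a) :=
    fun _ _ _ => rfl
  have hτe' : ∀ (t : Q) χ, τ t * e χ = e (t • χ) * τ t := hτe
  have hσsmul : ∀ (t : Q) χ, σ (t • χ) = θ t • σ χ := by
    intro t χ
    refine MonoidHom.ext fun a => ?_
    rw [hsmul]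
    change χ _ = χ (θA.symm _)
    refine congrArg χ (θA.injective ?_)
    rw [θA.apply_symm_apply]
    refine Subtype.ext ?_
    simp only [MulEquiv.coe_toMonoidHom]
    rw [hθAv, MulAut.conjNormal_apply, MulAut.conjNormal_apply, map_mul, map_mul, map_inv θ t⁻¹, map_inv θ t]
    congr 2
    have h := congrArg Subtype.val (θA.apply_symm_apply a)
    rwa [hθAv] at h
  have hσksmul : ∀ (k : ℕ) (t : Q) χ, (σ ^ k) (t • χ) = (θ ^ k) t • (σ ^ k) χ := by
    intro k
    induction k with
    | zero => intro t χ; rfl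
    | succ k ih =>
      intro t χ
      rw [pow_succ', Equiv.Perm.mul_apply, ih, hσsmul, pow_succ' θ, MulAut.mul_apply]
      rfl
  have hne_smul : ∀ (t : Q), e (t • χ₀) ≠ 0 := fun t h => hχ₀ (by
    have h' := hτe' t χ₀
    rw [h, zero_mul] at h'
    have := congrArg (fun F => τ t⁻¹ * F) h'
    simp only [← mul_assoc, ← map_mul, inv_mul_cancel, map_one, one_mul, mul_zero] at this
    exact this)
  have hstab : ∀ t : Q, t • χ₀ = χ₀ := by
    intro t
    by_contra hne
    obtain ⟨i, hiN, hi⟩ := hΩ _ (hne_smul t)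
    have hi0 : 0 < i := Nat.pos_of_ne_zero fun h => hne (by rw [hi, h, pow_zero]; rfl)
    have hall : ∀ k : ℕ, ∃ s : Q, s • χ₀ = (σ ^ (i * k)) χ₀ := by
      intro k
      induction k with
      | zero => exact ⟨1, by rw [one_smul, mul_zero, pow_zero]; rfl⟩
      | succ k ih =>
        obtain ⟨s, hs⟩ := ih
        refine ⟨(θ ^ i) s * t, ?_⟩
        rw [mul_smul, hi, ← hσksmul, hs, ← Equiv.Perm.mul_apply, ← pow_add, mul_add, mul_one, add_comm i]
    have horbit : ∀ j < N, ∃ s : Q, s • χ₀ = (σ ^ j) χ₀ := by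
      intro j hj
      obtain ⟨k, hk⟩ : ∃ k, i * k % N = j := by
        obtain ⟨k, hk⟩ := Nat.exists_mul_mod_eq_one_of_coprime (n := i) (k := N)
          ((hNp.coprime_iff_not_dvd.2 (fun h => absurd (Nat.le_of_dvd hi0 h) (not_le.2 hiN))).symm)
          hNp.one_lt
        refine ⟨k * j, ?_⟩
        rw [← mul_assoc, Nat.mul_mod, hk.2, one_mul, Nat.mod_mod, Nat.mod_eq_of_lt hj]
      obtain ⟨s, hs⟩ := hall k
      refine ⟨s, hs.trans ?_⟩
      conv_lhs => rw [← Nat.mod_add_div (i * k) N, hk, pow_add, pow_mul, hσN, one_pow, mul_one]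
    have hcard : Nat.card (MulAction.orbit Q χ₀) = N := by
      have hbij : Function.Bijective (fun j : Fin N => (⟨(σ ^ (j : ℕ)) χ₀,
          (horbit j j.2).imp fun s hs => hs⟩ : MulAction.orbit Q χ₀)) := by
        refine ⟨fun a b h => Fin.ext (hinj χ₀ (hD1 _ hχ₀D) a b a.2 b.2 (congrArg Subtype.val h)), ?_⟩
        rintro ⟨_, s, rfl⟩
        obtain ⟨j, hj, hjs⟩ := hΩ _ (hne_smul s)
        exact ⟨⟨j, hj⟩, Subtype.ext hjs.symm⟩
      rw [← Nat.card_congr (Equiv.ofBijective _ hbij), Nat.card_eq_fintype_card, Fintype.card_fin]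
    have hdvd : N ∣ Nat.card Q := by
      have := Fintype.ofFinite Q
      rw [← hcard, Nat.card_eq_fintype_card (α := Q)]
      rw [Nat.card_eq_fintype_card]
      exact ⟨_, (MulAction.card_orbit_mul_card_stabilizer_eq_card_group Q χ₀).symm⟩
    -- but `|Q| ≡ 1` modulo `N`
    have := Fintype.ofFinite Q
    let F : Function.End Q := (θ : Q → Q)
    have hFk : ∀ k : ℕ, F ^ k = ((θ ^ k : MulAut Q) : Q → Q) := by
      intro k
      induction k with
      | zero => rfl
      | succ k ih => rw [pow_succ', ih, pow_succ']; rfl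
    have hmod := Equiv.Perm.card_fixedPoints_modEq (f := F) (p := N) (n := 1)
      (by rw [pow_one, hFk, hθN]; rfl)
    have hfp : Fintype.card (Function.fixedPoints F) = 1 := by
      rw [Fintype.card_eq_one_iff]
      refine ⟨⟨1, map_one θ⟩, fun ⟨a, ha⟩ => Subtype.ext ?_⟩
      exact hfix 1 one_pos hNp.one_lt a (by rw [pow_one]; exact ha)
    rw [hfp, ← Nat.card_eq_fintype_card] at hmod
    have := (Nat.modEq_zero_iff_dvd.2 hdvd).symm.trans hmod
    have h2 := Nat.le_of_dvd (by omega) (Nat.modEq_zero_iff_dvd.1 this.symm)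
    exact absurd hNp.one_lt (by omega)
  have hcomm : ∀ (t : Q) (i : ℕ), τ t * e ((σ ^ i) χ₀) = e ((σ ^ i) χ₀) * τ t := by
    intro t i
    rw [hτe']
    congr 2
    obtain ⟨t', rfl⟩ := (θ ^ i).surjective t
    rw [← hσksmul, hstab]
  -- hence scalars on each line
  obtain ⟨u₀, hu₀⟩ := finrank_eq_one_iff'.1 hP1
  have hline : ∀ (t : Q) (i : ℕ), i < N → ∃ c : K, τ t ((X ^ i) (u₀ : V)) = c • (X ^ i) (u₀ : V) := by
    intro t i hi
    have hE : (e ((σ ^ i) χ₀)) ((X ^ i) (u₀ : V)) = (X ^ i) u₀ := by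
      rw [← Module.End.mul_apply, ← hXke, ← hfχ₀, Module.End.mul_apply, hPmem]
    obtain ⟨c, hc⟩ := hu₀.2 ⟨f ((X ^ (N - i)) (τ t ((X ^ i) (u₀ : V)))), ⟨_, rfl⟩⟩
    refine ⟨c, ?_⟩
    have h1 : τ t ((X ^ i) (u₀ : V)) = (X ^ i * f * X ^ (N - i)) (τ t ((X ^ i) (u₀ : V))) := by
      rw [hXfX i hi, Finset.sum_eq_single χ₀ (fun χ hχ hne => by
        have h := hXke i χ
        rw [heD χ hχ hne, mul_zero] at h
        have h' := congrArg (fun F => F * X ^ (N - i)) h.symm
        simp only [mul_assoc, ← pow_add, Nat.add_sub_cancel' hi.le, hXN, mul_one, zero_mul] at h'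
        exact h') (fun h => absurd hχ₀D h), ← Module.End.mul_apply (e _) (τ t), ← hcomm, Module.End.mul_apply, hE]
    rw [h1, Module.End.mul_apply, Module.End.mul_apply, ← map_smul]
    exact congrArg (X ^ i) (congrArg Subtype.val hc).symm
  intro s t
  refine LinearMap.ext fun v => ?_
  rw [← hdec v, he10, LinearMap.zero_apply, zero_add, map_sum, map_sum]
  refine Finset.sum_congr rfl fun i hi => ?_
  obtain ⟨r, hr⟩ := hu₀.2 ⟨f ((X ^ (N - i)) v), ⟨_, rfl⟩⟩
  obtain ⟨a, ha⟩ := hline s i (Finset.mem_range.1 hi)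
  obtain ⟨b, hb⟩ := hline t i (Finset.mem_range.1 hi)
  have hr' : f ((X ^ (N - i)) v) = r • (u₀ : V) := (congrArg Subtype.val hr).symm
  simp only [hr', map_smul, Module.End.mul_apply, ha, hb, smul_smul]
  ring_nf

end Cfsg.Agent.FrobeniusModule
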