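import Cfsg.Agent.Lib.Solvable.CoprimeProduct
import Cfsg.Agent.Lib.Solvable.Structure

/-! Kegel–Wielandt: a product of two nilpotent subgroups is solvable.

For a common prime `p`, `A_p` and `B_p` permute with all conjugates.  Kegel's lemma in
`M = N A_p = N B_p`, `N` a minimal normal subgroup, shows that `A_p` or `B_p` centralizes `N`,
which is absurd in a minimal counterexample; so the orders are coprime. -/

set_option autoImplicit false
open scoped Pointwise commutatorElement

universe u

namespace Cfsg.Agent.KegelWielandt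

open Cfsg.Agent.SolvBasic Cfsg.Agent.Carter

variable {G : Type u} [Group G] [Finite G]

lemma isNilpotent_subgroupOf {A Y : Subgroup G} (hA : Group.IsNilpotent A) :
    Group.IsNilpotent (A.subgroupOf Y) :=
  Cfsg.Agent.Carter.isNilpotent_of_injective
    ((Y.subtype.comp (A.subgroupOf Y).subtype).codRestrict A fun x => x.2) fun x y hxy =>
      Subtype.ext (Subtype.ext (congrArg Subtype.val hxy :))

lemma le_normalizer_sylow {A : Subgroup G} (hA : Group.IsNilpotent A) {p : ℕ} [Fact p.Prime]
    (P : Sylow p A) :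
    A ≤ Subgroup.normalizer ((((P : Subgroup A).map A.subtype) : Subgroup G) : Set G) := by
  have hn : (P : Subgroup A).Normal :=
    P.normal_of_normalizerCondition Group.normalizerCondition_of_isNilpotent
  intro a ha
  refine le_normalizer_of_conj_mem ?_
  rintro _ ⟨x, hx, rfl⟩
  exact ⟨⟨a, ha⟩ * x * ⟨a, ha⟩⁻¹, hn.conj_mem x hx _, rfl⟩

/-- The Sylow subgroups of the two factors make up a Sylow subgroup of the product. -/
lemma exists_perm_sylow {A B : Subgroup G} (hA : Group.IsNilpotent A) (hB : Group.IsNilpotent B)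
    (hAB : ∀ g : G, ∃ a ∈ A, ∃ b ∈ B, g = a * b) {p : ℕ} [hp : Fact p.Prime] (PA : Sylow p A)
    (PB : Sylow p B) :
    ∃ P : Sylow p G, (PA : Subgroup A).map A.subtype ≤ (P : Subgroup G) ∧
      (PB : Subgroup B).map B.subtype ≤ (P : Subgroup G) ∧
      Cfsg.Agent.Products.Perm ((PA : Subgroup A).map A.subtype) ((PB : Subgroup B).map B.subtype) := by
  set Ap := (PA : Subgroup A).map A.subtype with hAp
  set Bp := (PB : Subgroup B).map B.subtype with hBp
  obtain ⟨P, hP⟩ := (PA.isPGroup'.map A.subtype).exists_le_sylow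
  obtain ⟨Q, hQ⟩ := (PB.isPGroup'.map B.subtype).exists_le_sylow
  obtain ⟨g, hg⟩ := MulAction.exists_smul_eq G P Q
  obtain ⟨b, hb, a, ha, rfl⟩ := Cfsg.Agent.Factorised.mul_swap hAB g
  set R := a • P with hR
  have hAR : Ap ≤ (R : Subgroup G) := fun x hx => by
    rw [hR, Sylow.coe_subgroup_smul, mem_conjSmul]
    exact hP ((Subgroup.mem_normalizer_iff''.1 (le_normalizer_sylow hA PA ha) x).1 hx)
  have hBR : Bp ≤ (R : Subgroup G) := fun x hx => by
    have h1 : b * x * b⁻¹ ∈ (Q : Subgroup G) :=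
      hQ ((Subgroup.mem_normalizer_iff.1 (le_normalizer_sylow hB PB hb) x).1 hx)
    rw [← hg, mul_smul, ← hR, Sylow.coe_subgroup_smul, mem_conjSmul] at h1
    simpa [mul_assoc] using h1
  refine ⟨R, hAR, hBR, ?_⟩
  set R' := (R : Subgroup G)
  have hcR : Nat.card R' = p ^ (Nat.card G).factorization p := R.card_eq_multiplicity
  have hcA : Nat.card Ap = p ^ (Nat.card A).factorization p := by
    rw [hAp, Subgroup.card_map_of_injective A.subtype_injective, PA.card_eq_multiplicity]
  have hcB : Nat.card Bp = p ^ (Nat.card B).factorization p := by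
    rw [hBp, Subgroup.card_map_of_injective B.subtype_injective, PB.card_eq_multiplicity]
  have hmeet : Nat.card (Bp ⊓ Ap : Subgroup G) ∣
      p ^ (Nat.card (B ⊓ A : Subgroup G)).factorization p := by
    have h1 : Nat.card (Bp ⊓ Ap : Subgroup G) ∣ Nat.card (B ⊓ A : Subgroup G) :=
      Subgroup.card_dvd_of_le (inf_le_inf (Subgroup.map_subtype_le _) (Subgroup.map_subtype_le _))
    obtain ⟨j, -, hj⟩ := (Nat.dvd_prime_pow hp.out).1
      (hcB ▸ Subgroup.card_dvd_of_le (inf_le_left : Bp ⊓ Ap ≤ Bp))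
    rw [hj] at h1 ⊢
    exact pow_dvd_pow p ((Nat.Prime.pow_dvd_iff_le_factorization hp.out Nat.card_pos.ne').1 h1)
  have hG : Nat.card G * Nat.card (B ⊓ A : Subgroup G) = Nat.card A * Nat.card B := by
    rw [← B.card_mul_index, Cfsg.Agent.SolvStruct.index_eq_relIndex_of_mul hAB,
      ← Subgroup.inf_relIndex_right B A, mul_assoc, mul_comm (Subgroup.relIndex _ _),
      ← Subgroup.relIndex_bot_left (B ⊓ A), Subgroup.relIndex_mul_relIndex _ _ _ bot_le inf_le_right,
      Subgroup.relIndex_bot_left, mul_comm]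
  have hexp : (Nat.card G).factorization p + (Nat.card (B ⊓ A : Subgroup G)).factorization p =
      (Nat.card A).factorization p + (Nat.card B).factorization p := by
    have := congrArg (fun n : ℕ => n.factorization p) hG
    rwa [Nat.factorization_mul Nat.card_pos.ne' Nat.card_pos.ne',
      Nat.factorization_mul Nat.card_pos.ne' Nat.card_pos.ne', Finsupp.add_apply, Finsupp.add_apply]
      at this
  have hidx : (Bp.subgroupOf R').index ≤ (Bp.subgroupOf R').relIndex (Ap.subgroupOf R') := by
    rw [Subgroup.relIndex_subgroupOf hAR]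
    suffices h : Nat.card (Bp.subgroupOf R') * Nat.card (Bp ⊓ Ap : Subgroup G) *
        (Bp.subgroupOf R').index ≤
        Nat.card (Bp.subgroupOf R') * Nat.card (Bp ⊓ Ap : Subgroup G) * Bp.relIndex Ap from
      Nat.le_of_mul_le_mul_left h (Nat.mul_pos Nat.card_pos Nat.card_pos)
    have h1 : Nat.card (Bp ⊓ Ap : Subgroup G) * Bp.relIndex Ap = Nat.card Ap := by
      rw [← Subgroup.inf_relIndex_right, ← Subgroup.relIndex_bot_left (Bp ⊓ Ap),
        Subgroup.relIndex_mul_relIndex _ _ _ bot_le inf_le_right, Subgroup.relIndex_bot_left]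
    calc Nat.card (Bp.subgroupOf R') * Nat.card (Bp ⊓ Ap : Subgroup G) * (Bp.subgroupOf R').index
        = Nat.card R' * Nat.card (Bp ⊓ Ap : Subgroup G) := by
          rw [← (Bp.subgroupOf R').card_mul_index]; ring
      _ ≤ p ^ (Nat.card G).factorization p * p ^ (Nat.card (B ⊓ A : Subgroup G)).factorization p :=
          Nat.mul_le_mul hcR.le (Nat.le_of_dvd (pow_pos hp.out.pos _) hmeet)
      _ = Nat.card Bp * Nat.card Ap := by rw [← pow_add, hexp, pow_add, hcA, hcB, mul_comm]
      _ = _ := by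
          rw [Nat.card_congr (Subgroup.subgroupOfEquivOfLe hBR).toEquiv, ← h1]; ring
  intro x hx y hy
  obtain ⟨x', hx', y', hy', e⟩ := Cfsg.Agent.SolvStruct.mul_of_index_le hidx
    (⟨y, hBR hy⟩ * ⟨x, hAR hx⟩ : R')
  exact ⟨x', hx', y', hy', congrArg Subtype.val e⟩

/-- A `p`-subgroup normalized by a factor, lying in a normal subgroup of `M` which does not contain
the minimal normal subgroup `N`, is trivial. -/
lemma side {A N Ap M M1 : Subgroup G} [N.Normal] (hN0 : N ≠ ⊥)
    (hmin : ∀ K : Subgroup G, K.Normal → K ≤ N → K = ⊥ ∨ K = N) (hAN : N ⊔ A = ⊤)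
    (hAp : A ≤ Subgroup.normalizer (Ap : Set G))
    (hnos : ∀ R : Subgroup G, R.Normal → Group.IsSolvable R → R = ⊥)
    (hq : Group.IsSolvable (G ⧸ N)) (hNM : N ≤ M) (hM1 : M1 ≤ M)
    (hn : M ≤ Subgroup.normalizer (M1 : Set G)) (hAp1 : Ap ≤ M1) (hnot : ¬ N ≤ M1) : Ap = ⊥ := by
  have hNt := (Subgroup.nontrivial_iff_ne_bot N).2 hN0
  obtain ⟨L₀, hL₀n, hL₀, -, hL₀min⟩ :=
    exists_minimal_normal (G := N) (N := ⊤) inferInstance top_ne_bot
  set L : G → Subgroup G := fun g => MulAut.conj g • L₀.map N.subtype with hL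
  have hLN : ∀ g, L g ≤ N := fun g x hx => by
    rw [hL, mem_conjSmul] at hx
    have h1 := ‹N.Normal›.conj_mem _ (Subgroup.map_subtype_le _ hx) g
    simpa [mul_assoc] using h1
  have hLnorm : ∀ g, N ≤ Subgroup.normalizer (L g : Set G) := by
    intro g x hx
    refine le_normalizer_of_conj_mem fun s hs => ?_
    rw [hL, mem_conjSmul] at hs ⊢
    obtain ⟨t, ht, hts⟩ := hs
    refine ⟨⟨g⁻¹ * x * g, by simpa using ‹N.Normal›.conj_mem _ hx g⁻¹⟩ * t *
      ⟨g⁻¹ * x * g, by simpa using ‹N.Normal›.conj_mem _ hx g⁻¹⟩⁻¹, hL₀n.conj_mem t ht _, ?_⟩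
    change g⁻¹ * x * g * (N.subtype t) * (g⁻¹ * x * g)⁻¹ = _
    rw [hts]
    group
  have hLmin : ∀ g (T : Subgroup G), T ≤ L g → N ≤ Subgroup.normalizer (T : Set G) →
      T = ⊥ ∨ T = L g := by
    intro g T hT hTn
    set T' := MulAut.conj g⁻¹ • T with hT'
    have hT'le : T' ≤ L₀.map N.subtype := by
      have h1 := (Subgroup.pointwise_smul_le_pointwise_smul_iff (a := MulAut.conj g⁻¹)).2 hT
      rwa [hL, conjSmul_inv_conjSmul] at h1
    have hT'n : (T'.subgroupOf N).Normal := ⟨fun s hs x => by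
      rw [Subgroup.mem_subgroupOf] at hs ⊢
      rw [hT', mem_conjSmul] at hs ⊢
      have h1 := (Subgroup.mem_normalizer_iff.1
        (hTn (‹N.Normal›.conj_mem _ x.2 g)) _).1 hs
      convert h1 using 1
      simp [mul_assoc]⟩
    rcases hL₀min (T'.subgroupOf N) hT'n (fun s hs => by
        obtain ⟨t, ht, hts⟩ := hT'le (Subgroup.mem_subgroupOf.1 hs)
        rwa [← Subtype.ext (a1 := t) (a2 := s) hts]) with h | h
    · left
      have h1 : T' = ⊥ := by
        rw [← Subgroup.map_subgroupOf_eq_of_le (hT'le.trans (Subgroup.map_subtype_le _)), h,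
          Subgroup.map_bot]
      exact Subgroup.eq_bot_of_card_eq _ (by
        rw [← card_conjSmul g⁻¹ T, ← hT', h1, Subgroup.card_bot])
    · right
      have h1 : T' = L₀.map N.subtype := by
        rw [← Subgroup.map_subgroupOf_eq_of_le (hT'le.trans (Subgroup.map_subtype_le _)), h]
      rw [hL]
      simp only
      rw [← h1, hT', conjSmul_conjSmul, mul_inv_cancel, conjSmul_one]
  have hgen : ∀ g₀ (Q : Subgroup G), (∀ a ∈ A, MulAut.conj a • L g₀ ≤ Q) → N ≤ Q := by
    intro g₀ Q hQ
    have hLne : (L g₀ : Subgroup G) ≠ ⊥ := fun h => hL₀ (by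
      rw [← Subgroup.map_eq_bot_iff_of_injective _ N.subtype_injective]
      exact Subgroup.eq_bot_of_card_eq _ (by rw [← card_conjSmul g₀, ← Subgroup.card_eq_one.2 h]))
    have h1 := (hmin _ (Subgroup.normalClosure_normal (s := (L g₀ : Set G)))
      (Subgroup.normalClosure_le_normal (hLN g₀))).resolve_left
      fun h => hLne (eq_bot_iff.2 (h ▸ Subgroup.subset_normalClosure))
    rw [← h1, Subgroup.normalClosure, Subgroup.closure_le]
    intro y hy
    obtain ⟨l, hl, hly⟩ := Group.mem_conjugatesOfSet_iff.1 hy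
    obtain ⟨c, rfl⟩ := isConj_iff.1 hly
    obtain ⟨n, hn', a, ha, e⟩ := (mem_sup_iff_of_le_normalizer
      (show A ≤ Subgroup.normalizer (N : Set G) by rw [Subgroup.normalizer_eq_top]; exact le_top)).1
      (hAN ▸ Subgroup.mem_top c)
    have hc : c = a * (a⁻¹ * n * a) := by rw [e]; group
    refine hQ a ha ?_
    rw [mem_conjSmul, hc]
    have h2 := (Subgroup.mem_normalizer_iff.1
      (hLnorm g₀ (show a⁻¹ * n * a ∈ N by simpa using ‹N.Normal›.conj_mem _ hn' a⁻¹)) l).1 hl
    convert h2 using 1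
    group
  obtain ⟨a₀, ha₀, hL'⟩ : ∃ a ∈ A, ¬ MulAut.conj a • L 1 ≤ M1 := by
    by_contra hcon
    push Not at hcon
    exact hnot (hgen 1 M1 hcon)
  rw [hL] at hL'
  simp only [conjSmul_conjSmul, mul_one] at hL'
  -- `D = M1 ∩ N`
  set D := M1 ⊓ N with hD
  have hDn : N ≤ Subgroup.normalizer (D : Set G) := fun x hx => le_normalizer_of_conj_mem fun s hs =>
    Subgroup.mem_inf.2 ⟨(Subgroup.mem_normalizer_iff.1 (hn (hNM hx)) s).1 hs.1,
      ‹N.Normal›.conj_mem s hs.2 x⟩
  have hcomm : ∀ g, ¬ L g ≤ M1 → ∀ l ∈ L g, l ∈ Subgroup.centralizer (D : Set G) := by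
    intro g hg l hl
    have hbot : L g ⊓ D = ⊥ := by
      refine (hLmin g _ inf_le_left fun x hx => le_normalizer_of_conj_mem fun s hs =>
        Subgroup.mem_inf.2 ⟨(Subgroup.mem_normalizer_iff.1 (hLnorm g hx) s).1 hs.1,
          (Subgroup.mem_normalizer_iff.1 (hDn hx) s).1 hs.2⟩).resolve_right fun h => hg ?_
      exact (h.ge.trans inf_le_right).trans inf_le_left
    rw [Subgroup.mem_centralizer_iff]
    intro d hd
    have h1 : d * l * d⁻¹ * l⁻¹ ∈ L g ⊓ D := by
      refine Subgroup.mem_inf.2 ⟨mul_mem ((Subgroup.mem_normalizer_iff.1 (hLnorm g hd.2) l).1 hl)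
        (inv_mem hl), ?_⟩
      rw [mul_assoc d l, mul_assoc d]
      exact mul_mem hd ((Subgroup.mem_normalizer_iff.1 (hDn (hLN g hl)) _).1 (inv_mem hd))
    rw [hbot, Subgroup.mem_bot] at h1
    exact mul_inv_eq_iff_eq_mul.1 (mul_inv_eq_one.1 h1)
  have hnilfree : ∀ R : Subgroup G, R ≤ N → N ≤ Subgroup.normalizer (R : Set G) →
      IsMulCommutative R → R = ⊥ := by
    intro R hRN hRn hRc
    have hn' : (R.subgroupOf N).Normal := Subgroup.normal_subgroupOf_of_le_normalizer hRn
    have hc : IsMulCommutative (R.subgroupOf N) := .of_setLike_mul_comm fun x hx y hy =>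
      Subtype.ext (setLike_mul_comm (s := R) hx hy)
    have h1 : (R.subgroupOf N).map N.subtype ≤ Cfsg.fittingSubgroup G :=
      (Subgroup.map_mono (Cfsg.Agent.FittingCores.le_fitting hn'
        (letI : CommGroup (R.subgroupOf N) := { mul_comm := mul_comm' }; inferInstance))).trans
        (Cfsg.Agent.FittingCores.fitting_map_subtype_le inferInstance)
    rw [Subgroup.map_subgroupOf_eq_of_le hRN] at h1
    have h2 : Cfsg.fittingSubgroup G = ⊥ := by
      have := Cfsg.Agent.FittingCores.fitting_nilpotent (G := G)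
      exact hnos _ Cfsg.Agent.FittingCores.fitting_normal inferInstance
    exact le_bot_iff.1 (h2 ▸ h1)
  have hE : D ⊓ Subgroup.centralizer (D : Set G) = ⊥ := by
    refine hnilfree _ (inf_le_left.trans inf_le_right) (fun x hx => le_normalizer_of_conj_mem fun s hs => ?_) ?_
    · refine Subgroup.mem_inf.2 ⟨(Subgroup.mem_normalizer_iff.1 (hDn hx) s).1 hs.1,
        Subgroup.mem_centralizer_iff.2 fun d hd => ?_⟩
      have h1 := Subgroup.mem_centralizer_iff.1 hs.2 _
        ((Subgroup.mem_normalizer_iff''.1 (hDn hx) d).1 hd)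
      calc d * (x * s * x⁻¹) = x * ((x⁻¹ * d * x) * s) * x⁻¹ := by group
        _ = x * (s * (x⁻¹ * d * x)) * x⁻¹ := by rw [h1]
        _ = _ := by group
    · exact .of_setLike_mul_comm fun x hx y hy => (Subgroup.mem_centralizer_iff.1 hy.2 x hx.1)
  have hcen : ∀ x ∈ Ap, ∀ l ∈ L a₀, x * l = l * x := by
    intro x hx l hl
    have hxl : x * l * x⁻¹ ∈ L (x * a₀) := by
      rw [hL, mem_conjSmul] at hl ⊢
      convert hl using 1
      group
    have hnot' : ¬ L (x * a₀) ≤ M1 := fun hle => hL' fun w hw => by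
      have h1 : x * w * x⁻¹ ∈ L (x * a₀) := by
        rw [hL, mem_conjSmul]
        rw [mem_conjSmul] at hw
        convert hw using 1
        group
      simpa [mul_assoc] using M1.mul_mem (M1.mul_mem (M1.inv_mem (hAp1 hx)) (hle h1)) (hAp1 hx)
    have h1 : x * l * x⁻¹ * l⁻¹ ∈ D ⊓ Subgroup.centralizer (D : Set G) := by
      refine Subgroup.mem_inf.2 ⟨Subgroup.mem_inf.2 ⟨?_, ?_⟩,
        mul_mem (hcomm _ hnot' _ hxl) (inv_mem (hcomm _ hL' _ hl))⟩
      · rw [mul_assoc x l, mul_assoc x]
        exact M1.mul_mem (hAp1 hx)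
          ((Subgroup.mem_normalizer_iff.1 (hn (hNM (hLN _ hl))) _).1 (M1.inv_mem (hAp1 hx)))
      · exact N.mul_mem (‹N.Normal›.conj_mem _ (hLN _ hl) x) (N.inv_mem (hLN _ hl))
    rw [hE, Subgroup.mem_bot] at h1
    exact mul_inv_eq_iff_eq_mul.1 (mul_inv_eq_one.1 h1)
  have hNC : N ≤ Subgroup.centralizer (Ap : Set G) := hgen a₀ _ fun a ha y hy => by
    rw [mem_conjSmul] at hy
    rw [Subgroup.mem_centralizer_iff]
    intro x hx
    have h1 := hcen _ ((Subgroup.mem_normalizer_iff''.1 (hAp ha) x).1 hx) _ hy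
    calc x * y = a * ((a⁻¹ * x * a) * (a⁻¹ * y * a)) * a⁻¹ := by group
      _ = a * ((a⁻¹ * y * a) * (a⁻¹ * x * a)) * a⁻¹ := by rw [h1]
      _ = _ := by group
  set C := Subgroup.centralizer (N : Set G) with hC
  have hCn : C.Normal := inferInstance
  have hCN : C ⊓ N = ⊥ := hnilfree _ inf_le_right
    (fun x _ => by rw [Subgroup.normalizer_eq_top]; trivial)
    (.of_setLike_mul_comm fun x hx y hy => (Subgroup.mem_centralizer_iff.1 hy.1 x hx.2))
  have hCs : Group.IsSolvable C :=
    Group.isSolvable_of_isSolvable_injective (f := (QuotientGroup.mk' N).comp C.subtype) (by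
      rw [injective_iff_map_eq_one]
      intro x hx
      have h1 : (x : G) ∈ C ⊓ N := ⟨x.2, (QuotientGroup.eq_one_iff _).1 hx⟩
      rw [hCN, Subgroup.mem_bot] at h1
      exact Subtype.ext h1)
  exact le_bot_iff.1 (hnos C hCn hCs ▸ Subgroup.le_centralizer_iff.1 hNC)

theorem product_solvable_aux : ∀ n : ℕ, ∀ {G : Type u} [Group G] [Finite G] (A B : Subgroup G),
    Nat.card G = n → Group.IsNilpotent A → Group.IsNilpotent B →
      (∀ g : G, ∃ a ∈ A, ∃ b ∈ B, g = a * b) → Group.IsSolvable G := by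
  intro n
  induction n using Nat.strong_induction_on with
  | _ n ih =>
    intro G _ _ A B hn hA hB hAB
    by_contra hns
    by_cases hcop : (Nat.card A).Coprime (Nat.card B)
    · exact hns (Cfsg.Agent.CoprimeProduct.coprime_solvable ⟨hA, hB, hcop, hAB⟩)
    obtain ⟨p, hp, hpA, hpB⟩ := Nat.Prime.not_coprime_iff_dvd.1 hcop
    have := Fact.mk hp
    have hq : ∀ (R : Subgroup G) [R.Normal], R ≠ ⊥ → Group.IsSolvable (G ⧸ R) := by
      intro R _ hR
      set f := QuotientGroup.mk' R
      have hlt : Nat.card (G ⧸ R) < n := by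
        rw [← hn, R.card_eq_card_quotient_mul_card_subgroup]
        exact lt_mul_of_one_lt_right Nat.card_pos (Subgroup.one_lt_card_iff_ne_bot R |>.2 hR)
      have := hA
      have := hB
      refine ih _ hlt (A.map f) (B.map f) rfl
        (Group.nilpotent_of_surjective _ (f.subgroupMap_surjective A))
        (Group.nilpotent_of_surjective _ (f.subgroupMap_surjective B)) fun y => ?_
      obtain ⟨g, rfl⟩ := QuotientGroup.mk'_surjective R y
      obtain ⟨a, ha, b, hb, rfl⟩ := hAB g
      exact ⟨_, Subgroup.mem_map_of_mem f ha, _, Subgroup.mem_map_of_mem f hb, map_mul f a b⟩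
    have hnos : ∀ R : Subgroup G, R.Normal → Group.IsSolvable R → R = ⊥ := by
      intro R hR hRs
      by_contra hR0
      have := hq R hR0
      exact hns (Group.isSolvable_of_ker_le_range R.subtype (QuotientGroup.mk' R) (by simp))
    have hsup : ∀ (A B : Subgroup G), Group.IsNilpotent A → Group.IsNilpotent B →
        (∀ g : G, ∃ a ∈ A, ∃ b ∈ B, g = a * b) → ∀ N : Subgroup G, N.Normal → N ≠ ⊥ →
          N ⊔ A = ⊤ := by
      intro A B hA hB hAB N hN hN0
      by_contra hne
      set H := N ⊔ A with hH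
      have hlt : Nat.card H < n := hn ▸ (Subgroup.card_le_card_group H).lt_of_ne fun e =>
        hne (Subgroup.card_eq_iff_eq_top H |>.1 e)
      have := ih _ hlt (A.subgroupOf H) (B.subgroupOf H) rfl (isNilpotent_subgroupOf hA)
        (isNilpotent_subgroupOf hB) fun y => by
          obtain ⟨a, ha, b, hb, e⟩ := hAB y
          have haH : a ∈ H := Subgroup.mem_sup_right ha
          have hbH : b ∈ H := by
            rw [show b = a⁻¹ * y by rw [e, inv_mul_cancel_left]]
            exact H.mul_mem (H.inv_mem haH) y.2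
          exact ⟨⟨a, haH⟩, ha, ⟨b, hbH⟩, hb, Subtype.ext e⟩
      exact hN0 (hnos N hN (isSolvable_of_le (le_sup_left : N ≤ N ⊔ A)))
    have hnt : Nontrivial G := by
      rcases subsingleton_or_nontrivial G with hs | hn'
      · exact absurd (Group.isSolvable_of_comm fun a b : G => Subsingleton.elim (a * b) (b * a)) hns
      · exact hn'
    obtain ⟨N, hN, hN0, -, hmin⟩ :=
      exists_minimal_normal (G := G) (N := ⊤) inferInstance top_ne_bot
    have hAN := hsup A B hA hB hAB N hN hN0
    have hBN := hsup B A hB hA (Cfsg.Agent.Factorised.mul_swap hAB) N hN hN0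
    obtain ⟨PA⟩ : Nonempty (Sylow p A) := inferInstance
    obtain ⟨PB⟩ : Nonempty (Sylow p B) := inferInstance
    obtain ⟨P, hAP, hBP, hperm⟩ := exists_perm_sylow hA hB hAB PA PB
    set Ap := (PA : Subgroup A).map A.subtype with hAp
    set Bp := (PB : Subgroup B).map B.subtype with hBp
    set M := N ⊔ Ap with hM
    have hMn : M.Normal := by
      rw [← Subgroup.normalizer_eq_top_iff, eq_top_iff, ← hAN]
      refine sup_le ((le_sup_left : N ≤ M).trans Subgroup.le_normalizer) fun a ha => ?_
      rw [mem_normalizer_iff_conjSmul, hM, Subgroup.smul_sup,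
        conjSmul_eq_self_of_mem_normalizer (by rw [Subgroup.normalizer_eq_top]; trivial),
        conjSmul_eq_self_of_mem_normalizer (le_normalizer_sylow hA PA ha)]
    have hBM : Bp ≤ M := by
      rintro x ⟨xb, hxb, rfl⟩
      obtain ⟨k, hk⟩ := PB.isPGroup' ⟨xb, hxb⟩
      obtain ⟨m, hm, a, ha, e⟩ := (mem_sup_iff_of_le_normalizer
        (show A ≤ Subgroup.normalizer (N : Set G) by rw [Subgroup.normalizer_eq_top]; exact le_top)).1
        (hAN ▸ Subgroup.mem_top (B.subtype xb))
      set f := QuotientGroup.mk' M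
      have hfx : f (B.subtype xb) = f a := by
        rw [e, map_mul, show f m = 1 from (QuotientGroup.eq_one_iff m).2 (Subgroup.mem_sup_left hm), one_mul]
      have hPn : (PA : Subgroup A).Normal :=
        PA.normal_of_normalizerCondition Group.normalizerCondition_of_isNilpotent
      have h1 : f (B.subtype xb) ^ (PA : Subgroup A).index = 1 := by
        rw [hfx, ← map_pow]
        exact (QuotientGroup.eq_one_iff _).2
          (Subgroup.mem_sup_right ⟨_, Subgroup.pow_index_mem _ (⟨a, ha⟩ : A), rfl⟩)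
      have h2 : f (B.subtype xb) ^ p ^ k = 1 := by
        rw [← map_pow, show (B.subtype xb) ^ p ^ k = 1 from
          congrArg (fun w : (PB : Subgroup B) => ((w : B) : G)) hk, map_one]
      exact (QuotientGroup.eq_one_iff _).1 (orderOf_eq_one_iff.1 (Nat.eq_one_of_dvd_coprimes
        (((Nat.Prime.coprime_iff_not_dvd hp).2 PA.not_dvd_index).pow_left k)
        (orderOf_dvd_of_pow_eq_one h2) (orderOf_dvd_of_pow_eq_one h1)))
    obtain ⟨M1, hM1n, hM1t, hor⟩ := Cfsg.Agent.Products.kegel_lemma
      (A := Ap.subgroupOf M) (B := Bp.subgroupOf M) fun x => by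
        obtain ⟨a, ha, b, hb, e⟩ := hAB x
        have e1 : MulAut.conj (x : G) • Bp = MulAut.conj a • Bp := by
          rw [e, ← conjSmul_conjSmul, conjSmul_eq_self_of_mem_normalizer (le_normalizer_sylow hB PB hb)]
        have e2 : MulAut.conj a • Ap = Ap :=
          conjSmul_eq_self_of_mem_normalizer (le_normalizer_sylow hA PA ha)
        have hp' : Cfsg.Agent.Products.Perm Ap (MulAut.conj (x : G) • Bp) := by
          have := hperm.conj a
          rwa [e2, ← e1] at this
        have hxM : MulAut.conj (x : G) • Bp ≤ M := fun w hw => by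
          rw [mem_conjSmul] at hw
          simpa [mul_assoc] using hMn.conj_mem _ (hBM hw) x
        have hmap : (MulAut.conj x • Bp.subgroupOf M).map M.subtype = MulAut.conj (x : G) • Bp := by
          rw [map_subtype_conjSmul, Subgroup.map_subgroupOf_eq_of_le hBM]
        refine ⟨fun s hs t ht => ?_, fun htop => ?_⟩
        · obtain ⟨s', hs', t', ht', e'⟩ := hp' s hs (t : G)
            (hmap.le (Subgroup.mem_map_of_mem M.subtype ht))
          refine ⟨⟨s', (le_sup_right : Ap ≤ M) hs'⟩, hs', ⟨t', hxM ht'⟩, ?_, Subtype.ext e'⟩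
          rw [mem_conjSmul] at ht' ⊢
          exact ht'
        · have h1 := congrArg (Subgroup.map M.subtype) htop
          rw [Subgroup.map_sup, hmap, Subgroup.map_subgroupOf_eq_of_le le_sup_right,
            ← MonoidHom.range_eq_map, Subgroup.range_subtype] at h1
          have hle : M ≤ MulAut.conj a • (P : Subgroup G) := by
            rw [← h1, e1, ← e2, ← Subgroup.smul_sup]
            exact Subgroup.pointwise_smul_le_pointwise_smul_iff.2 (sup_le hAP hBP)
          have hpg : IsPGroup p (MulAut.conj a • (P : Subgroup G) : Subgroup G) := by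
            have := (a • P).isPGroup'
            rwa [Sylow.coe_subgroup_smul] at this
          have hNp : IsPGroup p N := hpg.to_le ((le_sup_left : N ≤ M).trans hle)
          have := hNp.isNilpotent
          exact hN0 (hnos N hN inferInstance)
    set M1' := M1.map M.subtype with hM1'
    have hn1 : M ≤ Subgroup.normalizer (M1' : Set G) := fun m hm => by
      refine le_normalizer_of_conj_mem ?_
      rintro _ ⟨s, hs, rfl⟩
      exact ⟨⟨m, hm⟩ * s * ⟨m, hm⟩⁻¹, hM1n.conj_mem s hs _, rfl⟩
    have hnot : ∀ X : Subgroup G, X ≤ M → M ≤ N ⊔ X → X.subgroupOf M ≤ M1 → ¬ N ≤ M1' := by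
      intro X hXM hMX hX hNle
      refine hM1t (top_le_iff.1 fun m _ => ?_)
      obtain ⟨w, hw, hwm⟩ : (m : G) ∈ M1' := (hMX.trans (sup_le hNle
        (Subgroup.map_subgroupOf_eq_of_le hXM ▸ Subgroup.map_mono hX))) m.2
      exact Subtype.ext hwm ▸ hw
    have hMB : M ≤ N ⊔ Bp := by
      refine sup_le le_sup_left ?_
      rintro x ⟨xa, hxa, rfl⟩
      have hn2 : (N ⊔ Bp).Normal := by
        rw [← Subgroup.normalizer_eq_top_iff, eq_top_iff, ← hBN]
        refine sup_le ((le_sup_left : N ≤ N ⊔ Bp).trans Subgroup.le_normalizer) fun b hb => ?_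
        rw [mem_normalizer_iff_conjSmul, Subgroup.smul_sup,
          conjSmul_eq_self_of_mem_normalizer (by rw [Subgroup.normalizer_eq_top]; trivial),
          conjSmul_eq_self_of_mem_normalizer (le_normalizer_sylow hB PB hb)]
      obtain ⟨k, hk⟩ := PA.isPGroup' ⟨xa, hxa⟩
      obtain ⟨m, hm, b, hb, e⟩ := (mem_sup_iff_of_le_normalizer
        (show B ≤ Subgroup.normalizer (N : Set G) by rw [Subgroup.normalizer_eq_top]; exact le_top)).1
        (hBN ▸ Subgroup.mem_top (A.subtype xa))
      set f := QuotientGroup.mk' (N ⊔ Bp)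
      have hfx : f (A.subtype xa) = f b := by
        rw [e, map_mul, show f m = 1 from (QuotientGroup.eq_one_iff m).2 (Subgroup.mem_sup_left hm), one_mul]
      have hPn : (PB : Subgroup B).Normal :=
        PB.normal_of_normalizerCondition Group.normalizerCondition_of_isNilpotent
      have h1 : f (A.subtype xa) ^ (PB : Subgroup B).index = 1 := by
        rw [hfx, ← map_pow]
        exact (QuotientGroup.eq_one_iff _).2
          (Subgroup.mem_sup_right ⟨_, Subgroup.pow_index_mem _ (⟨b, hb⟩ : B), rfl⟩)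
      have h2 : f (A.subtype xa) ^ p ^ k = 1 := by
        rw [← map_pow, show (A.subtype xa) ^ p ^ k = 1 from
          congrArg (fun w : (PA : Subgroup A) => ((w : A) : G)) hk, map_one]
      exact (QuotientGroup.eq_one_iff _).1 (orderOf_eq_one_iff.1 (Nat.eq_one_of_dvd_coprimes
        (((Nat.Prime.coprime_iff_not_dvd hp).2 PB.not_dvd_index).pow_left k)
        (orderOf_dvd_of_pow_eq_one h2) (orderOf_dvd_of_pow_eq_one h1)))
    rcases hor with h | h
    · have hle : Ap ≤ M1' := Subgroup.map_subgroupOf_eq_of_le (le_sup_right : Ap ≤ M) ▸ Subgroup.map_mono h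
      have h0 := side hN0 hmin hAN (le_normalizer_sylow hA PA) hnos (hq N hN0) le_sup_left
        (Subgroup.map_subtype_le _) hn1 hle (hnot Ap le_sup_right le_rfl h)
      exact PA.ne_bot_of_dvd_card hpA
        ((Subgroup.map_eq_bot_iff_of_injective _ A.subtype_injective).1 h0)
    · have hle : Bp ≤ M1' := Subgroup.map_subgroupOf_eq_of_le hBM ▸ Subgroup.map_mono h
      have h0 := side hN0 hmin hBN (le_normalizer_sylow hB PB) hnos (hq N hN0) (M := M) le_sup_left
        (Subgroup.map_subtype_le _) hn1 hle (hnot Bp hBM hMB h)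
      exact PB.ne_bot_of_dvd_card hpB
        ((Subgroup.map_eq_bot_iff_of_injective _ B.subtype_injective).1 h0)

/-- Kegel–Wielandt: a product of two nilpotent subgroups is solvable. -/
theorem product_solvable {G : Type u} [Group G] [Finite G] {A B : Subgroup G}
    (hA : Group.IsNilpotent A) (hB : Group.IsNilpotent B)
    (hAB : ∀ g : G, ∃ a ∈ A, ∃ b ∈ B, g = a * b) : Group.IsSolvable G :=
  product_solvable_aux _ A B rfl hA hB hAB

end Cfsg.Agent.KegelWielandt
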