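import Cfsg.Agent.Lib.Solvable.Structure
import Mathlib.GroupTheory.GroupAction.Primitive

/-! Core-free maximal subgroups and primitive groups. -/

set_option autoImplicit false
open scoped Pointwise commutatorElement

namespace Cfsg.Agent.SolvPrim

variable {G : Type*} [Group G] {U : Subgroup G}

lemma eq_bot_of_le_coreFree (hcore : U.normalCore = ⊥) {N : Subgroup G} (hn : N.Normal)
    (h : N ≤ U) : N = ⊥ := by
  have := hn
  exact le_bot_iff.1 (hcore ▸ Subgroup.normal_le_normalCore.2 h)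

lemma sup_eq_top (hU : IsCoatom U) (hcore : U.normalCore = ⊥) {N : Subgroup G} (hn : N.Normal)
    (hN : N ≠ ⊥) : N ⊔ U = ⊤ :=
  hU.2 _ (right_lt_sup.2 fun h => hN (eq_bot_of_le_coreFree hcore hn h))

lemma exists_mul (hU : IsCoatom U) (hcore : U.normalCore = ⊥) {N : Subgroup G} (hn : N.Normal)
    (hN : N ≠ ⊥) (g : G) : ∃ n ∈ N, ∃ u ∈ U, g = n * u := by
  have := hn
  refine (SolvBasic.mem_sup_iff_of_le_normalizer ?_).1 (sup_eq_top hU hcore hn hN ▸ Subgroup.mem_top g)
  rw [Subgroup.normalizer_eq_top]; exact le_top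

lemma centralizer_inf_eq_bot (hU : IsCoatom U) (hcore : U.normalCore = ⊥) {N : Subgroup G}
    [N.Normal] (hN : N ≠ ⊥) : Subgroup.centralizer (N : Set G) ⊓ U = ⊥ := by
  refine eq_bot_of_le_coreFree hcore ⟨fun x hx g => ?_⟩ inf_le_right
  obtain ⟨hxc, hxu⟩ := Subgroup.mem_inf.1 hx
  obtain ⟨n, hn, u, hu, rfl⟩ := exists_mul hU hcore ‹N.Normal› hN g
  have hu' : u * x * u⁻¹ ∈ Subgroup.centralizer (N : Set G) ⊓ U :=
    Subgroup.mem_inf.2 ⟨(inferInstance : (Subgroup.centralizer (N : Set G)).Normal).conj_mem _ hxc _,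
      U.mul_mem (U.mul_mem hu hxu) (U.inv_mem hu)⟩
  have hc := Subgroup.mem_centralizer_iff.1 hu'.1 n hn
  have : n * u * x * (n * u)⁻¹ = u * x * u⁻¹ := by
    calc n * u * x * (n * u)⁻¹ = n * (u * x * u⁻¹) * n⁻¹ := by simp [mul_assoc]
      _ = (u * x * u⁻¹) * n * n⁻¹ := by rw [hc]
      _ = _ := by simp [mul_assoc]
  rw [this]; exact hu'

lemma centralizer_minimal (hU : IsCoatom U) (hcore : U.normalCore = ⊥) {N : Subgroup G}
    [N.Normal] (hN : N ≠ ⊥) {K : Subgroup G} (hK : K.Normal)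
    (hle : K ≤ Subgroup.centralizer (N : Set G)) :
    K = ⊥ ∨ K = Subgroup.centralizer (N : Set G) := by
  by_cases hb : K = ⊥
  · exact Or.inl hb
  refine Or.inr (le_antisymm hle fun c hc => ?_)
  obtain ⟨k, hk, u, hu, rfl⟩ := exists_mul hU hcore hK hb c
  have h1 : u ∈ Subgroup.centralizer (N : Set G) ⊓ U := by
    refine ⟨?_, hu⟩
    have := mul_mem (inv_mem (hle hk)) hc
    rwa [← mul_assoc, inv_mul_cancel, one_mul] at this
  rw [centralizer_inf_eq_bot hU hcore hN, Subgroup.mem_bot] at h1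
  rw [h1, mul_one]; exact hk

lemma centralizer_eq_self (hU : IsCoatom U) (hcore : U.normalCore = ⊥) {N : Subgroup G}
    [N.Normal] [IsMulCommutative N] (hN : N ≠ ⊥) : Subgroup.centralizer (N : Set G) = N :=
  ((centralizer_minimal hU hcore hN ‹N.Normal› (Subgroup.le_centralizer N)).resolve_left hN).symm

lemma inf_eq_bot_of_abelian (hU : IsCoatom U) (hcore : U.normalCore = ⊥) {N : Subgroup G}
    [N.Normal] [IsMulCommutative N] (hN : N ≠ ⊥) : N ⊓ U = ⊥ :=
  le_bot_iff.1 ((inf_le_inf_right U (Subgroup.le_centralizer N)).trans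
    (centralizer_inf_eq_bot hU hcore hN).le)

lemma isComplement' {N : Subgroup G} [N.Normal] (h1 : N ⊓ U = ⊥) (h2 : N ⊔ U = ⊤) :
    Subgroup.IsComplement' N U :=
  Subgroup.isComplement'_of_disjoint_and_mul_eq_univ (disjoint_iff.2 h1) (by
    rw [← Subgroup.normal_mul, h2, Subgroup.coe_top])

lemma complement_of_abelian (hU : IsCoatom U) (hcore : U.normalCore = ⊥) {N : Subgroup G}
    [N.Normal] [IsMulCommutative N] (hN : N ≠ ⊥) : Subgroup.IsComplement' N U :=
  isComplement' (inf_eq_bot_of_abelian hU hcore hN) (sup_eq_top hU hcore ‹N.Normal› hN)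

/-- Point stabilisers of a faithful primitive action of a nontrivial group are core-free maximal. -/
lemma stabilizer_coatom {Ω : Type*} [MulAction G Ω] [FaithfulSMul G Ω]
    (hprim : MulAction.IsPreprimitive G Ω) [Nontrivial G] (ω : Ω) :
    IsCoatom (MulAction.stabilizer G ω) ∧ (MulAction.stabilizer G ω).normalCore = ⊥ := by
  have := hprim
  have : Nontrivial Ω := by
    by_contra h
    rw [not_nontrivial_iff_subsingleton] at h
    obtain ⟨a, b, hab⟩ := exists_pair_ne G
    exact hab (FaithfulSMul.eq_of_smul_eq_smul fun x : Ω => Subsingleton.elim _ _)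
  refine ⟨MulAction.IsPreprimitive.isCoatom_stabilizer_of_isPreprimitive G ω, ?_⟩
  rw [eq_bot_iff]
  intro x hx
  rw [Subgroup.mem_bot]
  refine FaithfulSMul.eq_of_smul_eq_smul fun y : Ω => ?_
  obtain ⟨g, rfl⟩ := MulAction.exists_smul_eq G ω y
  have h := (inferInstance : (MulAction.stabilizer G ω).normalCore.Normal).conj_mem x hx g⁻¹
  have h' := MulAction.mem_stabilizer_iff.1 (Subgroup.normalCore_le _ h)
  rw [inv_inv, mul_smul, mul_smul, inv_smul_eq_iff] at h'
  rw [one_smul]; exact h'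

/-- A subgroup meeting a normal subgroup trivially is isomorphic to its image. -/
noncomputable def equivMapMk {N : Subgroup G} [N.Normal] {H : Subgroup G} (h : H ⊓ N = ⊥) :
    H ≃* H.map (QuotientGroup.mk' N) :=
  MulEquiv.ofBijective ((QuotientGroup.mk' N).subgroupMap H)
    ⟨(injective_iff_map_eq_one _).2 fun x hx => by
      have h1 : (x : G) ∈ N := (QuotientGroup.eq_one_iff _).1 (congrArg Subtype.val hx)
      have h2 : (x : G) ∈ H ⊓ N := ⟨x.2, h1⟩
      rw [h, Subgroup.mem_bot] at h2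
      exact Subtype.ext h2,
    (QuotientGroup.mk' N).subgroupMap_surjective H⟩

end Cfsg.Agent.SolvPrim
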