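import Cfsg.Agent.Lib.Solvable.SystemNormalizer

/-! Carter subgroups of finite solvable groups. -/

set_option autoImplicit false
open scoped Pointwise commutatorElement

universe u

namespace Cfsg.Agent.Carter

open Cfsg.Agent.SolvBasic

section PPart

variable {G : Type u} [Group G]

/-- `S` is a normal `p'`-subgroup of `p`-power index in `C`. -/
structure PPart (p : ℕ) (C S : Subgroup G) : Prop where
  le : S ≤ C
  cop : (Nat.card S).Coprime p
  norm : C ≤ Subgroup.normalizer (S : Set G)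
  pow : ∀ x ∈ C, ∃ a, x ^ p ^ a ∈ S

lemma mem_of_pow_mem {S : Subgroup G} {x : G} {n : ℕ} (h : (orderOf x).Coprime n)
    (hx : x ^ n ∈ S) : x ∈ S := by
  obtain ⟨m, hm⟩ := exists_pow_eq_self_of_coprime h.symm
  exact hm ▸ S.pow_mem hx m

lemma PPart.mem {p : ℕ} {C S : Subgroup G} (h : PPart p C S) {x : G} (hx : x ∈ C)
    (hcop : (orderOf x).Coprime p) : x ∈ S := by
  obtain ⟨a, ha⟩ := h.pow x hx
  exact mem_of_pow_mem (hcop.pow_right a) ha

lemma exists_pow_coprime [Finite G] (x : G) {p : ℕ} (hp : p.Prime) :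
    ∃ a, (orderOf (x ^ p ^ a)).Coprime p := by
  refine ⟨(orderOf x).factorization p, ?_⟩
  rw [orderOf_pow' x (pow_ne_zero _ hp.ne_zero), Nat.gcd_eq_right (Nat.ordProj_dvd _ _)]
  exact (Nat.coprime_ordCompl hp (orderOf_pos x).ne').symm

lemma orderOf_conj (g x : G) : orderOf (g * x * g⁻¹) = orderOf x :=
  orderOf_injective (MulAut.conj g).toMonoidHom (MulAut.conj g).injective x

lemma coprime_of_mem {S : Subgroup G} [Finite G] {n : ℕ} (h : (Nat.card S).Coprime n) {x : G}
    (hx : x ∈ S) : (orderOf x).Coprime n :=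
  h.coprime_dvd_left (S.orderOf_dvd_natCard hx)

lemma le_normalizer_of_conj_mem [Finite G] {S : Subgroup G} {g : G}
    (h : ∀ s ∈ S, g * s * g⁻¹ ∈ S) : g ∈ Subgroup.normalizer (S : Set G) := by
  rw [mem_normalizer_iff_conjSmul]
  refine Subgroup.eq_of_le_of_card_ge (fun x hx => ?_) (card_conjSmul g S).ge
  rw [mem_conjSmul] at hx
  simpa [mul_assoc] using h _ hx

lemma exists_ppart [Finite G] {C : Subgroup G} (hC : Group.IsNilpotent C) {p : ℕ}
    (hp : p.Prime) : ∃ S : Subgroup G, PPart p C S := by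
  obtain ⟨K, hK⟩ := Cfsg.Agent.HallSolv.exists_complementSystem (G := C)
  set q : Nat.Primes := ⟨p, hp⟩
  have hn : (K q).Normal := by
    rw [← Subgroup.normalizer_eq_top_iff]
    by_contra hne
    obtain hlt := Group.normalizerCondition_of_isNilpotent (G := C) _ (lt_top_iff_ne_top.2 hne)
    obtain ⟨g, hg, hg'⟩ := SetLike.exists_of_lt hlt
    refine hg' (mem_normalizer_iff_conjSmul.2 (Subgroup.eq_of_le_of_card_ge ?_
      (card_conjSmul g _).ge))
    refine Cfsg.Agent.SysNorm.le_of_coprime hK ?_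
      (by rw [card_conjSmul]; exact Cfsg.Agent.SysNorm.card_coprime hK q)
    intro x hx
    rw [mem_conjSmul] at hx
    exact (Subgroup.mem_normalizer_iff''.1 hg x).2 (Subgroup.le_normalizer hx)
  refine ⟨(K q).map C.subtype, Subgroup.map_subtype_le _, ?_, ?_, fun x hx => ?_⟩
  · rw [Subgroup.card_map_of_injective C.subtype_injective]
    exact Cfsg.Agent.SysNorm.card_coprime hK q
  · intro g hg
    refine le_normalizer_of_conj_mem ?_
    rintro _ ⟨s, hs, rfl⟩
    exact ⟨⟨g, hg⟩ * s * ⟨g, hg⟩⁻¹, hn.conj_mem s hs _, rfl⟩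
  · refine ⟨(Nat.card C).factorization p, ?_⟩
    have h1 := Subgroup.pow_index_mem (K q) (⟨x, hx⟩ : C)
    rw [hK q] at h1
    exact ⟨_, h1, rfl⟩

lemma isNilpotent_of_equiv {H : Type*} [Group H] [Group.IsNilpotent G] (e : G ≃* H) :
    Group.IsNilpotent H :=
  Group.nilpotent_of_surjective e.toMonoidHom e.surjective

lemma isNilpotent_of_injective {H : Type*} [Group H] [Group.IsNilpotent H] (f : G →* H)
    (hf : Function.Injective f) : Group.IsNilpotent G :=
  isNilpotent_of_equiv (MonoidHom.ofInjective hf).symm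

lemma isCarter_conj {C : Subgroup G} (hC : Cfsg.IsCarterSubgroup C) (g : G) :
    Cfsg.IsCarterSubgroup (MulAut.conj g • C) := by
  have := hC.1
  exact ⟨isNilpotent_of_equiv (Subgroup.equivSMul (MulAut.conj g) C),
    by rw [normalizer_conjSmul, hC.2]⟩

lemma eq_top_of_isNilpotent [Group.IsNilpotent G] {C : Subgroup G}
    (hC : Cfsg.IsCarterSubgroup C) : C = ⊤ := by
  by_contra hne
  exact (Group.normalizerCondition_of_isNilpotent C (lt_top_iff_ne_top.2 hne)).ne hC.2.symm

lemma isCarter_subgroupOf {C W : Subgroup G} (hC : Cfsg.IsCarterSubgroup C) (hCW : C ≤ W) :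
    Cfsg.IsCarterSubgroup (C.subgroupOf W) := by
  have := hC.1
  refine ⟨isNilpotent_of_equiv (Subgroup.subgroupOfEquivOfLe hCW).symm, ?_⟩
  refine le_antisymm (fun x hx => ?_) Subgroup.le_normalizer
  rw [Subgroup.mem_subgroupOf, ← hC.2, mem_normalizer_iff_conjSmul]
  have h := congrArg (Subgroup.map W.subtype) (mem_normalizer_iff_conjSmul.1 hx)
  rwa [map_subtype_conjSmul, Subgroup.map_subgroupOf_eq_of_le hCW] at h

end PPart

theorem exists_carter_aux : ∀ n : ℕ, ∀ {G : Type u} [Group G] [Finite G] [Group.IsSolvable G],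
    Nat.card G = n → ∀ K : Nat.Primes → Subgroup G, Cfsg.IsComplementSystem K →
      ∃ C : Subgroup G, Cfsg.IsCarterSubgroup C ∧ Cfsg.systemNormalizer K ≤ C ∧
        ∀ p : Nat.Primes, ∀ x ∈ C, (orderOf x).Coprime p → x ∈ K p := by
  intro n
  induction n using Nat.strong_induction_on with
  | _ n ih =>
    intro G _ _ _ hn K hK
    obtain hs | hnt := subsingleton_or_nontrivial G
    · refine ⟨⊤, ⟨?_, top_le_iff.1 Subgroup.le_normalizer⟩, le_top, fun p x _ _ => ?_⟩
      · exact (isNilpotent_of_injective (G := (⊤ : Subgroup G))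
          (1 : (⊤ : Subgroup G) →* PUnit.{u+1}) (Function.injective_of_subsingleton _))
      · rw [Subsingleton.elim x 1]; exact (K p).one_mem
    obtain ⟨N, p, hp, hNn, hN0, -, -, -, hNp, -⟩ :=
      exists_minimal_normal_abelian (G := G) (N := ⊤) inferInstance top_ne_bot
    have hN' : ∀ X : Subgroup G, X ≤ Subgroup.normalizer (N : Set G) := fun X => by
      rw [Subgroup.normalizer_eq_top]; exact le_top
    obtain ⟨j, hj⟩ : ∃ j, Nat.card N = p ^ j := by
      have := Fact.mk hp
      exact hNp.exists_card_eq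
    set q : Nat.Primes := ⟨p, hp⟩ with hq
    set f := QuotientGroup.mk' N with hf
    have hfs := QuotientGroup.mk'_surjective N
    have hKN := Cfsg.Agent.SysNorm.isComplementSystem_map hK N
    have hlt : Nat.card (G ⧸ N) < n := by
      rw [← hn, N.card_eq_card_quotient_mul_card_subgroup]
      exact lt_mul_of_one_lt_right Nat.card_pos (Subgroup.one_lt_card_iff_ne_bot N |>.2 hN0)
    obtain ⟨Cb, hCb, hDb, hPb⟩ := ih _ hlt rfl _ hKN
    set H := Cb.comap f with hH
    set S := H ⊓ K q with hS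
    have hScop : (Nat.card S).Coprime p :=
      (Cfsg.Agent.SysNorm.card_coprime hK q).coprime_dvd_left (Subgroup.card_dvd_of_le inf_le_right)
    have hScopN : (Nat.card S).Coprime (Nat.card N) := hj ▸ hScop.pow_right j
    have hNS : N ⊓ S = ⊥ := Cfsg.Agent.SchurZ.inf_eq_bot hScopN
    have hNH : N ≤ H := fun x hx => by
      rw [hH, Subgroup.mem_comap, show f x = 1 from (QuotientGroup.eq_one_iff x).2 hx]
      exact Cb.one_mem
    -- elements of `H` with image in the image of `K q`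
    have hlift : ∀ x ∈ H, f x ∈ (K q).map f → ∃ m ∈ N, ∃ k ∈ S, x = m * k := by
      intro x hx hxK
      obtain ⟨k, hk, hke⟩ := hxK
      have hkS : k ∈ S := Subgroup.mem_inf.2 ⟨show f k ∈ Cb from hke ▸ hx, hk⟩
      exact ⟨x * k⁻¹, (QuotientGroup.eq_one_iff _).1 (show f (x * k⁻¹) = 1 by
        rw [map_mul, map_inv, hke, mul_inv_cancel]), k, hkS, (inv_mul_cancel_right x k).symm⟩
    have hHcov : ∀ h ∈ H, ∃ m ∈ N, m * h ∈ Subgroup.normalizer (S : Set G) := by
      intro h hh
      obtain ⟨m, hm, hme⟩ := Cfsg.Agent.SchurZ.conj_in (hN' S) hScopN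
        (Or.inl (Group.isSolvable_of_isSolvable_injective S.subtype_injective))
        (B := MulAut.conj h • S) (fun x hx => by
          rw [mem_conjSmul] at hx
          have hxH : x ∈ H := by
            simpa [mul_assoc] using H.mul_mem (H.mul_mem hh hx.1) (H.inv_mem hh)
          refine (mem_sup_iff_of_le_normalizer (hN' S)).2 (hlift x hxH ?_)
          refine hPb q _ hxH ?_
          rw [show x = h * (h⁻¹ * x * h) * h⁻¹ by simp [mul_assoc], map_mul, map_mul, map_inv,
            orderOf_conj]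
          exact (coprime_of_mem hScop hx).coprime_dvd_left (orderOf_map_dvd f _))
        (card_conjSmul h S)
      refine ⟨m⁻¹, N.inv_mem hm, ?_⟩
      rw [mem_normalizer_iff_conjSmul, ← conjSmul_conjSmul, ← hme, conjSmul_inv_conjSmul]
    set C := H ⊓ Subgroup.normalizer (S : Set G) with hC
    have hcent : ∀ m ∈ N, m ∈ Subgroup.normalizer (S : Set G) → ∀ s ∈ S, Commute s m :=
      fun m hm hmn s hs => Subgroup.mem_centralizer_iff.1
        (Cfsg.Agent.SchurZ.mem_centralizer_of_mem_normalizer (hN' S) hNS hm hmn) s hs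
    have hppC : PPart p C S := by
      refine ⟨le_inf inf_le_left Subgroup.le_normalizer, hScop, inf_le_right, fun x hx => ?_⟩
      obtain ⟨a, ha⟩ := exists_pow_coprime (f x) hp
      have hxa : x ^ p ^ a ∈ C := C.pow_mem hx _
      obtain ⟨m, hm, k, hk, hmk⟩ := hlift _ hxa.1 (by
        rw [map_pow]; exact hPb q _ (Cb.pow_mem hx.1 _) ha)
      have hmn : m ∈ Subgroup.normalizer (S : Set G) := by
        rw [show m = x ^ p ^ a * k⁻¹ by rw [hmk, mul_inv_cancel_right]]
        exact mul_mem hxa.2 (inv_mem (Subgroup.le_normalizer hk))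
      refine ⟨a + j, ?_⟩
      have hm1 : m ^ p ^ j = 1 := by
        rw [← hj]
        exact congrArg Subtype.val (pow_card_eq_one' (G := N) (x := ⟨m, hm⟩))
      rw [pow_add, pow_mul, hmk, (hcent m hm hmn k hk).symm.mul_pow, hm1, one_mul]
      exact S.pow_mem hk _
    have hCnil : Group.IsNilpotent C := by
      have := hCb.1
      have hSn : (S.subgroupOf C).Normal :=
        Subgroup.normal_subgroupOf_of_le_normalizer inf_le_right
      have : Fact p.Prime := ⟨hp⟩
      have hpg : IsPGroup p (C ⧸ S.subgroupOf C) := by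
        intro y
        obtain ⟨⟨x, hx⟩, rfl⟩ := QuotientGroup.mk'_surjective _ y
        obtain ⟨a, ha⟩ := hppC.pow x hx
        refine ⟨a, ?_⟩
        rw [← map_pow]
        exact (QuotientGroup.eq_one_iff _).2 (Subgroup.mem_subgroupOf.2 ha)
      have := hpg.isNilpotent
      refine isNilpotent_of_injective
        (((f.comp C.subtype).codRestrict Cb fun x => x.2.1).prod
          (QuotientGroup.mk' (S.subgroupOf C))) ?_
      rw [injective_iff_map_eq_one]
      intro x hx
      have h1 : f (x : G) = 1 := congrArg (fun y : Cb × (C ⧸ S.subgroupOf C) => (y.1 : G ⧸ N)) hx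
      have h2 : QuotientGroup.mk' (S.subgroupOf C) x = 1 := congrArg Prod.snd hx
      have h3 : (x : G) ∈ N ⊓ S := Subgroup.mem_inf.2 ⟨(QuotientGroup.eq_one_iff _).1 h1,
        Subgroup.mem_subgroupOf.1 ((QuotientGroup.eq_one_iff _).1 h2)⟩
      rw [hNS, Subgroup.mem_bot] at h3
      exact Subtype.ext h3
    have hCmap : C.map f = Cb := by
      refine le_antisymm (Subgroup.map_le_iff_le_comap.2 inf_le_left) fun y hy => ?_
      obtain ⟨h, rfl⟩ := hfs y
      obtain ⟨m, hm, hmh⟩ := hHcov h hy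
      refine ⟨m * h, Subgroup.mem_inf.2 ⟨H.mul_mem (hNH hm) hy, hmh⟩, ?_⟩
      rw [map_mul, show f m = 1 from (QuotientGroup.eq_one_iff m).2 hm, one_mul]
    refine ⟨C, ⟨hCnil, le_antisymm (fun g hg => ?_) Subgroup.le_normalizer⟩, fun d hd => ?_,
      fun r x hx hcop => ?_⟩
    · have h1 := Subgroup.le_normalizer_map f (Subgroup.mem_map_of_mem f hg)
      rw [hCmap, hCb.2] at h1
      refine Subgroup.mem_inf.2 ⟨h1, le_normalizer_of_conj_mem fun s hs => ?_⟩
      refine hppC.mem ((Subgroup.mem_normalizer_iff.1 hg s).1 (hppC.le hs)) ?_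
      rw [orderOf_conj]
      exact coprime_of_mem hScop hs
    · have hdH : d ∈ H := hDb (Cfsg.Agent.SysNorm.map_le N (Subgroup.mem_map_of_mem f hd))
      refine Subgroup.mem_inf.2 ⟨hdH, le_normalizer_of_conj_mem fun s hs => Subgroup.mem_inf.2
        ⟨H.mul_mem (H.mul_mem hdH hs.1) (H.inv_mem hdH), ?_⟩⟩
      exact (Subgroup.mem_normalizer_iff.1
        (Cfsg.Agent.SysNorm.mem_normalizer_of_mem hd q) s).1 hs.2
    · by_cases hr : r = q
      · subst hr; exact (hppC.mem hx hcop).2
      have hrN : N ≤ K r := Cfsg.Agent.SysNorm.le_of_normal_coprime hK (by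
        rw [hj]
        exact ((Nat.coprime_primes hp r.2).2 fun h => hr (Subtype.ext h.symm)).pow_left j)
      have h1 : f x ∈ (K r).map f :=
        hPb r _ hx.1 (hcop.coprime_dvd_left (orderOf_map_dvd f x))
      have h2 : x ∈ ((K r).map f).comap f := h1
      rwa [Subgroup.comap_map_eq, hf, QuotientGroup.ker_mk', sup_eq_left.2 hrN] at h2

theorem exists_carter {G : Type u} [Group G] [Finite G] [Group.IsSolvable G]
    {K : Nat.Primes → Subgroup G} (hK : Cfsg.IsComplementSystem K) :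
    ∃ C : Subgroup G, Cfsg.IsCarterSubgroup C ∧ Cfsg.systemNormalizer K ≤ C ∧
      ∀ p : Nat.Primes, ∀ x ∈ C, (orderOf x).Coprime p → x ∈ K p :=
  exists_carter_aux _ rfl K hK

/-- Conjugacy in all groups of order less than `n` gives conjugacy inside proper subgroups. -/
def ConjBelow (n : ℕ) : Prop :=
  ∀ {H : Type u} [Group H] [Finite H] [Group.IsSolvable H], Nat.card H < n →
    ∀ C D : Subgroup H, Cfsg.IsCarterSubgroup C → Cfsg.IsCarterSubgroup D →
      ∃ g : H, MulAut.conj g • C = D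

section Conj

variable {G : Type u} [Group G] [Finite G] [Group.IsSolvable G]

lemma conj_of_le (hb : ConjBelow.{u} (Nat.card G)) {C D W : Subgroup G} (hW : W ≠ ⊤)
    (hC : Cfsg.IsCarterSubgroup C) (hD : Cfsg.IsCarterSubgroup D) (hCW : C ≤ W) (hDW : D ≤ W) :
    ∃ g ∈ W, MulAut.conj g • C = D := by
  have hlt : Nat.card W < Nat.card G :=
    (Subgroup.card_le_card_group W).lt_of_ne fun h => hW (Subgroup.card_eq_iff_eq_top W |>.1 h)
  obtain ⟨w, hw⟩ := hb (H := W) hlt _ _ (isCarter_subgroupOf hC hCW) (isCarter_subgroupOf hD hDW)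
  have h := congrArg (Subgroup.map W.subtype) hw
  rw [map_subtype_conjSmul, Subgroup.map_subgroupOf_eq_of_le hCW,
    Subgroup.map_subgroupOf_eq_of_le hDW] at h
  exact ⟨w, w.2, h⟩

lemma isCarter_map_aux (hb : ConjBelow.{u} (Nat.card G)) {C : Subgroup G}
    (hC : Cfsg.IsCarterSubgroup C) (N : Subgroup G) [N.Normal] :
    Cfsg.IsCarterSubgroup (C.map (QuotientGroup.mk' N)) := by
  set f := QuotientGroup.mk' N
  have := hC.1
  refine ⟨Group.nilpotent_of_surjective (f.subgroupMap C) (f.subgroupMap_surjective C), ?_⟩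
  refine le_antisymm (fun y hy => ?_) Subgroup.le_normalizer
  obtain ⟨g, rfl⟩ := QuotientGroup.mk'_surjective N y
  set W := C ⊔ N with hW
  by_cases hWt : W = ⊤
  · have h1 : g ∈ (C.map f).comap f := by
      rw [Subgroup.comap_map_eq, QuotientGroup.ker_mk', ← hW, hWt]; trivial
    exact h1
  have hconj : MulAut.conj g • C ≤ W := by
    intro x hx
    rw [mem_conjSmul] at hx
    have h2 : x ∈ (C.map f).comap f := by
      rw [Subgroup.mem_comap]
      have h3 := (Subgroup.mem_normalizer_iff.1 hy (f (g⁻¹ * x * g))).1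
        (Subgroup.mem_map_of_mem f hx)
      rwa [← map_inv, ← map_mul, ← map_mul, show g * (g⁻¹ * x * g) * g⁻¹ = x by
        simp [mul_assoc]] at h3
    rwa [Subgroup.comap_map_eq, QuotientGroup.ker_mk'] at h2
  obtain ⟨w, hw, hwe⟩ := conj_of_le hb hWt hC (isCarter_conj hC g) le_sup_left hconj
  have h3 : g⁻¹ * w ∈ C := by
    rw [← hC.2, mem_normalizer_iff_conjSmul, ← conjSmul_conjSmul, hwe, conjSmul_inv_conjSmul]
  have h4 : g ∈ W := by
    rw [show g = w * (g⁻¹ * w)⁻¹ by group]
    exact W.mul_mem hw (W.inv_mem ((le_sup_left : C ≤ W) h3))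
  have h5 : g ∈ (C.map f).comap f := by rw [Subgroup.comap_map_eq, QuotientGroup.ker_mk']; exact h4
  exact h5

end Conj

theorem conjBelow : ∀ n : ℕ, ConjBelow.{u} n := by
  intro n
  induction n using Nat.strong_induction_on with
  | _ n ih =>
    intro G _ _ _ hlt0 C D hC hD
    have hb : ConjBelow.{u} (Nat.card G) := ih _ hlt0
    obtain hs | hnt := subsingleton_or_nontrivial G
    · exact ⟨1, Subsingleton.elim _ _⟩
    obtain ⟨N, p, hp, hNn, hN0, -, -, -, hNp, -⟩ :=
      exists_minimal_normal_abelian (G := G) (N := ⊤) inferInstance top_ne_bot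
    have hN' : ∀ X : Subgroup G, X ≤ Subgroup.normalizer (N : Set G) := fun X => by
      rw [Subgroup.normalizer_eq_top]; exact le_top
    obtain ⟨j, hj⟩ : ∃ j, Nat.card N = p ^ j := by
      have := Fact.mk hp
      exact hNp.exists_card_eq
    set f := QuotientGroup.mk' N with hf
    have hfs := QuotientGroup.mk'_surjective N
    have hlt : Nat.card (G ⧸ N) < Nat.card G := by
      rw [N.card_eq_card_quotient_mul_card_subgroup]
      exact lt_mul_of_one_lt_right Nat.card_pos (Subgroup.one_lt_card_iff_ne_bot N |>.2 hN0)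
    obtain ⟨y, hy⟩ := hb hlt _ _ (isCarter_map_aux hb hC N) (isCarter_map_aux hb hD N)
    obtain ⟨g, rfl⟩ := hfs y
    rw [← map_conjSmul] at hy
    suffices key : ∀ C' : Subgroup G, Cfsg.IsCarterSubgroup C' → C'.map f = D.map f →
        ∃ z : G, MulAut.conj z • C' = D by
      obtain ⟨z, hz⟩ := key _ (isCarter_conj hC g) hy
      exact ⟨z * g, by rw [← conjSmul_conjSmul]; exact hz⟩
    clear hy hC
    intro C' hC hmap
    have hsup : C' ⊔ N = D ⊔ N := by
      have h := congrArg (Subgroup.comap f) hmap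
      rwa [Subgroup.comap_map_eq, Subgroup.comap_map_eq, hf, QuotientGroup.ker_mk'] at h
    by_cases hWt : D ⊔ N = ⊤
    swap
    · obtain ⟨z, -, hz⟩ := conj_of_le hb hWt hC hD (hsup ▸ le_sup_left) le_sup_left
      exact ⟨z, hz⟩
    obtain ⟨SC, hSC⟩ := exists_ppart hC.1 hp
    obtain ⟨SD, hSD⟩ := exists_ppart hD.1 hp
    have hincl : ∀ (C₁ D₁ S₁ T₁ : Subgroup G), PPart p C₁ S₁ → PPart p D₁ T₁ →
        C₁.map f ≤ D₁.map f → S₁.map f ≤ T₁.map f := by
      rintro C₁ D₁ S₁ T₁ hS₁ hT₁ hle _ ⟨x, hx, rfl⟩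
      obtain ⟨d, hd, hde⟩ := hle (Subgroup.mem_map_of_mem f (hS₁.le hx))
      obtain ⟨a, ha⟩ := hT₁.pow d hd
      refine mem_of_pow_mem ((coprime_of_mem hS₁.cop hx).coprime_dvd_left
        (orderOf_map_dvd f x) |>.pow_right a) ?_
      rw [← hde, ← map_pow]
      exact Subgroup.mem_map_of_mem f ha
    have hSmap : SC.map f = SD.map f := le_antisymm (hincl _ _ _ _ hSC hSD hmap.le)
      (hincl _ _ _ _ hSD hSC hmap.ge)
    have hcopC : (Nat.card SC).Coprime (Nat.card N) := hj ▸ hSC.cop.pow_right j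
    have hcopD : (Nat.card SD).Coprime (Nat.card N) := hj ▸ hSD.cop.pow_right j
    have hcard : Nat.card SD = Nat.card SC := by
      rw [← card_map_mk'_of_inf_eq_bot (M := N) (H := SD)
          (inf_comm SD N ▸ Cfsg.Agent.SchurZ.inf_eq_bot hcopD),
        ← card_map_mk'_of_inf_eq_bot (M := N) (H := SC)
          (inf_comm SC N ▸ Cfsg.Agent.SchurZ.inf_eq_bot hcopC), ← hf, hSmap]
    obtain ⟨m, -, hme⟩ := Cfsg.Agent.SchurZ.conj_in (hN' SC) hcopC
      (Or.inl (Group.isSolvable_of_isSolvable_injective SC.subtype_injective)) (B := SD)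
      (by
        rw [sup_comm, ← QuotientGroup.ker_mk' N, ← hf, ← Subgroup.comap_map_eq, hSmap]
        exact Subgroup.le_comap_map f SD) hcard
    have hC2 := isCarter_conj hC m
    have hC2N : MulAut.conj m • C' ≤ Subgroup.normalizer (SD : Set G) := by
      rw [← hme, normalizer_conjSmul]
      exact Subgroup.pointwise_smul_le_pointwise_smul_iff.2 hSC.norm
    suffices h : ∃ z : G, MulAut.conj z • (MulAut.conj m • C') = D by
      obtain ⟨z, hz⟩ := h
      exact ⟨z * m, by rw [← conjSmul_conjSmul]; exact hz⟩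
    by_cases hM : Subgroup.normalizer (SD : Set G) = ⊤
    swap
    · obtain ⟨z, -, hz⟩ := conj_of_le hb hM hC2 hD hC2N hSD.norm
      exact ⟨z, hz⟩
    have hSn : SD.Normal := Subgroup.normalizer_eq_top_iff.1 hM
    have hcover : ∀ x : G, ∃ d ∈ D, ∃ k ∈ N, x = k * d := by
      intro x
      obtain ⟨k, hk, d, hd, hx⟩ := (mem_sup_iff_of_le_normalizer (hN' D)).1
        (show x ∈ N ⊔ D by rw [sup_comm, hWt]; trivial)
      exact ⟨d, hd, k, hk, hx⟩
    have : Fact p.Prime := ⟨hp⟩
    have hpg : IsPGroup p (G ⧸ SD) := by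
      intro y
      obtain ⟨x, rfl⟩ := QuotientGroup.mk'_surjective SD y
      obtain ⟨d, hd, k, hk, rfl⟩ := hcover x
      obtain ⟨a, ha⟩ := hSD.pow d hd
      refine ⟨a + j, ?_⟩
      have h1 : f ((k * d) ^ p ^ a) = f (d ^ p ^ a) := by
        rw [map_pow, map_mul, show f k = 1 from (QuotientGroup.eq_one_iff k).2 hk, one_mul, map_pow]
      have h2 : (k * d) ^ p ^ a * (d ^ p ^ a)⁻¹ ∈ N := (QuotientGroup.eq_one_iff _).1
        (show f ((k * d) ^ p ^ a * (d ^ p ^ a)⁻¹) = 1 by
          rw [map_mul, map_inv, h1, mul_inv_cancel])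
      rw [← map_pow, pow_add, pow_mul, map_pow]
      have h3 : QuotientGroup.mk' SD ((k * d) ^ p ^ a) =
          QuotientGroup.mk' SD ((k * d) ^ p ^ a * (d ^ p ^ a)⁻¹) := by
        rw [map_mul _ ((k * d) ^ p ^ a), map_inv, show QuotientGroup.mk' SD (d ^ p ^ a) = 1 from
          (QuotientGroup.eq_one_iff _).2 ha, inv_one, mul_one]
      rw [h3, ← map_pow, ← hj]
      have h4 : ((k * d) ^ p ^ a * (d ^ p ^ a)⁻¹) ^ Nat.card N = 1 :=
        congrArg Subtype.val (pow_card_eq_one' (G := N) (x := ⟨_, h2⟩))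
      rw [h4, map_one]
    have : Group.IsNilpotent (G ⧸ SD) := hpg.isNilpotent
    have : Group.IsNilpotent (G ⧸ N) := by
      have := hD.1
      refine Group.nilpotent_of_surjective (f.comp D.subtype) fun y => ?_
      obtain ⟨x, rfl⟩ := hfs y
      obtain ⟨d, hd, k, hk, rfl⟩ := hcover x
      refine ⟨⟨d, hd⟩, ?_⟩
      rw [map_mul, show f k = 1 from (QuotientGroup.eq_one_iff k).2 hk, one_mul]
      rfl
    have : Group.IsNilpotent G := by
      refine isNilpotent_of_injective ((QuotientGroup.mk' N).prod (QuotientGroup.mk' SD)) ?_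
      rw [injective_iff_map_eq_one]
      intro x hx
      have h3 : x ∈ N ⊓ SD := Subgroup.mem_inf.2
        ⟨(QuotientGroup.eq_one_iff x).1 (congrArg Prod.fst hx),
          (QuotientGroup.eq_one_iff x).1 (congrArg Prod.snd hx)⟩
      rwa [Cfsg.Agent.SchurZ.inf_eq_bot hcopD, Subgroup.mem_bot] at h3
    exact ⟨1, by rw [conjSmul_one, eq_top_of_isNilpotent hC2, eq_top_of_isNilpotent hD]⟩

theorem carter_conj {G : Type u} [Group G] [Finite G] [Group.IsSolvable G] {C D : Subgroup G}
    (hC : Cfsg.IsCarterSubgroup C) (hD : Cfsg.IsCarterSubgroup D) :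
    ∃ g : G, MulAut.conj g • C = D :=
  conjBelow (Nat.card G + 1) (Nat.lt_succ_self _) C D hC hD

theorem isCarter_map {G : Type u} [Group G] [Finite G] [Group.IsSolvable G] {C : Subgroup G}
    (hC : Cfsg.IsCarterSubgroup C) (N : Subgroup G) [N.Normal] :
    Cfsg.IsCarterSubgroup (C.map (QuotientGroup.mk' N)) :=
  isCarter_map_aux (conjBelow _) hC N

/-- In a nilpotent-by-nilpotent group a Carter subgroup is a system normalizer. -/
theorem le_systemNormalizer {G : Type u} [Group G] [Finite G] [Group.IsSolvable G]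
    {F : Subgroup G} [F.Normal] (hF : Group.IsNilpotent F) (hGF : Group.IsNilpotent (G ⧸ F))
    {K : Nat.Primes → Subgroup G} (hK : Cfsg.IsComplementSystem K) {C : Subgroup G}
    (hC : Cfsg.IsCarterSubgroup C)
    (hP : ∀ p : Nat.Primes, ∀ x ∈ C, (orderOf x).Coprime p → x ∈ K p) :
    C ≤ Cfsg.systemNormalizer K := by
  intro c hc
  rw [Cfsg.Agent.SysNorm.mem_systemNormalizer]
  intro p
  refine le_normalizer_of_conj_mem fun k hk => ?_
  set f := QuotientGroup.mk' F with hf
  have htop : C.map f = ⊤ := eq_top_of_isNilpotent (isCarter_map hC F)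
  obtain ⟨SF, hSF⟩ := exists_ppart hF p.2
  have hSFn : SF.Normal := ⟨fun s hs g =>
    hSF.mem ((inferInstance : F.Normal).conj_mem _ (hSF.le hs) g)
      (by rw [orderOf_conj]; exact coprime_of_mem hSF.cop hs)⟩
  have hSFK : SF ≤ K p := Cfsg.Agent.SysNorm.le_of_normal_coprime hK hSF.cop
  obtain ⟨SC, hSC⟩ := exists_ppart hC.1 p.2
  have hkcop : (orderOf k).Coprime p := coprime_of_mem (Cfsg.Agent.SysNorm.card_coprime hK p) hk
  obtain ⟨c', hc', hce⟩ := htop.ge (Subgroup.mem_top (f k))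
  obtain ⟨a, ha⟩ := hSC.pow c' hc'
  have h1 : f k ∈ SC.map f := mem_of_pow_mem
    ((hkcop.coprime_dvd_left (orderOf_map_dvd f k)).pow_right a)
    (by rw [← hce, ← map_pow]; exact Subgroup.mem_map_of_mem f ha)
  obtain ⟨s, hs, hse⟩ := h1
  have hsK : s ∈ K p := hP p s (hSC.le hs) (coprime_of_mem hSC.cop hs)
  have hkF : k * s⁻¹ ∈ F := (QuotientGroup.eq_one_iff _).1
    (show f (k * s⁻¹) = 1 by rw [map_mul, map_inv, hse, mul_inv_cancel])
  have hkSF : k * s⁻¹ ∈ SF := hSF.mem hkF
    (coprime_of_mem (Cfsg.Agent.SysNorm.card_coprime hK p) ((K p).mul_mem hk ((K p).inv_mem hsK)))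
  rw [show c * k * c⁻¹ = (c * (k * s⁻¹) * c⁻¹) * (c * s * c⁻¹) by group]
  refine (K p).mul_mem (hSFK (hSFn.conj_mem _ hkSF c)) ?_
  exact hP p _ (C.mul_mem (C.mul_mem hc (hSC.le hs)) (C.inv_mem hc))
    (by rw [orderOf_conj]; exact coprime_of_mem hSC.cop hs)

end Cfsg.Agent.Carter
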