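import Cfsg.Prelude.Def_LocalEven
import Cfsg.Agent.Lib.Solvable.Coprime
import Cfsg.Agent.Lib.Solvable.Fitting
import Cfsg.Agent.Lib.Solvable.Hall
import Cfsg.Agent.Lib.Solvable.Carter
import Cfsg.Agent.Lib.Solvable.Structure
import Cfsg.Agent.Lib.PLocal.Thompson
import Cfsg.Agent.Lib.PLocal.OffenderAction

/-! Solvable groups with no section `S₄` and Sylow `2`-subgroup of class at most two: `J(S)` is
normal modulo `O_{2'}`. -/

set_option autoImplicit false
open scoped Pointwise commutatorElement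

universe u

namespace Cfsg.Agent.SFourFree

open Cfsg.Agent.SolvBasic Cfsg.Agent.Carter

variable {G : Type u} [Group G] [Finite G]

/-- A four-group on which `S₃` is induced gives a section `S₄`. -/
lemma involves_of_four {U : Subgroup G} (hU : Nat.card U = 4) (hU2 : ∀ u ∈ U, u ^ 2 = 1) {a y : G}
    (ha : a ∈ Subgroup.normalizer (U : Set G)) (hy : y ∈ Subgroup.normalizer (U : Set G))
    (hy1 : y ∉ Subgroup.centralizer (U : Set G))
    (hy3 : y ^ 3 ∈ Subgroup.centralizer (U : Set G))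
    (ha2 : a ^ 2 ∈ Subgroup.centralizer (U : Set G))
    (hay : a * y * a⁻¹ * y ∈ Subgroup.centralizer (U : Set G)) :
    Cfsg.Involves (Equiv.Perm (Fin 4)) G := by
  classical
  have : Fact (Nat.Prime 3) := ⟨Nat.prime_three⟩
  set N := Subgroup.normalizer (U : Set G) with hN
  set C := Subgroup.centralizer (U : Set G) with hC
  have hCN : C ≤ N := Subgroup.centralizer_le_normalizer _
  have hCn : N ≤ Subgroup.normalizer (C : Set G) := fun n hn => le_normalizer_of_conj_mem fun c hc => by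
    rw [hC, Subgroup.mem_centralizer_iff]
    intro u hu
    have h1 := Subgroup.mem_centralizer_iff.1 hc _ ((Subgroup.mem_normalizer_iff''.1 hn u).1 hu)
    calc u * (n * c * n⁻¹) = n * ((n⁻¹ * u * n) * c) * n⁻¹ := by group
      _ = n * (c * (n⁻¹ * u * n)) * n⁻¹ := by rw [h1]
      _ = _ := by group
  set L := C ⊔ Subgroup.zpowers y with hL
  have hyL : y ∈ L := Subgroup.mem_sup_right (Subgroup.mem_zpowers y)
  have hyC : Subgroup.zpowers y ≤ Subgroup.normalizer (C : Set G) :=
    Subgroup.zpowers_le.2 (hCn hy)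
  have hLN : L ≤ N := sup_le hCN (Subgroup.zpowers_le.2 hy)
  have hLmem : ∀ l ∈ L, ∃ c ∈ C, ∃ i : ℤ, l = c * y ^ i := by
    intro l hl
    obtain ⟨c, hc, _, ⟨i, rfl⟩, rfl⟩ := (mem_sup_iff_of_le_normalizer hyC).1 hl
    exact ⟨c, hc, i, rfl⟩
  have haL : ∀ l ∈ L, a * l * a⁻¹ ∈ L := by
    intro l hl
    obtain ⟨c, hc, i, rfl⟩ := hLmem l hl
    have h1 : a * y * a⁻¹ ∈ L := by
      rw [show a * y * a⁻¹ = (a * y * a⁻¹ * y) * y⁻¹ by group]
      exact L.mul_mem (Subgroup.mem_sup_left hay) (L.inv_mem hyL)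
    rw [show a * (c * y ^ i) * a⁻¹ = (a * c * a⁻¹) * (a * y ^ i * a⁻¹) by group, ← conj_zpow]
    exact L.mul_mem (Subgroup.mem_sup_left ((Subgroup.mem_normalizer_iff.1 (hCn ha) c).1 hc))
      (L.zpow_mem h1 i)
  obtain ⟨P⟩ : Nonempty (Sylow 3 L) := inferInstance
  set Q := (P : Subgroup L).map L.subtype with hQ
  have hQL : Q ≤ L := Subgroup.map_subtype_le _
  -- an element of `Q` outside `C`
  have hQC : ∃ p₀ ∈ Q, p₀ ∉ C := by
    by_contra hcon
    push Not at hcon
    have hle : (P : Subgroup L) ≤ C.subgroupOf L := fun x hx =>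
      hcon _ (Subgroup.mem_map_of_mem L.subtype hx)
    have hn : (C.subgroupOf L).Normal :=
      Subgroup.normal_subgroupOf_of_le_normalizer (hLN.trans hCn)
    have h3 : orderOf (QuotientGroup.mk' (C.subgroupOf L) ⟨y, hyL⟩) = 3 := by
      refine orderOf_eq_prime ?_ ?_
      · rw [← map_pow]
        exact (QuotientGroup.eq_one_iff _).2 (Subgroup.mem_subgroupOf.2 hy3)
      · exact fun h => hy1 (Subgroup.mem_subgroupOf.1 ((QuotientGroup.eq_one_iff _).1 h))
    have h4 : 3 ∣ (C.subgroupOf L).index := by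
      rw [← h3, Subgroup.index_eq_card]; exact orderOf_dvd_natCard _
    exact P.not_dvd_index (h4.trans (Subgroup.index_dvd_of_le hle))
  obtain ⟨p₀, hp₀, hp₀C⟩ := hQC
  -- correct `a` into the normalizer of `Q`
  have haQ : ∃ l ∈ L, MulAut.conj l • Q = MulAut.conj a • Q := by
    have hle : MulAut.conj a • Q ≤ L := fun w hw => by
      rw [mem_conjSmul] at hw
      have := haL _ (hQL hw)
      simpa [mul_assoc] using this
    have hc : Nat.card ((MulAut.conj a • Q).subgroupOf L) = 3 ^ (Nat.card L).factorization 3 := by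
      rw [Nat.card_congr (Subgroup.subgroupOfEquivOfLe hle).toEquiv, card_conjSmul, hQ,
        Subgroup.card_map_of_injective L.subtype_injective, P.card_eq_multiplicity]
    obtain ⟨l, hl⟩ := MulAction.exists_smul_eq L P (Sylow.ofCard _ hc)
    refine ⟨l, l.2, ?_⟩
    have h1 := congrArg (fun T : Sylow 3 L => (T : Subgroup L).map L.subtype) hl
    simp only [Sylow.coe_subgroup_smul, map_subtype_conjSmul, Sylow.coe_ofCard,
      Subgroup.map_subgroupOf_eq_of_le hle] at h1
    exact h1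
  obtain ⟨l, hl, hlQ⟩ := haQ
  set b := l⁻¹ * a with hb
  set H := Subgroup.normalizer (Q : Set G) ⊓ N with hH
  have hbH : b ∈ H := by
    refine Subgroup.mem_inf.2 ⟨mem_normalizer_iff_conjSmul.2 ?_, mul_mem (inv_mem (hLN hl)) ha⟩
    rw [hb, ← conjSmul_conjSmul, ← hlQ, conjSmul_inv_conjSmul]
  have hp₀H : p₀ ∈ H := Subgroup.mem_inf.2 ⟨Subgroup.le_normalizer hp₀, hLN (hQL hp₀)⟩
  have hHN : H ≤ N := inf_le_right
  -- no fixed points of `y` on `U`
  have hfix : ∀ u ∈ U, y * u * y⁻¹ = u → u = 1 := by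
    intro u hu hfu
    by_contra hu1
    refine hy1 (Subgroup.mem_centralizer_iff.2 fun v hv => ?_)
    by_contra hv'
    have hvne : y * v * y⁻¹ ≠ v := fun h => hv' (by
      conv_lhs => rw [← h]
      group)
    have hv1 : v ≠ 1 := fun h => hvne (by rw [h, mul_one, mul_inv_cancel])
    have huv : u ≠ v := fun h => hvne (h ▸ hfu)
    have huv1 : u * v ≠ 1 := fun h => huv (by
      rw [eq_inv_of_mul_eq_one_left h]
      exact inv_eq_of_mul_eq_one_right (by rw [← pow_two]; exact hU2 v hv))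
    have hset : ({1, u, v, u * v} : Set G) = (U : Set G) := by
      refine Set.eq_of_subset_of_ncard_le ?_ ?_ (Set.toFinite _)
      · intro x hx
        simp only [Set.mem_insert_iff, Set.mem_singleton_iff] at hx
        rcases hx with rfl | rfl | rfl | rfl
        exacts [U.one_mem, hu, hv, U.mul_mem hu hv]
      · rw [← Nat.card_coe_set_eq]
        change Nat.card U ≤ _
        rw [hU, Set.ncard_insert_of_notMem (by
            simp only [Set.mem_insert_iff, Set.mem_singleton_iff, not_or]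
            exact ⟨Ne.symm hu1, Ne.symm hv1, Ne.symm huv1⟩) (Set.toFinite _),
          Set.ncard_insert_of_notMem (by
            simp only [Set.mem_insert_iff, Set.mem_singleton_iff, not_or]
            exact ⟨huv, fun h => hv1 (left_eq_mul.1 h)⟩) (Set.toFinite _),
          Set.ncard_pair (fun h => hu1 (right_eq_mul.1 h))]
    have hmem : y * v * y⁻¹ ∈ ({1, u, v, u * v} : Set G) := by
      rw [hset]; exact (Subgroup.mem_normalizer_iff.1 hy v).1 hv
    simp only [Set.mem_insert_iff, Set.mem_singleton_iff] at hmem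
    rcases hmem with h | h | h | h
    · exact hv1 (conj_eq_one_iff.1 h)
    · exact huv ((mul_left_cancel (mul_right_cancel (h.trans hfu.symm))).symm)
    · exact hvne h
    · -- then `y²` fixes `v`
      have h2 : y ^ 2 * v * (y ^ 2)⁻¹ = v := by
        calc y ^ 2 * v * (y ^ 2)⁻¹ = y * (y * v * y⁻¹) * y⁻¹ := by simp [pow_two, mul_assoc]
          _ = (y * u * y⁻¹) * (y * v * y⁻¹) := by
            conv_lhs => rw [h]
            simp [mul_assoc]
          _ = u * (u * v) := by rw [hfu, h]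
          _ = v := by rw [← mul_assoc, ← pow_two, hU2 u hu, one_mul]
      have h3 : y ^ 3 * v * (y ^ 3)⁻¹ = v := by
        rw [← Subgroup.mem_centralizer_iff.1 hy3 v hv, mul_inv_cancel_right]
      refine hvne ?_
      calc y * v * y⁻¹ = y * (y ^ 2 * v * (y ^ 2)⁻¹) * y⁻¹ := by rw [h2]
        _ = y ^ 3 * v * (y ^ 3)⁻¹ := by group
        _ = v := h3
  have hUH : U ⊓ H = ⊥ := by
    rw [eq_bot_iff]
    intro u hu
    obtain ⟨huU, huH⟩ := Subgroup.mem_inf.1 hu
    rw [Subgroup.mem_bot]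
    refine hfix u huU ?_
    have hcop : (Nat.card U).Coprime (Nat.card Q) := by
      rw [hU, hQ, Subgroup.card_map_of_injective L.subtype_injective, P.card_eq_multiplicity]
      exact Nat.Coprime.pow_right _ (by norm_num)
    have h1 : p₀ * u * p₀⁻¹ * u⁻¹ ∈ U ⊓ Q := by
      refine Subgroup.mem_inf.2 ⟨U.mul_mem ((Subgroup.mem_normalizer_iff.1 (hLN (hQL hp₀)) u).1 huU)
        (U.inv_mem huU), ?_⟩
      rw [mul_assoc p₀ u, mul_assoc p₀]
      exact Q.mul_mem hp₀ ((Subgroup.mem_normalizer_iff.1 huH.1 _).1 (Q.inv_mem hp₀))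
    rw [(Subgroup.disjoint_of_coprime_natCard hcop).eq_bot, Subgroup.mem_bot, mul_inv_eq_one] at h1
    obtain ⟨c, hc, i, hi⟩ := hLmem p₀ (hQL hp₀)
    have hyu : y ^ i * u * (y ^ i)⁻¹ = u := by
      have h2 : y ^ i * u * (y ^ i)⁻¹ ∈ U :=
        (Subgroup.mem_normalizer_iff.1 (zpow_mem hy i) u).1 huU
      have h3 : p₀ * u * p₀⁻¹ = y ^ i * u * (y ^ i)⁻¹ := by
        rw [hi, show c * y ^ i * u * (c * y ^ i)⁻¹ = c * (y ^ i * u * (y ^ i)⁻¹) * c⁻¹ by group,
          ← Subgroup.mem_centralizer_iff.1 hc _ h2, mul_inv_cancel_right]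
      rw [← h3, h1]
    -- the stabiliser of `u` contains `y ^ i` and `y ^ 3`, with `i` prime to `3`
    have hi3 : ¬ (3 : ℤ) ∣ i := by
      rintro ⟨j, rfl⟩
      refine hp₀C (hi ▸ C.mul_mem hc ?_)
      rw [zpow_mul]
      exact C.zpow_mem (by exact_mod_cast hy3) j
    obtain ⟨s, t, hst⟩ := (Int.isCoprime_iff_gcd_eq_one.2 (by
      have := (Nat.Prime.coprime_iff_not_dvd Nat.prime_three).2
        (fun h => hi3 (Int.natCast_dvd.2 h) : ¬ 3 ∣ i.natAbs)
      simpa [Int.gcd, Nat.Coprime] using this) : IsCoprime (3 : ℤ) i)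
    have hfix' : y ∈ Subgroup.centralizer ({u} : Set G) := by
      rw [← zpow_one y, ← hst, zpow_add, mul_comm s, mul_comm t, zpow_mul, zpow_mul]
      refine mul_mem (zpow_mem ?_ _) (zpow_mem ?_ _)
      · rw [Subgroup.mem_centralizer_singleton_iff]
        exact_mod_cast (Subgroup.mem_centralizer_iff.1 hy3 u huU).symm
      · rw [Subgroup.mem_centralizer_singleton_iff]
        exact mul_inv_eq_iff_eq_mul.1 hyu
    rw [Subgroup.mem_centralizer_singleton_iff.1 hfix', mul_inv_cancel_right]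
  -- the section
  set M := U ⊔ H with hM
  set H' := H.subgroupOf M with hH'
  have hHM : H ≤ M := le_sup_right
  have hcardM : Nat.card M = 4 * Nat.card H := by rw [hM, card_sup_of_inf_eq_bot hHN hUH, hU]
  have hidx : Nat.card (M ⧸ H') = 4 := by
    rw [← Subgroup.index_eq_card]
    refine Nat.eq_of_mul_eq_mul_left (Nat.card_pos (α := H)) ?_
    conv_lhs => rw [← Nat.card_congr (Subgroup.subgroupOfEquivOfLe hHM).toEquiv]
    rw [H'.card_mul_index, hcardM, mul_comm]
  set φ := MulAction.toPermHom M (M ⧸ H') with hφ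
  have hker : φ.ker = H'.normalCore := H'.normalCore_eq_ker.symm
  have hkerC : φ.ker ≤ (C.subgroupOf M ⊓ H') := by
    intro x hx
    rw [hker] at hx
    refine Subgroup.mem_inf.2 ⟨Subgroup.mem_subgroupOf.2 (Subgroup.mem_centralizer_iff.2 fun u hu => ?_),
      H'.normalCore_le hx⟩
    have huM : u ∈ M := Subgroup.mem_sup_left hu
    have h1 : u * x * u⁻¹ ∈ H := Subgroup.mem_subgroupOf.1 (hx ⟨u, huM⟩)
    have h2 : u * x * u⁻¹ * (x : G)⁻¹ ∈ U ⊓ H := by
      refine Subgroup.mem_inf.2 ⟨?_, H.mul_mem h1 (H.inv_mem (Subgroup.mem_subgroupOf.1 (H'.normalCore_le hx)))⟩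
      rw [mul_assoc u, mul_assoc u]
      exact U.mul_mem hu ((Subgroup.mem_normalizer_iff.1
        (hHN (Subgroup.mem_subgroupOf.1 (H'.normalCore_le hx))) _).1 (U.inv_mem hu))
    rw [hUH, Subgroup.mem_bot, mul_inv_eq_one] at h2
    exact mul_inv_eq_iff_eq_mul.1 h2
  -- `6` divides `[H : H ∩ C]`
  set D := C.subgroupOf H with hD
  have hDn : D.Normal := Subgroup.normal_subgroupOf_of_le_normalizer (hHN.trans hCn)
  have h6 : 6 ∣ D.index := by
    rw [Subgroup.index_eq_card]
    have h3 : 3 ∣ Nat.card (H ⧸ D) := by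
      set x := QuotientGroup.mk' D ⟨p₀, hp₀H⟩ with hx
      have hx1 : x ≠ 1 := fun h => hp₀C (Subgroup.mem_subgroupOf.1 ((QuotientGroup.eq_one_iff _).1 h))
      obtain ⟨w, hw, hwe⟩ := hp₀
      obtain ⟨k, hk⟩ := P.isPGroup' ⟨w, hw⟩
      have hxk : x ^ 3 ^ k = 1 := by
        rw [hx, ← map_pow]
        convert map_one (QuotientGroup.mk' D)
        exact Subtype.ext (by rw [SubmonoidClass.coe_pow]; change p₀ ^ 3 ^ k = 1; rw [← hwe]; exact congrArg (fun t : (P : Subgroup L) => ((t : L) : G)) hk)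
      obtain ⟨j, -, hj⟩ := (Nat.dvd_prime_pow Nat.prime_three).1 (orderOf_dvd_of_pow_eq_one hxk)
      rcases Nat.eq_zero_or_pos j with rfl | hj0
      · exact absurd (orderOf_eq_one_iff.1 hj) hx1
      · exact ((dvd_pow_self 3 hj0.ne').trans hj.symm.dvd).trans (orderOf_dvd_natCard x)
    have h2 : 2 ∣ Nat.card (H ⧸ D) := by
      set x := QuotientGroup.mk' D ⟨b, hbH⟩ with hx
      have hbC : b ∉ C := by
        intro hbC
        have haL' : a ∈ L := by
          rw [show a = l * b by rw [hb, mul_inv_cancel_left]]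
          exact L.mul_mem hl (Subgroup.mem_sup_left hbC)
        obtain ⟨c, hc, i, hi⟩ := hLmem a haL'
        refine hy1 ?_
        have h1 : a * y * a⁻¹ = c * y * c⁻¹ := by rw [hi]; group
        have h2 : c * y * c⁻¹ * y ∈ C := h1 ▸ hay
        have h3 : y ^ 2 ∈ C := by
          rw [show y ^ 2 = c⁻¹ * (c * y * c⁻¹ * y) * (y⁻¹ * c * y) by simp [pow_two, mul_assoc]]
          refine C.mul_mem (C.mul_mem (C.inv_mem hc) h2) ?_
          simpa using (Subgroup.mem_normalizer_iff.1 (hCn (inv_mem hy)) c).1 hc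
        rw [show y = y ^ 3 * (y ^ 2)⁻¹ by group]
        exact C.mul_mem hy3 (C.inv_mem h3)
      have hx2 : x ^ 2 = 1 := by
        rw [hx, ← map_pow]
        refine (QuotientGroup.eq_one_iff _).2 (Subgroup.mem_subgroupOf.2 ?_)
        obtain ⟨c, hc, i, hi⟩ := hLmem l⁻¹ (inv_mem hl)
        change b ^ 2 ∈ C
        have hCy : ∀ (j : ℤ) (d : G), d ∈ C → y ^ j * d * (y ^ j)⁻¹ ∈ C := fun j d hd =>
          (Subgroup.mem_normalizer_iff.1 (hCn (zpow_mem hy j)) d).1 hd
        -- `a y^i a⁻¹ ∈ C y^{-i}`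
        have hinv : a * y ^ i * a⁻¹ * y ^ i ∈ C := by
          have hNC : (C.subgroupOf N).Normal := Subgroup.normal_subgroupOf_of_le_normalizer hCn
          set f := QuotientGroup.mk' (C.subgroupOf N) with hf
          have h1 : f ⟨a, ha⟩ * f ⟨y, hy⟩ * (f ⟨a, ha⟩)⁻¹ = (f ⟨y, hy⟩)⁻¹ := by
            rw [eq_inv_iff_mul_eq_one, ← map_inv, ← map_mul, ← map_mul, ← map_mul]
            exact (QuotientGroup.eq_one_iff _).2 (Subgroup.mem_subgroupOf.2 hay)
          have h2 : f (⟨a, ha⟩ * ⟨y, hy⟩ ^ i * ⟨a, ha⟩⁻¹ * ⟨y, hy⟩ ^ i) = 1 := by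
            rw [map_mul, map_mul, map_mul, map_inv, map_zpow, ← conj_zpow, h1, inv_zpow, inv_mul_cancel]
          exact Subgroup.mem_subgroupOf.1 ((QuotientGroup.eq_one_iff _).1 h2)
        rw [show b ^ 2 = (c * y ^ i * a) * (c * y ^ i * a) by rw [pow_two, hb, hi],
          show (c * y ^ i * a) * (c * y ^ i * a) = c * (y ^ i * (a * c * a⁻¹) * (y ^ i)⁻¹) *
            (y ^ i * (a * y ^ i * a⁻¹ * y ^ i) * (y ^ i)⁻¹) * a ^ 2 by group]
        exact C.mul_mem (C.mul_mem (C.mul_mem hc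
          (hCy i _ ((Subgroup.mem_normalizer_iff.1 (hCn ha) c).1 hc))) (hCy i _ hinv)) ha2
      have hx1 : x ≠ 1 := fun h => hbC (Subgroup.mem_subgroupOf.1 ((QuotientGroup.eq_one_iff _).1 h))
      rw [← orderOf_eq_prime hx2 hx1]
      exact orderOf_dvd_natCard x
    exact Nat.Coprime.mul_dvd_of_dvd_of_dvd (by norm_num : Nat.Coprime 2 3) h2 h3
  have hsurj : Function.Surjective φ := by
    rw [← MonoidHom.range_eq_top]
    refine Subgroup.eq_top_of_le_card _ ?_
    rw [Nat.card_perm, hidx, ← Subgroup.index_ker]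
    have h1 : (C.subgroupOf M ⊓ H').index ∣ φ.ker.index := Subgroup.index_dvd_of_le hkerC
    have h2 : (C.subgroupOf M ⊓ H').index = 4 * D.index := by
      rw [← Subgroup.relIndex_mul_index (inf_le_right : C.subgroupOf M ⊓ H' ≤ H'),
        Subgroup.inf_relIndex_right, hH', Subgroup.relIndex_subgroupOf hHM, ← hH',
        Subgroup.index_eq_card H', hidx, mul_comm]
      rfl
    refine Nat.le_of_dvd (Nat.pos_of_ne_zero Subgroup.index_ne_zero_of_finite) ?_
    refine (show Nat.factorial 4 ∣ 4 * D.index from ?_).trans (h2 ▸ h1)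
    exact Nat.mul_dvd_mul_left 4 h6
  have hn : ((φ.ker.map M.subtype).subgroupOf M).Normal := by
    rw [Subgroup.subgroupOf, Subgroup.comap_map_eq_self_of_injective M.subtype_injective]
    infer_instance
  refine ⟨M, φ.ker.map M.subtype, hn, ?_⟩
  · exact ⟨(QuotientGroup.quotientMulEquivOfEq (by
      rw [Subgroup.subgroupOf, Subgroup.comap_map_eq_self_of_injective M.subtype_injective])).trans
      ((QuotientGroup.quotientKerEquivOfSurjective φ hsurj).trans
        (Finite.equivFinOfCardEq hidx).permCongrHom)⟩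

omit [Finite G] in
lemma involves_mono {H : Type*} [Group H] {K : Type*} [Group K] (f : K →* G)
    (hf : Function.Injective f) (h : Cfsg.Involves H K) : Cfsg.Involves H G := by
  obtain ⟨M, R, hR, ⟨e⟩⟩ := h
  let g : M ≃* M.map f := M.equivMapOfInjective f hf
  have heq : (R.map f).subgroupOf (M.map f) = (R.subgroupOf M).map g.toMonoidHom := by
    ext ⟨x, hx⟩
    obtain ⟨m, hm, rfl⟩ := hx
    constructor
    · rintro ⟨r, hr, hrm⟩
      have : r = m := hf hrm
      exact ⟨⟨m, hm⟩, this ▸ hr, Subtype.ext rfl⟩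
    · rintro ⟨⟨m', hm'⟩, hr, hrm⟩
      exact ⟨m', hr, congrArg Subtype.val hrm⟩
  have hn : ((R.map f).subgroupOf (M.map f)).Normal := heq ▸ hR.map _ g.surjective
  exact ⟨_, _, hn, ⟨(QuotientGroup.congr _ _ g heq.symm).symm.trans e⟩⟩

omit [Finite G] in
lemma involves_quotient {H : Type*} [Group H] (N : Subgroup G) [N.Normal]
    (h : Cfsg.Involves H (G ⧸ N)) : Cfsg.Involves H G := by
  obtain ⟨M, R, hR, ⟨e⟩⟩ := h
  set f := QuotientGroup.mk' N
  let g : M.comap f →* M ⧸ R.subgroupOf M :=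
    (QuotientGroup.mk' _).comp ((f.comp (M.comap f).subtype).codRestrict M fun x => x.2)
  have hg : Function.Surjective g := by
    intro q
    obtain ⟨⟨m, hm⟩, rfl⟩ := QuotientGroup.mk'_surjective _ q
    obtain ⟨x, rfl⟩ := QuotientGroup.mk'_surjective N m
    exact ⟨⟨x, hm⟩, rfl⟩
  have hn : ((g.ker.map (M.comap f).subtype).subgroupOf (M.comap f)).Normal := by
    rw [Subgroup.subgroupOf, Subgroup.comap_map_eq_self_of_injective (Subgroup.subtype_injective _)]
    infer_instance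
  refine ⟨M.comap f, g.ker.map (M.comap f).subtype, hn, ?_⟩
  · exact ⟨((QuotientGroup.quotientMulEquivOfEq (by
      rw [Subgroup.subgroupOf, Subgroup.comap_map_eq_self_of_injective (Subgroup.subtype_injective _)])).trans
      (QuotientGroup.quotientKerEquivOfSurjective g hg)).trans e⟩

/-- An odd element of `V`'s automorphisms moves only elements outside its fixed points. -/
lemma displacement_fixed {E : Type*} [CommGroup E] (h2 : ∀ e : E, e ^ 2 = 1) {σ : MulAut E} {r : ℕ}
    (hr : Odd r) (hσ : σ ^ r = 1) {v : E} (h : σ (v⁻¹ * σ v) = v⁻¹ * σ v) : v⁻¹ * σ v = 1 := by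
  set w := v⁻¹ * σ v with hw
  have hv : σ v = v * w := by rw [hw, mul_inv_cancel_left]
  have hpow : ∀ n : ℕ, (σ ^ n) v = v * w ^ n := by
    intro n
    induction n with
    | zero => simp
    | succ n ih => rw [pow_succ', MulAut.mul_apply, ih, map_mul, map_pow, h, hv, mul_assoc,
        ← pow_succ']
  have h1 := hpow r
  rw [hσ, MulAut.one_apply, left_eq_mul] at h1
  obtain ⟨k, rfl⟩ := hr
  rwa [pow_succ, pow_mul, h2, one_pow, one_mul] at h1

set_option maxHeartbeats 1000000 in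
/-- An offender acting with `O₂ = 1` in a solvable group yields a section `S₄`. -/
lemma involves_of_offender [Group.IsSolvable G] {V A S : Subgroup G} [V.Normal]
    (hV : Cfsg.IsElementaryAbelian 2 V) (hVS : V ≤ S) (hA : Cfsg.Agent.Thompson.IsMaxEAIn 2 S A)
    (hAC : ¬ A ≤ Subgroup.centralizer (V : Set G))
    (hO : Cfsg.pCore 2 (G ⧸ Subgroup.centralizer (V : Set G)) = ⊥) :
    Cfsg.Involves (Equiv.Perm (Fin 4)) G := by
  classical
  have : Fact (Nat.Prime 2) := ⟨Nat.prime_two⟩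
  set C := Subgroup.centralizer (V : Set G) with hC
  set A₀ := A ⊓ C with hA₀
  set CV := fun B : Subgroup G => V ⊓ Subgroup.centralizer (B : Set G) with hCV
  set m := fun B : Subgroup G => Nat.card B * Nat.card (CV B) with hm
  have hcommV : ∀ x ∈ V, ∀ y ∈ V, x * y = y * x := fun x hx y hy =>
    Cfsg.Agent.Thompson.commute_of_isElementaryAbelian hV hx hy
  have hm0 : m A₀ ≤ m A := by
    have h1 : A₀ ≤ Subgroup.normalizer (V : Set G) := by rw [Subgroup.normalizer_eq_top]; exact le_top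
    have hel : Cfsg.IsElementaryAbelian 2 (V ⊔ A₀ : Subgroup G) := by
      have hmem : ∀ x ∈ V ⊔ A₀, ∃ v ∈ V, ∃ b ∈ A₀, x = v * b := fun x hx =>
        (mem_sup_iff_of_le_normalizer h1).1 hx
      have hva : ∀ v ∈ V, ∀ b ∈ A₀, Commute v b := fun v hv b hb =>
        Subgroup.mem_centralizer_iff.1 hb.2 v hv
      refine ⟨.of_setLike_mul_comm fun x hx y hy => ?_, fun x hx => ?_⟩
      · obtain ⟨v, hv, b, hb, rfl⟩ := hmem x hx
        obtain ⟨w, hw, c, hc, rfl⟩ := hmem y hy
        exact ((Commute.mul_left (Commute.mul_right (hcommV v hv w hw) (hva v hv c hc))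
          (Commute.mul_right (hva w hw b hb).symm
            (Cfsg.Agent.Thompson.commute_of_isElementaryAbelian hA.2.1 hb.1 hc.1))) : Commute _ _)
      · obtain ⟨v, hv, b, hb, rfl⟩ := hmem x hx
        rw [(hva v hv b hb).mul_pow, hV.2 v hv, hA.2.1.2 b hb.1, one_mul]
    have h2 := hA.2.2 _ (sup_le hVS (inf_le_left.trans hA.1)) hel
    have h3 := card_sup_mul_card_inf (N := V) (H := A₀) h1
    have h4 : Nat.card (CV A₀) ≤ Nat.card V := Subgroup.card_le_of_le inf_le_left
    have h5 : Nat.card (V ⊓ A₀ : Subgroup G) ≤ Nat.card (CV A) := by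
      refine Subgroup.card_le_of_le fun x hx => Subgroup.mem_inf.2 ⟨hx.1, ?_⟩
      exact Subgroup.mem_centralizer_iff.2 fun a ha =>
        Cfsg.Agent.Thompson.commute_of_isElementaryAbelian hA.2.1 ha hx.2.1
    calc m A₀ = Nat.card A₀ * Nat.card (CV A₀) := rfl
      _ ≤ Nat.card A₀ * Nat.card V := Nat.mul_le_mul_left _ h4
      _ = Nat.card (V ⊔ A₀ : Subgroup G) * Nat.card (V ⊓ A₀ : Subgroup G) := by rw [h3, mul_comm]
      _ ≤ m A := Nat.mul_le_mul h2 h5
  obtain ⟨B, ⟨hA₀B, hBA, hBC⟩, hmax⟩ := Set.exists_max_image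
    {B : Subgroup G | A₀ ≤ B ∧ B ≤ A ∧ ¬ B ≤ C} m (Set.toFinite _) ⟨A, inf_le_left, le_rfl, hAC⟩
  have hBe := Cfsg.Agent.Thompson.isElementaryAbelian_mono hBA hA.2.1
  -- work in `G ⧸ C`
  set f := QuotientGroup.mk' C with hf
  set F := Cfsg.fittingSubgroup (G ⧸ C) with hF
  have hFodd : (Nat.card F).Coprime 2 := by
    have h1 := Cfsg.Agent.FittingCores.fitting_le_pCore_sup_pPrimeCore (G := G ⧸ C) Nat.prime_two
    rw [hO, bot_sup_eq] at h1
    exact (Cfsg.Agent.FittingCores.pPrimeCore_coprime 2).coprime_dvd_left (Subgroup.card_dvd_of_le h1)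
  set Bb := B.map f with hBb
  have hFn : ∀ X : Subgroup (G ⧸ C), X ≤ Subgroup.normalizer (F : Set (G ⧸ C)) := fun X => by
    rw [Subgroup.normalizer_eq_top_iff.2 Cfsg.Agent.FittingCores.fitting_normal]; exact le_top
  have hBb2 := Cfsg.Agent.Thompson.isElementaryAbelian_map f hBe
  have hcomB : ∀ x ∈ Bb, ∀ y ∈ Bb, x * y = y * x := fun x hx y hy =>
    Cfsg.Agent.Thompson.commute_of_isElementaryAbelian hBb2 hx hy
  have hpgB : IsPGroup 2 Bb := fun x => ⟨1, Subtype.ext (by simpa using hBb2.2 x x.2)⟩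
  have hnc : ¬ ∀ x ∈ F, ∀ e ∈ Bb, e * x = x * e := by
    intro hall
    have hle : Bb ≤ F := fun e he => Cfsg.Agent.FittingCores.centralizer_fitting_le
      (Subgroup.mem_centralizer_iff.2 fun x hx => (hall x hx e he).symm)
    refine hBC fun b hb => ?_
    have h1 : f b ∈ Bb := Subgroup.mem_map_of_mem f hb
    have h2 : orderOf (f b) = 1 := Nat.eq_one_of_dvd_coprimes hFodd (F.orderOf_dvd_natCard (hle h1))
      (orderOf_dvd_of_pow_eq_one (hBb2.2 _ h1))
    exact (QuotientGroup.eq_one_iff b).1 (orderOf_eq_one_iff.1 h2)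
  -- a maximal `H` with `C_F(H)` not centralized by `B`
  set FH := fun H : Subgroup (G ⧸ C) => F ⊓ Subgroup.centralizer (H : Set (G ⧸ C)) with hFH
  obtain ⟨H, ⟨hHB, hHnc⟩, hHmax⟩ := Set.exists_max_image
    {H : Subgroup (G ⧸ C) | H ≤ Bb ∧ ¬ ∀ x ∈ FH H, ∀ e ∈ Bb, e * x = x * e}
    (fun H => Nat.card H) (Set.toFinite _) ⟨⊥, bot_le, fun h => hnc fun x hx => h x
      ⟨hx, Subgroup.mem_centralizer_iff.2 fun y hy => by rw [Subgroup.mem_bot.1 hy, one_mul, mul_one]⟩⟩
  obtain ⟨e₀, he₀, q₀, hq₀, hne₀⟩ : ∃ e ∈ Bb, ∃ x ∈ FH H, ¬ e * x = x * e := by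
    push Not at hHnc
    obtain ⟨x, hx, e, he, h⟩ := hHnc
    exact ⟨e, he, x, hx, h⟩
  have he₀H : e₀ ∉ H := fun h => hne₀ (Subgroup.mem_centralizer_iff.1 hq₀.2 e₀ h)
  have hnorm : ∀ (H : Subgroup (G ⧸ C)), H ≤ Bb → Bb ≤ Subgroup.normalizer (FH H : Set (G ⧸ C)) := by
    intro H hH e he
    refine le_normalizer_of_conj_mem fun x hx => Subgroup.mem_inf.2
      ⟨(Subgroup.mem_normalizer_iff.1 (hFn Bb he) x).1 hx.1, Subgroup.mem_centralizer_iff.2 fun h hh => ?_⟩
    have h1 := Subgroup.mem_centralizer_iff.1 hx.2 h hh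
    have h2 : h * e = e * h := hcomB h (hH hh) e he
    calc h * (e * x * e⁻¹) = e * (h * x) * e⁻¹ := by rw [← mul_assoc, ← mul_assoc, h2]; group
      _ = e * (x * h) * e⁻¹ := by rw [h1]
      _ = e * x * e⁻¹ * (e * h * e⁻¹) := by group
      _ = _ := by rw [← h2, mul_inv_cancel_right]
  -- `Bb = H ∪ e₀ H`
  have hhyp : ∀ e ∈ Bb, e ∈ H ∨ e₀ * e ∈ H := by
    intro e he
    by_contra hcon
    push Not at hcon
    obtain ⟨heH, he0H⟩ := hcon
    set K := Subgroup.closure ({e₀, e} : Set (G ⧸ C)) with hK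
    have hKB : K ≤ Bb := by
      rw [hK, Subgroup.closure_le]; exact Set.insert_subset he₀ (Set.singleton_subset_iff.2 he)
    have : IsMulCommutative K := .of_setLike_mul_comm fun x hx y hy => hcomB x (hKB hx) y (hKB hy)
    have he0K : e₀ ∈ K := Subgroup.subset_closure (Set.mem_insert _ _)
    have heK : e ∈ K := Subgroup.subset_closure (Set.mem_insert_of_mem _ rfl)
    have hKmem : ∀ k ∈ K, k = 1 ∨ k = e₀ ∨ k = e ∨ k = e₀ * e := by
      intro k hk
      let T : Subgroup (G ⧸ C) := Subgroup.closure {e₀} ⊔ Subgroup.closure {e}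
      have hkT : k ∈ T := by
        change k ∈ Subgroup.closure {e₀} ⊔ Subgroup.closure {e}
        rw [← Subgroup.closure_union, Set.singleton_union] ; exact hk
      obtain ⟨x, hx, y, hy, rfl⟩ := (mem_sup_iff_of_le_normalizer (by
        intro z hz
        refine Subgroup.centralizer_le_normalizer _ (Subgroup.mem_centralizer_iff.2 fun w hw => ?_)
        exact hcomB w ((Subgroup.closure_le _).2 (Set.singleton_subset_iff.2 he₀) hw) z
          ((Subgroup.closure_le _).2 (Set.singleton_subset_iff.2 he) hz))).1 hkT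
      have hpow : ∀ z ∈ Bb, ∀ w ∈ Subgroup.closure ({z} : Set (G ⧸ C)), w = 1 ∨ w = z := by
        intro z hz w hw
        rw [← Subgroup.zpowers_eq_closure] at hw
        obtain ⟨i, rfl⟩ := hw
        have hz2 : z ^ (2 : ℤ) = 1 := by exact_mod_cast hBb2.2 z hz
        rcases Int.even_or_odd i with ⟨j, rfl⟩ | ⟨j, rfl⟩
        · left; beta_reduce; rw [show j + j = 2 * j by ring, zpow_mul, hz2, one_zpow]
        · right; beta_reduce; rw [zpow_add, zpow_mul, hz2, one_zpow, one_mul, zpow_one]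
      rcases hpow e₀ he₀ x hx with rfl | rfl <;> rcases hpow e he y hy with rfl | rfl
      · exact Or.inl (one_mul 1)
      · exact Or.inr (Or.inr (Or.inl (one_mul _)))
      · exact Or.inr (Or.inl (mul_one _))
      · exact Or.inr (Or.inr (Or.inr rfl))
    have hKH : ∀ k ∈ K, k ≠ 1 → k ∉ H := by
      intro k hk hk1
      rcases hKmem k hk with rfl | rfl | rfl | rfl
      · exact absurd rfl hk1
      · exact he₀H
      · exact heH
      · exact he0H
    have hnotcyc : ¬ IsCyclic K := by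
      intro hc
      obtain ⟨g, hg⟩ := hc.exists_generator
      obtain ⟨i, hi⟩ := hg ⟨e₀, he0K⟩
      obtain ⟨j, hj⟩ := hg ⟨e, heK⟩
      rcases hKmem g g.2 with hg1 | hg1 | hg1 | hg1
      · refine he₀H ?_
        have h1 : e₀ = (g : G ⧸ C) ^ i := (congrArg Subtype.val hi).symm
        rw [h1, hg1, one_zpow]; exact H.one_mem
      all_goals
        have hg2 : ((g : G ⧸ C)) ^ (2 : ℤ) = 1 := by exact_mod_cast hBb2.2 _ (hKB g.2)
        have hval : ∀ n : ℤ, (g : G ⧸ C) ^ n = 1 ∨ (g : G ⧸ C) ^ n = g := fun n => by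
          rcases Int.even_or_odd n with ⟨k, rfl⟩ | ⟨k, rfl⟩
          · left; rw [show k + k = 2 * k by ring, zpow_mul, hg2, one_zpow]
          · right; rw [zpow_add, zpow_mul, hg2, one_zpow, one_mul, zpow_one]
        have h1 : e₀ = (g : G ⧸ C) ^ i := (congrArg Subtype.val hi).symm
        have h2 : e = (g : G ⧸ C) ^ j := (congrArg Subtype.val hj).symm
        rcases hval i with h3 | h3 <;> rcases hval j with h4 | h4
        · exact he₀H (h1 ▸ h3 ▸ H.one_mem)
        · exact he₀H (h1 ▸ h3 ▸ H.one_mem)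
        · exact heH (h2 ▸ h4 ▸ H.one_mem)
        · refine he0H ?_
          rw [h1, h3, h2, h4, ← pow_two, hBb2.2 _ (hKB g.2)]
          exact H.one_mem
    have hcop : (Nat.card K).Coprime (Nat.card (FH H)) := by
      obtain ⟨k, hk⟩ := (hpgB.to_le hKB).exists_card_eq
      rw [hk]
      exact (hFodd.coprime_dvd_left (Subgroup.card_dvd_of_le inf_le_left)).symm.pow_left k
    have hgen := Cfsg.Agent.CoprimeAct.generated_by_centralizers hnotcyc (hKB.trans (hnorm H hHB)) hcop
    refine hne₀ ?_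
    have hall : FH H ≤ Subgroup.centralizer ({e₀} : Set (G ⧸ C)) := by
      rw [← hgen]
      refine iSup₂_le fun k hk x hx => ?_
      obtain ⟨hkK, hk1⟩ := hk
      have hle : H ⊔ Subgroup.zpowers k ≤ Bb := sup_le hHB (Subgroup.zpowers_le.2 (hKB hkK))
      have hlt : Nat.card H < Nat.card (H ⊔ Subgroup.zpowers k : Subgroup (G ⧸ C)) := by
        refine lt_of_le_of_ne (Subgroup.card_le_of_le le_sup_left) fun h => hKH k hkK hk1 ?_
        rw [Subgroup.eq_of_le_of_card_ge le_sup_left h.ge]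
        exact Subgroup.mem_sup_right (Subgroup.mem_zpowers k)
      have h1 : ∀ y ∈ FH (H ⊔ Subgroup.zpowers k), ∀ e ∈ Bb, e * y = y * e := by
        by_contra hbad
        exact absurd (hHmax _ ⟨hle, hbad⟩) (not_le.2 hlt)
      refine Subgroup.mem_centralizer_singleton_iff.2 (h1 x (Subgroup.mem_inf.2 ⟨hx.1.1, ?_⟩) e₀ he₀).symm
      rw [Subgroup.mem_centralizer_iff]
      intro z hz
      have h2 : H ⊔ Subgroup.zpowers k ≤ Subgroup.centralizer ({x} : Set (G ⧸ C)) := by
        refine sup_le (fun h hh => Subgroup.mem_centralizer_singleton_iff.2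
          (Subgroup.mem_centralizer_iff.1 hx.1.2 h hh)) (Subgroup.zpowers_le.2 ?_)
        exact Subgroup.mem_centralizer_singleton_iff.2 (Subgroup.mem_centralizer_singleton_iff.1 hx.2).symm
      exact Subgroup.mem_centralizer_singleton_iff.1 (h2 hz)
    exact (Subgroup.mem_centralizer_singleton_iff.1 (hall hq₀)).symm
  obtain ⟨a, haB, hae⟩ := he₀
  -- an element inverted by `e₀`
  set y₁ := q₀⁻¹ * (e₀ * q₀ * e₀⁻¹) with hy₁
  have hy₁F : y₁ ∈ FH H := (FH H).mul_mem ((FH H).inv_mem hq₀)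
    ((Subgroup.mem_normalizer_iff.1 (hnorm H hHB ⟨a, haB, hae⟩) q₀).1 hq₀)
  have hy₁1 : y₁ ≠ 1 := fun h => hne₀ (mul_inv_eq_iff_eq_mul.1 (inv_mul_eq_one.1 h).symm)
  have he₀2 : e₀ * e₀ = 1 := by rw [← pow_two]; exact hBb2.2 _ ⟨a, haB, hae⟩
  have hinv₁ : e₀ * y₁ * e₀⁻¹ = y₁⁻¹ := by
    have h1 : e₀⁻¹ = e₀ := inv_eq_of_mul_eq_one_right he₀2
    rw [hy₁, mul_inv_rev, inv_inv, mul_inv_rev, mul_inv_rev, h1]
    simp only [mul_assoc, he₀2, mul_one]
    rw [h1]
  obtain ⟨r, hr, hrd⟩ := Nat.exists_prime_and_dvd (fun h => hy₁1 (orderOf_eq_one_iff.1 h))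
  have hr2 : r ≠ 2 := fun h => Nat.prime_two.one_lt.ne' (Nat.eq_one_of_dvd_coprimes hFodd
    ((h ▸ hrd).trans (F.orderOf_dvd_natCard hy₁F.1)) dvd_rfl)
  have hro : Odd r := hr.odd_of_ne_two hr2
  set yb := y₁ ^ (orderOf y₁ / r) with hyb
  have hybo : orderOf yb = r := orderOf_pow_orderOf_div (orderOf_pos y₁).ne' hrd
  have hybinv : e₀ * yb * e₀⁻¹ = yb⁻¹ := by rw [hyb, ← conj_pow, hinv₁, inv_pow]
  have hybH : ∀ h ∈ H, h * yb = yb * h := fun h hh =>
    Subgroup.mem_centralizer_iff.1 ((FH H).pow_mem hy₁F _).2 h hh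
  obtain ⟨y, hyy⟩ := QuotientGroup.mk'_surjective C yb
  -- automorphisms of `V`
  letI : CommGroup V := { mul_comm := fun x z => Subtype.ext (hcommV x x.2 z z.2) }
  have hV2 : ∀ e : V, e ^ 2 = 1 := fun e => Subtype.ext (hV.2 e e.2)
  set ρ : G →* MulAut V := MulAut.conjNormal with hρ
  have hρC : ∀ c ∈ C, ρ c = 1 := fun c hc => MulEquiv.ext fun v => Subtype.ext (by
    rw [hρ, MulAut.conjNormal_apply, MulAut.one_apply, ← Subgroup.mem_centralizer_iff.1 hc v v.2,
      mul_inv_cancel_right])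
  have hρeq : ∀ g g' : G, f g = f g' → ρ g = ρ g' := fun g g' h => by
    have h1 := hρC (g⁻¹ * g') (QuotientGroup.eq.1 h)
    rw [map_mul, map_inv, inv_mul_eq_one] at h1
    exact h1
  set σ := ρ y with hσ
  set α := ρ a with hα
  have hσr : σ ^ r = 1 := by
    rw [hσ, ← map_pow]
    refine hρC _ ((QuotientGroup.eq_one_iff _).1 (show f (y ^ r) = 1 from ?_))
    rw [map_pow, hyy, ← hybo, pow_orderOf_eq_one]
  have hαα : α * α = 1 := by
    rw [hα, ← map_mul, ← pow_two, hBe.2 a haB, map_one]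
  have hinv : α * σ * α⁻¹ = σ⁻¹ := by
    rw [hα, hσ, ← map_inv, ← map_inv, ← map_mul, ← map_mul]
    exact hρeq _ _ (by rw [map_mul, map_mul, map_inv, map_inv, hae, hyy, hybinv])
  -- the hyperplane
  set HB := B ⊓ H.comap f with hHB'
  have hA₀H : A₀ ≤ HB := fun x hx => Subgroup.mem_inf.2 ⟨hA₀B hx, by
    rw [Subgroup.mem_comap, show f x = 1 from (QuotientGroup.eq_one_iff x).2 hx.2]; exact H.one_mem⟩
  have hindex : Nat.card B = 2 * Nat.card HB := by
    have h1 : (HB.subgroupOf B).index = 2 := by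
      rw [Subgroup.index_eq_two_iff]
      refine ⟨⟨a, haB⟩, fun b => ?_⟩
      have hfb : f b ∈ Bb := Subgroup.mem_map_of_mem f b.2
      have hba : f ((b : G) * a) = e₀ * f b := by
        rw [map_mul, hae, hcomB _ hfb _ ⟨a, haB, hae⟩]
      rcases hhyp _ hfb with h | h
      · refine Or.inr ⟨Subgroup.mem_inf.2 ⟨b.2, h⟩, fun h' => he₀H ?_⟩
        have h'' : f ((b : G) * a) ∈ H := (Subgroup.mem_inf.1 (Subgroup.mem_subgroupOf.1 h')).2
        rw [hba] at h''
        simpa [mul_assoc] using H.mul_mem h'' (H.inv_mem h)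
      · refine Or.inl ⟨Subgroup.mem_inf.2 ⟨B.mul_mem b.2 haB, show f ((b : G) * a) ∈ H from hba ▸ h⟩,
          fun h' => he₀H ?_⟩
        have h'' : f b ∈ H := (Subgroup.mem_inf.1 (Subgroup.mem_subgroupOf.1 h')).2
        simpa [mul_assoc] using H.mul_mem h (H.inv_mem h'')
    have h2 := (HB.subgroupOf B).card_mul_index
    rw [h1, Nat.card_congr (Subgroup.subgroupOfEquivOfLe (inf_le_left : HB ≤ B)).toEquiv] at h2
    rw [← h2, mul_comm]
  have hmH : m HB ≤ m B := by
    by_cases hHC : HB ≤ C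
    · have h1 : HB = A₀ := le_antisymm (le_inf (inf_le_left.trans hBA) hHC) hA₀H
      rw [h1]
      exact hm0.trans (hmax A ⟨inf_le_left, le_rfl, hAC⟩)
    · exact hmax HB ⟨hA₀H, inf_le_left.trans hBA, hHC⟩
  have hcV : Nat.card (CV HB) ≤ 2 * Nat.card (CV B) := by
    have h1 : Nat.card HB * Nat.card (CV HB) ≤ Nat.card HB * (2 * Nat.card (CV B)) := by
      refine hmH.trans (le_of_eq ?_)
      simp only [hm]
      rw [hindex]; ring
    exact Nat.le_of_mul_le_mul_left h1 Nat.card_pos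
  -- pass to subgroups of `V`
  set W := (CV HB).subgroupOf V with hW
  have hWmem : ∀ v : V, v ∈ W ↔ ∀ h ∈ HB, ρ h v = v := by
    intro v
    simp only [hW, hCV, Subgroup.mem_subgroupOf, Subgroup.mem_inf, SetLike.coe_mem, true_and,
      Subgroup.mem_centralizer_iff, Subtype.ext_iff, hρ, MulAut.conjNormal_apply,
      mul_inv_eq_iff_eq_mul]
    rfl
  let Fix : MulAut V → Subgroup V := fun τ => MonoidHom.eqLocus τ.toMonoidHom (MonoidHom.id V)
  have hFix : ∀ τ v, v ∈ Fix τ ↔ τ v = v := fun τ v => Iff.rfl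
  have hWσ : ∀ g : G, (∀ h ∈ HB, ρ h * ρ g = ρ g * ρ h) → ∀ v ∈ W, ρ g v ∈ W := fun g hg v hv => by
    rw [hWmem] at hv ⊢
    intro h hh
    rw [← MulAut.mul_apply, hg h hh, MulAut.mul_apply, hv h hh]
  have hHy : ∀ h ∈ HB, ρ h * ρ y = ρ y * ρ h := fun h hh => by
    rw [← map_mul, ← map_mul]
    exact hρeq _ _ (by rw [map_mul, map_mul, hyy, hybH _ (Subgroup.mem_inf.1 hh).2])
  have hHa : ∀ h ∈ HB, ρ h * ρ a = ρ a * ρ h := fun h hh => by
    rw [← map_mul, ← map_mul, Cfsg.Agent.Thompson.commute_of_isElementaryAbelian hBe hh.1 haB]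
  have hWsig : ∀ v ∈ W, σ v ∈ W := hWσ y hHy
  have hWpow : ∀ (n : ℕ), ∀ v ∈ W, (σ ^ n) v ∈ W := by
    intro n
    induction n with
    | zero => intro v hv; simpa using hv
    | succ n ih => intro v hv; rw [pow_succ', MulAut.mul_apply]; exact hWsig _ (ih v hv)
  have hσinvW : ∀ v ∈ W, σ⁻¹ v ∈ W := fun v hv => by
    have : σ⁻¹ = σ ^ (r - 1) := inv_eq_of_mul_eq_one_right (by
      rw [← pow_succ', Nat.sub_add_cancel hr.one_lt.le, hσr])
    rw [this]
    exact hWpow _ v hv
  have hFα : (Fix α).relIndex W ≤ 2 := by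
    have h1 : Fix α ⊓ W = (CV B).subgroupOf V := by
      refine le_antisymm (fun v hv => ?_) (fun v hv => ?_)
      · obtain ⟨hva, hvW⟩ := Subgroup.mem_inf.1 hv
        rw [hFix] at hva
        rw [hWmem] at hvW
        refine Subgroup.mem_subgroupOf.2 (Subgroup.mem_inf.2 ⟨v.2, Subgroup.mem_centralizer_iff.2 fun b hb => ?_⟩)
        have hb' : b ∈ HB ∨ b * a ∈ HB := by
          have hfb : f b ∈ Bb := Subgroup.mem_map_of_mem f hb
          rcases hhyp _ hfb with h | h
          · exact Or.inl (Subgroup.mem_inf.2 ⟨hb, h⟩)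
          · refine Or.inr (Subgroup.mem_inf.2 ⟨B.mul_mem hb haB, ?_⟩)
            rw [Subgroup.mem_comap, map_mul, hae, hcomB _ hfb _ ⟨a, haB, hae⟩]
            exact h
        have hfix : ρ b v = v := by
          rcases hb' with h | h
          · exact hvW b h
          · have h2 := hvW _ h
            rwa [map_mul, MulAut.mul_apply, hva] at h2
        have h3 := congrArg Subtype.val hfix
        rw [hρ, MulAut.conjNormal_apply, mul_inv_eq_iff_eq_mul] at h3
        exact h3
      · have hv' := Subgroup.mem_centralizer_iff.1 (Subgroup.mem_inf.1 (Subgroup.mem_subgroupOf.1 hv)).2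
        have hfix : ∀ b ∈ B, ρ b v = v := fun b hb => Subtype.ext (by
          rw [hρ, MulAut.conjNormal_apply, hv' b hb, mul_inv_cancel_right])
        exact Subgroup.mem_inf.2 ⟨(hFix α v).2 (hfix a haB), (hWmem v).2 fun h hh => hfix h hh.1⟩
    have h2 : Nat.card (Fix α ⊓ W : Subgroup V) * (Fix α).relIndex W = Nat.card W := by
      rw [← Subgroup.inf_relIndex_right, ← Subgroup.relIndex_bot_left,
        Subgroup.relIndex_mul_relIndex _ _ _ bot_le inf_le_right, Subgroup.relIndex_bot_left]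
    rw [h1, Nat.card_congr (Subgroup.subgroupOfEquivOfLe (inf_le_left : CV B ≤ V)).toEquiv, hW,
      Nat.card_congr (Subgroup.subgroupOfEquivOfLe (inf_le_left : CV HB ≤ V)).toEquiv] at h2
    exact Nat.le_of_mul_le_mul_left (h2.le.trans (hcV.trans_eq (mul_comm _ _))) Nat.card_pos
  -- the conjugate involution `α σ`
  obtain ⟨j, hj⟩ := hro
  have hconj : α * σ = σ ^ j * α * (σ ^ j)⁻¹ := by
    have h1 : α * (σ ^ j)⁻¹ = σ ^ j * α := by
      have h2 : α * σ ^ j * α⁻¹ = (σ ^ j)⁻¹ := by rw [← conj_pow, hinv, inv_pow]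
      rw [← h2]
      calc α * (α * σ ^ j * α⁻¹) = α * α * σ ^ j * α⁻¹ := by group
        _ = σ ^ j * (α⁻¹ * 1) := by rw [hαα]; group
        _ = σ ^ j * α := by rw [← hαα, inv_mul_cancel_left]
    rw [← h1, mul_assoc, ← mul_inv_rev, ← pow_add]
    congr 1
    refine eq_inv_of_mul_eq_one_left ?_
    rw [← pow_succ', show j + j + 1 = r by omega, hσr]
  have hFβ : (Fix (α * σ)).relIndex W ≤ 2 := by
    have h1 : Fix (α * σ) ⊓ W = (Fix α ⊓ W).map (σ ^ j).toMonoidHom := by
      refine le_antisymm (fun v hv => ?_) ?_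
      · obtain ⟨hv1, hv2⟩ := Subgroup.mem_inf.1 hv
        refine ⟨(σ ^ j)⁻¹ v, Subgroup.mem_inf.2 ⟨(hFix _ _).2 ?_, ?_⟩, MulEquiv.apply_symm_apply _ v⟩
        · rw [hFix, hconj, MulAut.mul_apply, MulAut.mul_apply] at hv1
          exact (σ ^ j).injective (hv1.trans (MulEquiv.apply_symm_apply (σ ^ j) v).symm)
        · have : (σ ^ j)⁻¹ = σ ^ (r * j - j) := inv_eq_of_mul_eq_one_right (by
            rw [← pow_add, Nat.add_sub_of_le (Nat.le_mul_of_pos_left j hr.pos), pow_mul, hσr, one_pow])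
          rw [this]; exact hWpow _ v hv2
      · rintro _ ⟨v, hv, rfl⟩
        obtain ⟨hv1, hv2⟩ := Subgroup.mem_inf.1 hv
        refine Subgroup.mem_inf.2 ⟨(hFix _ _).2 ?_, hWpow j v hv2⟩
        change (α * σ) ((σ ^ j) v) = (σ ^ j) v
        rw [hconj, MulAut.mul_apply, MulAut.mul_apply, MulAut.inv_apply_self, (hFix α v).1 hv1]
    have hc : ∀ τ, Nat.card (Fix τ ⊓ W : Subgroup V) * (Fix τ).relIndex W = Nat.card W := fun τ => by
      rw [← Subgroup.inf_relIndex_right, ← Subgroup.relIndex_bot_left,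
        Subgroup.relIndex_mul_relIndex _ _ _ bot_le inf_le_right, Subgroup.relIndex_bot_left]
    have h2 := hc (α * σ)
    rw [h1, Subgroup.card_map_of_injective (σ ^ j).injective, ← hc α] at h2
    rw [Nat.eq_of_mul_eq_mul_left Nat.card_pos h2]
    exact hFα
  -- the displacement map
  let δ : V →* V :=
    { toFun := fun v => v⁻¹ * σ v
      map_one' := by simp
      map_mul' := fun v w => by rw [map_mul, mul_inv, mul_mul_mul_comm] }
  have hδ : ∀ v, δ v = v⁻¹ * σ v := fun v => rfl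
  set U := W.map δ with hU
  have hUW : U ≤ W := by
    rintro _ ⟨v, hv, rfl⟩
    exact W.mul_mem (W.inv_mem hv) (hWsig v hv)
  have hUfix : ∀ w ∈ U, σ w = w → w = 1 := by
    rintro _ ⟨v, -, rfl⟩ hw
    exact displacement_fixed hV2 ⟨j, hj⟩ hσr hw
  have hU4 : Nat.card U ≤ 4 := by
    have h1 : Nat.card U = (δ.ker).relIndex W := (Subgroup.relIndex_ker W δ).symm
    rw [h1]
    have h2 : Fix α ⊓ Fix (α * σ) ≤ δ.ker := by
      intro v hv
      obtain ⟨hv1, hv2⟩ := Subgroup.mem_inf.1 hv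
      rw [hFix] at hv1 hv2
      rw [MulAut.mul_apply] at hv2
      rw [MonoidHom.mem_ker, hδ, show σ v = v from α.injective (hv2.trans hv1.symm), inv_mul_cancel]
    refine (Nat.le_of_dvd (Nat.pos_of_ne_zero Subgroup.index_ne_zero_of_finite)
      (Subgroup.relIndex_dvd_of_le_left W h2)).trans ?_
    exact Subgroup.relIndex_inf_le.trans (Nat.mul_le_mul hFα hFβ)
  have hU1 : U ≠ ⊥ := by
    intro hbot
    have hall : ∀ v ∈ W, σ v = v := fun v hv => by
      have h : δ v ∈ U := ⟨v, hv, rfl⟩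
      rw [hbot, Subgroup.mem_bot, hδ, inv_mul_eq_one] at h
      exact h.symm
    have hσ1 : σ ≠ 1 := by
      intro h1
      refine hr.one_lt.ne' (hybo.symm.trans (orderOf_eq_one_iff.2 ?_))
      rw [← hyy]
      refine (QuotientGroup.eq_one_iff y).2 (Subgroup.mem_centralizer_iff.2 fun v hv => ?_)
      have h3 := congrArg (fun τ : MulAut V => ((τ ⟨v, hv⟩ : V) : G)) h1
      simp only [hσ, hρ, MulAut.conjNormal_apply, MulAut.one_apply] at h3
      exact (mul_inv_eq_iff_eq_mul.1 h3).symm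
    have hne : δ.range ≠ ⊥ := fun h => hσ1 (MulEquiv.ext fun v => by
      have h' : δ v ∈ δ.range := ⟨v, rfl⟩
      rw [h, Subgroup.mem_bot, hδ, inv_mul_eq_one] at h'
      exact h'.symm)
    have hpV : IsPGroup 2 V := fun v => ⟨1, by rw [pow_one]; exact hV2 v⟩
    have hpH : IsPGroup 2 HB := fun h => ⟨1, Subtype.ext (by simpa using hBe.2 h h.2.1)⟩
    obtain ⟨w, hw, hw1, hwfix⟩ := Cfsg.Agent.OffenderAction.exists_fixed hpH (ρ.comp HB.subtype)
      δ.range (hpV.to_subgroup _) hne (by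
        rintro ⟨h, hh⟩ _ ⟨v, rfl⟩
        refine ⟨ρ h v, ?_⟩
        rw [hδ, hδ]
        change (ρ h v)⁻¹ * σ (ρ h v) = ρ h (v⁻¹ * σ v)
        rw [map_mul, map_inv, hσ]
        exact congrArg _ (DFunLike.congr_fun (hHy h hh) v).symm)
    obtain ⟨v, rfl⟩ := hw
    refine hw1 (displacement_fixed hV2 ⟨j, hj⟩ hσr (hall _ ((hWmem _).2 fun h hh => ?_)))
    exact hwfix ⟨h, hh⟩
  -- `|U| = 4` and `r = 3`
  have : Fact r.Prime := ⟨hr⟩
  obtain ⟨hUc, hr3⟩ : Nat.card U = 4 ∧ r = 3 := by
    set T := Subgroup.zpowers σ with hT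
    have hTr : IsPGroup r T := IsPGroup.of_card (n := 1) (by
      rw [hT, Nat.card_zpowers, pow_one]
      refine (Nat.dvd_prime hr).1 (orderOf_dvd_of_pow_eq_one hσr) |>.resolve_left fun h1 => hU1 ?_
      rw [Subgroup.eq_bot_iff_forall]
      intro w hw
      exact hUfix w hw (by rw [orderOf_eq_one_iff.1 h1, MulAut.one_apply]))
    have hUinv : ∀ (τ : T) (w : V), w ∈ U → (τ : MulAut V) w ∈ U := by
      have hσU : σ ∈ {τ : MulAut V | ∀ w ∈ U, τ w ∈ U} := by
        rintro _ ⟨v, hv, rfl⟩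
        exact ⟨σ v, hWsig v hv, by rw [hδ, hδ, map_mul, map_inv]⟩
      rintro ⟨τ, hτ⟩ w hw
      obtain ⟨n, rfl⟩ := (mem_zpowers_iff_mem_range_orderOf).1 hτ |> fun h => Finset.mem_image.1 h
        |> fun ⟨n, _, h⟩ => (⟨n, h⟩ : ∃ n : ℕ, σ ^ n = τ)
      induction n with
      | zero => simpa using hw
      | succ n ih =>
        change (σ ^ (n + 1)) w ∈ U
        rw [pow_succ', MulAut.mul_apply]
        exact hσU _ (ih (Subgroup.pow_mem _ (Subgroup.mem_zpowers σ) n))
    letI act : MulAction T U :=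
      { smul := fun τ w => ⟨(τ : MulAut V) w, hUinv τ w w.2⟩
        one_smul := fun w => Subtype.ext rfl
        mul_smul := fun τ τ' w => Subtype.ext rfl }
    have hfp : MulAction.fixedPoints T U = {1} := by
      ext w
      simp only [MulAction.mem_fixedPoints, Set.mem_singleton_iff]
      refine ⟨fun h => Subtype.ext (hUfix w w.2
        (congrArg Subtype.val (h ⟨σ, Subgroup.mem_zpowers σ⟩))), ?_⟩
      rintro rfl τ
      exact Subtype.ext (map_one (τ : MulAut V))
    have hmod := hTr.card_modEq_card_fixedPoints U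
    rw [hfp] at hmod
    simp only [Nat.card_coe_set_eq, Set.ncard_singleton] at hmod
    have hpU : IsPGroup 2 U := fun v => ⟨1, Subtype.ext (by simpa using hV2 (v : V))⟩
    obtain ⟨k, hk⟩ := hpU.exists_card_eq
    have hk2 : k ≤ 2 := by
      by_contra hk3
      have h8 : 2 ^ 3 ≤ 2 ^ k := Nat.pow_le_pow_right two_pos (by omega)
      omega
    have h1U : 1 < Nat.card U := U.one_lt_card_iff_ne_bot.2 hU1
    have hd : r ∣ Nat.card U - 1 := (Nat.modEq_iff_dvd' h1U.le).1 hmod.symm
    rcases Nat.le_succ_iff.1 hk2 with hk1 | rfl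
    · rcases Nat.le_succ_iff.1 hk1 with hk0 | rfl
      · rw [Nat.le_zero.1 hk0] at hk; omega
      · rw [hk] at hd
        exact absurd (Nat.eq_one_of_dvd_one hd) hr.one_lt.ne'
    · refine ⟨by rw [hk]; norm_num, ?_⟩
      rw [hk] at hd
      exact (Nat.prime_dvd_prime_iff_eq hr Nat.prime_three).1 hd
  -- back in `G`
  set U' := U.map V.subtype with hU'
  have hinvariant : ∀ g : G, (∀ v ∈ U, ρ g v ∈ U) → g ∈ Subgroup.normalizer (U' : Set G) := by
    intro g hg
    refine le_normalizer_of_conj_mem ?_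
    rintro _ ⟨v, hv, rfl⟩
    exact ⟨ρ g v, hg v hv, by rw [hρ]; exact MulAut.conjNormal_apply g v⟩
  have hyU : y ∈ Subgroup.normalizer (U' : Set G) := hinvariant y (by
    rintro _ ⟨v, hv, rfl⟩
    exact ⟨σ v, hWsig v hv, by rw [hδ, hδ, ← hσ, map_mul, map_inv]⟩)
  have haU : a ∈ Subgroup.normalizer (U' : Set G) := hinvariant a (by
    rintro _ ⟨v, hv, rfl⟩
    refine inv_inv (ρ a (δ v)) ▸ U.inv_mem ⟨σ⁻¹ (α v), hσinvW _ (hWσ a hHa v hv), ?_⟩
    rw [hδ, hδ, ← hα, map_mul, map_inv, mul_inv_rev, inv_inv, MulAut.apply_inv_self]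
    have h1 : α (σ v) = σ⁻¹ (α v) := by
      rw [← MulAut.mul_apply, ← MulAut.mul_apply, ← hinv, inv_mul_cancel_right]
    rw [h1, mul_comm])
  have hCU : C ≤ Subgroup.centralizer (U' : Set G) :=
    Subgroup.centralizer_le (Subgroup.map_subtype_le U)
  refine involves_of_four (U := U') ?_ ?_ haU hyU ?_ ?_ ?_ ?_
  · rw [hU', Subgroup.card_map_of_injective V.subtype_injective, hUc]
  · intro u hu
    exact hV.2 u (Subgroup.map_subtype_le U hu)
  · intro hyc
    refine hU1 ((Subgroup.eq_bot_iff_forall _).2 fun w hw => hUfix w hw (Subtype.ext ?_))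
    rw [hσ, hρ, MulAut.conjNormal_apply,
      ← Subgroup.mem_centralizer_iff.1 hyc (w : G) (Subgroup.mem_map_of_mem V.subtype hw)]
    exact mul_inv_cancel_right _ _
  · refine hCU ((QuotientGroup.eq_one_iff _).1 ?_)
    change f (y ^ 3) = 1
    rw [map_pow, hyy, ← hr3, ← hybo, pow_orderOf_eq_one]
  · rw [hBe.2 a haB]; exact Subgroup.one_mem _
  · refine hCU ((QuotientGroup.eq_one_iff _).1 ?_)
    change f (a * y * a⁻¹ * y) = 1
    rw [map_mul, map_mul, map_mul, map_inv, hae, hyy, hybinv, inv_mul_cancel]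

/-- `Z(S)` central and no odd core: the Sylow `2`-subgroup of class `≤ 2` is normal. -/
lemma sylow_normal_of_central [Group.IsSolvable G] (hO : Cfsg.pPrimeCore 2 G = ⊥) (S : Sylow 2 G)
    (hcl : ⁅(S : Subgroup G), (S : Subgroup G)⁆ ≤ Subgroup.center G) : (S : Subgroup G).Normal := by
  have : Fact (Nat.Prime 2) := ⟨Nat.prime_two⟩
  set Z := (S : Subgroup G) ⊓ Subgroup.center G with hZ
  have hZn : Z.Normal := ⟨fun z hz g => by
    rw [Subgroup.mem_center_iff.1 hz.2 g, mul_inv_cancel_right]; exact hz⟩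
  set f := QuotientGroup.mk' Z with hf
  -- no odd core in the quotient
  have hO' : Cfsg.pPrimeCore 2 (G ⧸ Z) = ⊥ := by
    set R := (Cfsg.pPrimeCore 2 (G ⧸ Z)).comap f with hR
    have hRn : R.Normal := (Cfsg.Agent.FittingCores.pPrimeCore_normal 2).comap f
    have hZR : Z ≤ R := fun z hz => by
      rw [hR, Subgroup.mem_comap, show f z = 1 from (QuotientGroup.eq_one_iff z).2 hz]
      exact one_mem _
    set Z' := Z.subgroupOf R with hZ'
    have hcZ : Nat.card Z' = Nat.card Z := Nat.card_congr (Subgroup.subgroupOfEquivOfLe hZR).toEquiv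
    have hidx : Z'.index = Nat.card (Cfsg.pPrimeCore 2 (G ⧸ Z)) := by
      refine Nat.eq_of_mul_eq_mul_left (Nat.card_pos (α := Z')) ?_
      rw [Z'.card_mul_index, hcZ]; exact Cfsg.Agent.HallSolv.card_comap_mk Z _
    obtain ⟨k, hk⟩ := (S.isPGroup'.to_le (inf_le_left : Z ≤ S)).exists_card_eq
    have hcop : (Nat.card Z').Coprime Z'.index := by
      rw [hcZ, hk, hidx]
      exact (Cfsg.Agent.FittingCores.pPrimeCore_coprime 2).symm.pow_left k
    obtain ⟨K, hK⟩ := Subgroup.exists_right_complement'_of_coprime hcop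
    have hKn : K.Normal := ⟨fun x hx g => by
      obtain ⟨⟨⟨z, hz⟩, ⟨w, hw⟩⟩, hzw, -⟩ := hK.existsUnique g
      have hzc : ∀ t : R, z * t = t * z := fun t => Subtype.ext
        (Subgroup.mem_center_iff.1 (Subgroup.mem_subgroupOf.1 hz).2 t).symm
      have h1 : g * x * g⁻¹ = w * x * w⁻¹ := by
        rw [← hzw]
        change z * w * x * (z * w)⁻¹ = _
        rw [mul_inv_rev, mul_assoc z w x, hzc, mul_assoc, ← mul_assoc z w⁻¹, hzc w⁻¹]
        group
      rw [h1]
      exact K.mul_mem (K.mul_mem hw hx) (K.inv_mem hw)⟩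
    have hKc : (Nat.card K).Coprime 2 := by
      have h1 := hK.card_mul_card
      rw [← Z'.card_mul_index] at h1
      rw [Nat.eq_of_mul_eq_mul_left Nat.card_pos h1, hidx]
      exact Cfsg.Agent.FittingCores.pPrimeCore_coprime 2
    have h1 := (Subgroup.map_mono (Cfsg.Agent.FittingCores.le_pPrimeCore hKn hKc)).trans
      (Cfsg.Agent.FittingCores.pPrimeCore_map_subtype_le 2 hRn)
    rw [hO, le_bot_iff, Subgroup.map_eq_bot_iff_of_injective _ R.subtype_injective] at h1
    have h2 := hK.card_mul_card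
    rw [h1, Subgroup.card_bot, mul_one] at h2
    have h3 : Z'.index = 1 := by
      have h4 := Z'.card_mul_index
      rw [← h2] at h4
      exact (Nat.mul_eq_left Nat.card_pos.ne').1 h4
    rw [hidx, Subgroup.card_eq_one] at h3
    exact h3
  set T := (S : Subgroup G).map f with hT
  set O := Cfsg.pCore 2 (G ⧸ Z) with hOdef
  set Sb := S.mapSurjective (f := f) (QuotientGroup.mk'_surjective Z) with hSb
  have hle : O ≤ (Sb : Subgroup (G ⧸ Z)) := Cfsg.Agent.FittingCores.pCore_le_sylow Sb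
  have hab : ∀ x ∈ T, ∀ y ∈ T, x * y = y * x := by
    rintro _ ⟨x, hx, rfl⟩ _ ⟨y, hy, rfl⟩
    rw [← commutatorElement_eq_one_iff_mul_comm, ← map_commutatorElement]
    exact (QuotientGroup.eq_one_iff _).2 ⟨(S : Subgroup G).mul_mem ((S : Subgroup G).mul_mem ((S : Subgroup G).mul_mem hx hy) ((S : Subgroup G).inv_mem hx)) ((S : Subgroup G).inv_mem hy),
      hcl (Subgroup.commutator_mem_commutator hx hy)⟩
  have hTO : T ≤ O := fun x hx => Cfsg.Agent.FittingCores.centralizer_pCore_le Nat.prime_two hO'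
    (Subgroup.mem_centralizer_iff.2 fun y hy => hab y (hle hy) x hx)
  have hTn : T.Normal := by
    rw [le_antisymm hTO hle]
    exact Cfsg.Agent.FittingCores.pCore_normal 2
  have h1 : (S : Subgroup G) = T.comap f := by
    rw [hT, Subgroup.comap_map_eq, QuotientGroup.ker_mk', sup_eq_left.2 inf_le_left]
  rw [h1]
  exact hTn.comap f

theorem thompson_normal_aux : ∀ n : ℕ, ∀ {G : Type u} [Group G] [Finite G] [Group.IsSolvable G],
    Nat.card G = n → ¬ Cfsg.Involves (Equiv.Perm (Fin 4)) G → Cfsg.pPrimeCore 2 G = ⊥ →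
    ∀ S : Sylow 2 G, (⁅⁅(S : Subgroup G), (S : Subgroup G)⁆, (S : Subgroup G)⁆ = ⊥) →
      (Cfsg.thompsonSubgroupOf 2 (S : Subgroup G)).Normal := by
  intro n
  induction n using Nat.strong_induction_on with
  | _ n ih =>
    intro G _ _ _ hn hS4 hO S hcl
    have : Fact (Nat.Prime 2) := ⟨Nat.prime_two⟩
    set O := Cfsg.pCore 2 G with hOdef
    have hOS : O ≤ (S : Subgroup G) := Cfsg.Agent.FittingCores.pCore_le_sylow S
    have hCO := Cfsg.Agent.FittingCores.centralizer_pCore_le (G := G) Nat.prime_two hO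
    have hOn : O.Normal := Cfsg.Agent.FittingCores.pCore_normal 2
    set Z := ((Subgroup.center (S : Subgroup G))).map (S : Subgroup G).subtype with hZ
    have hZS : Z ≤ (S : Subgroup G) := Subgroup.map_subtype_le _
    have hZc : ∀ z ∈ Z, ∀ s ∈ (S : Subgroup G), s * z = z * s := by
      rintro _ ⟨z, hz, rfl⟩ s hs
      exact congrArg Subtype.val (Subgroup.mem_center_iff.1 hz ⟨s, hs⟩)
    have hZO : Z ≤ O := fun z hz => hCO (Subgroup.mem_centralizer_iff.2 fun x hx =>
      hZc z hz x (hOS hx))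
    set V₀ := Subgroup.normalClosure (Z : Set G) with hV₀
    have hV₀n : V₀.Normal := Subgroup.normalClosure_normal
    have hV₀O : V₀ ≤ O := Subgroup.normalClosure_le_normal hZO
    have hV₀c : V₀ ≤ Subgroup.centralizer (O : Set G) := by
      refine Subgroup.normalClosure_le_normal fun z hz => Subgroup.mem_centralizer_iff.2 fun x hx =>
        hZc z hz x (hOS hx)
    have hV₀ab : ∀ x ∈ V₀, ∀ y ∈ V₀, x * y = y * x := fun x hx y hy =>
      Subgroup.mem_centralizer_iff.1 (hV₀c hy) x (hV₀O hx)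
    let V : Subgroup G :=
      { carrier := {x | x ∈ V₀ ∧ x ^ 2 = 1}
        one_mem' := ⟨V₀.one_mem, one_pow 2⟩
        mul_mem' := fun {x y} hx hy => ⟨V₀.mul_mem hx.1 hy.1, by
          rw [(show Commute x y from hV₀ab x hx.1 y hy.1).mul_pow, hx.2, hy.2, one_mul]⟩
        inv_mem' := fun {x} hx => ⟨V₀.inv_mem hx.1, by rw [inv_pow, hx.2, inv_one]⟩ }
    have hVn : V.Normal := ⟨fun x hx g => ⟨hV₀n.conj_mem x hx.1 g, by
      rw [conj_pow, hx.2, mul_one, mul_inv_cancel]⟩⟩
    have hVe : Cfsg.IsElementaryAbelian 2 V :=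
      ⟨.of_setLike_mul_comm fun x hx y hy => hV₀ab x hx.1 y hy.1, fun x hx => hx.2⟩
    set C := Subgroup.centralizer (V : Set G) with hC
    -- odd elements of `C` centralize `V₀`
    have hodd : ∀ x ∈ C, (orderOf x).Coprime 2 → x ∈ Subgroup.centralizer (V₀ : Set G) := by
      intro x hx hxo
      have : IsMulCommutative V₀ := .of_setLike_mul_comm hV₀ab
      obtain ⟨k, hk⟩ := ((Cfsg.Agent.FittingCores.pCore_isPGroup 2).to_le hV₀O).exists_card_eq
      refine Cfsg.Agent.CoprimeAct.le_centralizer_of_fix_prime (A := Subgroup.zpowers x)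
        (by rw [Subgroup.normalizer_eq_top]; exact le_top)
        (by rw [Nat.card_zpowers, hk]; exact hxo.pow_right k) ?_ (Subgroup.mem_zpowers x)
      intro v hv hvp a ha
      have hvV : v ∈ V := by
        refine ⟨hv, ?_⟩
        have h2 : orderOf v = 2 := (Nat.prime_dvd_prime_iff_eq hvp Nat.prime_two).1
          (hvp.dvd_of_dvd_pow (hk ▸ V₀.orderOf_dvd_natCard hv))
        rw [← h2, pow_orderOf_eq_one]
      obtain ⟨i, rfl⟩ := ha
      exact ((show Commute x v from (Subgroup.mem_centralizer_iff.1 hx v hvV).symm).zpow_left i).eq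
    have hZV₀ : Z ≤ V₀ := Subgroup.subset_normalClosure
    by_cases hCt : C = ⊤
    · -- `Z(S)` is central
      have hcen : ∀ z ∈ Z, Subgroup.centralizer ({z} : Set G) = ⊤ := by
        intro z hz
        refine Cfsg.Agent.FittingCores.eq_top_of_forall_sylow_le fun q hq => ?_
        by_cases hq2 : q = 2
        · subst hq2
          exact ⟨S, fun s hs => Subgroup.mem_centralizer_singleton_iff.2 (hZc z hz s hs)⟩
        · have := Fact.mk hq
          obtain ⟨Q⟩ : Nonempty (Sylow q G) := inferInstance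
          refine ⟨Q, fun x hx => Subgroup.mem_centralizer_singleton_iff.2 ?_⟩
          obtain ⟨k, hk⟩ := Q.isPGroup' ⟨x, hx⟩
          have hxo : (orderOf x).Coprime 2 :=
            (((Nat.coprime_primes hq Nat.prime_two).2 hq2).pow_left k).coprime_dvd_left
              (orderOf_dvd_of_pow_eq_one (congrArg Subtype.val hk))
          exact (Subgroup.mem_centralizer_iff.1 (hodd x (hCt ▸ Subgroup.mem_top x) hxo) z (hZV₀ hz)).symm
      have hSS : ⁅(S : Subgroup G), (S : Subgroup G)⁆ ≤ Subgroup.center G := by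
        intro z hz
        have hzZ : z ∈ Z := by
          have hzS : z ∈ (S : Subgroup G) := Subgroup.commutator_le_self _ hz
          refine ⟨⟨z, hzS⟩, Subgroup.mem_center_iff.2 fun s => Subtype.ext ?_, rfl⟩
          have h1 : ⁅z, (s : G)⁆ = 1 := by
            rw [← Subgroup.mem_bot, ← hcl]; exact Subgroup.commutator_mem_commutator hz s.2
          exact (commutatorElement_eq_one_iff_mul_comm.1 h1).symm
        rw [Subgroup.mem_center_iff]
        exact fun g => Subgroup.mem_centralizer_singleton_iff.1 (hcen z hzZ ▸ Subgroup.mem_top g)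
      have := sylow_normal_of_central hO S hSS
      exact Subgroup.normalizer_eq_top_iff.1 (top_le_iff.1
        ((Subgroup.normalizer_eq_top_iff.2 this).ge.trans
          (Cfsg.Agent.Thompson.normalizer_le_normalizer_thompsonSubgroupOf 2 _)))
    -- `O₂(G ⧸ C) = 1`
    have hCn : C.Normal := inferInstance
    have hX : Cfsg.pCore 2 (G ⧸ C) = ⊥ := by
      set f := QuotientGroup.mk' C with hf
      set R := (Cfsg.pCore 2 (G ⧸ C)).comap f with hR
      have hRn : R.Normal := (Cfsg.Agent.FittingCores.pCore_normal 2).comap f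
      have hRodd : ∀ x ∈ R, (orderOf x).Coprime 2 → x ∈ C := by
        intro x hx hxo
        obtain ⟨k, hk⟩ := Cfsg.Agent.FittingCores.pCore_isPGroup 2 (⟨f x, hx⟩ : Cfsg.pCore 2 (G ⧸ C))
        refine mem_of_pow_mem (hxo.pow_right k) ((QuotientGroup.eq_one_iff _).1 ?_)
        exact (map_pow f x _).trans (congrArg Subtype.val hk)
      have hRZ : R ≤ Subgroup.centralizer (Z : Set G) := by
        rw [← Subgroup.subgroupOf_eq_top]
        refine Cfsg.Agent.FittingCores.eq_top_of_forall_sylow_le fun q hq => ?_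
        have := Fact.mk hq
        by_cases hq2 : q = 2
        · subst hq2
          have hc : Nat.card (((S : Subgroup G) ⊓ R).subgroupOf R) = 2 ^ (Nat.card R).factorization 2 := by
            have h1 := (((S : Subgroup G) ⊓ R).subgroupOf R).card_mul_index
            obtain ⟨k, hk⟩ := (S.isPGroup'.to_le (inf_le_left : (S : Subgroup G) ⊓ R ≤ S)).exists_card_eq
            rw [Nat.card_congr (Subgroup.subgroupOfEquivOfLe (inf_le_right : (S : Subgroup G) ⊓ R ≤ R)).toEquiv,
              hk] at h1 ⊢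
            have hni : ¬ 2 ∣ (((S : Subgroup G) ⊓ R).subgroupOf R).index := fun hd =>
              S.not_dvd_index (hd.trans (by
                change ((S : Subgroup G) ⊓ R).relIndex R ∣ _
                rw [Subgroup.inf_relIndex_right]
                exact Cfsg.Agent.SolvStruct.relIndex_dvd_index_of_normal_right (S : Subgroup G) R))
            rw [← h1, Nat.factorization_mul (pow_ne_zero _ two_ne_zero) Subgroup.index_ne_zero_of_finite,
              Finsupp.add_apply, Nat.Prime.factorization_pow Nat.prime_two, Finsupp.single_eq_same,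
              Nat.factorization_eq_zero_of_not_dvd hni, add_zero]
          refine ⟨Sylow.ofCard _ hc, fun x hx => ?_⟩
          rw [Sylow.coe_ofCard] at hx
          exact Subgroup.mem_subgroupOf.2 (Subgroup.mem_centralizer_iff.2 fun z hz =>
            (hZc z hz _ (Subgroup.mem_subgroupOf.1 hx).1).symm)
        · obtain ⟨Q⟩ : Nonempty (Sylow q R) := inferInstance
          refine ⟨Q, fun x hx => Subgroup.mem_subgroupOf.2 ?_⟩
          obtain ⟨k, hk⟩ := Q.isPGroup' ⟨x, hx⟩
          have hxo : (orderOf (x : G)).Coprime 2 :=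
            (((Nat.coprime_primes hq Nat.prime_two).2 hq2).pow_left k).coprime_dvd_left
              (orderOf_dvd_of_pow_eq_one (congrArg (fun t : (Q : Subgroup R) => ((t : R) : G)) hk))
          exact Subgroup.centralizer_le hZV₀ (hodd x (hRodd x x.2 hxo) hxo)
      have hRV : R ≤ C := by
        have h2 : V₀ ≤ Subgroup.centralizer (R : Set G) :=
          Subgroup.normalClosure_le_normal (Subgroup.le_centralizer_iff.1 hRZ)
        exact (Subgroup.le_centralizer_iff.1 h2).trans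
          (Subgroup.centralizer_le fun x (hx : x ∈ V) => hx.1)
      rw [← Subgroup.map_comap_eq_self_of_surjective (QuotientGroup.mk'_surjective C)
        (Cfsg.pCore 2 (G ⧸ C)), Subgroup.map_eq_bot_iff, QuotientGroup.ker_mk']
      exact hRV
    set J := Cfsg.thompsonSubgroupOf 2 (S : Subgroup G) with hJ
    by_cases hJC : J ≤ C
    swap
    · obtain ⟨A, hA, hAC⟩ : ∃ A, Cfsg.Agent.Thompson.IsMaxEAIn 2 (S : Subgroup G) A ∧ ¬ A ≤ C := by
        by_contra hcon
        push Not at hcon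
        refine hJC ?_
        rw [hJ, Cfsg.Agent.Thompson.thompsonSubgroupOf_eq]
        exact sSup_le hcon
      exact absurd (involves_of_offender hVe (fun x hx => hOS (hV₀O hx.1)) hA hAC hX) hS4
    -- induction in `C`
    set S₁ := (S : Subgroup G) ⊓ C with hS₁
    have hcard₁ : Nat.card (S₁.subgroupOf C) = 2 ^ (Nat.card C).factorization 2 := by
      have h1 := (S₁.subgroupOf C).card_mul_index
      obtain ⟨k, hk⟩ := (S.isPGroup'.to_le (inf_le_left : S₁ ≤ S)).exists_card_eq
      rw [Nat.card_congr (Subgroup.subgroupOfEquivOfLe (inf_le_right : S₁ ≤ C)).toEquiv, hk] at h1 ⊢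
      have hni : ¬ 2 ∣ (S₁.subgroupOf C).index := fun hd => S.not_dvd_index (hd.trans (by
        change S₁.relIndex C ∣ _
        rw [hS₁, Subgroup.inf_relIndex_right]
        exact Cfsg.Agent.SolvStruct.relIndex_dvd_index_of_normal_right (S : Subgroup G) C))
      rw [← h1, Nat.factorization_mul (pow_ne_zero _ two_ne_zero) Subgroup.index_ne_zero_of_finite,
        Finsupp.add_apply, Nat.Prime.factorization_pow Nat.prime_two, Finsupp.single_eq_same,
        Nat.factorization_eq_zero_of_not_dvd hni, add_zero]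
    let P : Sylow 2 C := Sylow.ofCard _ hcard₁
    have hPm : (P : Subgroup C).map C.subtype = S₁ := by
      rw [Sylow.coe_ofCard]; exact Subgroup.map_subgroupOf_eq_of_le inf_le_right
    have hlt : Nat.card C < n := hn ▸ (Subgroup.card_le_card_group C).lt_of_ne fun e =>
      hCt (Subgroup.card_eq_iff_eq_top C |>.1 e)
    have hO₁ : Cfsg.pPrimeCore 2 C = ⊥ := by
      rw [← Subgroup.map_eq_bot_iff_of_injective _ C.subtype_injective, ← le_bot_iff, ← hO]
      exact Cfsg.Agent.FittingCores.pPrimeCore_map_subtype_le 2 hCn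
    have hcl₁ : ⁅⁅(P : Subgroup C), (P : Subgroup C)⁆, (P : Subgroup C)⁆ = ⊥ := by
      rw [← Subgroup.map_eq_bot_iff_of_injective _ C.subtype_injective, Subgroup.map_commutator,
        Subgroup.map_commutator, hPm, ← le_bot_iff, ← hcl]
      exact Subgroup.commutator_mono (Subgroup.commutator_mono inf_le_left inf_le_left) inf_le_left
    have hJn := ih _ hlt rfl (fun h => hS4 (involves_mono C.subtype C.subtype_injective h)) hO₁ P hcl₁
    have hJ₁ : (Cfsg.thompsonSubgroupOf 2 (P : Subgroup C)).map C.subtype = J := by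
      rw [← Cfsg.Agent.Thompson.thompsonSubgroupOf_map_of_injective _ _ C.subtype_injective, hPm, hJ,
        Cfsg.Agent.Thompson.thompsonSubgroupOf_eq_of_le (le_inf (Cfsg.Agent.Thompson.thompsonSubgroupOf_le 2 _) hJC)
          inf_le_left]
    have hCJ : C ≤ Subgroup.normalizer (J : Set G) := by
      intro c hc
      refine le_normalizer_of_conj_mem fun x hx => ?_
      rw [← hJ₁] at hx ⊢
      obtain ⟨x, hx, rfl⟩ := hx
      exact ⟨⟨c, hc⟩ * x * ⟨c, hc⟩⁻¹, hJn.conj_mem x hx _, rfl⟩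
    rw [← Subgroup.normalizer_eq_top_iff, eq_top_iff]
    intro g _
    have hg1 : MulAut.conj g • S₁ ≤ C := fun w hw => by
      rw [mem_conjSmul] at hw
      simpa [mul_assoc] using hCn.conj_mem _ hw.2 g
    have hcg : Nat.card ((MulAut.conj g • S₁).subgroupOf C) = 2 ^ (Nat.card C).factorization 2 := by
      rw [Nat.card_congr (Subgroup.subgroupOfEquivOfLe hg1).toEquiv, card_conjSmul, ← hcard₁,
        Nat.card_congr (Subgroup.subgroupOfEquivOfLe (inf_le_right : S₁ ≤ C)).toEquiv]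
    obtain ⟨c, hc⟩ := MulAction.exists_smul_eq C P (Sylow.ofCard _ hcg)
    have h1 := congrArg (fun T : Sylow 2 C => (T : Subgroup C).map C.subtype) hc
    simp only [Sylow.coe_subgroup_smul, map_subtype_conjSmul, Sylow.coe_ofCard,
      Subgroup.map_subgroupOf_eq_of_le hg1, hPm,
      Subgroup.map_subgroupOf_eq_of_le (inf_le_right : S₁ ≤ C)] at h1
    have h2 : (c : G)⁻¹ * g ∈ Subgroup.normalizer (S₁ : Set G) := by
      rw [mem_normalizer_iff_conjSmul, ← conjSmul_conjSmul, ← h1, conjSmul_inv_conjSmul]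
    have h3 := Cfsg.Agent.Thompson.normalizer_le_normalizer_thompsonSubgroupOf 2 S₁ h2
    rw [Cfsg.Agent.Thompson.thompsonSubgroupOf_eq_of_le
      (le_inf (Cfsg.Agent.Thompson.thompsonSubgroupOf_le 2 _) hJC) inf_le_left, ← hJ] at h3
    have := mul_mem (hCJ c.2) h3
    rwa [mul_inv_cancel_left] at this

theorem normalizer_sup_pPrimeCore [Group.IsSolvable G] (hS4 : ¬ Cfsg.Involves (Equiv.Perm (Fin 4)) G)
    (S : Sylow 2 G) (hcl : ⁅⁅(S : Subgroup G), (S : Subgroup G)⁆, (S : Subgroup G)⁆ = ⊥) :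
    Subgroup.normalizer ((Cfsg.thompsonSubgroupOf 2 (S : Subgroup G)) : Set G) ⊔ Cfsg.pPrimeCore 2 G = ⊤ := by
  have : Fact (Nat.Prime 2) := ⟨Nat.prime_two⟩
  set O := Cfsg.pPrimeCore 2 G with hOdef
  have hOn : O.Normal := Cfsg.Agent.FittingCores.pPrimeCore_normal 2
  have hOc : (Nat.card O).Coprime 2 := Cfsg.Agent.FittingCores.pPrimeCore_coprime 2
  set f := QuotientGroup.mk' O with hf
  set J := Cfsg.thompsonSubgroupOf 2 (S : Subgroup G) with hJ
  set Sb := S.mapSurjective (f := f) (QuotientGroup.mk'_surjective O)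
  have hinj : Set.InjOn f (S : Subgroup G) := by
    intro x hx y hy hxy
    have h1 : x⁻¹ * y ∈ (S : Subgroup G) ⊓ O :=
      ⟨(S : Subgroup G).mul_mem ((S : Subgroup G).inv_mem hx) hy, QuotientGroup.eq.1 hxy⟩
    obtain ⟨k, hk⟩ := S.isPGroup'.exists_card_eq
    rw [(Subgroup.disjoint_of_coprime_natCard (H := (S : Subgroup G)) (K := O)
      (by rw [hk]; exact hOc.symm.pow_left k)).eq_bot, Subgroup.mem_bot, inv_mul_eq_one] at h1
    exact h1
  have hn := thompson_normal_aux _ (G := G ⧸ O) rfl (fun h => hS4 (involves_quotient O h))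
    (Cfsg.Agent.FittingCores.pPrimeCore_quotient_eq_bot 2 O rfl) Sb (by
      change ⁅⁅(S : Subgroup G).map f, (S : Subgroup G).map f⁆, (S : Subgroup G).map f⁆ = ⊥
      rw [← Subgroup.map_commutator, ← Subgroup.map_commutator, hcl, Subgroup.map_bot])
  change (Cfsg.thompsonSubgroupOf 2 ((S : Subgroup G).map f)).Normal at hn
  rw [Cfsg.Agent.Thompson.thompsonSubgroupOf_map f hinj, ← hJ] at hn
  rw [eq_top_iff]
  intro g _
  have hJO : J ≤ Subgroup.normalizer (O : Set G) := by rw [Subgroup.normalizer_eq_top]; exact le_top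
  have hle : MulAut.conj g • J ≤ O ⊔ J := by
    intro w hw
    have h1 : w ∈ (J.map f).comap f := by
      rw [Subgroup.mem_comap]
      rw [mem_conjSmul] at hw
      have h2 := hn.conj_mem _ (Subgroup.mem_map_of_mem f hw) (f g)
      rwa [← map_inv, ← map_mul, ← map_mul, show g * (g⁻¹ * w * g) * g⁻¹ = w by group] at h2
    rwa [Subgroup.comap_map_eq, QuotientGroup.ker_mk', sup_comm] at h1
  have hcop : (Nat.card J).Coprime (Nat.card O) := by
    obtain ⟨k, hk⟩ := (S.isPGroup'.to_le (Cfsg.Agent.Thompson.thompsonSubgroupOf_le 2 _)).exists_card_eq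
    rw [hJ, hk]
    exact hOc.symm.pow_left k
  obtain ⟨k, hk, hkJ⟩ := Cfsg.Agent.SchurZ.conj_in hJO hcop
    (Or.inl (Group.isSolvable_of_isSolvable_injective J.subtype_injective)) hle (card_conjSmul g J)
  have h3 : k⁻¹ * g ∈ Subgroup.normalizer (J : Set G) := by
    rw [mem_normalizer_iff_conjSmul, ← conjSmul_conjSmul, ← hkJ, conjSmul_inv_conjSmul]
  rw [show g = k * (k⁻¹ * g) by group]
  exact mul_mem (Subgroup.mem_sup_right hk) (Subgroup.mem_sup_left h3)

end Cfsg.Agent.SFourFree
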