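import Cfsg.Agent.Lib.Solvable.PSeries
import Cfsg.Agent.Lib.Solvable.Coprime
import Cfsg.Agent.Lib.Solvable.Structure

/-! Elementary bounds on `p`-length, and `p`-subgroups normalizing Sylow `q`-subgroups. -/

set_option autoImplicit false
open scoped Pointwise commutatorElement

universe u

namespace Cfsg.Agent.PLengthBasics

open PSeries

variable {G : Type u} [Group G] [Finite G] {p : ℕ} [hp : Fact p.Prime]

lemma sylow_center_le_U_two (hsol : Cfsg.IsPSolvable p G) (S : Sylow p G)
    {z : (S : Subgroup G)} (hz : z ∈ Subgroup.center (S : Subgroup G)) : (z : G) ∈ U p G 2 := by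
  have hn := FittingCores.pPrimeCore_normal (G := G) p
  rw [U_two]
  set f := QuotientGroup.mk' (Cfsg.pPrimeCore p G) with hf
  refine PSolvable.centralizer_pCore_le (PSolvable.quotient _ hsol)
    (PBasic.pPrimeCore_quotient_pPrimeCore p G) (Subgroup.mem_centralizer_iff.2 fun y hy => ?_)
  have hfs : Function.Surjective f := QuotientGroup.mk'_surjective _
  obtain ⟨x, hx, rfl⟩ : y ∈ ((S.mapSurjective hfs : Sylow p _) : Subgroup _) :=
    FittingCores.pCore_le_sylow _ hy
  have := congrArg Subtype.val (Subgroup.mem_center_iff.1 hz ⟨x, hx⟩)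
  exact (map_mul f x (z : G)).symm.trans ((congrArg f this).trans (map_mul f (z : G) x))

theorem pLengthLE_class : ∀ (c : ℕ) {G : Type u} [Group G] [Finite G],
    Cfsg.IsPSolvable p G → ∀ S : Sylow p G, Group.nilpotencyClass (S : Subgroup G) ≤ c →
    Cfsg.PLengthLE p c G
  | 0, G, _, _, _, S, hc => by
    have : Group.IsNilpotent (S : Subgroup G) := S.isPGroup'.isNilpotent
    have hss : Subsingleton (S : Subgroup G) :=
      Group.nilpotencyClass_zero_iff_subsingleton.1 (Nat.le_zero.1 hc)
    rw [pLengthLE_zero_iff]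
    refine ((hp.out.coprime_iff_not_dvd).2 fun hd => S.not_dvd_index ?_).symm
    rwa [← Subgroup.index_bot (G := G), ← show (S : Subgroup G) = ⊥ from
      (Subgroup.eq_bot_of_subsingleton _)] at hd
  | c + 1, G, _, _, hsol, S, hc => by
    have : Group.IsNilpotent (S : Subgroup G) := S.isPGroup'.isNilpotent
    rw [pLengthLE_succ_iff]
    set f := QuotientGroup.mk' (U p G 2) with hf
    have hfs : Function.Surjective f := QuotientGroup.mk'_surjective _
    refine pLengthLE_class c (PSolvable.quotient _ hsol) (S.mapSurjective hfs) ?_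
    set g : (S : Subgroup G) →* ((S : Subgroup G).map f) := f.subgroupMap _ with hg
    have hgs : Function.Surjective g := f.subgroupMap_surjective _
    have hker : Subgroup.center (S : Subgroup G) ≤ g.ker := fun z hz =>
      Subtype.ext ((QuotientGroup.eq_one_iff (N := U p G 2) (z : G)).2 (sylow_center_le_U_two hsol S hz))
    have hls : Function.Surjective (QuotientGroup.lift (Subgroup.center (S : Subgroup G)) g hker) :=
      QuotientGroup.lift_surjective_of_surjective _ g hgs hker
    refine le_trans (Group.nilpotencyClass_le_of_surjective _ hls) ?_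
    rw [Group.nilpotencyClass_quotient_center]
    omega

theorem pLengthLE_quotient_iInf {ι : Type*} (s : Finset ι) (A : ι → Subgroup G)
    (hA : ∀ i, (A i).Normal) {k : ℕ}
    (h : ∀ i, haveI := hA i; Cfsg.PLengthLE p k (G ⧸ A i)) (hbot : (⨅ i ∈ s, A i) = ⊥) :
    Cfsg.PLengthLE p k G := by
  classical
  have key : ∀ t : Finset ι, ∃ _ : (⨅ i ∈ t, A i).Normal,
      Cfsg.PLengthLE p k (G ⧸ (⨅ i ∈ t, A i)) := by
    intro t
    induction t using Finset.induction with
    | empty =>
      have hn : (⨅ i ∈ (∅ : Finset ι), A i).Normal := by simp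
      refine ⟨hn, pLengthLE_mono (Nat.zero_le k) (pLengthLE_zero_iff.2 ?_)⟩
      rw [← Subgroup.index_eq_card]
      simp
    | @insert i t hit ih =>
      obtain ⟨hn, ih⟩ := ih
      have := hA i
      have heq : (⨅ j ∈ insert i t, A j) = A i ⊓ ⨅ j ∈ t, A j := Finset.iInf_insert i t A
      have hn' : (A i ⊓ ⨅ j ∈ t, A j).Normal := Subgroup.normal_inf_normal _ _
      have h2 : (⨅ j ∈ insert i t, A j).Normal := heq ▸ hn'
      refine ⟨h2, ?_⟩
      exact pLengthLE_of_surjective (QuotientGroup.quotientMulEquivOfEq heq.symm).toMonoidHom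
        (MulEquiv.surjective _) (pLengthLE_inf _ _ (h i) ih)
  obtain ⟨hn, hk⟩ := key s
  refine pLengthLE_of_ker_coprime (QuotientGroup.mk' (⨅ i ∈ s, A i)) ?_ hk
  rw [QuotientGroup.ker_mk', hbot, Subgroup.card_bot]
  exact Nat.coprime_one_left p

theorem pLengthLE_one_add_sum {r : ℕ} (q : Fin r → ℕ) (hq : ∀ i, (q i).Prime ∧ q i ≠ p) :
    ∀ (n : ℕ) {G : Type u} [Group G] [Finite G] [Group.IsSolvable G] (l : Fin r → ℕ),
    ∑ i, l i = n → (∀ s : ℕ, s.Prime → s ∣ Nat.card G → s ≠ p → ∃ i, q i = s) →
    (∀ i, Cfsg.PLengthLE (q i) (l i) G) → Cfsg.PLengthLE p (1 + n) G := by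
  intro n
  induction n using Nat.strong_induction_on with
  | _ n ih =>
  intro G _ _ _ l hsum hcover hl
  rw [Nat.add_comm, pLengthLE_succ_iff]
  set X := G ⧸ U p G 2 with hXdef
  have hXO : Cfsg.pCore p X = ⊥ := pCore_quotient_U_even 0
  have hdvd : Nat.card X ∣ Nat.card G :=
    Subgroup.card_quotient_dvd_card _
  set A : Fin r → Subgroup X := fun i => Cfsg.pPrimeCore (q i) X with hA
  refine pLengthLE_quotient_iInf Finset.univ A (fun i => FittingCores.pPrimeCore_normal _)
    (fun i => ?_) ?_
  · have := FittingCores.pPrimeCore_normal (G := X) (q i)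
    have hqi : Fact (q i).Prime := ⟨(hq i).1⟩
    have hlX : Cfsg.PLengthLE (q i) (l i) X :=
      pLengthLE_of_surjective _ (QuotientGroup.mk'_surjective _) (hl i)
    by_cases hli : l i = 0
    · refine pLengthLE_mono (Nat.zero_le n) (pLengthLE_zero_iff.2 ?_)
      rw [← Subgroup.index_eq_card]
      have : A i = ⊤ := by
        change Cfsg.pPrimeCore (q i) X = ⊤
        rw [← U_one]
        rw [hli] at hlX
        exact hlX
      change (A i).index.Coprime p
      rw [this, Subgroup.index_top]
      exact Nat.coprime_one_left p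
    obtain ⟨m, hm⟩ := Nat.exists_eq_succ_of_ne_zero hli
    set Y := X ⧸ A i with hYdef
    set R := U (q i) Y 2 with hR
    have hRp : (Nat.card (QuotientGroup.mk' R).ker).Coprime p := by
      rw [QuotientGroup.ker_mk', hR, U_two (p := q i) (G := Y)]
      have hbot : Cfsg.pPrimeCore (q i) Y = ⊥ := PBasic.pPrimeCore_quotient_pPrimeCore (q i) X
      obtain ⟨a, ha⟩ := (step_U (p := q i) (G := Y) 1).2 (by decide)
      rw [U_one (p := q i) (G := Y), hbot, Subgroup.relIndex_bot_left, U_two (p := q i) (G := Y)] at ha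
      rw [ha]
      exact ((Nat.coprime_primes (hq i).1 hp.out).2 (hq i).2).pow_left a
    refine pLengthLE_of_ker_coprime (QuotientGroup.mk' R) hRp ?_
    have hsum' : ∑ j, Function.update l i m j = n - 1 := by
      have h1 := Finset.add_sum_erase Finset.univ l (Finset.mem_univ i)
      have h2 := Finset.add_sum_erase Finset.univ (Function.update l i m) (Finset.mem_univ i)
      have h3 : ∑ j ∈ Finset.univ.erase i, Function.update l i m j
          = ∑ j ∈ Finset.univ.erase i, l j :=
        Finset.sum_congr rfl fun j hj => Function.update_of_ne (Finset.ne_of_mem_erase hj) _ _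
      rw [h3, Function.update_self] at h2
      omega
    have hn1 : 1 + (n - 1) = n := by
      have h1 := Finset.single_le_sum (f := l) (fun j _ => Nat.zero_le _) (Finset.mem_univ i)
      omega
    rw [← hn1]
    refine ih (n - 1) (by omega) (Function.update l i m) hsum'
      (fun s hs hd hne => hcover s hs
        (hd.trans ((Subgroup.card_quotient_dvd_card R).trans
          ((Subgroup.card_quotient_dvd_card (A i)).trans hdvd))) hne) (fun j => ?_)
    by_cases hj : j = i
    · subst hj
      rw [Function.update_self]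
      refine pLengthLE_succ_iff.1 ?_
      rw [show m + 1 = l j from hm.symm]
      exact pLengthLE_quotient _ hlX
    · rw [Function.update_of_ne hj]
      have := Fact.mk (hq j).1
      exact pLengthLE_quotient _ (pLengthLE_quotient _ (pLengthLE_quotient _ (hl j)))
  · set I := ⨅ i ∈ Finset.univ, A i with hI
    have hIn : I.Normal := by
      rw [hI]
      exact Subgroup.normal_iInf_normal fun i => Subgroup.normal_iInf_normal fun _ =>
        FittingCores.pPrimeCore_normal _
    rw [← le_bot_iff, ← hXO]
    refine FittingCores.le_pCore hIn (IsPGroup.iff_card.2 ⟨_, Nat.eq_prime_pow_of_unique_prime_dvd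
      Nat.card_pos.ne' fun {s} hs hsd => ?_⟩)
    by_contra hne
    obtain ⟨i, rfl⟩ := hcover s hs ((hsd.trans (Subgroup.card_subgroup_dvd_card I)).trans hdvd) hne
    refine (hs.coprime_iff_not_dvd).1 (FittingCores.pPrimeCore_coprime (G := X) (q i)).symm
      (hsd.trans (Subgroup.card_dvd_of_le ?_))
    exact iInf₂_le i (Finset.mem_univ i)

lemma derivedSeries_add_le {K : Subgroup G} {m d : ℕ} (hm : derivedSeries G m ≤ K)
    (hd : derivedSeries K d = ⊥) : derivedSeries G (m + d) = ⊥ := by
  have key : ∀ j, derivedSeries G (m + j) ≤ (derivedSeries K j).map K.subtype := by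
    intro j
    induction j with
    | zero => simpa [← MonoidHom.range_eq_map] using hm
    | succ j ih =>
      rw [← Nat.add_assoc, derivedSeries_succ, derivedSeries_succ, Subgroup.map_commutator]
      exact Subgroup.commutator_mono ih ih
  simpa [hd] using key d

lemma derivedSeries_quotient_le (N : Subgroup G) [N.Normal] {m : ℕ}
    (h : derivedSeries (G ⧸ N) m = ⊥) : derivedSeries G m ≤ N := by
  have := map_derivedSeries_le_derivedSeries (QuotientGroup.mk' N) m
  rwa [h, le_bot_iff, Subgroup.map_eq_bot_iff, QuotientGroup.ker_mk'] at this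

theorem derivedLength_bound {r : ℕ} (q : Fin r → ℕ) (hq : ∀ i, (q i).Prime) (d : Fin r → ℕ) :
    ∀ (n : ℕ) {G : Type u} [Group G] [Finite G] [Group.IsSolvable G] (l : Fin r → ℕ),
    ∑ i, l i = n → (∀ s : ℕ, s.Prime → s ∣ Nat.card G → ∃ i, q i = s) →
    (∀ i, ∀ S : Sylow (q i) G, derivedSeries (S : Subgroup G) (d i) = ⊥) →
    (∀ i, Cfsg.PLengthLE (q i) (l i) G) → derivedSeries G (∑ i, d i * l i) = ⊥ := by
  intro n
  induction n using Nat.strong_induction_on with
  | _ n ih =>
  intro G _ _ _ l hsum hcover hd hl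
  rw [Subgroup.eq_bot_iff_forall]
  intro x hx
  by_contra hx1
  obtain ⟨s, hs, hsd⟩ := Nat.exists_prime_and_dvd (fun h => hx1 (orderOf_eq_one_iff.1 h))
  obtain ⟨i, rfl⟩ := hcover s hs (hsd.trans (orderOf_dvd_natCard x))
  suffices hle : derivedSeries G (∑ i, d i * l i) ≤ Cfsg.pPrimeCore (q i) G by
    exact (hs.coprime_iff_not_dvd).1 (FittingCores.pPrimeCore_coprime (G := G) (q i)).symm
      (hsd.trans (Subgroup.orderOf_dvd_natCard _ (hle hx)))
  have hqi : Fact (q i).Prime := ⟨hq i⟩
  have hN := FittingCores.pPrimeCore_normal (G := G) (q i)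
  by_cases hli : l i = 0
  · have h0 := hl i
    rw [hli, pLengthLE_iff, U_one] at h0
    rw [h0]
    exact le_top
  obtain ⟨m, hm⟩ := Nat.exists_eq_succ_of_ne_zero hli
  set Y := G ⧸ U (q i) G 2 with hY
  have hsum' : ∑ j, Function.update l i m j = n - 1 ∧
      ∑ j, d j * Function.update l i m j + d i = ∑ j, d j * l j ∧ 0 < n := by
    have h1 := Finset.add_sum_erase Finset.univ l (Finset.mem_univ i)
    have h2 := Finset.add_sum_erase Finset.univ (Function.update l i m) (Finset.mem_univ i)
    have h3 : ∑ j ∈ Finset.univ.erase i, Function.update l i m j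
        = ∑ j ∈ Finset.univ.erase i, l j :=
      Finset.sum_congr rfl fun j hj => Function.update_of_ne (Finset.ne_of_mem_erase hj) _ _
    have h4 := Finset.add_sum_erase Finset.univ (fun j => d j * l j) (Finset.mem_univ i)
    have h5 := Finset.add_sum_erase Finset.univ (fun j => d j * Function.update l i m j)
      (Finset.mem_univ i)
    have h6 : ∑ j ∈ Finset.univ.erase i, d j * Function.update l i m j
        = ∑ j ∈ Finset.univ.erase i, d j * l j :=
      Finset.sum_congr rfl fun j hj => by rw [Function.update_of_ne (Finset.ne_of_mem_erase hj)]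
    rw [h3, Function.update_self] at h2
    simp only [h6, Function.update_self] at h5
    simp only [hm, Nat.succ_eq_add_one, Nat.mul_add, Nat.mul_one] at h4
    refine ⟨by omega, by omega, by omega⟩
  have hYd : derivedSeries Y (∑ j, d j * Function.update l i m j) = ⊥ := by
    refine ih (n - 1) (by omega) _ hsum'.1
      (fun t ht htd => hcover t ht (htd.trans (Subgroup.card_quotient_dvd_card _))) (fun j S => ?_)
      (fun j => ?_)
    · have := Fact.mk (hq j)
      obtain ⟨T, rfl⟩ := Sylow.mapSurjective_surjective (QuotientGroup.mk'_surjective _) (q j) S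
      have hms : Function.Surjective ((QuotientGroup.mk' (U (q i) G 2)).subgroupMap (T : Subgroup G)) :=
        MonoidHom.subgroupMap_surjective _ _
      have := derivedSeries_le_map_derivedSeries hms (d j)
      rw [hd j T, Subgroup.map_bot, le_bot_iff] at this
      exact this
    · have := Fact.mk (hq j)
      by_cases hj : j = i
      · subst hj
        rw [Function.update_self]
        refine pLengthLE_succ_iff.1 ?_
        rw [show m + 1 = l j from hm.symm]
        exact hl j
      · rw [Function.update_of_ne hj]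
        exact pLengthLE_quotient _ (hl j)
  -- pass to `G / O_{p'}`
  set f := QuotientGroup.mk' (Cfsg.pPrimeCore (q i) G) with hf
  have hfs : Function.Surjective f := QuotientGroup.mk'_surjective _
  rw [← QuotientGroup.ker_mk' (Cfsg.pPrimeCore (q i) G), ← hf, ← Subgroup.map_eq_bot_iff,
    map_derivedSeries_eq hfs, ← hsum'.2.1]
  set R := Cfsg.pCore (q i) (G ⧸ Cfsg.pPrimeCore (q i) G) with hR
  refine derivedSeries_add_le (K := R) ?_ ?_
  · rw [← map_derivedSeries_eq hfs, Subgroup.map_le_iff_le_comap]
    have := derivedSeries_quotient_le (U (q i) G 2) hYd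
    rwa [U_two] at this
  · obtain ⟨T⟩ : Nonempty (Sylow (q i) G) := inferInstance
    have hRS : R ≤ (T : Subgroup G).map f :=
      FittingCores.pCore_le_sylow (T.mapSurjective hfs)
    have h1 := derivedSeries_le_map_derivedSeries (f.subgroupMap_surjective (T : Subgroup G)) (d i)
    rw [hd i T, Subgroup.map_bot, le_bot_iff] at h1
    have h2 := map_derivedSeries_le_derivedSeries (Subgroup.inclusion hRS) (d i)
    rw [h1,
      le_bot_iff, Subgroup.map_eq_bot_iff_of_injective _ (Subgroup.inclusion_injective hRS)] at h2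
    exact h2

theorem exists_normalizes_iff {q : ℕ} [hq : Fact q.Prime] (hpq : p ≠ q) (hsol : Cfsg.IsPSolvable p G) :
    (∃ (P : Sylow p G) (Q : Sylow q G), (P : Subgroup G) ≤ Subgroup.normalizer ((Q : Subgroup G) : Set G))
      ↔ ¬ q ∣ (Cfsg.pPrimeCore p G).index := by
  have hn := FittingCores.pPrimeCore_normal (G := G) p
  constructor
  · rintro ⟨P, Q, hPQ⟩ hdvd
    set f := QuotientGroup.mk' (Cfsg.pPrimeCore p G) with hf
    have hfs : Function.Surjective f := QuotientGroup.mk'_surjective _
    set R := Cfsg.pCore p (G ⧸ Cfsg.pPrimeCore p G) with hR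
    have hRn : R.Normal := FittingCores.pCore_normal p
    have hQR : (Q : Subgroup G).map f ≤ R := by
      refine le_trans ?_ (PSolvable.centralizer_pCore_le (PSolvable.quotient _ hsol)
        (PBasic.pPrimeCore_quotient_pPrimeCore p G))
      intro x hx
      refine Subgroup.mem_centralizer_iff.2 fun y hy => ?_
      have hd : Disjoint R ((Q : Subgroup G).map f) := Subgroup.disjoint_of_coprime_natCard (by
        obtain ⟨a, ha⟩ := (FittingCores.pCore_isPGroup (G := G ⧸ Cfsg.pPrimeCore p G) p).exists_card_eq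
        obtain ⟨b, hb⟩ := (Q.isPGroup'.map f).exists_card_eq
        rw [ha, hb]
        exact Nat.coprime_pow_primes a b hp.out hq.out hpq)
      have hcomm : ⁅y, x⁆ ∈ R ⊓ (Q : Subgroup G).map f := by
        refine ⟨?_, ?_⟩
        · rw [commutatorElement_def, mul_assoc, mul_assoc, ← mul_assoc x]
          exact R.mul_mem hy (hRn.conj_mem _ (R.inv_mem hy) x)
        · have hyP : y ∈ (P : Subgroup G).map f := FittingCores.pCore_le_sylow (P.mapSurjective hfs) hy
          obtain ⟨a, ha, rfl⟩ := hyP
          obtain ⟨b, hb, rfl⟩ := hx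
          rw [← map_commutatorElement]
          refine Subgroup.mem_map_of_mem f ?_
          rw [commutatorElement_def]
          exact (Q : Subgroup G).mul_mem ((Subgroup.mem_normalizer_iff.1 (hPQ ha) b).1 hb)
            ((Q : Subgroup G).inv_mem hb)
      rw [hd.eq_bot, Subgroup.mem_bot, commutatorElement_eq_one_iff_mul_comm] at hcomm
      exact hcomm
    have hQK : (Q : Subgroup G) ≤ Cfsg.pPrimeCore p G := by
      intro x hx
      rw [← QuotientGroup.eq_one_iff]
      exact PBasic.eq_one_of_isPGroup_of_coprime (p := p) (FittingCores.pCore_isPGroup p)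
        (hQR (Subgroup.mem_map_of_mem f hx)) (Nat.Coprime.coprime_dvd_left
          ((orderOf_map_dvd f x).trans (Subgroup.orderOf_dvd_natCard _ hx)) (by
            obtain ⟨b, hb⟩ := Q.isPGroup'.exists_card_eq
            rw [hb]
            exact ((Nat.coprime_primes hq.out hp.out).2 hpq.symm).pow_left b))
    exact Q.not_dvd_index (hdvd.trans (Subgroup.index_dvd_of_le hQK))
  · intro hdvd
    set K := Cfsg.pPrimeCore p G with hK
    obtain ⟨P⟩ : Nonempty (Sylow p G) := inferInstance
    obtain ⟨T, hT⟩ := CoprimeAct.exists_invariant_sylow (A := (P : Subgroup G)) (K := K)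
      (fun x _ => by rw [Subgroup.normalizer_eq_top]; exact Subgroup.mem_top _)
      (by
        obtain ⟨a, ha⟩ := P.isPGroup'.exists_card_eq
        rw [ha]
        exact (FittingCores.pPrimeCore_coprime p).symm.pow_left a)
      (Or.inl (@IsNilpotent.to_isSolvable _ _ P.isPGroup'.isNilpotent)) q
    refine ⟨P, Sylow.ofCard ((T : Subgroup K).map K.subtype) ?_, by rwa [Sylow.coe_ofCard]⟩
    rw [Subgroup.card_map_of_injective K.subtype_injective, T.card_eq_multiplicity]
    congr 1
    rw [← K.card_mul_index, Nat.factorization_mul Nat.card_pos.ne' Subgroup.index_ne_zero_of_finite,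
      Finsupp.coe_add, Pi.add_apply, Nat.factorization_eq_zero_of_not_dvd hdvd, add_zero]

/-- If no `q`-element has class size divisible by `p`, some Sylow `p`-subgroup normalizes a Sylow
`q`-subgroup, provided the group is `q`-solvable. -/
theorem exists_normalizes_of_classSize {q : ℕ} [hq : Fact q.Prime] (hpq : p ≠ q) :
    ∀ (n : ℕ) {G : Type u} [Group G] [Finite G], Nat.card G = n → Cfsg.IsPSolvable q G →
    (∀ y : G, (∃ k : ℕ, orderOf y = q ^ k) → ¬ p ∣ (Subgroup.centralizer ({y} : Set G)).index) →
    ∃ Q : Sylow q G, ¬ p ∣ (Subgroup.normalizer ((Q : Subgroup G) : Set G)).index := by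
  intro n
  induction n using Nat.strong_induction_on with
  | _ n ih =>
  intro G _ _ hn hsol h
  obtain hsub | hnt := subsingleton_or_nontrivial G
  · refine ⟨default, fun hd => hp.out.not_dvd_one ?_⟩
    rwa [show Subgroup.normalizer (((default : Sylow q G) : Subgroup G) : Set G) = ⊤ from
      Subsingleton.elim _ _, Subgroup.index_top] at hd
  obtain ⟨N, hNn, hN1, hN⟩ : ∃ N : Subgroup G, N.Normal ∧ N ≠ ⊥ ∧
      (IsPGroup q N ∨ (Nat.card N).Coprime q) := by
    rcases PSolvable.exists_core_ne_bot hsol with hc | hc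
    · exact ⟨_, FittingCores.pCore_normal q, hc, Or.inl (FittingCores.pCore_isPGroup q)⟩
    · exact ⟨_, FittingCores.pPrimeCore_normal q, hc, Or.inr (FittingCores.pPrimeCore_coprime q)⟩
  set f := QuotientGroup.mk' N with hf
  have hfs : Function.Surjective f := QuotientGroup.mk'_surjective _
  have hlt : Nat.card (G ⧸ N) < n := by
    rw [← hn, Subgroup.card_eq_card_quotient_mul_card_subgroup N]
    exact lt_mul_of_one_lt_right Nat.card_pos ((Subgroup.one_lt_card_iff_ne_bot N).2 hN1)
  have hq' : ∀ y : G ⧸ N, (∃ k : ℕ, orderOf y = q ^ k) →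
      ¬ p ∣ (Subgroup.centralizer ({y} : Set (G ⧸ N))).index := by
    intro y hy hd
    obtain ⟨k, hk⟩ := hy
    have hy' : IsPGroup q (Subgroup.zpowers y) :=
      IsPGroup.of_card (n := k) (by rw [Nat.card_zpowers, hk])
    obtain ⟨Qb, hQb⟩ := hy'.exists_le_sylow
    obtain ⟨Q, rfl⟩ := Sylow.mapSurjective_surjective hfs q Qb
    obtain ⟨x, hx, rfl⟩ := hQb (Subgroup.mem_zpowers y)
    obtain ⟨j, hj⟩ := (Subgroup.orderOf_coe (⟨x, hx⟩ : (Q : Subgroup G))) ▸
      IsPGroup.iff_orderOf.1 Q.isPGroup' ⟨x, hx⟩
    refine h x ⟨j, hj⟩ (hd.trans ?_)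
    refine dvd_trans ?_ (Subgroup.index_map_dvd (Subgroup.centralizer ({x} : Set G)) hfs)
    refine Subgroup.index_dvd_of_le ?_
    rintro _ ⟨c, hc, rfl⟩
    refine Subgroup.mem_centralizer_iff.2 fun z hz => ?_
    rw [Set.mem_singleton_iff.1 hz, ← map_mul, ← map_mul, Subgroup.mem_centralizer_iff.1 hc x rfl]
  obtain ⟨Qb, hQb⟩ := ih _ hlt rfl (PSolvable.quotient N hsol) hq'
  obtain ⟨Q, rfl⟩ := Sylow.mapSurjective_surjective hfs q Qb
  refine ⟨Q, fun hd => ?_⟩
  set M := (Subgroup.normalizer (((Q.mapSurjective hfs : Sylow q (G ⧸ N)) : Subgroup (G ⧸ N)) : Set (G ⧸ N))).comap f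
    with hM
  have hMi : ¬ p ∣ M.index := by rwa [hM, Subgroup.index_comap_of_surjective _ hfs]
  have hNM : N ≤ M := fun x hx => by
    rw [hM, Subgroup.mem_comap]
    have h1 : f x = 1 := (QuotientGroup.eq_one_iff x).2 hx
    rw [h1]
    exact Subgroup.one_mem _
  have hle : Subgroup.normalizer ((Q : Subgroup G) : Set G) ≤ M := by
    intro g hg
    rw [hM, Subgroup.mem_comap]
    exact Subgroup.le_normalizer_map f (Subgroup.mem_map_of_mem f hg)
  rw [← Subgroup.relIndex_mul_index hle] at hd
  rcases hp.out.dvd_mul.1 hd with hd | hd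
  swap
  · exact hMi hd
  -- `M = N N_M(Q)`
  have hQN : ∀ g ∈ M, ∀ x ∈ (Q : Subgroup G) ⊔ N, g * x * g⁻¹ ∈ (Q : Subgroup G) ⊔ N := by
    intro g hg x hx
    have hxm : f x ∈ (Q : Subgroup G).map f := by
      rw [← QuotientGroup.ker_mk' N, ← hf, ← Subgroup.comap_map_eq] at hx
      exact hx
    have := (Subgroup.mem_normalizer_iff.1 hg (f x)).1 hxm
    rw [← QuotientGroup.ker_mk' N, ← hf, ← Subgroup.comap_map_eq, Subgroup.mem_comap, map_mul,
      map_mul, map_inv]
    exact this
  have hMN : M = N ⊔ Subgroup.normalizer ((Q : Subgroup G) : Set G) := by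
    refine le_antisymm (fun g hg => ?_) (sup_le hNM hle)
    set W := (Q : Subgroup G) ⊔ N with hW
    have hQW : (Q : Subgroup G) ≤ W := le_sup_left
    set Q₁ := Q.subtype hQW with hQ₁
    have hgQ : MulAut.conj g • (Q : Subgroup G) ≤ W := by
      rintro _ ⟨x, hx, rfl⟩
      simpa using hQN g hg x (hQW hx)
    have hgQc : Nat.card ((MulAut.conj g • (Q : Subgroup G)).subgroupOf W) =
        q ^ (Nat.card W).factorization q := by
      rw [Nat.card_congr (Subgroup.subgroupOfEquivOfLe hgQ).toEquiv, SolvBasic.card_conjSmul,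
        ← Q₁.card_eq_multiplicity, hQ₁, Sylow.coe_subtype,
        Nat.card_congr (Subgroup.subgroupOfEquivOfLe hQW).toEquiv]
    obtain ⟨w, hw⟩ := MulAction.exists_smul_eq W Q₁
      (Sylow.ofCard ((MulAut.conj g • (Q : Subgroup G)).subgroupOf W) hgQc)
    have hw' : MulAut.conj (w : G) • (Q : Subgroup G) = MulAut.conj g • (Q : Subgroup G) := by
      have h1 := congrArg (fun S : Sylow q W => (S : Subgroup W).map W.subtype) hw
      simp only [Sylow.coe_subgroup_smul, SolvBasic.map_subtype_conjSmul, hQ₁, Sylow.coe_subtype,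
        Sylow.coe_ofCard, Subgroup.map_subgroupOf_eq_of_le hQW,
        Subgroup.map_subgroupOf_eq_of_le hgQ] at h1
      exact h1
    have hwg : (w : G)⁻¹ * g ∈ Subgroup.normalizer ((Q : Subgroup G) : Set G) := by
      rw [SolvBasic.mem_normalizer_iff_conjSmul, ← SolvBasic.conjSmul_conjSmul, ← hw',
        SolvBasic.conjSmul_inv_conjSmul]
    have hwM : (w : G) ∈ N ⊔ Subgroup.normalizer ((Q : Subgroup G) : Set G) :=
      sup_le (le_sup_of_le_right Subgroup.le_normalizer) le_sup_left w.2
    rw [← mul_inv_cancel_left (w : G) g]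
    exact Subgroup.mul_mem _ hwM (Subgroup.mem_sup_right hwg)
  have hsup : (Subgroup.normalizer ((Q : Subgroup G) : Set G)).relIndex M =
      (Subgroup.normalizer ((Q : Subgroup G) : Set G)).relIndex N := by
    set H := Subgroup.normalizer ((Q : Subgroup G) : Set G) with hH
    have h1 := SolvBasic.card_sup_mul_card_inf (N := N) (H := H)
      (fun x _ => by rw [Subgroup.normalizer_eq_top]; exact Subgroup.mem_top _)
    have h2 : Nat.card H * H.relIndex M = Nat.card M := by
      rw [← (H.subgroupOf M).card_mul_index,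
        Nat.card_congr (Subgroup.subgroupOfEquivOfLe hle).toEquiv]
      rfl
    have h3 : Nat.card (N ⊓ H : Subgroup G) * H.relIndex N = Nat.card N := by
      rw [← ((N ⊓ H).subgroupOf N).card_mul_index,
        Nat.card_congr (Subgroup.subgroupOfEquivOfLe inf_le_left).toEquiv,
        ← Subgroup.inf_relIndex_left]
      rfl
    rw [hMN] at h2
    rw [hMN]
    refine Nat.eq_of_mul_eq_mul_left
      (Nat.mul_pos (Nat.card_pos (α := H)) (Nat.card_pos (α := (N ⊓ H : Subgroup G)))) ?_
    calc _ = (Nat.card H * H.relIndex (N ⊔ H)) * Nat.card (N ⊓ H : Subgroup G) := by ring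
      _ = Nat.card N * Nat.card H := by rw [h2, h1]
      _ = _ := by rw [← h3]; ring
  rw [hsup] at hd
  rcases hN with hNq | hNc
  · have hNQ : N ≤ Subgroup.normalizer ((Q : Subgroup G) : Set G) := by
      refine le_trans ?_ Subgroup.le_normalizer
      exact (FittingCores.le_pCore hNn hNq).trans (FittingCores.pCore_le_sylow Q)
    rw [Subgroup.relIndex_eq_one.2 hNQ] at hd
    exact hp.out.not_dvd_one hd
  · have hcop : (Nat.card (Q : Subgroup G)).Coprime (Nat.card N) := by
      obtain ⟨b, hb⟩ := Q.isPGroup'.exists_card_eq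
      rw [hb]
      exact hNc.symm.pow_left b
    have hQNn : (Q : Subgroup G) ≤ Subgroup.normalizer (N : Set G) := fun x _ => by
      rw [Subgroup.normalizer_eq_top]; exact Subgroup.mem_top _
    have hQsol : Group.IsSolvable (Q : Subgroup G) :=
      @IsNilpotent.to_isSolvable _ _ Q.isPGroup'.isNilpotent
    obtain ⟨T, hT⟩ := CoprimeAct.exists_invariant_sylow hQNn hcop (Or.inl hQsol) p
    have hTle : (T : Subgroup N).map N.subtype ≤ Subgroup.normalizer ((Q : Subgroup G) : Set G) := by
      refine le_trans ?_ (Subgroup.centralizer_le_normalizer _)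
      intro t ht
      refine Subgroup.mem_centralizer_iff.2 fun y hy => ?_
      obtain ⟨j, hj⟩ := (Subgroup.orderOf_coe (⟨y, hy⟩ : (Q : Subgroup G))) ▸
        IsPGroup.iff_orderOf.1 Q.isPGroup' ⟨y, hy⟩
      -- a Sylow subgroup of `N` centralized by `y`
      set C := Subgroup.centralizer ({y} : Set G) with hC
      have hNC : ¬ p ∣ C.relIndex N :=
        fun hd' => h y ⟨j, hj⟩ (hd'.trans (SolvStruct.relIndex_dvd_index_of_normal_right C N))
      obtain ⟨T₀⟩ : Nonempty (Sylow p (C.subgroupOf N)) := inferInstance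
      have hcard : Nat.card ((T₀ : Subgroup (C.subgroupOf N)).map (C.subgroupOf N).subtype) =
          p ^ (Nat.card N).factorization p := by
        rw [Subgroup.card_map_of_injective (Subgroup.subtype_injective _), T₀.card_eq_multiplicity]
        congr 1
        rw [← (C.subgroupOf N).card_mul_index,
          Nat.factorization_mul Nat.card_pos.ne' Subgroup.index_ne_zero_of_finite, Finsupp.coe_add,
          Pi.add_apply, Nat.factorization_eq_zero_of_not_dvd (n := (C.subgroupOf N).index) hNC,
          add_zero]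
      set A := Subgroup.zpowers y with hA
      have hAN : A ≤ Subgroup.normalizer (N : Set G) := (Subgroup.zpowers_le.2 hy).trans hQNn
      have hAcop : (Nat.card A).Coprime (Nat.card N) :=
        Nat.Coprime.coprime_dvd_left (Subgroup.card_dvd_of_le (Subgroup.zpowers_le.2 hy)) hcop
      set T₁ := Sylow.ofCard _ hcard with hT₁
      have hT₁C : (T₁ : Subgroup N).map N.subtype ≤ C := by
        rintro _ ⟨x, hx, rfl⟩
        rw [hT₁, Sylow.coe_ofCard] at hx
        obtain ⟨x', -, rfl⟩ := hx
        exact x'.2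
      have hA1 : A ≤ Subgroup.normalizer (((T₁ : Subgroup N).map N.subtype : Subgroup G) : Set G) := by
        refine le_trans ?_ (Subgroup.centralizer_le_normalizer _)
        refine Subgroup.zpowers_le.2 (Subgroup.mem_centralizer_iff.2 fun x hx => ?_)
        exact (Subgroup.mem_centralizer_iff.1 (hT₁C hx) y rfl).symm
      have hA2 : A ≤ Subgroup.normalizer (((T : Subgroup N).map N.subtype : Subgroup G) : Set G) :=
        (Subgroup.zpowers_le.2 hy).trans hT
      obtain ⟨c, hc, hcT⟩ := CoprimeAct.invariant_sylow_conj hAN hAcop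
        (Or.inl (Group.isSolvable_of_comm fun a b => mul_comm' a b)) T₁ T hA1 hA2
      obtain ⟨t₁, ht₁, rfl⟩ := ht
      rw [← hcT] at ht₁
      obtain ⟨x, hx, rfl⟩ := ht₁
      have hxy := Subgroup.mem_centralizer_iff.1 (hT₁C (Subgroup.mem_map_of_mem N.subtype hx)) y rfl
      have hcy := Subgroup.mem_centralizer_iff.1 hc y (Subgroup.mem_zpowers y)
      change y * ((c : G) * (x : G) * (c : G)⁻¹) = ((c : G) * (x : G) * (c : G)⁻¹) * y
      exact ((Commute.mul_right (Commute.mul_right hcy hxy) (Commute.inv_right hcy))).eq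
    refine T.not_dvd_index (hd.trans ?_)
    rw [← Subgroup.relIndex_top_right (T : Subgroup N), ← Subgroup.relIndex_map_map_of_injective _ _
      N.subtype_injective, ← MonoidHom.range_eq_map, Subgroup.range_subtype]
    exact Subgroup.relIndex_dvd_of_le_left N hTle

end Cfsg.Agent.PLengthBasics
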