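import Cfsg.Agent.Lib.OddOrder.OmegaCentral
import Cfsg.Agent.Lib.Solvable.Coprime
import Cfsg.Agent.Lib.OddOrder.RankTwoAut
import Cfsg.Agent.Lib.Functors.Critical

/-!
Power elements centralising all invariant abelian subgroups of a self-centralising normal
`p'`-subgroup commute with one another.
-/

set_option autoImplicit false
set_option linter.style.haveILetI false
set_option linter.unusedSectionVars false

open scoped commutatorElement

namespace Cfsg.Agent.OddOrder.OmegaCen

variable {R : Type*} [Group R] [Finite R] {p : ℕ} [hp : Fact p.Prime]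

/-- Alperin: a maximal normal elementary abelian subgroup contains every element of order `p`
centralising it, relative to a normal subgroup. -/
theorem mem_of_centralizes_in (hp2 : p ≠ 2) (hR : IsPGroup p R) (A : Subgroup R) [A.Normal]
    (hA : Cfsg.IsElementaryAbelian p A)
    (M : Subgroup R) [M.Normal] (hAM : A ≤ M)
    (hmax : ∀ B : Subgroup R, B.Normal → Cfsg.IsElementaryAbelian p B → A ≤ B → B ≤ M → B = A)
    {x : R} (hxM : x ∈ M) (hx : x ∈ Subgroup.centralizer (A : Set R)) (hxp : x ^ p = 1) : x ∈ A := by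
  classical
  by_contra hxA
  haveI := hR.isNilpotent
  haveI := hA.1
  obtain ⟨L, -, hL⟩ := Finite.exists_le_minimal (a := M ⊓ Subgroup.centralizer (A : Set R))
    (p := fun L : Subgroup R => L.Normal ∧ A ≤ L ∧ L ≤ M ⊓ Subgroup.centralizer (A : Set R) ∧
      ∃ y ∈ L, y ^ p = 1 ∧ y ∉ A)
    ⟨Subgroup.normal_inf_normal M _, le_inf hAM (Subgroup.le_centralizer A), le_rfl, x, ⟨hxM, hx⟩, hxp, hxA⟩
  obtain ⟨⟨hLn, hAL, hLC, y, hyL, hyp, hyA⟩, hLmin⟩ := hL
  haveI := hLn
  obtain ⟨K, -, hK⟩ := Finite.exists_le_maximal (a := A)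
    (p := fun K : Subgroup R => K.Normal ∧ A ≤ K ∧ K < L)
    ⟨inferInstance, le_rfl, lt_of_le_of_ne hAL fun h => hyA (h ▸ hyL)⟩
  obtain ⟨⟨hKn, hAK, hKL⟩, hKmax⟩ := hK
  haveI := hKn
  have hsmall : ∀ z ∈ K, z ^ p = 1 → z ∈ A := by
    intro z hz hzp
    by_contra hzA
    exact hKL.not_ge (hLmin ⟨hKn, hAK, hKL.le.trans hLC, z, hz, hzp, hzA⟩ hKL.le)
  obtain ⟨x₀, hx₀L, hx₀K, hx₀⟩ := Nilp.exists_mem_commutator_le (A := K) (C := L) hKL.not_ge
  have hLgen : L ≤ K ⊔ Subgroup.zpowers x₀ := by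
    rcases (sup_le hKL.le (Subgroup.zpowers_le.2 hx₀L) : K ⊔ Subgroup.zpowers x₀ ≤ L).lt_or_eq with h | h
    · exact absurd (hKmax ⟨mem_normal_sup_zpowers hx₀, hAK.trans le_sup_left, h⟩ le_sup_left
        (Subgroup.mem_sup_right (Subgroup.mem_zpowers x₀))) hx₀K
    · exact h.ge
  set π := QuotientGroup.mk' K with hπ
  have hcen : ∀ z ∈ L, π z ∈ Subgroup.center (R ⧸ K) := by
    intro z hz
    refine (?_ : K ⊔ Subgroup.zpowers x₀ ≤ (Subgroup.center (R ⧸ K)).comap π) (hLgen hz)
    refine sup_le (fun k hk => ?_) (Subgroup.zpowers_le.2 ?_)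
    · rw [Subgroup.mem_comap, hπ, QuotientGroup.mk'_apply, (QuotientGroup.eq_one_iff k).2 hk]
      exact one_mem _
    · rw [Subgroup.mem_comap, Subgroup.mem_center_iff]
      intro g
      obtain ⟨g, rfl⟩ := QuotientGroup.mk'_surjective K g
      refine (commutatorElement_eq_one_iff_mul_comm.1 ?_).symm
      rw [← map_commutatorElement]
      exact (QuotientGroup.eq_one_iff _).2 (hx₀ g)
  have hder : ∀ z ∈ L, ∀ w : R, ⁅z, w⁆ ∈ K := by
    intro z hz w
    rw [← QuotientGroup.eq_one_iff]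
    show π ⁅z, w⁆ = 1
    rw [map_commutatorElement, commutatorElement_eq_one_iff_mul_comm]
    exact (Subgroup.mem_center_iff.1 (hcen z hz) (π w)).symm
  have hcentral : ∀ z ∈ L, z ∈ K → z ^ p = 1 → ∀ w ∈ L, z * w = w * z := fun z _ hzK hzp w hw =>
    Subgroup.mem_centralizer_iff.1 (hLC hw).2 z (hsmall z hzK hzp)
  let W : Subgroup R :=
    { carrier := {z | z ∈ L ∧ z ^ p = 1}
      one_mem' := ⟨one_mem _, one_pow p⟩
      mul_mem' := fun {a b} ha hb => ⟨mul_mem ha.1 hb.1,
        pow_mul hp2 hR K L (fun z hz w _ => hder z hz w) hcentral ha.1 hb.1 ha.2 hb.2⟩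
      inv_mem' := fun {a} ha => ⟨inv_mem ha.1, by rw [inv_pow, ha.2, inv_one]⟩ }
  have hWn : W.Normal := ⟨fun z hz g => ⟨hLn.conj_mem z hz.1 g, by
    rw [conj_pow, hz.2, mul_one, mul_inv_cancel]⟩⟩
  have hAW : A ≤ W := fun a ha => ⟨hAL ha, hA.2 a ha⟩
  have hWA : W ≤ A ⊔ Subgroup.zpowers y := by
    have hyK : y ∉ K := fun h => hyA (hsmall y h hyp)
    have hgen : L ≤ Subgroup.zpowers y ⊔ K := by
      rcases (sup_le hKL.le (Subgroup.zpowers_le.2 hyL) : K ⊔ Subgroup.zpowers y ≤ L).lt_or_eq with h | h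
      · exact absurd (hKmax ⟨mem_normal_sup_zpowers (hder y hyL), hAK.trans le_sup_left, h⟩ le_sup_left
          (Subgroup.mem_sup_right (Subgroup.mem_zpowers y))) hyK
      · exact (h.ge.trans (sup_comm _ _).le)
    intro w hw
    have hw' : w ∈ ((Subgroup.zpowers y ⊔ K : Subgroup R) : Set R) := hgen hw.1
    rw [Subgroup.mul_normal] at hw'
    obtain ⟨u, hu, k, hk, rfl⟩ := hw'
    have huW : u ∈ W := (Subgroup.zpowers_le (H := W)).2 ⟨hyL, hyp⟩ hu
    have hkW : k ∈ W := by simpa using mul_mem (inv_mem huW) hw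
    exact mul_mem (Subgroup.mem_sup_right hu) (Subgroup.mem_sup_left (hsmall k hk hkW.2))
  have hWc : IsMulCommutative W := by
    haveI := commute_of_le_sup_zpowers hA.1 (hLC hyL).2
    exact .of_setLike_mul_comm fun a ha b hb =>
      congrArg Subtype.val (mul_comm' (⟨a, hWA ha⟩ : ↥(A ⊔ Subgroup.zpowers y)) ⟨b, hWA hb⟩)
  have := hmax W hWn ⟨hWc, fun z hz => hz.2⟩ hAW fun z hz => (hLC hz.1).1
  exact hyA (this ▸ (show y ∈ W from ⟨hyL, hyp⟩))

end Cfsg.Agent.OddOrder.OmegaCen

namespace Cfsg.Agent.PowerCommute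

open Cfsg.Agent

variable {p : ℕ} [hp : Fact p.Prime]

/-- In class two a commutator only depends on the classes modulo the centre. -/
theorem comm_congr {C : Type*} [Group C] {z w u v : C} (hz : z ∈ Subgroup.center C)
    (hw : w ∈ Subgroup.center C) : ⁅z * u, w * v⁆ = ⁅u, v⁆ := by
  have hz' := Subgroup.mem_center_iff.1 hz
  have hw' := Subgroup.mem_center_iff.1 hw
  calc ⁅z * u, w * v⁆ = z * (u * w) * v * u⁻¹ * z⁻¹ * v⁻¹ * w⁻¹ := by rw [commutatorElement_def]; group
    _ = z * (w * (u * v * u⁻¹)) * z⁻¹ * (v⁻¹ * w⁻¹) := by rw [hw' u]; group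
    _ = w * (u * v * u⁻¹) * (v⁻¹ * w⁻¹) := by rw [← hz' (w * (u * v * u⁻¹)), mul_inv_cancel_right]
    _ = w * ⁅u, v⁆ * w⁻¹ := by rw [commutatorElement_def]; group
    _ = ⁅u, v⁆ := by rw [← hw' ⁅u, v⁆, mul_inv_cancel_right]

variable {C : Type*} [Group C] [Finite C]

theorem quotient_center_map (φ : MulAut C) :
    (Subgroup.center C).map φ.toMonoidHom = Subgroup.center C :=
  Subgroup.characteristic_iff_map_eq.1 inferInstance φ

/-- The action on the central quotient. -/
noncomputable def centralAct {T : Type*} [Group T] (α : T →* MulAut C) : T →* MulAut (C ⧸ Subgroup.center C) :=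
  (OddOrder.RankTwoAut.quotientAut (Subgroup.center C) quotient_center_map).comp α

/-- The elements fixing all commutators. -/
def commFix {T : Type*} [Group T] (α : T →* MulAut C) : Subgroup T where
  carrier := {t | ∀ u v : C, α t ⁅u, v⁆ = ⁅u, v⁆}
  one_mem' := fun u v => by rw [map_one, MulAut.one_apply]
  mul_mem' := fun {s t} hs ht u v => by rw [map_mul, MulAut.mul_apply, ht, hs]
  inv_mem' := fun {t} ht u v => by
    rw [map_inv, MulAut.inv_def, MulEquiv.symm_apply_eq]
    exact (ht u v).symm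

theorem mem_commFix {T : Type*} [Group T] {α : T →* MulAut C} {t : T} :
    t ∈ commFix α ↔ ∀ u v : C, α t ⁅u, v⁆ = ⁅u, v⁆ := Iff.rfl

instance commFix_normal {T : Type*} [Group T] (α : T →* MulAut C) : (commFix α).Normal := ⟨fun t ht g => by
  rw [mem_commFix] at ht ⊢
  intro u v
  rw [map_mul, map_mul, MulAut.mul_apply, MulAut.mul_apply, map_commutatorElement (α g⁻¹), ht,
    ← map_commutatorElement (α g⁻¹), ← MulAut.mul_apply, ← map_mul, mul_inv_cancel, map_one,
    MulAut.one_apply]⟩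

/-- The class two case. -/
theorem commute_class_two {r : ℕ} [Fact r.Prime] (hp2 : p ≠ 2) (hpr : r ≠ p) (hC : IsPGroup r C)
    (hc2 : ∀ u v : C, ⁅u, v⁆ ∈ Subgroup.center C) {T : Type*} [Group T] [Finite T] (hT : IsPGroup p T)
    (α : T →* MulAut C) (m : ℕ) (S : Set T) (hpow : ∀ x ∈ S, x ^ p ^ (m + 1) = 1)
    (hab : ∀ x ∈ S, ∀ B : Subgroup C, IsMulCommutative B → (∀ b ∈ B, α x b ∈ B) →
      ∀ b ∈ B, α (x ^ p ^ m) b = b)
    {x₁ x₂ : T} (h₁ : x₁ ∈ S) (h₂ : x₂ ∈ S) : α ⁅x₁ ^ p ^ m, x₂ ^ p ^ m⁆ = 1 := by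
  classical
  set Z := Subgroup.center C with hZ
  set π := QuotientGroup.mk' Z with hπ
  set β := centralAct α with hβdef
  have hβ : ∀ t c, β t (π c) = π (α t c) := fun t c => rfl
  letI : CommGroup (C ⧸ Z) := { (inferInstance : Group (C ⧸ Z)) with
    mul_comm := fun a b => by
      obtain ⟨a, rfl⟩ := QuotientGroup.mk'_surjective Z a
      obtain ⟨b, rfl⟩ := QuotientGroup.mk'_surjective Z b
      rw [← commutatorElement_eq_one_iff_mul_comm, ← map_commutatorElement]
      exact (QuotientGroup.eq_one_iff _).2 (hc2 a b) }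
  have hcongr : ∀ u u' v v' : C, π u = π u' → π v = π v' → ⁅u, v⁆ = ⁅u', v'⁆ := by
    intro u u' v v' hu hv
    obtain ⟨z, hz, rfl⟩ : ∃ z ∈ Z, u = z * u' := ⟨u * u'⁻¹, (QuotientGroup.eq_one_iff _).1 (by
      show π (u * u'⁻¹) = 1; rw [map_mul, map_inv, hu, mul_inv_cancel]), by group⟩
    obtain ⟨w, hw, rfl⟩ : ∃ w ∈ Z, v = w * v' := ⟨v * v'⁻¹, (QuotientGroup.eq_one_iff _).1 (by
      show π (v * v'⁻¹) = 1; rw [map_mul, map_inv, hv, mul_inv_cancel]), by group⟩
    exact comm_congr hz hw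
  set P := β.range with hP
  haveI : Finite P := Finite.of_surjective _ β.rangeRestrict_surjective
  have hPp : IsPGroup p P := hT.of_surjective _ β.rangeRestrict_surjective
  set M : Subgroup P := (commFix α).map β.rangeRestrict with hM
  haveI : M.Normal := (commFix_normal α).map _ β.rangeRestrict_surjective
  obtain ⟨A, -, hA⟩ := Finite.exists_le_maximal (a := (⊥ : Subgroup P))
    (p := fun A : Subgroup P => A.Normal ∧ Cfsg.IsElementaryAbelian p A ∧ A ≤ M)
    ⟨inferInstance, ⟨inferInstance, fun a ha => by rw [Subgroup.mem_bot.1 ha, one_pow]⟩, bot_le⟩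
  obtain ⟨⟨hAn, hAe, hAM⟩, hAmax⟩ := hA
  haveI := hAn
  haveI := hAe.1
  have hAc : ∀ a ∈ A, ∀ b ∈ A, Commute a b := fun a ha b hb =>
    congrArg Subtype.val (mul_comm' (⟨a, ha⟩ : A) ⟨b, hb⟩)
  have hrC : ∀ u : C ⧸ Z, u ^ p = 1 → u = 1 := by
    intro u hu
    obtain ⟨k, hk⟩ := IsPGroup.iff_orderOf.1 (hC.to_quotient Z) u
    refine orderOf_eq_one_iff.1 (Nat.eq_one_of_dvd_coprimes
      (((Nat.coprime_primes Fact.out hp.out).2 hpr).pow_left k) hk.dvd (orderOf_dvd_of_pow_eq_one hu))
  -- every power element acts inside `A`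
  have key : ∀ x ∈ S, β.rangeRestrict (x ^ p ^ m) ∈ A := by
    intro x hx
    set y := β.rangeRestrict (x ^ p ^ m) with hydef
    have hyT0 : x ^ p ^ m ∈ commFix α := mem_commFix.2 fun u v =>
      hab x hx Z inferInstance
        (fun b hb => (Subgroup.characteristic_iff_le_comap.1 inferInstance (α x)) hb) _ (hc2 u v)
    have hyp : y ^ p = 1 := by rw [hydef, ← map_pow, ← pow_mul, ← pow_succ, hpow x hx, map_one]
    refine OddOrder.OmegaCen.mem_of_centralizes_in hp2 hPp A hAe M hAM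
      (fun B hBn hBe hAB hBM => le_antisymm (hAmax ⟨hBn, hBe, hBM⟩ hAB) hAB)
      ⟨_, hyT0, rfl⟩ ?_ hyp
    refine Subgroup.mem_centralizer_iff.2 fun a₀ ha₀ => ?_
    by_contra hne
    set c := ⁅a₀, y⁆ with hc
    have hc1 : c ≠ 1 := fun h => hne (commutatorElement_eq_one_iff_mul_comm.1 h)
    obtain ⟨v₀, hv₀⟩ : ∃ v, (c : MulAut (C ⧸ Z)) v ≠ v := by
      by_contra h
      push Not at h
      exact hc1 (Subtype.ext (MulEquiv.ext h))
    -- a maximal subgroup of `A` fixing something moved by `c`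
    obtain ⟨B, -, hB⟩ := Finite.exists_le_maximal (a := (⊥ : Subgroup P))
      (p := fun B : Subgroup P => B ≤ A ∧ ∃ v, (∀ b ∈ B, (b : MulAut (C ⧸ Z)) v = v) ∧
        (c : MulAut (C ⧸ Z)) v ≠ v)
      ⟨bot_le, v₀, fun b hb => by rw [Subgroup.mem_bot.1 hb]; rfl, hv₀⟩
    obtain ⟨⟨hBA, v, hvB, hvc⟩, hBmax⟩ := hB
    have hcA : c ∈ A := by
      rw [hc, commutatorElement_def, mul_assoc, mul_assoc, ← mul_assoc y]
      exact mul_mem ha₀ (hAn.conj_mem _ (inv_mem ha₀) y)
    have hcB : c ∉ B := fun h => hvc (hvB c h)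
    set A₁ := B ⊔ Subgroup.zpowers c with hA₁
    have hA₁A : A₁ ≤ A := sup_le hBA (Subgroup.zpowers_le.2 hcA)
    -- `A / B` is cyclic
    have hAB : A ≤ A₁ := by
      intro a₂ ha₂
      by_contra ha₂1
      set E := Subgroup.zpowers c ⊔ Subgroup.zpowers a₂ with hE
      have hEA : E ≤ A := sup_le (Subgroup.zpowers_le.2 hcA) (Subgroup.zpowers_le.2 ha₂)
      have hEelt : ∀ e ∈ E, ∃ i j : ℤ, e = c ^ i * a₂ ^ j := by
        intro e he
        let f : Subgroup P :=
          { carrier := {e | ∃ i j : ℤ, e = c ^ i * a₂ ^ j}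
            one_mem' := ⟨0, 0, by simp⟩
            mul_mem' := by
              rintro _ _ ⟨i, j, rfl⟩ ⟨i', j', rfl⟩
              refine ⟨i + i', j + j', ?_⟩
              rw [zpow_add, zpow_add, mul_assoc, ← mul_assoc (a₂ ^ j),
                ← ((hAc c hcA a₂ ha₂).zpow_zpow i' j).eq]
              simp [mul_assoc]
            inv_mem' := by
              rintro _ ⟨i, j, rfl⟩
              refine ⟨-i, -j, ?_⟩
              rw [mul_inv_rev, ← zpow_neg, ← zpow_neg, ((hAc c hcA a₂ ha₂).zpow_zpow (-i) (-j)).eq] }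
        exact (sup_le (Subgroup.zpowers_le.2 ⟨1, 0, by simp⟩) (Subgroup.zpowers_le.2 ⟨0, 1, by simp⟩) :
          E ≤ f) he
      have hEB : ∀ e ∈ E, e ∈ B → e = 1 := by
        intro e he heB
        obtain ⟨i, j, rfl⟩ := hEelt e he
        have hj : (p : ℤ) ∣ j := by
          by_contra hj
          obtain ⟨s, t, hst⟩ := (Nat.prime_iff_prime_int.1 hp.out).coprime_iff_not_dvd.2 hj
          apply ha₂1
          have h1 : a₂ ^ j ∈ A₁ := by
            have : a₂ ^ j = (c ^ i)⁻¹ * (c ^ i * a₂ ^ j) := by group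
            rw [this]
            exact mul_mem (Subgroup.mem_sup_right (inv_mem (Subgroup.zpow_mem_zpowers c i)))
              (Subgroup.mem_sup_left heB)
          have h2 : a₂ = (a₂ ^ p) ^ s * (a₂ ^ j) ^ t := by
            rw [← zpow_natCast, ← zpow_mul, ← zpow_mul, ← zpow_add, mul_comm (p : ℤ), mul_comm j, hst,
              zpow_one]
          rw [h2, hAe.2 a₂ ha₂, one_zpow, one_mul]
          exact zpow_mem h1 t
        obtain ⟨j', rfl⟩ := hj
        rw [zpow_mul, zpow_natCast, hAe.2 a₂ ha₂, one_zpow, mul_one] at heB ⊢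
        by_cases hi : (p : ℤ) ∣ i
        · obtain ⟨i', rfl⟩ := hi
          rw [zpow_mul, zpow_natCast, hAe.2 c hcA, one_zpow]
        · exfalso
          obtain ⟨s, t, hst⟩ := (Nat.prime_iff_prime_int.1 hp.out).coprime_iff_not_dvd.2 hi
          apply hcB
          have h2 : c = (c ^ p) ^ s * (c ^ i) ^ t := by
            rw [← zpow_natCast, ← zpow_mul, ← zpow_mul, ← zpow_add, mul_comm (p : ℤ), mul_comm i, hst,
              zpow_one]
          rw [h2, hAe.2 c hcA, one_zpow, one_mul]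
          exact zpow_mem heB t
      have hEcard : Nat.card E = p ^ 2 := by
        have hle : Nat.card E ≤ p ^ 2 := by
          let f : Fin p × Fin p → P := fun t => c ^ (t.1 : ℕ) * a₂ ^ (t.2 : ℕ)
          have hsub : (E : Set P) ⊆ Set.range f := by
            intro e he
            obtain ⟨i, j, rfl⟩ := hEelt e he
            have hp0 : (p : ℤ) ≠ 0 := by exact_mod_cast hp.out.ne_zero
            have hpos : (0 : ℤ) < p := by exact_mod_cast hp.out.pos
            refine ⟨(⟨(i % p).toNat, by have := Int.emod_lt_of_pos i hpos; have := Int.emod_nonneg i hp0; omega⟩,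
              ⟨(j % p).toNat, by have := Int.emod_lt_of_pos j hpos; have := Int.emod_nonneg j hp0; omega⟩), ?_⟩
            have hred : ∀ b ∈ A, ∀ k : ℤ, b ^ (k % (p : ℤ)).toNat = b ^ k := fun b hb k => by
              rw [← zpow_natCast, Int.toNat_of_nonneg (Int.emod_nonneg k hp0)]
              conv_rhs => rw [← Int.emod_add_mul_ediv k p, zpow_add, zpow_mul, zpow_natCast, hAe.2 b hb,
                one_zpow, mul_one]
            show c ^ (i % (p : ℤ)).toNat * a₂ ^ (j % (p : ℤ)).toNat = _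
            rw [hred c hcA, hred a₂ ha₂]
          calc Nat.card E ≤ Nat.card (Set.range f) := Nat.card_mono (Set.toFinite _) hsub
            _ ≤ Nat.card (Fin p × Fin p) := Finite.card_range_le f
            _ = p ^ 2 := by simp [Nat.card_prod, sq]
        refine le_antisymm hle ?_
        obtain ⟨k, hk⟩ := IsPGroup.iff_card.1 (hPp.to_subgroup E)
        have hlt : Subgroup.zpowers c < E := lt_of_le_of_ne le_sup_left fun h => ha₂1
          (Subgroup.mem_sup_right (h ▸ Subgroup.mem_sup_right (Subgroup.mem_zpowers a₂)))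
        have hcard : Nat.card (Subgroup.zpowers c) < Nat.card E :=
          Set.ncard_lt_ncard (SetLike.coe_ssubset_coe.2 hlt) (Set.toFinite _)
        rw [Nat.card_zpowers, orderOf_eq_prime (hAe.2 c hcA) hc1, hk] at hcard
        have : 1 < k := (Nat.pow_lt_pow_iff_right hp.out.one_lt).1 (by rwa [pow_one])
        rw [hk]
        exact Nat.pow_le_pow_right hp.out.pos this
      -- `E` acts on the fixed points of `B`
      let W : Subgroup (C ⧸ Z) :=
        { carrier := {w | ∀ b ∈ B, (b : MulAut (C ⧸ Z)) w = w}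
          one_mem' := fun b _ => map_one _
          mul_mem' := fun {u w} hu hw b hb => by rw [map_mul, hu b hb, hw b hb]
          inv_mem' := fun {u} hu b hb => by rw [map_inv, hu b hb] }
      have hWinv : ∀ e : E, ∀ w ∈ W, ((e : P) : MulAut (C ⧸ Z)) w ∈ W := fun e w hw b hb => by
        have hbe : Commute (b : P) e := hAc b (hBA hb) e (hEA e.2)
        rw [← MulAut.mul_apply, ← Subgroup.coe_mul, hbe.eq, Subgroup.coe_mul, MulAut.mul_apply, hw b hb]
      let ρ : E →* MulAut W :=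
        { toFun := fun e =>
            { toFun := fun w => ⟨((e : P) : MulAut (C ⧸ Z)) w, hWinv e w w.2⟩
              invFun := fun w => ⟨(((e⁻¹ : E) : P) : MulAut (C ⧸ Z)) w, hWinv e⁻¹ w w.2⟩
              left_inv := fun w => Subtype.ext (by simp)
              right_inv := fun w => Subtype.ext (by simp)
              map_mul' := fun u w => Subtype.ext (map_mul _ _ _) }
          map_one' := rfl
          map_mul' := fun _ _ => rfl }
      let X : Subgroup W :=
        { carrier := {w | (c : MulAut (C ⧸ Z)) (w : C ⧸ Z) = w}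
          one_mem' := map_one _
          mul_mem' := fun {u w} (hu : _ = _) (hw : _ = _) => by
            show (c : MulAut (C ⧸ Z)) ((u : C ⧸ Z) * w) = u * w
            rw [map_mul, hu, hw]
          inv_mem' := fun {u} (hu : _ = _) => by
            show (c : MulAut (C ⧸ Z)) (u : C ⧸ Z)⁻¹ = (u : C ⧸ Z)⁻¹
            rw [map_inv, hu] }
      have hWcop : p.Coprime (Nat.card W) := by
        obtain ⟨k, hk⟩ := IsPGroup.iff_card.1 ((hC.to_quotient Z).to_subgroup W)
        rw [hk]
        exact ((Nat.coprime_primes hp.out Fact.out).2 hpr.symm).pow_right k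
      have hXtop : X = ⊤ := CoprimeAct.generated_by_fixed hp.out hEcard
        (fun e => Subtype.ext (hAe.2 e (hEA e.2))) ρ hWcop X fun e w he hew => by
          by_contra hwc
          have hsup : B ⊔ Subgroup.zpowers (e : P) ≤ A := sup_le hBA (Subgroup.zpowers_le.2 (hEA e.2))
          have hfix : ∀ b ∈ B ⊔ Subgroup.zpowers (e : P), (b : MulAut (C ⧸ Z)) (w : C ⧸ Z) = w := by
            let F : Subgroup P :=
              { carrier := {b | (b : MulAut (C ⧸ Z)) (w : C ⧸ Z) = w}
                one_mem' := rfl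
                mul_mem' := fun {a b} (ha : _ = _) (hb : _ = _) => by
                  show ((a * b : P) : MulAut (C ⧸ Z)) (w : C ⧸ Z) = w
                  rw [Subgroup.coe_mul, MulAut.mul_apply, hb, ha]
                inv_mem' := fun {a} (ha : _ = _) => by
                  show ((a⁻¹ : P) : MulAut (C ⧸ Z)) (w : C ⧸ Z) = w
                  rw [Subgroup.coe_inv, MulAut.inv_def, MulEquiv.symm_apply_eq, ha] }
            exact fun b hb => (sup_le (fun b hb => w.2 b hb)
              (Subgroup.zpowers_le.2 (congrArg Subtype.val hew)) : _ ≤ F) hb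
          have := hBmax ⟨hsup, (w : C ⧸ Z), hfix, hwc⟩ le_sup_left
          exact he (Subtype.ext (hEB e e.2 (this (Subgroup.mem_sup_right (Subgroup.mem_zpowers _)))))
      exact hvc ((hXtop ▸ Subgroup.mem_top (⟨v, hvB⟩ : W) : (⟨v, hvB⟩ : W) ∈ X))
    -- `y` does not normalise `B`
    have hyB : ¬ ∀ b ∈ B, y * b * y⁻¹ ∈ B := by
      intro hnorm
      apply hcB
      -- `y` acts trivially on `A / B`
      have hdec : ∀ a ∈ A, ∃ b ∈ B, ∃ k : ℤ, a = b * c ^ k := by
        intro a ha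
        have ha' := hAB ha
        rw [hA₁] at ha'
        have hle : B ⊔ Subgroup.zpowers c ≤
            ({ carrier := {a | a ∈ A ∧ ∃ b ∈ B, ∃ k : ℤ, a = b * c ^ k}
               one_mem' := ⟨one_mem _, 1, one_mem _, 0, by simp⟩
               mul_mem' := by
                 rintro _ _ ⟨hu, b, hb, k, rfl⟩ ⟨hw, b', hb', k', rfl⟩
                 refine ⟨mul_mem hu hw, b * b', mul_mem hb hb', k + k', ?_⟩
                 rw [zpow_add, mul_assoc b, ← mul_assoc (c ^ k),
                   ← ((hAc b' (hBA hb') c hcA).zpow_right k).eq]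
                 simp [mul_assoc]
               inv_mem' := by
                 rintro _ ⟨hu, b, hb, k, rfl⟩
                 refine ⟨inv_mem hu, b⁻¹, inv_mem hb, -k, ?_⟩
                 rw [mul_inv_rev, ← zpow_neg, ((hAc b (hBA hb) c hcA).zpow_right (-k)).inv_left.eq] } :
              Subgroup P) :=
          sup_le (fun b hb => ⟨hBA hb, b, hb, 0, by simp⟩)
            (Subgroup.zpowers_le.2 ⟨hcA, 1, one_mem _, 1, by simp⟩)
        exact (hle ha').2
      obtain ⟨b₀, hb₀, k, hk⟩ := hdec _ (hAn.conj_mem c hcA y)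
      have hiter : ∀ i : ℕ, ∃ b ∈ B, y ^ i * c * (y ^ i)⁻¹ = b * c ^ (k ^ i) := by
        intro i
        induction i with
        | zero => exact ⟨1, one_mem _, by simp⟩
        | succ i ih =>
          obtain ⟨b, hb, hi⟩ := ih
          refine ⟨y * b * y⁻¹ * b₀ ^ (k ^ i), mul_mem (hnorm b hb) (zpow_mem hb₀ _), ?_⟩
          calc y ^ (i + 1) * c * (y ^ (i + 1))⁻¹ = y * (y ^ i * c * (y ^ i)⁻¹) * y⁻¹ := by
                rw [pow_succ']; group
            _ = (y * b * y⁻¹) * (y * c * y⁻¹) ^ (k ^ i) := by rw [hi, conj_zpow]; group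
            _ = y * b * y⁻¹ * b₀ ^ (k ^ i) * c ^ (k ^ (i + 1)) := by
                rw [hk, ((hAc b₀ (hBA hb₀) c hcA).zpow_right k).mul_zpow, ← zpow_mul, ← mul_assoc,
                  pow_succ']
      have hmem : ∀ e : ℤ, c ^ e ∈ B → (p : ℤ) ∣ e := by
        intro e he
        by_contra hd
        obtain ⟨s, t, hst⟩ := (Nat.prime_iff_prime_int.1 hp.out).coprime_iff_not_dvd.2 hd
        apply hcB
        have h2 : c = (c ^ p) ^ s * (c ^ e) ^ t := by
          rw [← zpow_natCast, ← zpow_mul, ← zpow_mul, ← zpow_add, mul_comm (p : ℤ), mul_comm e, hst,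
            zpow_one]
        rw [h2, hAe.2 c hcA, one_zpow, one_mul]
        exact zpow_mem he t
      have hk1 : (p : ℤ) ∣ k - 1 := by
        obtain ⟨b, hb, hi⟩ := hiter p
        rw [hyp] at hi
        have h3 : (p : ℤ) ∣ k ^ p - 1 := hmem _ (by
          have h4 : c ^ (k ^ p - 1) = b⁻¹ := by
            rw [zpow_sub, zpow_one, mul_inv_eq_iff_eq_mul, eq_inv_mul_iff_mul_eq]
            simpa using hi.symm
          rw [h4]
          exact inv_mem hb)
        rw [← ZMod.intCast_zmod_eq_zero_iff_dvd] at h3 ⊢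
        push_cast at h3 ⊢
        rwa [ZMod.pow_card] at h3
      obtain ⟨s, hs⟩ := hk1
      have hycy : y * c * y⁻¹ * c⁻¹ ∈ B := by
        have : y * c * y⁻¹ * c⁻¹ = b₀ * c ^ (k - 1) := by rw [hk, zpow_sub, zpow_one]; group
        rw [this, hs, zpow_mul, zpow_natCast, hAe.2 c hcA, one_zpow, mul_one]
        exact hb₀
      obtain ⟨b, hb, l, hl⟩ := hdec a₀ ha₀
      have hcl : c ^ l * (y * c * y⁻¹) ^ (-l) ∈ B := by
        have hcomm : Commute c (y * c * y⁻¹) := hAc c hcA _ (hAn.conj_mem c hcA y)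
        rw [zpow_neg, ← inv_zpow, ← hcomm.inv_right.mul_zpow]
        have h5 := zpow_mem (inv_mem hycy) l
        rwa [mul_inv_rev, inv_inv] at h5
      have hyc : c = b * (c ^ l * (y * c * y⁻¹) ^ (-l)) * (y * b * y⁻¹)⁻¹ := by
        conv_lhs => rw [hc, commutatorElement_def, hl]
        rw [conj_zpow]
        group
      rw [hyc]
      exact mul_mem (mul_mem hb hcl) (inv_mem (hnorm b hb))
    -- the conjugates of a moved fixed point commute
    obtain ⟨va, rfl⟩ := QuotientGroup.mk'_surjective Z v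
    set g := β.rangeRestrict x with hg
    have hgy : g ^ p ^ m = y := (map_pow _ _ _).symm
    obtain ⟨tc, htc'⟩ := β.rangeRestrict_surjective c
    set q := va * (α tc va)⁻¹ with hq
    have hπq : π q = π va * ((c : MulAut (C ⧸ Z)) (π va))⁻¹ := by
      rw [hq, map_mul, map_inv, ← hβ, ← htc']
      rfl
    have hqfix : ∀ b ∈ B, (b : MulAut (C ⧸ Z)) (π q) = π q := by
      intro b hb
      rw [hπq, map_mul, map_inv, hvB b hb, ← MulAut.mul_apply, ← Subgroup.coe_mul,
        (hAc b (hBA hb) c hcA).eq, Subgroup.coe_mul, MulAut.mul_apply, hvB b hb]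
    have hqc : (c : MulAut (C ⧸ Z)) (π q) ≠ π q := by
      intro h
      apply hvc
      have hiter : ∀ i : ℕ, ((c : MulAut (C ⧸ Z)) ^ i) (π va) = π va * ((π q) ^ i)⁻¹ := by
        intro i
        induction i with
        | zero => simp
        | succ i ih =>
          rw [pow_succ', MulAut.mul_apply, ih, map_mul, map_inv, map_pow, h, pow_succ]
          rw [hπq]
          simp [mul_assoc, mul_comm, mul_left_comm]
      have h1 := hiter p
      rw [← SubgroupClass.coe_pow, hAe.2 c hcA, Subgroup.coe_one, MulAut.one_apply, left_eq_mul,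
        inv_eq_one] at h1
      have h2 := hrC _ h1
      rw [hπq, mul_inv_eq_one] at h2
      exact h2.symm
    -- conjugates of `B`
    have hpair : ∀ i : ℕ, (¬ ∀ b ∈ B, g ^ i * b * (g ^ i)⁻¹ ∈ B) →
        ∀ w : C, (∀ b ∈ B, ((g ^ i * b * (g ^ i)⁻¹ : P) : MulAut (C ⧸ Z)) (π w) = π w) →
          ⁅q, w⁆ = 1 := by
      intro i hi w hw
      push Not at hi
      obtain ⟨b₁, hb₁, hb₁B⟩ := hi
      set b' := g ^ i * b₁ * (g ^ i)⁻¹ with hb'
      have hb'A : b' ∈ A := hAn.conj_mem _ (hBA hb₁) _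
      -- `c` agrees with a power of `b'` modulo `B`
      obtain ⟨k, hk⟩ : ∃ k : ℤ, c * (b' ^ k)⁻¹ ∈ B := by
        have hb'1 := hAB hb'A
        rw [hA₁] at hb'1
        have hBn : Subgroup.zpowers c ≤ Subgroup.normalizer (B : Set P) := fun d hd => by
          obtain ⟨n, rfl⟩ := hd
          refine Subgroup.centralizer_le_normalizer _ (Subgroup.mem_centralizer_iff.2 fun b hb => ?_)
          exact ((hAc b (hBA hb) c hcA).zpow_right n).eq
        obtain ⟨b₂, hb₂, _, ⟨n, rfl⟩, he⟩ := (SolvBasic.mem_sup_iff_of_le_normalizer hBn).1 hb'1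
        replace he : b' = b₂ * c ^ n := he
        have hn : ¬ (p : ℤ) ∣ n := fun ⟨n', hn'⟩ => hb₁B (by
          rw [he, hn', zpow_mul, zpow_natCast, hAe.2 c hcA, one_zpow, mul_one]
          exact hb₂)
        obtain ⟨s, t, hst⟩ := (Nat.prime_iff_prime_int.1 hp.out).coprime_iff_not_dvd.2 hn
        refine ⟨t, ?_⟩
        have h2 : (c ^ n) ^ t = c := by
          rw [← zpow_mul]
          have : n * t = 1 + (p : ℤ) * (-s) := by linarith
          rw [this, zpow_add, zpow_one, zpow_mul, zpow_natCast, hAe.2 c hcA, one_zpow, mul_one]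
        rw [he, ((hAc b₂ (hBA hb₂) c hcA).zpow_right n).mul_zpow, h2, mul_inv_rev, ← mul_assoc,
          mul_inv_cancel, one_mul]
        exact inv_mem (zpow_mem hb₂ t)
      set d := b' ^ k with hd
      have hdw : (d : MulAut (C ⧸ Z)) (π w) = π w := by
        let F : Subgroup P :=
          { carrier := {b | (b : MulAut (C ⧸ Z)) (π w) = π w}
            one_mem' := rfl
            mul_mem' := fun {a b} (ha : _ = _) (hb : _ = _) => by
              show ((a * b : P) : MulAut (C ⧸ Z)) (π w) = π w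
              rw [Subgroup.coe_mul, MulAut.mul_apply, hb, ha]
            inv_mem' := fun {a} (ha : _ = _) => by
              show ((a⁻¹ : P) : MulAut (C ⧸ Z)) (π w) = π w
              rw [Subgroup.coe_inv, MulAut.inv_def, MulEquiv.symm_apply_eq, ha] }
        exact (zpow_mem (show b' ∈ F from hw b₁ hb₁) k : d ∈ F)
      have hcd : (c : MulAut (C ⧸ Z)) (π va) = (d : MulAut (C ⧸ Z)) (π va) := by
        have e : c = d * (c * d⁻¹) := by
          rw [(hAc d (zpow_mem hb'A k) _ (mul_mem hcA (inv_mem (zpow_mem hb'A k)))).eq]; exact (inv_mul_cancel_right c d).symm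
        conv_lhs => rw [e]
        rw [Subgroup.coe_mul, MulAut.mul_apply, hvB _ hk]
      have hdM : d ∈ M := hAM (zpow_mem hb'A k)
      obtain ⟨t, ht, htd⟩ := hdM
      have hπt : ∀ u, π (α t u) = (d : MulAut (C ⧸ Z)) (π u) := fun u => by rw [← htd]; rfl
      have h1 : ⁅α t va, w⁆ = ⁅va, w⁆ := by
        have h2 := mem_commFix.1 ht va w
        rw [map_commutatorElement] at h2
        rw [← h2]
        exact hcongr _ _ _ _ rfl (by rw [hπt, hdw])
      have h3 : ⁅q, w⁆ = ⁅va * (α t va)⁻¹, w⁆ := hcongr _ _ _ _ (by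
        rw [hπq, map_mul, map_inv, hπt, ← hcd]) rfl
      rw [h3]
      have hmul : ∀ a b : C, ⁅a * b, w⁆ = ⁅a, w⁆ * ⁅b, w⁆ := fun a b => by
        have e : ⁅a * b, w⁆ = a * ⁅b, w⁆ * a⁻¹ * ⁅a, w⁆ := by simp only [commutatorElement_def]; group
        rw [e, Subgroup.mem_center_iff.1 (hc2 b w) a, mul_inv_cancel_right,
          Subgroup.mem_center_iff.1 (hc2 a w) ⁅b, w⁆]
      have h4 : ⁅(α t va)⁻¹, w⁆ = ⁅α t va, w⁆⁻¹ := by
        refine eq_inv_of_mul_eq_one_left ?_
        rw [← hmul, inv_mul_cancel, commutatorElement_one_left]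
      rw [hmul, h4, h1, mul_inv_cancel]
    -- the abelian subgroup generated by the conjugates
    set gen : Set C := Set.range fun i : ℕ => α (x ^ i) q with hgen
    have hperiod : g ^ p ^ (m + 1) = 1 := by rw [hg, ← map_pow, hpow x hx, map_one]
    have hconjfix : ∀ i : ℕ, ∀ b ∈ B,
        ((g ^ i * b * (g ^ i)⁻¹ : P) : MulAut (C ⧸ Z)) (π (α (x ^ i) q)) = π (α (x ^ i) q) := by
      intro i b hb
      have e : π (α (x ^ i) q) = ((g ^ i : P) : MulAut (C ⧸ Z)) (π q) := by
        rw [hg, ← map_pow]; rfl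
      rw [e, Subgroup.coe_mul, Subgroup.coe_mul, MulAut.mul_apply, MulAut.mul_apply, Subgroup.coe_inv,
        MulAut.inv_apply_self, hqfix b hb]
    have hnormal : ∀ d : ℕ, (∀ b ∈ B, g ^ d * b * (g ^ d)⁻¹ ∈ B) → p ^ (m + 1) ∣ d := by
      intro d hd
      by_contra hnd
      apply hyB
      obtain ⟨i, hi, hgcd⟩ := (Nat.dvd_prime_pow hp.out).1 (Nat.gcd_dvd_right d (p ^ (m + 1)))
      have him : i ≤ m := by
        by_contra h
        apply hnd
        have : p ^ (m + 1) ∣ Nat.gcd d (p ^ (m + 1)) := hgcd ▸ pow_dvd_pow p (by omega)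
        exact this.trans (Nat.gcd_dvd_left _ _)
      obtain ⟨k, hk⟩ : ∃ k : ℕ, g ^ p ^ i = (g ^ d) ^ k := by
        have hg' : orderOf g ∣ p ^ (m + 1) := orderOf_dvd_of_pow_eq_one hperiod
        obtain ⟨k, hk⟩ := (mem_powers_iff_mem_zpowers.2 (show g ^ p ^ i ∈ Subgroup.zpowers (g ^ d) by
          have h1 := Int.gcd_eq_gcd_ab (d : ℤ) ((p ^ (m + 1) : ℕ) : ℤ)
          rw [Int.gcd_natCast_natCast, hgcd] at h1
          refine ⟨Int.gcdA (d : ℤ) ((p ^ (m + 1) : ℕ) : ℤ), ?_⟩
          show (g ^ d) ^ _ = g ^ p ^ i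
          rw [← zpow_natCast g (p ^ i), h1, zpow_add, zpow_mul, zpow_mul, zpow_natCast, zpow_natCast,
            hperiod, one_zpow, mul_one]) : g ^ p ^ i ∈ Submonoid.powers (g ^ d))
        exact ⟨k, hk.symm⟩
      have hnat : ∀ n : ℕ, ∀ b ∈ B, (g ^ d) ^ n * b * ((g ^ d) ^ n)⁻¹ ∈ B := by
        intro n
        induction n with
        | zero => intro b hb; simpa using hb
        | succ n ih =>
          intro b hb
          have := ih _ (hd b hb)
          rw [pow_succ]
          convert this using 1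
          group
      intro b hb
      have hy' : y = (g ^ d) ^ (k * p ^ (m - i)) := by
        rw [pow_mul, ← hk, ← pow_mul, ← pow_add, show i + (m - i) = m by omega, hgy]
      rw [hy']
      exact hnat _ b hb
    have hgenc : ∀ a ∈ gen, ∀ b ∈ gen, a * b = b * a := by
      rintro _ ⟨i, rfl⟩ _ ⟨j, rfl⟩
      obtain ⟨d, hd⟩ : ∃ d : ℕ, x ^ j = x ^ i * x ^ d := by
        refine ⟨j + i * (p ^ (m + 1) - 1), ?_⟩
        have hpos : 1 ≤ p ^ (m + 1) := Nat.one_le_pow _ _ hp.out.pos
        have e : i + (j + i * (p ^ (m + 1) - 1)) = j + i * p ^ (m + 1) := by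
          have : i * p ^ (m + 1) = i * (p ^ (m + 1) - 1) + i := by
            rw [← Nat.mul_succ, Nat.succ_eq_add_one, Nat.sub_add_cancel hpos]
          omega
        rw [← pow_add, e, pow_add, mul_comm i, pow_mul, hpow x hx, one_pow, mul_one]
      have key2 : α (x ^ i) (q * α (x ^ d) q) = α (x ^ i) (α (x ^ d) q * q) := by
        congr 1
        by_cases hdn : ∀ b ∈ B, g ^ d * b * (g ^ d)⁻¹ ∈ B
        · obtain ⟨d', rfl⟩ := hnormal d hdn
          rw [pow_mul, hpow x hx, one_pow, map_one, MulAut.one_apply]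
        · exact commutatorElement_eq_one_iff_mul_comm.1 (hpair d hdn _ (hconjfix d))
      simp only [map_mul] at key2
      show α (x ^ i) q * α (x ^ j) q = α (x ^ j) q * α (x ^ i) q
      rw [hd]
      simpa [map_mul, MulAut.mul_apply] using key2
    haveI hBab := Subgroup.isMulCommutative_closure hgenc
    have hinv : ∀ b ∈ Subgroup.closure gen, α x b ∈ Subgroup.closure gen := by
      intro b hb
      induction hb using Subgroup.closure_induction with
      | mem a ha =>
        obtain ⟨i, rfl⟩ := ha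
        refine Subgroup.subset_closure ⟨i + 1, ?_⟩
        show α (x ^ (i + 1)) q = α x (α (x ^ i) q)
        rw [pow_succ', map_mul α, MulAut.mul_apply]
      | one => rw [map_one]; exact one_mem _
      | mul a b _ _ iha ihb => rw [map_mul]; exact mul_mem iha ihb
      | inv a _ iha => rw [map_inv]; exact inv_mem iha
    have hfixq := hab x hx _ hBab hinv q (Subgroup.subset_closure ⟨0, by simp⟩)
    have hyq : (y : MulAut (C ⧸ Z)) (π q) = π q := by
      show π (α (x ^ p ^ m) q) = π q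
      rw [hfixq]
    push Not at hyB
    obtain ⟨b₁, hb₁, hb₁B⟩ := hyB
    apply hqc
    -- every element of `A` fixes `π q`
    let F : Subgroup P :=
      { carrier := {b | (b : MulAut (C ⧸ Z)) (π q) = π q}
        one_mem' := rfl
        mul_mem' := fun {a b} (ha : _ = _) (hb : _ = _) => by
          show ((a * b : P) : MulAut (C ⧸ Z)) (π q) = π q
          rw [Subgroup.coe_mul, MulAut.mul_apply, hb, ha]
        inv_mem' := fun {a} (ha : _ = _) => by
          show ((a⁻¹ : P) : MulAut (C ⧸ Z)) (π q) = π q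
          rw [Subgroup.coe_inv, MulAut.inv_def, MulEquiv.symm_apply_eq, ha] }
    have hyF : y ∈ F := hyq
    have hb'F : y * b₁ * y⁻¹ ∈ F := mul_mem (mul_mem hyF (hqfix b₁ hb₁)) (inv_mem hyF)
    have hBn : Subgroup.zpowers c ≤ Subgroup.normalizer (B : Set P) := fun d hd => by
      obtain ⟨n, rfl⟩ := hd
      refine Subgroup.centralizer_le_normalizer _ (Subgroup.mem_centralizer_iff.2 fun b hb => ?_)
      exact ((hAc b (hBA hb) c hcA).zpow_right n).eq
    obtain ⟨b₂, hb₂, _, ⟨n, rfl⟩, he⟩ :=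
      (SolvBasic.mem_sup_iff_of_le_normalizer hBn).1 (hAB (hAn.conj_mem _ (hBA hb₁) y))
    replace he : y * b₁ * y⁻¹ = b₂ * c ^ n := he
    have hn : ¬ (p : ℤ) ∣ n := fun ⟨n', hn'⟩ => hb₁B (by
      rw [he, hn', zpow_mul, zpow_natCast, hAe.2 c hcA, one_zpow, mul_one]
      exact hb₂)
    have hcn : c ^ n ∈ F := by
      have e : c ^ n = b₂⁻¹ * (y * b₁ * y⁻¹) := by rw [he]; group
      rw [e]
      exact mul_mem (inv_mem (hqfix b₂ hb₂)) hb'F
    obtain ⟨s, t, hst⟩ := (Nat.prime_iff_prime_int.1 hp.out).coprime_iff_not_dvd.2 hn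
    have h2 : c = (c ^ p) ^ s * (c ^ n) ^ t := by
      rw [← zpow_natCast, ← zpow_mul, ← zpow_mul, ← zpow_add, mul_comm (p : ℤ), mul_comm n, hst,
        zpow_one]
    have : c ∈ F := by
      rw [h2, hAe.2 c hcA, one_zpow, one_mul]
      exact zpow_mem hcn t
    exact this
  -- conclusion
  have hcomm : β.rangeRestrict ⁅x₁ ^ p ^ m, x₂ ^ p ^ m⁆ = 1 := by
    rw [map_commutatorElement, commutatorElement_eq_one_iff_commute]
    exact hAc _ (key x₁ h₁) _ (key x₂ h₂)
  set d := ⁅x₁ ^ p ^ m, x₂ ^ p ^ m⁆ with hd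
  have hy0 : ∀ x ∈ S, ∀ z ∈ Z, α (x ^ p ^ m) z = z := fun x hx z hz => hab x hx Z inferInstance
    (fun b hb => (Subgroup.characteristic_iff_le_comap.1 inferInstance (α x)) hb) z hz
  have hdZ : ∀ z ∈ Z, α d z = z := by
    intro z hz
    let F : Subgroup T :=
      { carrier := {t | α t z = z}
        one_mem' := by show α 1 z = z; rw [map_one, MulAut.one_apply]
        mul_mem' := fun {a b} (ha : _ = _) (hb : _ = _) => by
          show α (a * b) z = z; rw [map_mul, MulAut.mul_apply, hb, ha]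
        inv_mem' := fun {a} (ha : _ = _) => by
          show α a⁻¹ z = z; rw [map_inv, MulAut.inv_def, MulEquiv.symm_apply_eq, ha] }
    have h1 : x₁ ^ p ^ m ∈ F := hy0 x₁ h₁ z hz
    have h2 : x₂ ^ p ^ m ∈ F := hy0 x₂ h₂ z hz
    exact mul_mem (mul_mem (mul_mem h1 h2) (inv_mem h1)) (inv_mem h2)
  ext u
  rw [MulAut.one_apply]
  have hu : u⁻¹ * α d u ∈ Z := by
    have h := congrArg (fun φ : P => (φ : MulAut (C ⧸ Z)) (π u)) hcomm
    exact QuotientGroup.eq.1 (show π u = π (α d u) from h.symm)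
  set e := u⁻¹ * α d u with he
  have hiter : ∀ i : ℕ, α (d ^ i) u = u * e ^ i := by
    intro i
    induction i with
    | zero => simp
    | succ i ih =>
      rw [pow_succ', map_mul, MulAut.mul_apply, ih, map_mul, map_pow, hdZ e hu, pow_succ', ← mul_assoc,
        show u * e = α d u by rw [he, mul_inv_cancel_left]]
  obtain ⟨i, hi⟩ := IsPGroup.iff_orderOf.1 hT d
  obtain ⟨j, hj⟩ := IsPGroup.iff_orderOf.1 hC e
  have h1 := hiter (p ^ i)
  rw [← hi, pow_orderOf_eq_one, map_one, MulAut.one_apply, left_eq_mul] at h1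
  have he1 : e = 1 := orderOf_eq_one_iff.1 (Nat.eq_one_of_dvd_coprimes
    (((Nat.coprime_primes Fact.out hp.out).2 hpr).pow j i) hj.dvd (hi ▸ orderOf_dvd_of_pow_eq_one h1))
  exact (inv_mul_eq_one.1 he1).symm

end Cfsg.Agent.PowerCommute

namespace Cfsg.Agent.PowerCommute

open Cfsg.Agent

variable {p : ℕ} [hp : Fact p.Prime]

/-- Power elements centralising every invariant abelian subgroup of a self-centralising normal
`p'`-subgroup commute. -/
theorem commute_of_centralizing {H : Type*} [Group H] [Finite H] (hp2 : p ≠ 2) (R : Subgroup H) [R.Normal]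
    (hRp : (Nat.card R).Coprime p) (hRC : Subgroup.centralizer (R : Set H) ≤ R) (T : Subgroup H)
    (hT : IsPGroup p T) (m : ℕ) (S : Set H) (hST : S ⊆ T) (hpow : ∀ x ∈ S, x ^ p ^ (m + 1) = 1)
    (hab : ∀ x ∈ S, ∀ B : Subgroup H, B ≤ R → IsMulCommutative B → (∀ b ∈ B, x * b * x⁻¹ ∈ B) →
      ∀ b ∈ B, Commute (x ^ p ^ m) b)
    {x₁ x₂ : H} (h₁ : x₁ ∈ S) (h₂ : x₂ ∈ S) : Commute (x₁ ^ p ^ m) (x₂ ^ p ^ m) := by
  classical
  set d := ⁅x₁ ^ p ^ m, x₂ ^ p ^ m⁆ with hd
  have hdT : d ∈ T := by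
    rw [hd, commutatorElement_def]
    exact mul_mem (mul_mem (mul_mem (pow_mem (hST h₁) _) (pow_mem (hST h₂) _))
      (inv_mem (pow_mem (hST h₁) _))) (inv_mem (pow_mem (hST h₂) _))
  have hTn : T ≤ Subgroup.normalizer (R : Set H) := fun t _ => by
    rw [Subgroup.normalizer_eq_top]; exact Subgroup.mem_top _
  have hTcop : (Nat.card T).Coprime (Nat.card R) := by
    obtain ⟨k, hk⟩ := IsPGroup.iff_card.1 hT
    rw [hk]
    exact hRp.symm.pow_left k
  haveI := hT.isNilpotent
  have hTs : Group.IsSolvable T := inferInstance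
  have hdR : d ∈ Subgroup.centralizer (R : Set H) := by
    have htop : ((Subgroup.centralizer ({d} : Set H)).subgroupOf R) = ⊤ := by
      refine FittingCores.eq_top_of_forall_sylow_le fun r hr => ?_
      have := Fact.mk hr
      obtain ⟨Q', hQ'⟩ := CoprimeAct.exists_invariant_sylow hTn hTcop (Or.inl hTs) r
      refine ⟨Q', fun t ht => Subgroup.mem_subgroupOf.2 (Subgroup.mem_centralizer_iff.2 fun z hz => ?_)⟩
      rw [Set.mem_singleton_iff.1 hz]
      set Q : Subgroup H := (Q' : Subgroup R).map R.subtype with hQ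
      have hQR : Q ≤ R := Subgroup.map_subtype_le _
      have hQr : IsPGroup r Q := Q'.isPGroup'.map _
      by_cases ht1 : (t : H) = 1
      · rw [ht1, mul_one, one_mul]
      have hrp : r ≠ p := by
        rintro rfl
        obtain ⟨k, hk, hk'⟩ : ∃ k, 0 < k ∧ Nat.card Q = r ^ k := by
          have : Nontrivial Q := ⟨⟨⟨(t : H), Subgroup.mem_map_of_mem _ ht⟩, 1,
            fun h => ht1 (congrArg Subtype.val h)⟩⟩
          exact hQr.nontrivial_iff_card.1 this
        exact hr.not_dvd_one (hRp ▸ Nat.dvd_gcd ((hk' ▸ dvd_pow_self r hk.ne').trans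
          (Subgroup.card_dvd_of_le hQR)) dvd_rfl)
      let α : T →* MulAut Q := (Subgroup.normalizerMonoidHom Q).comp (Subgroup.inclusion hQ')
      have hα : ∀ (s : T) (u : Q), ((α s u : Q) : H) = (s : H) * u * (s : H)⁻¹ := fun _ _ => rfl
      obtain ⟨C, hC⟩ := Critical.exists_critical hQr
      haveI := hC.char
      have hCinv : ∀ φ : MulAut Q, ∀ u ∈ C, φ u ∈ C := fun φ u hu =>
        Subgroup.characteristic_iff_le_comap.1 hC.char φ hu
      set αC := (OddOrder.RankTwoAut.restrictAut C hCinv).comp α with hαC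
      have hc2 : ∀ u v : C, ⁅u, v⁆ ∈ Subgroup.center C := fun u v => by
        have h := hC.comm (Subgroup.commutator_mem_commutator (Subgroup.mem_top (u : Q)) v.2)
        exact Subgroup.mem_center_iff.2 fun w =>
          Subtype.ext (Subgroup.mem_centralizer_iff.1 h.2 (w : Q) w.2)
      have h := commute_class_two (S := {x : T | (x : H) ∈ S}) hp2 hrp (hQr.to_subgroup C) hc2 hT αC m
        (fun x hx => Subtype.ext (hpow _ hx)) (fun x hx B hB hBinv b hb => ?_)
        (x₁ := ⟨x₁, hST h₁⟩) (x₂ := ⟨x₂, hST h₂⟩) h₁ h₂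
      · have hone : α (⟨d, hdT⟩ : T) = 1 := by
          refine hC.mulAut_eq_one' hQr ?_ fun u hu => ?_
          · obtain ⟨k, hk⟩ := IsPGroup.iff_orderOf.1 hT ⟨d, hdT⟩
            exact ((((Nat.coprime_primes hp.out hr).2 hrp.symm).pow_left k).coprime_dvd_left
              (hk ▸ orderOf_map_dvd α ⟨d, hdT⟩))
          · exact congrArg Subtype.val (DFunLike.congr_fun h ⟨u, hu⟩)
        have h2 := congrArg (fun φ : MulAut Q => ((φ ⟨t, Subgroup.mem_map_of_mem _ ht⟩ : Q) : H)) hone
        exact mul_inv_eq_iff_eq_mul.1 (show d * (t : H) * d⁻¹ = t from h2)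
      · haveI := hB
        set B' : Subgroup H := B.map (Q.subtype.comp C.subtype) with hB'
        have hB'R : B' ≤ R := by
          rintro _ ⟨u, -, rfl⟩
          exact hQR ((u : C) : Q).2
        have h3 := hab (x : H) hx B' hB'R inferInstance (by
          rintro _ ⟨u, hu, rfl⟩
          exact ⟨αC x u, hBinv u hu, rfl⟩) ((b : Q) : H) ⟨b, hb, rfl⟩
        refine Subtype.ext (Subtype.ext ?_)
        show ((x ^ p ^ m : T) : H) * ((b : Q) : H) * ((x ^ p ^ m : T) : H)⁻¹ = ((b : Q) : H)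
        rw [SubgroupClass.coe_pow, mul_inv_eq_iff_eq_mul]
        exact h3
    exact Subgroup.mem_centralizer_iff.2 fun t ht => (Subgroup.mem_centralizer_iff.1
      ((Subgroup.subgroupOf_eq_top.1 htop) ht) d rfl).symm
  obtain ⟨k, hk⟩ := IsPGroup.iff_orderOf.1 hT ⟨d, hdT⟩
  rw [Subgroup.orderOf_mk] at hk
  exact commutatorElement_eq_one_iff_commute.1 (orderOf_eq_one_iff.1 (Nat.eq_one_of_dvd_coprimes
    (hRp.pow_right k) (Subgroup.orderOf_dvd_natCard R (hRC hdR)) hk.dvd))

end Cfsg.Agent.PowerCommute
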