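import Cfsg.Agent.Lib.Solvable.HHApply
import Cfsg.Agent.Lib.Solvable.PowerCommute

/-!
The general exponent bound on the `p`-length for odd `p`: two steps of the series lower the exponent.
-/

set_option autoImplicit false
set_option linter.style.haveILetI false
set_option linter.unusedSectionVars false

open Module
open scoped commutatorElement

universe u

namespace Cfsg.Agent.HHExponent

open Cfsg.Agent

variable {p : ℕ} [hp : Fact p.Prime]

/-- A product of a vector and a conjugating element, as a norm. -/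
theorem mul_pow_eq {H : Type*} [Group H] {V : Type*} [AddCommGroup V] [Module (ZMod p) V]
    (emb : V → H) (h0 : emb 0 = 1) (hadd : ∀ a b, emb (a + b) = emb a * emb b)
    (T : Module.End (ZMod p) V) (xb : H) (hT : ∀ a, emb (T a) = xb * emb a * xb⁻¹) (w : V) :
    ∀ i : ℕ, (emb w * xb) ^ i = emb ((∑ j ∈ Finset.range i, T ^ j) w) * xb ^ i := by
  intro i
  induction i with
  | zero => simp [h0]
  | succ i ih =>
    rw [Finset.sum_range_succ', pow_zero, LinearMap.add_apply, Module.End.one_apply, add_comm _ w,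
      hadd, show (∑ j ∈ Finset.range i, T ^ (j + 1)) w = T ((∑ j ∈ Finset.range i, T ^ j) w) by
        rw [← Module.End.mul_apply, Finset.mul_sum]; simp [pow_succ'], hT, pow_succ' (emb w * xb), ih,
      pow_succ' xb]
    simp [mul_assoc]

variable {G : Type u} [Group G] [Finite G]

/-- Elements of a Sylow subgroup act with small degree on `O_p(G)/Φ`. -/
theorem sub_one_pow_eq_zero (hsol : Cfsg.IsPSolvable p G) (hO : Cfsg.pPrimeCore p G = ⊥) (n : ℕ)
    (hexp : ∀ (P : Sylow p G), ∀ x ∈ (P : Subgroup G), x ^ p ^ n = 1) :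
    ∃ (_ : (Cfsg.pCore p G).Normal)
      (ρ : G ⧸ Cfsg.pCore p G →* Module.End (ZMod p) (Additive (HHReduce.V p G))),
      Function.Injective ρ ∧ (∀ (x : G) (v : HHReduce.V p G),
        ((Additive.toMul (ρ (QuotientGroup.mk x) (Additive.ofMul v)) : HHReduce.V p G) :
          G ⧸ HHReduce.Phi p G) = (x : G ⧸ HHReduce.Phi p G) * v * (x : G ⧸ HHReduce.Phi p G)⁻¹) ∧
      ∀ (P : Sylow p G), ∀ x ∈ (P : Subgroup G), (ρ (QuotientGroup.mk x) - 1) ^ (p ^ n - 1) = 0 := by
  obtain ⟨hn, ρ, hρ, hρc⟩ := HHApply.exists_rep hsol hO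
  refine ⟨hn, ρ, hρ, hρc, fun P x hx => ?_⟩
  rw [HHLinear.sub_one_pow_pred (K := ZMod p)]
  refine LinearMap.ext fun w => ?_
  let emb : Additive (HHReduce.V p G) → G ⧸ HHReduce.Phi p G := fun w =>
    ((Additive.toMul w : HHReduce.V p G) : G ⧸ HHReduce.Phi p G)
  have key := mul_pow_eq emb rfl (fun _ _ => rfl) (ρ (QuotientGroup.mk x)) (x : G ⧸ HHReduce.Phi p G)
    (fun a => hρc x (Additive.toMul a)) w (p ^ n)
  obtain ⟨r, hr, hre⟩ := (Additive.toMul w : HHReduce.V p G).2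
  have hrP : r * x ∈ (P : Subgroup G) := mul_mem (FittingCores.pCore_le_sylow P hr) hx
  have h1 : (emb w * (x : G ⧸ HHReduce.Phi p G)) ^ p ^ n = 1 := by
    show ((((Additive.toMul w : HHReduce.V p G)) : G ⧸ HHReduce.Phi p G) * _) ^ p ^ n = 1
    rw [← hre, QuotientGroup.mk'_apply, ← QuotientGroup.mk_mul, ← QuotientGroup.mk_pow, hexp P _ hrP,
      QuotientGroup.mk_one]
  rw [h1, ← QuotientGroup.mk_pow, hexp P x hx, QuotientGroup.mk_one, mul_one] at key
  exact Additive.toMul.injective (Subtype.ext key.symm)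

/-- Elements of small degree power to elements centralising the invariant abelian `p'`-subgroups. -/
theorem centralizes_abelian {H : Type u} [Group H] [Finite H] {V : Type u} [AddCommGroup V]
    [Module (ZMod p) V] [FiniteDimensional (ZMod p) V] (ρ : H →* Module.End (ZMod p) V)
    (hρ : Function.Injective ρ) (x : H) (e : ℕ) (hx : x ^ p ^ (e + 1) = 1)
    (hdeg : (ρ x - 1) ^ (p ^ (e + 1) - 1) = 0) (B : Subgroup H) (hB : (Nat.card B).Coprime p)
    (hBc : IsMulCommutative B) (hBx : ∀ b ∈ B, x * b * x⁻¹ ∈ B) : ∀ b ∈ B, Commute (x ^ p ^ e) b := by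
  classical
  haveI := hBc
  by_contra hcon
  push Not at hcon
  obtain ⟨b₀, hb₀, hne⟩ := hcon
  have hord : orderOf x = p ^ (e + 1) := orderOf_eq_prime_pow (fun h => hne (by
    rw [h]; exact Commute.one_left b₀)) hx
  set A := Subgroup.zpowers x with hA
  have hAB : A ≤ Subgroup.normalizer (B : Set H) :=
    Subgroup.zpowers_le.2 (Carter.le_normalizer_of_conj_mem hBx)
  set K := B ⊔ A with hK
  set B₁ := B.subgroupOf K with hB₁
  have hBK : B ≤ K := le_sup_left
  have hxK : x ∈ K := Subgroup.mem_sup_right (Subgroup.mem_zpowers x)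
  haveI : B₁.Normal := Subgroup.normal_subgroupOf_of_le_normalizer
    (sup_le Subgroup.le_normalizer hAB)
  have hcardB₁ : Nat.card B₁ = Nat.card B := Nat.card_congr (Subgroup.subgroupOfEquivOfLe hBK).toEquiv
  have hidx : IsPGroup p (K ⧸ B₁) := by
    intro z
    obtain ⟨⟨k, hk⟩, rfl⟩ := QuotientGroup.mk'_surjective B₁ z
    refine ⟨e + 1, ?_⟩
    rw [← map_pow, QuotientGroup.mk'_apply, QuotientGroup.eq_one_iff]
    obtain ⟨b, hb, a, ⟨i, rfl⟩, he⟩ := (SolvBasic.mem_sup_iff_of_le_normalizer hAB).1 hk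
    have hkz : (QuotientGroup.mk' B₁) ⟨k, hk⟩ = (QuotientGroup.mk' B₁) ((⟨x, hxK⟩ : K) ^ i) := by
      have : (⟨k, hk⟩ : K) = (⟨b, hBK hb⟩ : K) * (⟨x, hxK⟩ : K) ^ i := Subtype.ext (by simpa using he)
      rw [this, map_mul, QuotientGroup.mk'_apply B₁ ⟨b, hBK hb⟩,
        (QuotientGroup.eq_one_iff _).2 (show (⟨b, hBK hb⟩ : K) ∈ B₁ from hb), one_mul]
    rw [← QuotientGroup.eq_one_iff]
    show QuotientGroup.mk' B₁ ((⟨k, hk⟩ : K) ^ p ^ (e + 1)) = 1
    rw [map_pow, hkz, ← map_pow, ← zpow_natCast, ← zpow_mul, mul_comm, zpow_mul, zpow_natCast,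
      show (⟨x, hxK⟩ : K) ^ p ^ (e + 1) = 1 from Subtype.ext hx, one_zpow, map_one]
  have hsolK : Cfsg.IsPSolvable p K := PSolvable.of_quotient B₁ (Or.inr (hcardB₁ ▸ hB))
    (PSolvable.of_isPGroup hidx)
  have hcore : Cfsg.pCore p K = ⊥ := by
    haveI := FittingCores.pCore_normal (G := K) p
    by_contra hne'
    have hN := FittingCores.pCore_isPGroup (G := K) p
    -- it centralises `B` and so lies in `⟨x ^ p⟩`
    have hcom : ∀ z ∈ Cfsg.pCore p K, ∀ b ∈ B₁, Commute z b := by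
      intro z hz b hb
      rw [← commutatorElement_eq_one_iff_commute]
      have h1 : ⁅z, b⁆ ∈ Cfsg.pCore p K := by
        rw [commutatorElement_def, mul_assoc, mul_assoc, ← mul_assoc b]
        exact mul_mem hz ((inferInstance : (Cfsg.pCore p K).Normal).conj_mem _ (inv_mem hz) b)
      have h2 : ⁅z, b⁆ ∈ B₁ := by
        rw [commutatorElement_def]
        exact mul_mem ((inferInstance : B₁.Normal).conj_mem _ hb z) (inv_mem hb)
      obtain ⟨k, hk⟩ := IsPGroup.iff_orderOf.1 hN ⟨_, h1⟩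
      rw [Subgroup.orderOf_mk] at hk
      exact orderOf_eq_one_iff.1 (Nat.eq_one_of_dvd_coprimes ((hcardB₁ ▸ hB).pow_right k)
        (Subgroup.orderOf_dvd_natCard B₁ h2) hk.dvd)
    obtain ⟨⟨z, hz⟩, hz1⟩ := Subgroup.ne_bot_iff_exists_ne_one.1 hne'
    obtain ⟨b, hb, a, ⟨i, rfl⟩, he⟩ := (SolvBasic.mem_sup_iff_of_le_normalizer hAB).1 (z : K).2
    have hz' : (z : H) = b * x ^ i := he
    have hzc : ∀ b' ∈ B, Commute (z : H) b' := fun b' hb' =>
      congrArg Subtype.val (hcom z hz ⟨b', hBK hb'⟩ hb').eq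
    have hxc : ∀ b' ∈ B, Commute (x ^ i) b' := fun b' hb' => by
      have hbb : Commute b b' := congrArg Subtype.val (mul_comm' (⟨b, hb⟩ : B) ⟨b', hb'⟩)
      have := hbb.inv_left.mul_left (hzc b' hb')
      rwa [hz', inv_mul_cancel_left] at this
    by_cases hi : (p : ℤ) ^ (e + 1) ∣ i
    · have hxi : x ^ i = 1 := orderOf_dvd_iff_zpow_eq_one.1 (by rw [hord]; exact_mod_cast hi)
      rw [hxi, mul_one] at hz'
      obtain ⟨k, hk⟩ := IsPGroup.iff_orderOf.1 hN ⟨z, hz⟩
      rw [Subgroup.orderOf_mk, ← Subgroup.orderOf_coe] at hk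
      refine hz1 (Subtype.ext (Subtype.ext (orderOf_eq_one_iff.1 (Nat.eq_one_of_dvd_coprimes
        (hB.pow_right k) ?_ hk.dvd))))
      rw [hz']
      exact Subgroup.orderOf_dvd_natCard B hb
    · -- then `x ^ p ^ e` is a power of `x ^ i`
      apply hne
      obtain ⟨j, hj, hgcd⟩ := (Nat.dvd_prime_pow hp.out).1
        (show Int.gcd i ((p ^ (e + 1) : ℕ) : ℤ) ∣ p ^ (e + 1) from
          Int.natCast_dvd_natCast.1 (Int.gcd_dvd_right _ _))
      have hje : j ≤ e := by
        by_contra h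
        apply hi
        have h1 := Int.gcd_dvd_left i ((p ^ (e + 1) : ℕ) : ℤ)
        rw [hgcd, show j = e + 1 by omega] at h1
        push_cast at h1
        exact h1
      have h1 := Int.gcd_eq_gcd_ab i ((p ^ (e + 1) : ℕ) : ℤ)
      rw [hgcd] at h1
      have h2 : x ^ p ^ j = (x ^ i) ^ Int.gcdA i ((p ^ (e + 1) : ℕ) : ℤ) := by
        rw [← zpow_natCast x (p ^ j), h1, zpow_add, zpow_mul, zpow_mul, zpow_natCast, hx, one_zpow, mul_one]
      obtain ⟨l, rfl⟩ := Nat.exists_eq_add_of_le hje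
      rw [pow_add, pow_mul, h2]
      exact ((hxc b₀ hb₀).zpow_left _).pow_left _
  rcases HHThmB.exists_bound (ρ.comp K.subtype) (hρ.comp K.subtype_injective) hsolK hcore ⟨x, hxK⟩
      (e + 1) (by omega) (by rw [Subgroup.orderOf_mk, hord]) with h | ⟨n₀, q, m, h1, -, hq, h3, h4, hQ, -⟩
  · exact h hdeg
  · -- the Sylow `q`-subgroups of `K` lie in `B`
    have := Fact.mk hq
    have hqp : q ≠ p := by
      rintro rfl
      have h5 : q ∣ q ^ n₀ - 1 := h4 ▸ dvd_pow_self q (by omega)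
      have h6 : q ∣ q ^ n₀ := dvd_pow_self q (by omega)
      have h7 : 1 ≤ q ^ n₀ := Nat.one_le_pow _ _ hq.pos
      exact hq.not_dvd_one ((Nat.dvd_sub h6 h5).trans (by rw [Nat.sub_sub_self h7]))
    obtain ⟨Q⟩ : Nonempty (Sylow q K) := inferInstance
    refine hQ Q ?_
    have hQB : (Q : Subgroup K) ≤ B₁ := by
      intro z hz
      rw [← QuotientGroup.eq_one_iff]
      obtain ⟨k, hk⟩ := IsPGroup.iff_orderOf.1 Q.isPGroup' ⟨z, hz⟩
      obtain ⟨l, hl⟩ := IsPGroup.iff_orderOf.1 hidx (z : K ⧸ B₁)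
      rw [Subgroup.orderOf_mk] at hk
      exact orderOf_eq_one_iff.1 (Nat.eq_one_of_dvd_coprimes
        (((Nat.coprime_primes hq hp.out).2 hqp).pow k l) (hk ▸ orderOf_map_dvd (QuotientGroup.mk' B₁) z)
        hl.dvd)
    refine .of_setLike_mul_comm fun a ha b hb => Subtype.ext ?_
    have := congrArg Subtype.val (mul_comm' (⟨(a : H), hQB ha⟩ : B) ⟨(b : H), hQB hb⟩)
    exact this

omit hp in
theorem pow_sub_le {n n₀ : ℕ} (hp3 : 3 ≤ p) (hn₀ : 1 ≤ n₀) (hle : n₀ ≤ n) :
    2 * p ^ (n - 1) ≤ p ^ (n - n₀) * (p ^ n₀ - 1) := by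
  obtain ⟨k, rfl⟩ := Nat.exists_eq_add_of_le hle
  obtain ⟨j, rfl⟩ := Nat.exists_eq_add_of_le hn₀
  have h1 : 2 * p ^ j + 1 ≤ p ^ (1 + j) := by
    have : 1 ≤ p ^ j := Nat.one_le_pow _ _ (by omega)
    rw [pow_add, pow_one]
    nlinarith
  rw [show 1 + j + k - (1 + j) = k by omega, show 1 + j + k - 1 = j + k by omega, pow_add]
  calc 2 * (p ^ j * p ^ k) = p ^ k * (2 * p ^ j) := by ring
    _ ≤ p ^ k * (p ^ (1 + j) - 1) := Nat.mul_le_mul_left _ (by omega)

theorem comap_U_le_add {H : Type u} [Group H] [Finite H] (f : G →* H) (hfs : Function.Surjective f)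
    (hker : f.ker = PSeries.U p G 2) (n : ℕ) : (PSeries.U p H n).comap f ≤ PSeries.U p G (2 + n) :=
  PSeries.le_U_of_chain (fun i => (PSeries.U p H i).comap f) 2 ⟨1, rfl⟩
    (le_of_eq (by rw [PSeries.U_zero, MonoidHom.comap_bot, hker]))
    (fun i => (PSeries.U_normal p _ i).comap f) (fun i => (PSeries.step_U i).of_dvd (by
      rw [Subgroup.relIndex_comap, Subgroup.map_comap_eq_self_of_surjective hfs])) n

/-- Two steps of the upper series lower the exponent. -/
theorem exponent_drop_two (hp2 : p ≠ 2) (hsol : Cfsg.IsPSolvable p G) (hO : Cfsg.pPrimeCore p G = ⊥)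
    (e : ℕ) (hexp : ∀ (P : Sylow p G), ∀ x ∈ (P : Subgroup G), x ^ p ^ (e + 1) = 1)
    (P : Sylow p G) {x : G} (hx : x ∈ (P : Subgroup G)) : x ^ p ^ e ∈ PSeries.U p G 4 := by
  classical
  have hp3 : 3 ≤ p := by have := hp.out.two_le; omega
  obtain ⟨hn, ρ, hρ, hρc, hdeg⟩ := sub_one_pow_eq_zero hsol hO (e + 1) hexp
  set g₁ := QuotientGroup.mk' (Cfsg.pCore p G) with hg₁
  have hg₁s : Function.Surjective g₁ := QuotientGroup.mk'_surjective _
  have hsolH : Cfsg.IsPSolvable p (G ⧸ Cfsg.pCore p G) := PSolvable.quotient _ hsol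
  have hOpH : Cfsg.pCore p (G ⧸ Cfsg.pCore p G) = ⊥ := PBasic.pCore_quotient_pCore p G
  set H := G ⧸ Cfsg.pCore p G
  haveI hRn := FittingCores.pPrimeCore_normal (G := H) p
  set g₂ := QuotientGroup.mk' (Cfsg.pPrimeCore p H) with hg₂
  have hg₂s : Function.Surjective g₂ := QuotientGroup.mk'_surjective _
  have hsolG₂ : Cfsg.IsPSolvable p (H ⧸ Cfsg.pPrimeCore p H) := PSolvable.quotient _ hsolH
  have hOG₂ : Cfsg.pPrimeCore p (H ⧸ Cfsg.pPrimeCore p H) = ⊥ :=
    PBasic.pPrimeCore_quotient_pPrimeCore p H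
  set G₂ := H ⧸ Cfsg.pPrimeCore p H
  have hexp₂ : ∀ (Q : Sylow p G₂), ∀ z ∈ (Q : Subgroup G₂), z ^ p ^ (e + 1) = 1 := by
    intro Q z hz
    obtain ⟨P₁, rfl⟩ := Sylow.mapSurjective_surjective hg₂s p Q
    obtain ⟨P₀, rfl⟩ := Sylow.mapSurjective_surjective hg₁s p P₁
    obtain ⟨_, ⟨w, hw, rfl⟩, rfl⟩ := hz
    rw [← map_pow, ← map_pow, hexp P₀ w hw, map_one, map_one]
  obtain ⟨hn₂, σ, hσ, hσc, -⟩ := sub_one_pow_eq_zero hsolG₂ hOG₂ (e + 1) hexp₂
  -- the commuting elements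
  have hcomm : ∀ a ∈ (P : Subgroup G), ∀ b ∈ (P : Subgroup G),
      Commute (g₁ a ^ p ^ e) (g₁ b ^ p ^ e) := by
    intro a ha b hb
    refine PowerCommute.commute_of_centralizing (H := H) hp2 (Cfsg.pPrimeCore p H)
      (FittingCores.pPrimeCore_coprime p) (HHThmB.centralizer_pPrimeCore_le hsolH hOpH)
      ((P : Subgroup G).map g₁) (P.isPGroup'.map g₁) e (g₁ '' (P : Subgroup G))
      (by rintro _ ⟨w, hw, rfl⟩; exact ⟨w, hw, rfl⟩) ?_ ?_ ⟨a, ha, rfl⟩ ⟨b, hb, rfl⟩
    · rintro _ ⟨w, hw, rfl⟩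
      rw [← map_pow, hexp P w hw, map_one]
    · rintro _ ⟨w, hw, rfl⟩ B hBR hBc hBx
      exact centralizes_abelian ρ hρ (g₁ w) e (by rw [← map_pow, hexp P w hw, map_one]) (hdeg P w hw) B
        ((FittingCores.pPrimeCore_coprime p).coprime_dvd_left (Subgroup.card_dvd_of_le hBR)) hBc hBx
  set P₂ : Sylow p G₂ := (P.mapSurjective hg₁s).mapSurjective hg₂s with hP₂
  set S := Cfsg.pCore p G₂ with hS
  have hfinal : g₂ (g₁ x) ^ p ^ e ∈ S := by
    by_contra hcon
    set z := g₂ (g₁ x) with hz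
    have hzord : orderOf (QuotientGroup.mk z : G₂ ⧸ S) = p ^ (e + 1) := by
      refine orderOf_eq_prime_pow (fun h => hcon ?_) ?_
      · rwa [← QuotientGroup.mk_pow, QuotientGroup.eq_one_iff] at h
      · rw [← QuotientGroup.mk_pow, ← map_pow, ← map_pow, hexp P x hx, map_one, map_one, QuotientGroup.mk_one]
    set T := σ (QuotientGroup.mk z) with hT
    have hlow : (T - 1) ^ (2 * p ^ e - 1) ≠ 0 := by
      intro h0
      have hmono : ∀ k, 2 * p ^ e - 1 ≤ k → (T - 1) ^ k = 0 := fun k hk => by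
        rw [← Nat.sub_add_cancel hk, pow_add, h0, mul_zero]
      rcases HHThmB.exists_bound σ hσ (PSolvable.quotient _ hsolG₂) (PBasic.pCore_quotient_pCore p G₂)
          (QuotientGroup.mk z) (e + 1) (by omega) hzord with h | ⟨n₀, q, m, h1, h2, -, -, -, -, h7⟩
      · refine h (hmono _ ?_)
        have h1 : 2 * p ^ e ≤ p ^ (e + 1) := by
          rw [pow_succ, mul_comm (p ^ e)]; exact Nat.mul_le_mul_right _ (by omega)
        omega
      · refine h7 (hmono _ ?_)
        have := pow_sub_le (p := p) hp3 h1 h2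
        rw [show e + 1 - 1 = e by omega] at this
        omega
    apply hlow
    refine LinearMap.ext fun w => ?_
    let emb : Additive (HHReduce.V p G₂) → G₂ ⧸ HHReduce.Phi p G₂ := fun w =>
      ((Additive.toMul w : HHReduce.V p G₂) : G₂ ⧸ HHReduce.Phi p G₂)
    have emb_inj : Function.Injective emb := fun a b h => Additive.toMul.injective (Subtype.ext h)
    set zb : G₂ ⧸ HHReduce.Phi p G₂ := (z : G₂ ⧸ HHReduce.Phi p G₂) with hzb
    have hTe : ∀ a, emb (T a) = zb * emb a * zb⁻¹ := fun a => hσc z (Additive.toMul a)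
    have key := mul_pow_eq emb rfl (fun _ _ => rfl) T zb hTe w (p ^ e)
    obtain ⟨r, hr, hre⟩ := (Additive.toMul w : HHReduce.V p G₂).2
    obtain ⟨_, ⟨s, hs, rfl⟩, hsr⟩ := (FittingCores.pCore_le_sylow P₂ hr : r ∈ (P₂ : Subgroup G₂))
    have hc := hcomm (s * x) (mul_mem hs hx) x hx
    replace hc := (hc.map g₂).map (QuotientGroup.mk' (HHReduce.Phi p G₂))
    rw [map_pow g₂, map_pow g₂, map_mul g₁, map_mul g₂, hsr, map_pow (QuotientGroup.mk' _),
      map_pow (QuotientGroup.mk' _), map_mul (QuotientGroup.mk' _), hre] at hc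
    replace hc : Commute ((emb w * zb) ^ p ^ e) (zb ^ p ^ e) := hc
    rw [key] at hc
    have hcN : Commute (emb ((∑ j ∈ Finset.range (p ^ e), T ^ j) w)) (zb ^ p ^ e) := by
      have := hc.mul_left (Commute.refl (zb ^ p ^ e)).inv_left
      rwa [mul_inv_cancel_right] at this
    have hTi : ∀ (i : ℕ) a, emb ((T ^ i) a) = zb ^ i * emb a * (zb ^ i)⁻¹ := by
      intro i
      induction i with
      | zero => simp
      | succ i ih =>
        intro a
        rw [pow_succ', Module.End.mul_apply, hTe, ih]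
        group
    have h2 : (T ^ p ^ e - 1) ((∑ j ∈ Finset.range (p ^ e), T ^ j) w) = 0 := by
      rw [LinearMap.sub_apply, Module.End.one_apply, sub_eq_zero]
      apply emb_inj
      rw [hTi, ← hcN.eq, mul_inv_cancel_right]
    rw [← HHLinear.sub_one_pow_pred (K := ZMod p)] at h2
    have hfr : T ^ p ^ e - 1 = (T - 1) ^ p ^ e := by
      have hpoly : ((Polynomial.X : Polynomial (ZMod p)) - 1) ^ p ^ e = Polynomial.X ^ p ^ e - 1 := by
        rw [sub_pow_char_pow, one_pow]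
      simpa using (congrArg (Polynomial.aeval T) hpoly).symm
    rw [hfr, ← Module.End.mul_apply, ← pow_add] at h2
    rw [LinearMap.zero_apply]
    have : 1 ≤ p ^ e := Nat.one_le_pow _ _ hp.out.pos
    rw [show 2 * p ^ e - 1 = p ^ e + (p ^ e - 1) by omega]
    exact h2
  -- transfer to the series
  have hU2 : Cfsg.pCore p G = PSeries.U p G 2 := by
    refine le_antisymm ?_ ?_
    · refine PSeries.le_succ_odd (n := 1) (by decide) ?_
      obtain ⟨m, hm⟩ := (FittingCores.pCore_isPGroup (G := G) p).exists_card_eq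
      exact ⟨m, by rw [PSeries.U_one (p := p) (G := G), hO, Subgroup.relIndex_bot_left, hm]⟩
    · refine FittingCores.le_pCore (PSeries.U_normal p G 2) ?_
      obtain ⟨m, hm⟩ := (PSeries.step_U (p := p) (G := G) 1).2 (by decide)
      rw [PSeries.U_one (p := p) (G := G), hO, Subgroup.relIndex_bot_left] at hm
      exact IsPGroup.of_card hm
  refine comap_U_le_add g₁ hg₁s (by rw [hg₁, QuotientGroup.ker_mk', hU2]) 2 ?_
  rw [Subgroup.mem_comap, PSeries.U_two]
  show g₂ (g₁ (x ^ p ^ e)) ∈ S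
  rw [map_pow, map_pow]
  exact hfinal

theorem pLengthLE_succ_succ {k : ℕ}
    (h : Cfsg.PLengthLE p k (G ⧸ PSeries.U p G 4)) : Cfsg.PLengthLE p (k + 2) G := by
  rw [PSeries.pLengthLE_iff] at h ⊢
  set f := QuotientGroup.mk' (PSeries.U p G 4) with hf
  have hle := PSeries.le_U_of_chain (fun i => (PSeries.U p (G ⧸ PSeries.U p G 4) i).comap f) 4 ⟨2, rfl⟩
    (le_of_eq (by rw [PSeries.U_zero, MonoidHom.comap_bot, hf, QuotientGroup.ker_mk']))
    (fun i => (PSeries.U_normal p _ i).comap f) (fun i => (PSeries.step_U i).of_dvd (by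
      rw [Subgroup.relIndex_comap, Subgroup.map_comap_eq_self_of_surjective (QuotientGroup.mk'_surjective _)]))
    (2 * k + 1)
  rw [h, Subgroup.comap_top] at hle
  rw [← top_le_iff]
  exact hle.trans (le_of_eq (by congr 1; omega))

/-- For odd `p` the `p`-length is at most twice the exponent. -/
theorem pLengthLE_two_mul (hp2 : p ≠ 2) : ∀ (e : ℕ) {G : Type u} [Group G] [Finite G],
    Cfsg.IsPSolvable p G → (∀ (P : Sylow p G), ∀ x ∈ (P : Subgroup G), x ^ p ^ e = 1) →
    Cfsg.PLengthLE p (2 * e) G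
  | 0, G, _, _, _, hexp => by
    rw [Nat.mul_zero, PSeries.pLengthLE_zero_iff]
    obtain ⟨P⟩ : Nonempty (Sylow p G) := inferInstance
    refine ((hp.out.coprime_iff_not_dvd).2 fun hd => P.not_dvd_index ?_).symm
    rwa [show (P : Subgroup G) = ⊥ from (Subgroup.eq_bot_iff_forall _).2 fun x hx => by
      simpa using hexp P x hx, Subgroup.index_bot]
  | e + 1, G, _, _, hsol, hexp => by
    have hn := FittingCores.pPrimeCore_normal (G := G) p
    set f := QuotientGroup.mk' (Cfsg.pPrimeCore p G) with hf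
    have hfs : Function.Surjective f := QuotientGroup.mk'_surjective _
    refine PSeries.pLengthLE_of_ker_coprime f ?_ ?_
    · rw [QuotientGroup.ker_mk']; exact FittingCores.pPrimeCore_coprime p
    set H := G ⧸ Cfsg.pPrimeCore p G
    have hsolH : Cfsg.IsPSolvable p H := PSolvable.quotient _ hsol
    have hOH : Cfsg.pPrimeCore p H = ⊥ := PBasic.pPrimeCore_quotient_pPrimeCore p G
    have hexpH : ∀ (P : Sylow p H), ∀ x ∈ (P : Subgroup H), x ^ p ^ (e + 1) = 1 := by
      intro P x hx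
      obtain ⟨Q, rfl⟩ := Sylow.mapSurjective_surjective hfs p P
      obtain ⟨y, hy, rfl⟩ := hx
      rw [← map_pow, hexp Q y hy, map_one]
    rw [show 2 * (e + 1) = 2 * e + 2 by ring]
    refine pLengthLE_succ_succ (pLengthLE_two_mul hp2 e (PSolvable.quotient _ hsolH) ?_)
    intro P y hy
    obtain ⟨Q, rfl⟩ := Sylow.mapSurjective_surjective (QuotientGroup.mk'_surjective (PSeries.U p H 4)) p P
    obtain ⟨x, hx, rfl⟩ := hy
    rw [← map_pow]
    exact (QuotientGroup.eq_one_iff _).2 (exponent_drop_two hp2 hsolH hOH e hexpH Q hx)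

/-- In the excluded configuration `p` is a Fermat prime and the Sylow `2`-subgroups are nonabelian. -/
theorem fermat_of_exc (hp2 : p ≠ 2) {G : Type*} [Group G] (h : HHApply.Exc p G) :
    (∃ k : ℕ, p = 2 ^ k + 1) ∧ ∀ S : Sylow 2 G, ¬ IsMulCommutative S := by
  obtain ⟨n₀, q, m, h1, hq, h3, h4, h5⟩ := h
  have hpos : 1 ≤ p ^ n₀ := Nat.one_le_pow _ _ hp.out.pos
  have hq2 : q = 2 := by
    obtain ⟨k, hk⟩ := (hp.out.odd_of_ne_two hp2).pow (n := n₀)
    have h2 : 2 ∣ q ^ m := ⟨k, by omega⟩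
    exact ((Nat.prime_dvd_prime_iff_eq Nat.prime_two hq).1 (Nat.prime_two.dvd_of_dvd_pow h2)).symm
  subst hq2
  refine ⟨?_, h5⟩
  have hd : p - 1 ∣ 2 ^ m := by
    rw [← h4]
    simpa using Nat.sub_dvd_pow_sub_pow p 1 n₀
  obtain ⟨k, -, hk⟩ := (Nat.dvd_prime_pow Nat.prime_two).1 hd
  exact ⟨k, by have := hp.out.two_le; omega⟩

end Cfsg.Agent.HHExponent
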