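import Cfsg.Agent.Lib.Solvable.Supersolvable
import Cfsg.Agent.Lib.Solvable.Coprime
import Cfsg.Agent.Lib.Solvable.Gaschutz
import Cfsg.Agent.S0580
import Mathlib.FieldTheory.Finite.GaloisField
import Mathlib.LinearAlgebra.Eigenspace.Minpoly
import Mathlib.Algebra.Module.ZMod

/-! Huppert's theorem: all maximal subgroups of prime index implies supersolvable. -/

set_option autoImplicit false
open scoped Pointwise commutatorElement

universe u

namespace Cfsg.Agent.SupSolv

variable {G : Type u} [Group G] [Finite G]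

omit [Finite G] in
lemma conj_pow_iter {g x : G} {m : ℤ} (h : g * x * g⁻¹ = x ^ m) (n : ℕ) :
    g ^ n * x * (g ^ n)⁻¹ = x ^ (m ^ n) := by
  induction n with
  | zero => simp
  | succ n ih =>
    calc g ^ (n + 1) * x * (g ^ (n + 1))⁻¹ = g * (g ^ n * x * (g ^ n)⁻¹) * g⁻¹ := by
          rw [pow_succ']; simp [mul_assoc]
      _ = (g * x * g⁻¹) ^ (m ^ n) := by rw [ih, conj_zpow]
      _ = _ := by rw [h, ← zpow_mul, pow_succ']

omit [Finite G] in
/-- An endomorphism `T` with `T ^ p = T` of a nonzero finite `ZMod p`-space has an eigenvector. -/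
lemma exists_eigen {p : ℕ} [Fact p.Prime] {V : Type*} [AddCommGroup V] [Module (ZMod p) V]
    [Finite V] [Nontrivial V] (T : Module.End (ZMod p) V) (hT : T ^ p = T) :
    ∃ (v : V) (k : ℕ), v ≠ 0 ∧ T v = k • v := by
  have hdvd : minpoly (ZMod p) T ∣ Polynomial.X ^ Nat.card (ZMod p) - Polynomial.X := by
    apply minpoly.dvd
    rw [map_sub, map_pow, Polynomial.aeval_X, Nat.card_zmod, hT, sub_self]
  have hne : (Polynomial.X ^ Nat.card (ZMod p) - Polynomial.X : Polynomial (ZMod p)) ≠ 0 := by
    rw [Nat.card_zmod]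
    exact FiniteField.X_pow_card_sub_X_ne_zero _ (Fact.out : p.Prime).one_lt
  have hsplit := (Polynomial.splits_X_pow_nat_card_sub_X (K := ZMod p)).of_dvd hne hdvd
  have : Module.Finite (ZMod p) V := Module.Finite.of_finite
  have hint : IsIntegral (ZMod p) T := Algebra.IsIntegral.isIntegral T
  obtain ⟨μ, hμ⟩ := hsplit.exists_eval_eq_zero (minpoly.degree_pos hint).ne'
  obtain ⟨v, hv⟩ := (Module.End.hasEigenvalue_of_isRoot hμ).exists_hasEigenvector
  refine ⟨v, μ.val, hv.2, ?_⟩
  rw [hv.apply_eq_smul, ← Nat.cast_smul_eq_nsmul (ZMod p), ZMod.natCast_zmod_val]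

omit [Finite G] in
lemma exists_eigen' {p : ℕ} [Fact p.Prime] {V : Type*} [AddCommGroup V] [Finite V] [Nontrivial V]
    (hexp : ∀ v : V, p • v = 0) (τ : V →+ V) (hτ : ∀ v, τ^[p] v = τ v) :
    ∃ (v : V) (k : ℕ), v ≠ 0 ∧ τ v = k • v := by
  letI : Module (ZMod p) V := AddCommGroup.zmodModule hexp
  let T : Module.End (ZMod p) V := AddMonoidHom.toZModLinearMap p τ
  exact exists_eigen T (LinearMap.ext fun x => by rw [Module.End.pow_apply]; exact hτ x)

/-- If `g ^ (p - 1)` centralises a nontrivial elementary abelian `p`-group `N` normalised by `g`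
then `g` has an eigenvector on `N`. -/
theorem exists_eigenvector {N : Subgroup G} [IsMulCommutative N] (hN : N ≠ ⊥) {p : ℕ}
    [Fact p.Prime] (hexp : ∀ x ∈ N, x ^ p = 1) {g : G}
    (hg : g ∈ Subgroup.normalizer (N : Set G))
    (hfix : ∀ x ∈ N, g ^ (p - 1) * x * (g ^ (p - 1))⁻¹ = x) :
    ∃ v ∈ N, v ≠ 1 ∧ ∃ k : ℕ, g * v * g⁻¹ = v ^ k := by
  letI iG : CommGroup N := { (inferInstance : Group N) with
    mul_comm := fun a b => Subtype.ext (setLike_mul_comm (s := N) a.2 b.2) }
  have hnt : Nontrivial (Additive N) := (Subgroup.nontrivial_iff_ne_bot N).2 hN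
  have hfin : Finite (Additive N) := inferInstanceAs (Finite N)
  let τ : Additive N →+ Additive N :=
    { toFun := fun x => Additive.ofMul
        ⟨g * (Additive.toMul x : N) * g⁻¹, (Subgroup.mem_normalizer_iff.1 hg _).1 (Additive.toMul x).2⟩
      map_zero' := Additive.toMul.injective (Subtype.ext (by simp))
      map_add' := fun x y => Additive.toMul.injective (Subtype.ext (by simp [mul_assoc])) }
  have hτ : ∀ (n : ℕ) (x : Additive N),
      ((Additive.toMul (τ^[n] x) : N) : G) = g ^ n * (Additive.toMul x : N) * (g ^ n)⁻¹ := by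
    intro n x
    induction n with
    | zero => simp
    | succ n ih =>
      rw [Function.iterate_succ_apply']
      change g * ((Additive.toMul (τ^[n] x) : N) : G) * g⁻¹ = _
      rw [ih, pow_succ']
      simp [mul_assoc]
  obtain ⟨v, k, hv, hk⟩ := exists_eigen' (fun x => Additive.toMul.injective (Subtype.ext (by
      rw [toMul_nsmul, SubmonoidClass.coe_pow]
      exact hexp _ (Additive.toMul x).2))) τ (fun x => Additive.toMul.injective (Subtype.ext (by
      rw [hτ]
      change _ = g * ((Additive.toMul x : N) : G) * g⁻¹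
      have hpp : p = 1 + (p - 1) := by have := (Fact.out : p.Prime).one_le; omega
      conv_lhs => rw [hpp, pow_add, pow_one]
      have h2 := hfix _ (Additive.toMul x).2
      calc g * g ^ (p - 1) * ((Additive.toMul x : N) : G) * (g * g ^ (p - 1))⁻¹
          = g * (g ^ (p - 1) * ((Additive.toMul x : N) : G) * (g ^ (p - 1))⁻¹) * g⁻¹ := by
            simp [mul_assoc]
        _ = _ := by rw [h2])))
  refine ⟨((Additive.toMul v : N) : G), (Additive.toMul v).2, fun h => hv ?_, k, ?_⟩
  · exact Additive.toMul.injective (Subtype.ext h)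
  · have h3 := congrArg (fun z => ((Additive.toMul z : N) : G)) hk
    simpa [τ] using h3

/-- In a supersolvable group a `p'`-element to the power `p - 1` centralises every normal
`p`-subgroup. -/
theorem pow_pred_centralizes (hG : Cfsg.IsSupersolvable G) :
    ∀ (p : ℕ) [Fact p.Prime] (R : Subgroup G), R.Normal → IsPGroup p R → ∀ g : G,
      (orderOf g).Coprime p → ∀ r ∈ R, g ^ (p - 1) * r = r * g ^ (p - 1) := by
  refine induction_on (P := fun G => ∀ (p : ℕ) [Fact p.Prime] (R : Subgroup G), R.Normal →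
    IsPGroup p R → ∀ g : G, (orderOf g).Coprime p → ∀ r ∈ R, g ^ (p - 1) * r = r * g ^ (p - 1))
    (fun G _ _ _ p _ R _ _ g _ r _ => Subsingleton.elim _ _)
    (fun G _ _ _ N hNn q hq hc ih p _ R hRn hR g hg r hr => ?_) hG
  have hp : p.Prime := Fact.out
  set h := g ^ (p - 1) with hh
  set f := QuotientGroup.mk' N
  have hRr : ∀ a : G, a * r * a⁻¹ * r⁻¹ ∈ R := fun a =>
    R.mul_mem (hRn.conj_mem r hr a) (R.inv_mem hr)
  have hNr : h * r * h⁻¹ * r⁻¹ ∈ N := by
    rw [← QuotientGroup.eq_one_iff]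
    change f _ = 1
    have h1 := ih p (R.map f) (hRn.map f (QuotientGroup.mk'_surjective N)) (hR.map f) (f g)
      (hg.coprime_dvd_left (orderOf_map_dvd f g)) (f r) (Subgroup.mem_map_of_mem f hr)
    rw [← map_pow, ← hh] at h1
    rw [map_mul, map_mul, map_mul, map_inv, map_inv, h1, mul_inv_cancel_right, mul_inv_cancel]
  have : Fact (Nat.card N).Prime := ⟨hc ▸ hq⟩
  rcases Subgroup.eq_bot_or_eq_top_of_prime_card ((R ⊓ N).subgroupOf N) with hb | hb
  · rw [Subgroup.subgroupOf_eq_bot, disjoint_iff, inf_assoc, inf_idem] at hb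
    have h1 : h * r * h⁻¹ * r⁻¹ ∈ R ⊓ N := ⟨hRr h, hNr⟩
    rw [hb, Subgroup.mem_bot, mul_inv_eq_one, mul_inv_eq_iff_eq_mul] at h1
    exact h1
  · rw [Subgroup.subgroupOf_eq_top] at hb
    have hNR : N ≤ R := hb.trans inf_le_left
    have : Fact q.Prime := ⟨hq⟩
    have hcyc : IsCyclic N := isCyclic_of_prime_card hc
    have hqp : q = p := by
      obtain ⟨k, hk⟩ := (hR.to_le hNR).exists_card_eq
      rw [hc] at hk
      exact (Nat.prime_dvd_prime_iff_eq hq hp).1 (hq.dvd_of_dvd_pow (dvd_of_eq hk))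
    subst hqp
    have hfixN : ∀ x ∈ N, h * x = x * h := by
      intro x hx
      obtain ⟨m, hm⟩ := exists_conj_eq_zpow (N := N) g
      rcases eq_or_ne x 1 with rfl | hx1
      · simp
      have hord : orderOf x = q := by
        have h2 := orderOf_dvd_natCard (⟨x, hx⟩ : N)
        rw [Subgroup.orderOf_mk, hc] at h2
        exact (hq.eq_one_or_self_of_dvd _ h2).resolve_left (mt orderOf_eq_one_iff.1 hx1)
      have hm0 : (m : ZMod q) ≠ 0 := by
        rw [Ne, ZMod.intCast_zmod_eq_zero_iff_dvd, ← hord, orderOf_dvd_iff_zpow_eq_one, ← hm x hx,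
          conj_eq_one_iff]
        exact hx1
      have h3 : x ^ (m ^ (q - 1)) = x := by
        have h4 : (m ^ (q - 1) : ℤ) ≡ 1 [ZMOD (orderOf x)] := by
          rw [hord, ← ZMod.intCast_eq_intCast_iff]
          push_cast
          exact ZMod.pow_card_sub_one_eq_one hm0
        conv_rhs => rw [← zpow_one x]
        exact zpow_eq_zpow_iff_modEq.2 h4
      rw [← mul_inv_eq_iff_eq_mul, hh, conj_pow_iter (hm x hx), h3]
    have hA : Subgroup.zpowers h ≤ Subgroup.centralizer (N : Set G) := by
      rw [Subgroup.zpowers_le, Subgroup.mem_centralizer_iff]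
      exact fun x hx => (hfixN x hx).symm
    have hnorm : ∀ X Y : Subgroup G, Y.Normal → X ≤ Subgroup.normalizer (Y : Set G) :=
      fun X Y hY => by have := hY; rw [Subgroup.normalizer_eq_top]; exact le_top
    have hcop : (Nat.card (Subgroup.zpowers h)).Coprime (Nat.card R) := by
      obtain ⟨k, hk⟩ := hR.exists_card_eq
      rw [hk, Nat.card_zpowers]
      exact (hg.coprime_dvd_left (orderOf_pow_dvd _)).pow_right k
    have hfix : ∀ a ∈ Subgroup.zpowers h, a * r * a⁻¹ * r⁻¹ ∈ N := by
      intro a ha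
      obtain ⟨i, rfl⟩ := Subgroup.mem_zpowers_iff.1 ha
      rw [← QuotientGroup.eq_one_iff]
      change f _ = 1
      have h1 : Commute (f h) (f r) := by
        rw [← commutatorElement_eq_one_iff_commute, ← map_commutatorElement]
        exact (QuotientGroup.eq_one_iff _).2 hNr
      rw [map_mul, map_mul, map_mul, map_inv, map_inv, map_zpow, (h1.zpow_left i).eq,
        mul_inv_cancel_right, mul_inv_cancel]
    obtain ⟨c, hc', hcN⟩ := CoprimeAct.exists_mem_centralizer (hnorm _ R hRn) hcop
      (Or.inr (by have := hR.isNilpotent; infer_instance)) hNR (hnorm _ N hNn) (hnorm _ N hNn) hr hfix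
    have h5 : r = c * (r⁻¹ * c)⁻¹ := by rw [mul_inv_rev, inv_inv, mul_inv_cancel_left]
    have h6 : Commute h c :=
      (Subgroup.mem_centralizer_iff.1 (Subgroup.mem_inf.1 hc').2 h (Subgroup.mem_zpowers h))
    rw [h5]
    exact h6.mul_right (Commute.inv_right (hfixN _ hcN))

theorem huppert (h : ∀ M : Subgroup G, IsCoatom M → M.index.Prime) :
    Cfsg.IsSupersolvable G := by
  induction hc : Nat.card G using Nat.strong_induction_on generalizing G with
  | _ n ih =>
  subst hc
  rcases subsingleton_or_nontrivial G with hG | hG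
  · exact of_subsingleton
  have hsolv : Group.IsSolvable G := Cfsg.Agent.S0580.result h
  have hquot : ∀ R : Subgroup G, ∀ _ : R.Normal, R ≠ ⊥ → Cfsg.IsSupersolvable (G ⧸ R) := by
    intro R _ hR
    refine ih _ (card_quotient_lt hR) (fun M hM => ?_) rfl
    have hsur := QuotientGroup.mk'_surjective R
    rw [← Subgroup.index_comap_of_surjective _ hsur]
    refine h _ ⟨fun hh => hM.1 (Subgroup.comap_injective hsur (hh.trans (Subgroup.comap_top _).symm)),
      fun B hB => ?_⟩
    have hker : (QuotientGroup.mk' R).ker ≤ B := (MonoidHom.ker_le_comap _ _).trans hB.le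
    have := hM.2 (B.map (QuotientGroup.mk' _)) (by
      rw [← Subgroup.comap_lt_comap_of_surjective hsur, Subgroup.comap_map_eq_self hker]
      exact hB)
    rw [← Subgroup.comap_map_eq_self hker, this, Subgroup.comap_top]
  obtain ⟨N, p, hp, hNn, hN, -, hNc, hexp, hNp, hmin⟩ :=
    SolvBasic.exists_minimal_normal_abelian (N := (⊤ : Subgroup G)) inferInstance
      (by exact top_ne_bot)
  have : Fact p.Prime := ⟨hp⟩
  by_cases huniq : ∀ R : Subgroup G, R.Normal → R ≠ ⊥ → N ≤ R
  swap
  · push_neg at huniq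
    obtain ⟨R, hRn, hR, hNR⟩ := huniq
    have hb : N ⊓ R = ⊥ := (hmin _ inferInstance inf_le_left).resolve_right fun h' =>
      hNR (inf_eq_left.1 h')
    refine of_injective (f := (QuotientGroup.mk' N).prod (QuotientGroup.mk' R)) ?_
      (prod (hquot N hNn hN) (hquot R hRn hR))
    rw [← MonoidHom.ker_eq_bot_iff, MonoidHom.ker_prod, QuotientGroup.ker_mk',
      QuotientGroup.ker_mk', hb]
  suffices hcyc : IsCyclic N from of_cyclic_normal N (hquot N hNn hN)
  by_cases hΦ : N ≤ frattini G
  swap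
  · obtain ⟨M, hM, hNM⟩ : ∃ M : Subgroup G, IsCoatom M ∧ ¬ N ≤ M := by
      by_contra hcon
      push_neg at hcon
      exact hΦ (le_iInf₂ hcon)
    have htop : N ⊔ M = ⊤ := hM.2 _ (right_lt_sup.2 hNM)
    have hb : N ⊓ M = ⊥ := by
      refine (hmin _ (SolvStruct.inf_normal_of_sup_eq_top htop) inf_le_left).resolve_right
        fun h' => hNM (inf_eq_left.1 h')
    have h1 := SolvBasic.card_sup_of_inf_eq_bot (H := M)
      (show M ≤ Subgroup.normalizer (N : Set G) by rw [Subgroup.normalizer_eq_top]; exact le_top) hb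
    rw [htop, Subgroup.card_top, ← M.index_mul_card] at h1
    have : Fact M.index.Prime := ⟨h M hM⟩
    exact isCyclic_of_prime_card (p := M.index) (Nat.eq_of_mul_eq_mul_right Nat.card_pos h1).symm
  have hnorm : ∀ X Y : Subgroup G, Y.Normal → X ≤ Subgroup.normalizer (Y : Set G) :=
    fun X Y hY => by have := hY; rw [Subgroup.normalizer_eq_top]; exact le_top
  set f := QuotientGroup.mk' N with hf
  have hfs := QuotientGroup.mk'_surjective N
  have hQ := hquot N hNn hN
  set P := Cfsg.pCore p G with hPdef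
  have hPn : P.Normal := FittingCores.pCore_normal p
  have hPp : IsPGroup p P := FittingCores.pCore_isPGroup p
  have hFP : Cfsg.fittingSubgroup G = P := by
    refine FittingCores.fitting_eq_pCore hp ?_
    by_contra hne
    have hle := huniq _ (FittingCores.pPrimeCore_normal p) hne
    obtain ⟨k, hk⟩ := hNp.exists_card_eq
    have h1 : (p ^ k).Coprime p :=
      (FittingCores.pPrimeCore_coprime p).coprime_dvd_left (hk ▸ Subgroup.card_dvd_of_le hle)
    rcases k with - | k
    · exact hN (Subgroup.eq_bot_of_card_eq _ (by simpa using hk))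
    · exact hp.one_lt.ne' (Nat.eq_one_of_dvd_coprimes h1 (dvd_pow_self p (Nat.succ_ne_zero k))
        dvd_rfl)
  have hGP : commutator G ≤ P := by
    have hA : (commutator G ⊔ N).Normal := inferInstance
    have hnil : Group.IsNilpotent (commutator G ⊔ N : Subgroup G) := by
      refine FittingCores.nilpotent_of_map_nilpotent hA le_sup_right hΦ ?_
      have heq : (commutator G ⊔ N).map f = commutator (G ⧸ N) := by
        rw [Subgroup.map_sup, hf, QuotientGroup.map_mk'_self, sup_bot_eq, commutator_def,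
          commutator_def, Subgroup.map_commutator, Subgroup.map_top_of_surjective _ hfs]
      rw [heq]
      exact commutator_nilpotent hQ
    exact le_sup_left.trans ((FittingCores.le_fitting hA hnil).trans hFP.le)
  have hNP : N ≤ P := FittingCores.le_pCore hNn hNp
  have hPNc : ∀ c ∈ P, ∀ x ∈ N, c * x = x * c := fun c hc' x hx =>
    (Subgroup.mem_centralizer_iff.1
      (SolvStruct.fitting_le_centralizer_minimal hN hmin (hFP.symm ▸ hc')) x hx).symm
  obtain ⟨S⟩ := (inferInstance : Nonempty (Sylow p G))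
  have hSP : (S : Subgroup G) = P := by
    refine le_antisymm ?_ (FittingCores.pCore_le_sylow S)
    refine FittingCores.le_pCore ⟨fun x hx g => ?_⟩ S.isPGroup'
    have h1 : g * x * g⁻¹ * x⁻¹ ∈ (S : Subgroup G) :=
      FittingCores.pCore_le_sylow S (hGP (Subgroup.commutator_mem_commutator
        (Subgroup.mem_top g) (Subgroup.mem_top x)))
    simpa using (S : Subgroup G).mul_mem h1 hx
  have hidx : p.Coprime P.index := hp.coprime_iff_not_dvd.2 (hSP ▸ S.not_dvd_index)
  have hΦP : (frattini P).map P.subtype ≠ ⊥ := by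
    intro h0
    rw [Subgroup.map_eq_bot_iff_of_injective _ P.subtype_injective] at h0
    have : IsMulCommutative (N.subgroupOf P : Subgroup P) :=
      .of_setLike_mul_comm fun a ha b hb => Subtype.ext (setLike_mul_comm (s := N) ha hb)
    obtain ⟨A, hA⟩ := SolvStruct.exists_complement_of_frattini_eq_bot h0 (N.subgroupOf P)
    have hsup : N ⊔ A.map P.subtype = P := by
      rw [← Subgroup.map_subgroupOf_eq_of_le hNP, ← Subgroup.map_sup, hA.sup_eq_top,
        ← MonoidHom.range_eq_map, Subgroup.range_subtype]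
    have hinf : A.map P.subtype ⊓ N = ⊥ := by
      rw [← Subgroup.map_subgroupOf_eq_of_le hNP, ← Subgroup.map_inf _ _ _ P.subtype_injective,
        inf_comm, hA.disjoint.eq_bot, Subgroup.map_bot]
    obtain ⟨k, hk⟩ := hNp.exists_card_eq
    obtain ⟨H, hH⟩ := SolvGaschutz.existence (K := N) hNP (hk ▸ hidx.pow_left k)
      (Subgroup.map_subtype_le A) hinf hsup
    have hHtop : H = ⊤ := frattini_nongenerating (top_le_iff.1
      (hH.sup_eq_top.ge.trans (sup_le (hΦ.trans le_sup_right) le_sup_left)))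
    exact hN (by simpa [hHtop] using hH.disjoint.eq_bot)
  have hNΦ : N ≤ (frattini P).map P.subtype :=
    huniq _ (FittingCores.normal_map_of_characteristic hPn inferInstance) hΦP
  have hcent : ∀ g : G, ∀ x ∈ N, g ^ (p - 1) * x * (g ^ (p - 1))⁻¹ = x := by
    intro g
    obtain ⟨k, hk⟩ := hPp.exists_card_eq
    have hcard : Nat.card G = p ^ k * P.index := by rw [← hk, P.card_mul_index]
    set g' := g ^ p ^ k
    have hord : (orderOf g').Coprime p := by
      refine hidx.symm.coprime_dvd_left (orderOf_dvd_of_pow_eq_one ?_)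
      rw [← pow_mul, ← hcard, pow_card_eq_one']
    set h' := g' ^ (p - 1)
    have hA : Subgroup.zpowers h' ≤ Subgroup.centralizer (P : Set G) := by
      have hPc : (Nat.card (Subgroup.zpowers h')).Coprime (Nat.card (frattini P)) := by
        obtain ⟨i, hi⟩ := (hPp.to_subgroup (frattini P)).exists_card_eq
        rw [Nat.card_zpowers, hi]
        exact (hord.coprime_dvd_left (orderOf_pow_dvd _)).pow_right i
      refine CoprimeAct.le_centralizer_of_frattini (hnorm _ P hPn) hPc fun a ha x hx => hNΦ ?_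
      obtain ⟨i, rfl⟩ := Subgroup.mem_zpowers_iff.1 ha
      rw [← QuotientGroup.eq_one_iff]
      change f _ = 1
      have h1 : Commute (f h') (f x) := by
        rw [map_pow]
        exact pow_pred_centralizes hQ p (P.map f) (hPn.map f hfs) (hPp.map f) (f g')
          (hord.coprime_dvd_left (orderOf_map_dvd f g')) (f x) (Subgroup.mem_map_of_mem f hx)
      rw [map_mul, map_mul, map_mul, map_inv, map_inv, map_zpow, (h1.zpow_left i).eq,
        mul_inv_cancel_right, mul_inv_cancel]
    let C := Subgroup.centralizer (N : Set G)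
    have h1 : g ^ (p ^ k * (p - 1)) ∈ C := by
      rw [pow_mul]
      exact Subgroup.centralizer_le hNP (hA (Subgroup.mem_zpowers h'))
    have h2 : g ^ P.index ∈ C := Subgroup.mem_centralizer_iff.2 fun x hx =>
      (hPNc _ (P.pow_index_mem g) x hx).symm
    have hd : Nat.gcd (p ^ k * (p - 1)) P.index ∣ p - 1 := by
      refine Nat.Coprime.dvd_of_dvd_mul_left ?_ (Nat.gcd_dvd_left _ _)
      exact ((hidx.pow_left k).symm.coprime_dvd_left (Nat.gcd_dvd_right _ _))
    have h3 : g ^ Nat.gcd (p ^ k * (p - 1)) P.index ∈ C := by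
      rw [← zpow_natCast, Nat.gcd_eq_gcd_ab, zpow_add, zpow_mul, zpow_mul, zpow_natCast,
        zpow_natCast]
      exact C.mul_mem (C.zpow_mem h1 _) (C.zpow_mem h2 _)
    obtain ⟨e, he⟩ := hd
    intro x hx
    have h4 : g ^ (p - 1) ∈ C := by rw [he, pow_mul]; exact C.pow_mem h3 e
    rw [mul_inv_eq_iff_eq_mul]
    exact (Subgroup.mem_centralizer_iff.1 h4 x hx).symm
  have hscal : ∀ g : G, ∃ k : ℕ, ∀ x ∈ N, g * x * g⁻¹ = x ^ k := by
    intro g
    obtain ⟨v, hv, hv1, k, hk⟩ := exists_eigenvector hN hexp (hnorm ⊤ N hNn (Subgroup.mem_top g))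
      (hcent g)
    have hpow : ∀ a ∈ N, ∀ b ∈ N, (a * b) ^ k = a ^ k * b ^ k := fun a ha b hb =>
      (show Commute a b from setLike_mul_comm (s := N) ha hb).mul_pow k
    let W : Subgroup G :=
      { carrier := {x | x ∈ N ∧ g * x * g⁻¹ = x ^ k}
        one_mem' := ⟨N.one_mem, by simp⟩
        mul_mem' := fun {a b} ha hb => ⟨N.mul_mem ha.1 hb.1, by
          rw [hpow a ha.1 b hb.1, ← ha.2, ← hb.2]; simp [mul_assoc]⟩
        inv_mem' := fun {a} ha => ⟨N.inv_mem ha.1, by
          rw [inv_pow, ← ha.2]; simp [mul_assoc]⟩ }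
    have hW : W.Normal := ⟨fun x hx y => ⟨hNn.conj_mem x hx.1 y, by
      have hc' : ⁅g, y⁆ ∈ P :=
        hGP (Subgroup.commutator_mem_commutator (Subgroup.mem_top g) (Subgroup.mem_top y))
      have h2 := hPNc _ hc' _ (hNn.conj_mem _ (N.pow_mem hx.1 k) y)
      rw [conj_pow]
      calc g * (y * x * y⁻¹) * g⁻¹ = ⁅g, y⁆ * (y * (g * x * g⁻¹) * y⁻¹) * ⁅g, y⁆⁻¹ := by
            simp [commutatorElement_def, mul_assoc]
        _ = ⁅g, y⁆ * (y * x ^ k * y⁻¹) * ⁅g, y⁆⁻¹ := by rw [hx.2]
        _ = _ := by rw [h2, mul_inv_cancel_right]⟩⟩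
    refine ⟨k, fun x hx => ?_⟩
    have hWN : W = N := (hmin W hW fun y hy => hy.1).resolve_left fun h0 => hv1 (by
      rw [← Subgroup.mem_bot, ← h0]; exact ⟨hv, hk⟩)
    exact (hWN.ge hx).2
  obtain ⟨⟨v, hv⟩, hv1'⟩ := Subgroup.ne_bot_iff_exists_ne_one.1 hN
  have hv1 : v ≠ 1 := fun h => hv1' (Subtype.ext h)
  have hvn : (Subgroup.zpowers v).Normal := ⟨fun x hx g => by
    obtain ⟨k, hk⟩ := hscal g
    obtain ⟨i, rfl⟩ := Subgroup.mem_zpowers_iff.1 hx
    rw [← conj_zpow, hk v hv, ← zpow_natCast, ← zpow_mul]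
    exact Subgroup.zpow_mem_zpowers v _⟩
  have hNv : N = Subgroup.zpowers v := ((hmin _ hvn (Subgroup.zpowers_le.2 hv)).resolve_left
    fun h0 => hv1 (Subgroup.zpowers_eq_bot.1 h0)).symm
  exact hNv ▸ Subgroup.isCyclic_zpowers v

end Cfsg.Agent.SupSolv
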