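import Cfsg.Prelude.Def_SolvableStructure
import Cfsg.Agent.Lib.Solvable.Structure
import Cfsg.Agent.Lib.Solvable.Hall

/-! Supersolvable groups. -/

set_option autoImplicit false
open scoped Pointwise commutatorElement

universe u v

namespace Cfsg.Agent.SupSolv

variable {G : Type u} [Group G] {H : Type v} [Group H]

/-- Conjugation acts on a normal cyclic subgroup by powers. -/
lemma exists_conj_eq_zpow {N : Subgroup G} [N.Normal] [IsCyclic N] (g : G) :
    ∃ m : ℤ, ∀ x ∈ N, g * x * g⁻¹ = x ^ m := by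
  obtain ⟨m, hm⟩ := MonoidHom.map_cyclic (MulAut.conjNormal (H := N) g).toMonoidHom
  exact ⟨m, fun x hx => congrArg Subtype.val (hm ⟨x, hx⟩)⟩

lemma normal_of_le_cyclic {N D : Subgroup G} [N.Normal] [IsCyclic N] (hD : D ≤ N) : D.Normal :=
  ⟨fun x hx g => by
    obtain ⟨m, hm⟩ := exists_conj_eq_zpow (N := N) g
    rw [hm x (hD hx)]
    exact D.zpow_mem hx m⟩

lemma commutator_le_centralizer_of_cyclic {N : Subgroup G} [N.Normal] [IsCyclic N] :
    commutator G ≤ Subgroup.centralizer (N : Set G) := by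
  rw [commutator_def, Subgroup.commutator_le]
  intro g _ h _
  rw [Subgroup.mem_centralizer_iff]
  intro x hx
  obtain ⟨m, hm⟩ := exists_conj_eq_zpow (N := N) g
  obtain ⟨n, hn⟩ := exists_conj_eq_zpow (N := N) h
  have h1 : ∀ y ∈ N, g * h * y * (g * h)⁻¹ = h * g * y * (h * g)⁻¹ := by
    intro y hy
    calc g * h * y * (g * h)⁻¹ = g * (h * y * h⁻¹) * g⁻¹ := by simp [mul_assoc]
      _ = (y ^ n) ^ m := by rw [hn y hy, hm _ (N.zpow_mem hy n)]
      _ = (y ^ m) ^ n := by rw [← zpow_mul, ← zpow_mul, mul_comm]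
      _ = h * (g * y * g⁻¹) * h⁻¹ := by rw [hm y hy, hn _ (N.zpow_mem hy m)]
      _ = _ := by simp [mul_assoc]
  have h2 := h1 _ ((inferInstance : N.Normal).conj_mem' x hx (h * g))
  have h3 : ⁅g, h⁆ * x * ⁅g, h⁆⁻¹ = x := by
    refine Eq.trans ?_ (Eq.trans h2 ?_)
    · simp [commutatorElement_def, mul_assoc]
    · simp [mul_assoc]
  exact (mul_inv_eq_iff_eq_mul.1 h3).symm

/-- A normal series with cyclic factors, in the form of the definition, from cyclic images. -/
lemma eq_sup_zpowers_iff {N X : Subgroup G} [N.Normal] (hNX : N ≤ X) :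
    (∃ g : G, X = N ⊔ Subgroup.zpowers g) ↔ IsCyclic (X.map (QuotientGroup.mk' N)) := by
  constructor
  · rintro ⟨g, hg⟩
    have hgX : g ∈ X := hg ▸ Subgroup.mem_sup_right (Subgroup.mem_zpowers g)
    refine ⟨⟨⟨QuotientGroup.mk' N g, Subgroup.mem_map_of_mem _ hgX⟩, ?_⟩⟩
    rintro ⟨y, hy⟩
    rw [hg, Subgroup.map_sup, QuotientGroup.map_mk'_self, bot_sup_eq, MonoidHom.map_zpowers] at hy
    obtain ⟨k, hk⟩ := Subgroup.mem_zpowers_iff.1 hy
    exact ⟨k, Subtype.ext hk⟩
  · intro hc
    obtain ⟨⟨y, hy⟩, hgen⟩ := hc.exists_generator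
    obtain ⟨g, hg, rfl⟩ := hy
    refine ⟨g, le_antisymm (fun x hx => ?_) (sup_le hNX (Subgroup.zpowers_le.2 hg))⟩
    obtain ⟨k, hk⟩ := Subgroup.mem_zpowers_iff.1 (hgen ⟨_, Subgroup.mem_map_of_mem _ hx⟩)
    have hk' : QuotientGroup.mk' N g ^ k = QuotientGroup.mk' N x := congrArg Subtype.val hk
    have h1 : (g ^ k)⁻¹ * x ∈ N := by
      rw [← QuotientGroup.eq_one_iff]
      change QuotientGroup.mk' N _ = 1
      rw [map_mul, map_inv, map_zpow, hk', inv_mul_cancel]
    have h2 := Subgroup.mul_mem _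
      (Subgroup.mem_sup_right (S := N) (Subgroup.zpow_mem_zpowers g k))
      (Subgroup.mem_sup_left (T := Subgroup.zpowers g) h1)
    rwa [mul_inv_cancel_left] at h2

theorem of_surjective {f : G →* H} (hf : Function.Surjective f) (hG : Cfsg.IsSupersolvable G) :
    Cfsg.IsSupersolvable H := by
  obtain ⟨n, S, h0, h1, hn, hs⟩ := hG
  refine ⟨n, fun i => (S i).map f, by simp only [h0, Subgroup.map_bot],
    by simp only [h1, Subgroup.map_top_of_surjective f hf], fun i => (hn i).map f hf, fun i => ?_⟩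
  obtain ⟨g, hg⟩ := hs i
  exact ⟨f g, by simp only [hg, Subgroup.map_sup, MonoidHom.map_zpowers]⟩

theorem subgroup (hG : Cfsg.IsSupersolvable G) (L : Subgroup G) : Cfsg.IsSupersolvable L := by
  obtain ⟨n, S, h0, h1, hn, hs⟩ := hG
  refine ⟨n, fun i => (S i).subgroupOf L, by simp only [h0, Subgroup.bot_subgroupOf],
    by simp only [h1, Subgroup.top_subgroupOf], fun i => (hn i).comap L.subtype, fun i => ?_⟩
  have := hn i.castSucc
  have hle : S i.castSucc ≤ S i.succ := by
    obtain ⟨g, hg⟩ := hs i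
    rw [hg]; exact le_sup_left
  have hcyc := (eq_sup_zpowers_iff hle).1 (hs i)
  have hN : ((S i.castSucc).subgroupOf L).Normal := (hn i.castSucc).comap L.subtype
  refine (eq_sup_zpowers_iff (Subgroup.comap_mono hle)).2 ?_
  have hker : ((S i.castSucc).subgroupOf L) ≤ ((QuotientGroup.mk' (S i.castSucc)).comp L.subtype).ker := by
    intro x hx
    rw [MonoidHom.mem_ker]
    exact (QuotientGroup.eq_one_iff (x : G)).2 hx
  let φ : ((S i.succ).subgroupOf L).map (QuotientGroup.mk' ((S i.castSucc).subgroupOf L)) →*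
      (S i.succ).map (QuotientGroup.mk' (S i.castSucc)) :=
    ((QuotientGroup.lift _ ((QuotientGroup.mk' (S i.castSucc)).comp L.subtype) hker).comp
      (Subgroup.subtype _)).codRestrict _ fun y => by
        obtain ⟨x, hx, hxy⟩ := y.2
        simp only [MonoidHom.comp_apply, Subgroup.subtype_apply, ← hxy]
        exact Subgroup.mem_map_of_mem _ hx
  have hφ : Function.Injective φ := (injective_iff_map_eq_one φ).2 fun y hy => by
    obtain ⟨x, hx, hxy⟩ := y.2
    have h2 : QuotientGroup.mk' (S i.castSucc) (x : G) = 1 := by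
      have := congrArg Subtype.val hy
      change QuotientGroup.lift _ _ hker (y : L ⧸ _) = 1 at this
      rw [← hxy] at this
      exact this
    refine Subtype.ext ?_
    rw [← hxy]
    exact (QuotientGroup.eq_one_iff x).2 ((QuotientGroup.eq_one_iff (x : G)).1 h2)
  exact isCyclic_of_injective φ hφ

theorem of_injective {f : H →* G} (hf : Function.Injective f) (hG : Cfsg.IsSupersolvable G) :
    Cfsg.IsSupersolvable H :=
  of_surjective (f := (MonoidHom.ofInjective hf).symm.toMonoidHom)
    (MonoidHom.ofInjective hf).symm.surjective (subgroup hG f.range)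

theorem quotient (hG : Cfsg.IsSupersolvable G) (N : Subgroup G) [N.Normal] :
    Cfsg.IsSupersolvable (G ⧸ N) :=
  of_surjective (QuotientGroup.mk'_surjective N) hG

theorem of_subsingleton [Subsingleton G] : Cfsg.IsSupersolvable G :=
  ⟨0, fun _ => ⊥, rfl, Subsingleton.elim _ _, fun _ => inferInstance, fun i => i.elim0⟩

theorem of_cyclic_normal (N : Subgroup G) [N.Normal] [IsCyclic N]
    (h : Cfsg.IsSupersolvable (G ⧸ N)) : Cfsg.IsSupersolvable G := by
  obtain ⟨n, S, h0, h1, hn, hs⟩ := h
  refine ⟨n + 1, Fin.cases ⊥ fun i => (S i).comap (QuotientGroup.mk' N), rfl, ?_, fun i => ?_,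
    fun i => ?_⟩
  · simp only [← Fin.succ_last, Fin.cases_succ, h1, Subgroup.comap_top]
  · refine Fin.cases ?_ (fun j => ?_) i
    · simp only [Fin.cases_zero]; infer_instance
    · simp only [Fin.cases_succ]; exact (hn j).comap _
  · refine Fin.cases ?_ (fun j => ?_) i
    · obtain ⟨⟨x, hxN⟩, hx⟩ := (inferInstance : IsCyclic N).exists_generator
      refine ⟨x, ?_⟩
      simp only [Fin.cases_succ, Fin.castSucc_zero, Fin.cases_zero, bot_sup_eq, h0,
        MonoidHom.comap_bot, QuotientGroup.ker_mk']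
      refine le_antisymm (fun y hy => ?_) (Subgroup.zpowers_le.2 hxN)
      obtain ⟨k, hk⟩ := Subgroup.mem_zpowers_iff.1 (hx ⟨y, hy⟩)
      exact Subgroup.mem_zpowers_iff.2 ⟨k, congrArg Subtype.val hk⟩
    · obtain ⟨y, hy⟩ := hs j
      obtain ⟨g, rfl⟩ := QuotientGroup.mk'_surjective N y
      refine ⟨g, ?_⟩
      simp only [Fin.castSucc_succ, Fin.cases_succ]
      apply (Subgroup.map_injective_of_ker_le (QuotientGroup.mk' N))
      · exact MonoidHom.ker_le_comap _ _
      · exact le_sup_of_le_left (MonoidHom.ker_le_comap _ _)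
      · rw [Subgroup.map_sup, Subgroup.map_comap_eq_self_of_surjective
          (QuotientGroup.mk'_surjective N), Subgroup.map_comap_eq_self_of_surjective
          (QuotientGroup.mk'_surjective N), MonoidHom.map_zpowers, hy]

theorem exists_prime_normal [Finite G] [Nontrivial G] (hG : Cfsg.IsSupersolvable G) :
    ∃ (N : Subgroup G) (p : ℕ), p.Prime ∧ N.Normal ∧ Nat.card N = p := by
  obtain ⟨n, S, h0, h1, hn, hs⟩ := hG
  obtain ⟨C, hCn, hCc, hC⟩ : ∃ C : Subgroup G, C.Normal ∧ IsCyclic C ∧ C ≠ ⊥ := by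
    by_contra hcon
    push_neg at hcon
    have : ∀ i, S i = ⊥ := fun i => Fin.induction h0 (fun j hj => by
      obtain ⟨g, hg⟩ := hs j
      rw [hj, bot_sup_eq] at hg
      exact hcon _ (hn j.succ) (hg.symm ▸ Subgroup.isCyclic_zpowers g)) i
    exact top_ne_bot (h1.symm.trans (this _))
  obtain ⟨p, hp, hpd⟩ := Nat.exists_prime_and_dvd (fun h => hC (Subgroup.eq_bot_of_card_eq _ h))
  have : Fact p.Prime := ⟨hp⟩
  obtain ⟨x, hx⟩ := exists_prime_orderOf_dvd_card' (G := C) p hpd
  refine ⟨(Subgroup.zpowers (x : G)), p, hp,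
    normal_of_le_cyclic (N := C) (Subgroup.zpowers_le.2 x.2), ?_⟩
  rw [Nat.card_zpowers, Subgroup.orderOf_coe, hx]

lemma card_quotient_lt [Finite G] {N : Subgroup G} [N.Normal] (h : N ≠ ⊥) :
    Nat.card (G ⧸ N) < Nat.card G := by
  have h1 := N.card_eq_card_quotient_mul_card_subgroup
  have h2 := Subgroup.one_lt_card_iff_ne_bot N |>.2 h
  have h3 := Nat.card_pos (α := G ⧸ N)
  nlinarith

lemma ne_bot_of_card_prime {N : Subgroup G} {p : ℕ} (hp : p.Prime) (h : Nat.card N = p) :
    N ≠ ⊥ := fun hb => by rw [hb, Subgroup.card_bot] at h; exact hp.one_lt.ne h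

/-- Induction along normal subgroups of prime order. -/
theorem induction_on {P : ∀ (G : Type u) [Group G] [Finite G], Prop}
    (htriv : ∀ (G : Type u) [Group G] [Finite G] [Subsingleton G], P G)
    (hstep : ∀ (G : Type u) [Group G] [Finite G], Cfsg.IsSupersolvable G →
      ∀ (N : Subgroup G) [N.Normal] (p : ℕ), p.Prime → Nat.card N = p → P (G ⧸ N) → P G)
    {G : Type u} [Group G] [Finite G] (hG : Cfsg.IsSupersolvable G) : P G := by
  induction hc : Nat.card G using Nat.strong_induction_on generalizing G with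
  | _ n ih =>
  subst hc
  rcases subsingleton_or_nontrivial G with h | h
  · exact htriv G
  obtain ⟨N, p, hp, hN, hc⟩ := exists_prime_normal hG
  exact hstep G hG N p hp hc
    (ih _ (card_quotient_lt (ne_bot_of_card_prime hp hc)) (quotient hG N) rfl)

theorem isSolvable [Finite G] (hG : Cfsg.IsSupersolvable G) : Group.IsSolvable G := by
  refine induction_on (P := fun G => Group.IsSolvable G) (fun G => inferInstance)
    (fun G _ _ _ N _ p hp hc hq => ?_) hG
  have : Fact p.Prime := ⟨hp⟩
  have := hq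
  have hcyc : IsCyclic N := isCyclic_of_prime_card hc
  open scoped IsMulCommutative in
  exact Group.isSolvable_of_ker_le_range N.subtype (QuotientGroup.mk' N)
    (by rw [QuotientGroup.ker_mk', Subgroup.range_subtype])

theorem prod [Finite G] (hG : Cfsg.IsSupersolvable G) (hH : Cfsg.IsSupersolvable H) :
    Cfsg.IsSupersolvable (G × H) := by
  refine induction_on (P := fun G => Cfsg.IsSupersolvable (G × H)) (fun G => ?_)
    (fun G _ _ _ N _ p hp hc hq => ?_) hG
  · exact of_injective (f := MonoidHom.snd G H) (fun a b h => Prod.ext (Subsingleton.elim _ _) h) hH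
  have : Fact p.Prime := ⟨hp⟩
  let f : G × H →* (G ⧸ N) × H := (QuotientGroup.mk' N).prodMap (MonoidHom.id H)
  have hf : Function.Surjective f :=
    (QuotientGroup.mk'_surjective N).prodMap Function.surjective_id
  have hk : f.ker = N.prod ⊥ := by
    rw [MonoidHom.ker_prodMap, QuotientGroup.ker_mk', MonoidHom.ker_id]
  have hcyc : IsCyclic f.ker := by
    refine isCyclic_of_prime_card (p := p) ?_
    rw [hk, Nat.card_congr (Subgroup.prodEquiv N (⊥ : Subgroup H)).toEquiv, Nat.card_prod, hc,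
      Subgroup.card_bot, mul_one]
  exact of_cyclic_normal f.ker (of_injective
    (f := (QuotientGroup.quotientKerEquivOfSurjective f hf).toMonoidHom)
    (QuotientGroup.quotientKerEquivOfSurjective f hf).injective hq)

theorem commutator_nilpotent [Finite G] (hG : Cfsg.IsSupersolvable G) :
    Group.IsNilpotent (commutator G) := by
  refine induction_on (P := fun G => Group.IsNilpotent (commutator G))
    (fun G => inferInstance) (fun G _ _ _ N _ p hp hc hq => ?_) hG
  have : Fact p.Prime := ⟨hp⟩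
  have : IsCyclic N := isCyclic_of_prime_card hc
  let f := QuotientGroup.mk' N
  have heq : (commutator G).map f = commutator (G ⧸ N) := by
    rw [commutator_def, commutator_def, Subgroup.map_commutator,
      Subgroup.map_top_of_surjective _ (QuotientGroup.mk'_surjective N)]
  have : Group.IsNilpotent ((commutator G).map f) := heq ▸ hq
  refine Subgroup.isNilpotent_of_ker_le_center (f.subgroupMap (commutator G)) fun x hx => ?_
  rw [Subgroup.mem_center_iff]
  intro y
  have hxN : (x : G) ∈ N := (QuotientGroup.eq_one_iff _).1 (congrArg Subtype.val hx)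
  exact Subtype.ext
    (Subgroup.mem_centralizer_iff.1 (commutator_le_centralizer_of_cyclic (N := N) y.2) x hxN).symm

theorem index_coatom_prime [Finite G] (hG : Cfsg.IsSupersolvable G) :
    ∀ M : Subgroup G, IsCoatom M → M.index.Prime := by
  refine induction_on (P := fun G => ∀ M : Subgroup G, IsCoatom M → M.index.Prime)
    (fun G _ _ _ M hM => absurd (Subsingleton.elim M ⊤) hM.1)
    (fun G _ _ _ N hNn p hp hc hq M hM => ?_) hG
  have : Fact p.Prime := ⟨hp⟩
  by_cases hle : N ≤ M
  · have hsur := QuotientGroup.mk'_surjective N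
    have hker : (QuotientGroup.mk' N).ker ≤ M := by rwa [QuotientGroup.ker_mk']
    rw [← Subgroup.index_map_eq M hsur hker]
    refine hq _ ⟨fun h => hM.1 ?_, fun B hB => ?_⟩
    · rw [← Subgroup.comap_map_eq_self hker, h, Subgroup.comap_top]
    · have := hM.2 (B.comap (QuotientGroup.mk' N)) (lt_of_le_of_lt (Subgroup.le_comap_map _ M)
        ((Subgroup.comap_lt_comap_of_surjective hsur).2 hB))
      rw [← Subgroup.map_comap_eq_self_of_surjective hsur B, this,
        Subgroup.map_top_of_surjective _ hsur]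
  · have htop : N ⊔ M = ⊤ := hM.2 _ (right_lt_sup.2 hle)
    have hb : N ⊓ M = ⊥ := by
      have : Fact (Nat.card N).Prime := ⟨hc ▸ hp⟩
      rcases Subgroup.eq_bot_or_eq_top_of_prime_card ((N ⊓ M).subgroupOf N) with h | h
      · rw [Subgroup.subgroupOf_eq_bot, disjoint_iff] at h
        rwa [inf_comm N M, inf_assoc, inf_idem, inf_comm] at h
      · rw [Subgroup.subgroupOf_eq_top] at h
        exact absurd (h.trans inf_le_right) hle
    have hn : M ≤ Subgroup.normalizer (N : Set G) := by
      rw [Subgroup.normalizer_eq_top]; exact le_top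
    have h1 := Cfsg.Agent.SolvBasic.card_sup_of_inf_eq_bot hn hb
    rw [htop, Subgroup.card_top, ← M.index_mul_card, hc] at h1
    rw [Nat.eq_of_mul_eq_mul_right Nat.card_pos h1]
    exact hp

theorem hasSubgroupOfEveryOrder [Finite G] (hG : Cfsg.IsSupersolvable G) :
    Cfsg.HasSubgroupOfEveryOrder G := by
  refine induction_on (P := fun G => Cfsg.HasSubgroupOfEveryOrder G)
    (fun G _ _ _ d hd => ⟨⊥, by
      rw [Nat.card_eq_one_iff_unique.2 ⟨inferInstance, inferInstance⟩, Nat.dvd_one] at hd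
      rw [hd, Subgroup.card_bot]⟩)
    (fun G _ _ hG N _ p hp hc hq d hd => ?_) hG
  have h1 := N.card_eq_card_quotient_mul_card_subgroup
  rw [hc] at h1
  by_cases hpd : p ∣ d
  · obtain ⟨e, rfl⟩ := hpd
    rw [h1, mul_comm (Nat.card _) p] at hd
    obtain ⟨L, hL⟩ := hq e ((mul_dvd_mul_iff_left hp.ne_zero).1 hd)
    exact ⟨L.comap (QuotientGroup.mk' N), by rw [HallSolv.card_comap_mk, hc, hL]⟩
  · have hco : d.Coprime p := (hp.coprime_iff_not_dvd.2 hpd).symm
    obtain ⟨L, hL⟩ := hq d (hco.dvd_of_dvd_mul_right (h1 ▸ hd))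
    set T := L.comap (QuotientGroup.mk' N)
    have := isSolvable (subgroup hG T)
    have hT : Nat.card T = d * p := by rw [HallSolv.card_comap_mk, hc, hL, mul_comm]
    obtain ⟨D, hD⟩ := HallSolv.exists_hall (G := T) hT hco
    exact ⟨D.map T.subtype, by
      rw [Nat.card_congr (D.equivMapOfInjective _ T.subtype_injective).toEquiv.symm, hD]⟩

lemma card_comap_dvd [Finite G] {N : Subgroup G} [N.Normal] {P : Subgroup G} {L : Subgroup (G ⧸ N)}
    (h : P.map (QuotientGroup.mk' N) = L) (hP : P ⊓ N = ⊥) : Nat.card P = Nat.card L := by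
  rw [← h, SolvBasic.card_map_mk'_of_inf_eq_bot hP]

theorem sylow_normal_of_max [Finite G] (hG : Cfsg.IsSupersolvable G) :
    ∀ (p : ℕ) [Fact p.Prime], (∀ q : ℕ, q.Prime → q ∣ Nat.card G → q ≤ p) →
      ∀ P : Sylow p G, (P : Subgroup G).Normal := by
  refine induction_on (P := fun G => ∀ (p : ℕ) [Fact p.Prime],
    (∀ q : ℕ, q.Prime → q ∣ Nat.card G → q ≤ p) → ∀ P : Sylow p G, (P : Subgroup G).Normal)
    (fun G _ _ _ p _ _ P => ⟨fun x hx g => by rwa [Subsingleton.elim (g * x * g⁻¹) x]⟩)
    (fun G _ _ hG N hNn q hq hc ih p _ hmax P => ?_) hG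
  have hp : p.Prime := Fact.out
  have hsur := QuotientGroup.mk'_surjective N
  have hcard := N.card_eq_card_quotient_mul_card_subgroup
  have hPn := ih p (fun r hr hrd => hmax r hr (hrd.trans N.card_quotient_dvd_card))
    (P.mapSurjective hsur)
  rw [Sylow.coe_mapSurjective] at hPn
  set T := ((P : Subgroup G).map (QuotientGroup.mk' N)).comap (QuotientGroup.mk' N) with hT
  have hTn : T.Normal := hPn.comap _
  have hPT : (P : Subgroup G) ≤ T := Subgroup.le_comap_map _ _
  have hqp : q ≤ p := hmax q hq (hc ▸ N.card_subgroup_dvd_card)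
  have hnormal : ((P : Subgroup G).subgroupOf T).Normal := by
    by_cases hNP : N ≤ (P : Subgroup G)
    · have : (P : Subgroup G) = T := by
        rw [hT, Subgroup.comap_map_eq_self (by rwa [QuotientGroup.ker_mk'])]
      rw [← this, Subgroup.subgroupOf_self]
      infer_instance
    have hn : (P : Subgroup G) ≤ Subgroup.normalizer (N : Set G) := by
      rw [Subgroup.normalizer_eq_top]; exact le_top
    have hb : N ⊓ (P : Subgroup G) = ⊥ := by
      have : Fact (Nat.card N).Prime := ⟨hc ▸ hq⟩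
      rcases Subgroup.eq_bot_or_eq_top_of_prime_card ((N ⊓ (P : Subgroup G)).subgroupOf N) with h | h
      · rw [Subgroup.subgroupOf_eq_bot, disjoint_iff] at h
        rwa [inf_comm N, inf_assoc, inf_idem, inf_comm] at h
      · rw [Subgroup.subgroupOf_eq_top] at h
        exact absurd (h.trans inf_le_right) hNP
    have hTc : Nat.card T = q * Nat.card (P : Subgroup G) := by
      rw [hT, Subgroup.comap_map_eq, QuotientGroup.ker_mk', sup_comm,
        SolvBasic.card_sup_of_inf_eq_bot hn hb, hc]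
    have h1 := card_sylow_modEq_one p T
    have h2 := (P.subtype hPT).card_dvd_index
    rw [Sylow.coe_subtype] at h2
    have hi : ((P : Subgroup G).subgroupOf T).index = q := by
      have h3 := ((P : Subgroup G).subgroupOf T).index_mul_card
      rw [Nat.card_congr (Subgroup.subgroupOfEquivOfLe hPT).toEquiv, hTc] at h3
      exact Nat.eq_of_mul_eq_mul_right Nat.card_pos h3
    rw [hi] at h2
    rcases hq.eq_one_or_self_of_dvd _ h2 with h3 | h3
    · have : Subsingleton (Sylow p T) := (Nat.card_eq_one_iff_unique.1 h3).1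
      have := Sylow.normal_of_subsingleton (P.subtype hPT)
      rwa [Sylow.coe_subtype] at this
    · exfalso
      rw [h3] at h1
      rcases hqp.lt_or_eq with hlt | heq
      · exact hq.one_lt.ne' (Nat.ModEq.eq_of_lt_of_lt h1 hlt hp.one_lt)
      · rw [heq, Nat.ModEq, Nat.mod_self, Nat.one_mod_eq_one.2 hp.one_lt.ne'] at h1
        exact zero_ne_one h1
  have hchar : ((P : Subgroup G).subgroupOf T).Characteristic := by
    have := Sylow.characteristic_of_normal (P.subtype hPT) (by rwa [Sylow.coe_subtype])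
    rwa [Sylow.coe_subtype] at this
  have := Cfsg.Agent.FittingCores.normal_map_of_characteristic hTn hchar
  rwa [Subgroup.map_subgroupOf_eq_of_le hPT] at this

theorem exists_prime_normal_le [Finite G] (hG : Cfsg.IsSupersolvable G) :
    ∀ R : Subgroup G, R.Normal → R ≠ ⊥ →
      ∃ (N : Subgroup G) (p : ℕ), p.Prime ∧ N.Normal ∧ N ≤ R ∧ Nat.card N = p := by
  refine induction_on (P := fun G => ∀ R : Subgroup G, R.Normal → R ≠ ⊥ →
      ∃ (N : Subgroup G) (p : ℕ), p.Prime ∧ N.Normal ∧ N ≤ R ∧ Nat.card N = p)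
    (fun G _ _ _ R _ hR => absurd (Subsingleton.elim R ⊥) hR)
    (fun G _ _ _ N hNn q hq hc ih R hRn hR => ?_) hG
  by_cases hNR : N ≤ R
  · exact ⟨N, q, hq, hNn, hNR, hc⟩
  have hb : R ⊓ N = ⊥ := by
    have : Fact (Nat.card N).Prime := ⟨hc ▸ hq⟩
    rcases Subgroup.eq_bot_or_eq_top_of_prime_card ((R ⊓ N).subgroupOf N) with h | h
    · rw [Subgroup.subgroupOf_eq_bot, disjoint_iff] at h
      rwa [inf_assoc, inf_idem] at h
    · rw [Subgroup.subgroupOf_eq_top] at h
      exact absurd (h.trans inf_le_left) hNR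
  have hsur := QuotientGroup.mk'_surjective N
  obtain ⟨L, p, hp, hLn, hLR, hLc⟩ := ih (R.map (QuotientGroup.mk' N)) (hRn.map _ hsur) fun h => by
    rw [Subgroup.map_eq_bot_iff, QuotientGroup.ker_mk'] at h
    exact hR (by rw [← inf_eq_left.2 h, hb])
  refine ⟨L.comap (QuotientGroup.mk' N) ⊓ R, p, hp, ?_, inf_le_right, ?_⟩
  · have := hLn.comap (QuotientGroup.mk' N)
    infer_instance
  · rw [← SolvBasic.card_map_mk'_of_inf_eq_bot (M := N) (le_bot_iff.1
      ((inf_le_inf_right N inf_le_right).trans hb.le)), ← hLc]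
    congr 2
    refine le_antisymm ((Subgroup.map_mono inf_le_left).trans (Subgroup.map_comap_le _ _))
      fun y hy => ?_
    obtain ⟨x, hx, rfl⟩ := hLR hy
    exact Subgroup.mem_map_of_mem _ ⟨hy, hx⟩

/-- A normal subgroup of order the largest prime divisor of the group order. -/
theorem exists_max_prime_normal [Finite G] [Nontrivial G] (hG : Cfsg.IsSupersolvable G) :
    ∃ (N : Subgroup G) (p : ℕ), p.Prime ∧ N.Normal ∧ Nat.card N = p ∧
      ∀ q : ℕ, q.Prime → q ∣ Nat.card G → q ≤ p := by
  have hne : (Nat.card G).primeFactors.Nonempty :=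
    Nat.nonempty_primeFactors.2 Finite.one_lt_card
  set p := (Nat.card G).primeFactors.max' hne
  obtain ⟨hp, hpd, -⟩ := Nat.mem_primeFactors.1 ((Nat.card G).primeFactors.max'_mem hne)
  have hmax : ∀ q : ℕ, q.Prime → q ∣ Nat.card G → q ≤ p := fun q hq hqd =>
    Finset.le_max' _ _ (Nat.mem_primeFactors.2 ⟨hq, hqd, Nat.card_pos.ne'⟩)
  have : Fact p.Prime := ⟨hp⟩
  obtain ⟨P⟩ := (inferInstance : Nonempty (Sylow p G))
  obtain ⟨N, q, hq, hN, hNP, hc⟩ := exists_prime_normal_le hG (P : Subgroup G)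
    (sylow_normal_of_max hG p hmax P) (P.ne_bot_of_dvd_card hpd)
  refine ⟨N, p, hp, hN, ?_, hmax⟩
  obtain ⟨k, hk⟩ := (P.isPGroup'.to_le hNP).exists_card_eq
  rw [hc] at hk
  rw [hc, (Nat.prime_dvd_prime_iff_eq hq hp).1 (hq.dvd_of_dvd_pow (dvd_of_eq hk))]

theorem exists_decreasing_series [Finite G] (hG : Cfsg.IsSupersolvable G) :
    ∃ (n : ℕ) (S : Fin (n + 1) → Subgroup G), S 0 = ⊥ ∧ S (Fin.last n) = ⊤ ∧ (∀ i, (S i).Normal) ∧
      (∀ i : Fin n, S i.castSucc ≤ S i.succ ∧ ((S i.castSucc).relIndex (S i.succ)).Prime) ∧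
      ∀ i j : Fin n, i ≤ j →
        (S j.castSucc).relIndex (S j.succ) ≤ (S i.castSucc).relIndex (S i.succ) := by
  induction hc : Nat.card G using Nat.strong_induction_on generalizing G with
  | _ m ih =>
  subst hc
  rcases subsingleton_or_nontrivial G with h | h
  · exact ⟨0, fun _ => ⊥, rfl, Subsingleton.elim _ _, fun _ => inferInstance, fun i => i.elim0,
      fun i => i.elim0⟩
  obtain ⟨N, p, hp, hN, hNc, hmax⟩ := exists_max_prime_normal hG
  obtain ⟨n, S, h0, h1, hn, hs, hd⟩ :=
    ih _ (card_quotient_lt (ne_bot_of_card_prime hp hNc)) (quotient hG N) rfl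
  have hsur := QuotientGroup.mk'_surjective N
  let T : Fin (n + 2) → Subgroup G := Fin.cases ⊥ fun i => (S i).comap (QuotientGroup.mk' N)
  have hr : ∀ j : Fin n, (T j.succ.castSucc).relIndex (T j.succ.succ) =
      (S j.castSucc).relIndex (S j.succ) := fun j => by
    simp only [T, Fin.castSucc_succ, Fin.cases_succ]
    rw [Subgroup.relIndex_comap, Subgroup.map_comap_eq_self_of_surjective hsur]
  have hr0 : (T (0 : Fin (n + 1)).castSucc).relIndex (T (0 : Fin (n + 1)).succ) = p := by
    simp only [T, Fin.castSucc_zero, Fin.cases_zero, Fin.cases_succ, h0, MonoidHom.comap_bot,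
      QuotientGroup.ker_mk', Subgroup.relIndex_bot_left, hNc]
  refine ⟨n + 1, T, rfl, ?_, fun i => ?_, fun i => ?_, fun i j hij => ?_⟩
  · simp only [T, ← Fin.succ_last, Fin.cases_succ, h1, Subgroup.comap_top]
  · refine Fin.cases ?_ (fun j => ?_) i
    · simp only [T, Fin.cases_zero]; infer_instance
    · simp only [T, Fin.cases_succ]; exact (hn j).comap _
  · refine Fin.cases ?_ (fun j => ?_) i
    · refine ⟨?_, by rw [hr0]; exact hp⟩
      simp only [T, Fin.castSucc_zero, Fin.cases_zero]
      exact bot_le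
    · refine ⟨?_, by rw [hr]; exact (hs j).2⟩
      simp only [T, Fin.castSucc_succ, Fin.cases_succ]
      exact Subgroup.comap_mono (hs j).1
  · revert hij
    refine Fin.cases ?_ (fun i => ?_) i <;> refine Fin.cases ?_ (fun j => ?_) j <;> intro hij
    · exact le_rfl
    · rw [hr, hr0]
      refine hmax _ (hs j).2 ?_
      refine (Subgroup.relIndex_dvd_card _ _).trans ?_
      exact (Subgroup.card_subgroup_dvd_card _).trans N.card_quotient_dvd_card
    · exact absurd hij (by simp)
    · rw [hr, hr]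
      exact hd i j (Fin.succ_le_succ_iff.1 hij)

end Cfsg.Agent.SupSolv
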