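import Cfsg.Agent.Lib.Solvable.Fitting
import Cfsg.Agent.Lib.FGStruct.Counting
import Cfsg.Agent.Lib.LocalEven.Wielandt
import Cfsg.Agent.Lib.Char.PrimeCodegree
import Mathlib.GroupTheory.SchurZassenhaus
import Mathlib.GroupTheory.Nilpotent

/-!
Groups whose class sizes fall into two kinds with disjoint sets of primes (Bertram, Herzog, Mann):
modulo the centre they are Frobenius groups with abelian kernel and complement.
-/

set_option autoImplicit false
set_option linter.style.haveILetI false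
set_option linter.unusedSectionVars false

open scoped commutatorElement

universe u

namespace Cfsg.Agent.ClassGraph

variable {G : Type u} [Group G]

/-- The size of the class of `g`. -/
noncomputable def sz (g : G) : ℕ := (Subgroup.centralizer ({g} : Set G)).index

theorem mem_cent {g h : G} : h ∈ Subgroup.centralizer ({g} : Set G) ↔ g * h = h * g := by
  simp [Subgroup.mem_centralizer_iff]

variable [Finite G]

theorem sz_pos (g : G) : 0 < sz g := Nat.pos_of_ne_zero Subgroup.index_ne_zero_of_finite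

theorem card_class (g : G) : Nat.card {z : G // IsConj g z} = sz g := by
  have h1 := Counting.card_carrier_mul g
  have h2 := (Subgroup.centralizer ({g} : Set G)).index_mul_card
  have h3 : Nat.card {z : G // IsConj g z} = Nat.card (ConjClasses.mk g).carrier :=
    Nat.card_congr (Equiv.subtypeEquivRight fun z => by
      rw [ConjClasses.mem_carrier_iff_mk_eq, ConjClasses.mk_eq_mk_iff_isConj]
      exact isConj_comm)
  rw [h3, sz]
  exact Nat.eq_of_mul_eq_mul_right Nat.card_pos (h1.trans h2.symm)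

theorem orderOf_conj' (c g : G) : orderOf (c * g * c⁻¹) = orderOf g :=
  orderOf_injective (MulAut.conj c).toMonoidHom (MulAut.conj c).injective g

theorem sz_conj (c g : G) : sz (c * g * c⁻¹) = sz g := by
  rw [← card_class, ← card_class]
  have h : IsConj g (c * g * c⁻¹) := isConj_iff.2 ⟨c, rfl⟩
  exact Nat.card_congr (Equiv.subtypeEquivRight fun z => ⟨h.trans, h.symm.trans⟩)

theorem sz_one_iff {g : G} : sz g = 1 ↔ g ∈ Subgroup.center G := by
  rw [sz, Subgroup.index_eq_one, Subgroup.eq_top_iff', Subgroup.mem_center_iff]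
  simp only [mem_cent]
  exact forall_congr' fun _ => eq_comm

/-- Coprime indices give a factorisation. -/
theorem exists_mul_of_coprime {C D : Subgroup G} (h : C.index.Coprime D.index) (g : G) :
    ∃ u ∈ C, ∃ v ∈ D, g = u * v := by
  classical
  have h1 : D.relIndex C * C.index = C.relIndex D * D.index := by
    rw [← Subgroup.inf_relIndex_right D C, ← Subgroup.inf_relIndex_left D C,
      Subgroup.relIndex_mul_index inf_le_right, Subgroup.relIndex_mul_index inf_le_left]
  have h2 : D.index ∣ D.relIndex C :=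
    h.symm.dvd_of_dvd_mul_right (h1 ▸ dvd_mul_left _ _)
  let f : C ⧸ D.subgroupOf C → G ⧸ D := Quotient.lift (fun c : C => QuotientGroup.mk (c : G))
    (fun a b hab => by
      have h3 := QuotientGroup.leftRel_apply.1 hab
      exact QuotientGroup.eq.2 h3)
  have hf : Function.Injective f := by
    rintro ⟨a⟩ ⟨b⟩ hab
    exact QuotientGroup.eq.2 (QuotientGroup.eq.1 hab : (a : G)⁻¹ * b ∈ D)
  have h4 : Nat.card (C ⧸ D.subgroupOf C) = Nat.card (G ⧸ D) :=
    le_antisymm (Nat.card_le_card_of_injective f hf)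
      (Nat.le_of_dvd Nat.card_pos h2)
  obtain ⟨⟨u⟩, hu⟩ := ((Nat.bijective_iff_injective_and_card f).2 ⟨hf, h4⟩).2 (QuotientGroup.mk g)
  exact ⟨u, u.2, (u : G)⁻¹ * g, QuotientGroup.eq.1 hu, (mul_inv_cancel_left _ _).symm⟩

/-- Coprime commuting elements: the centralizer of the product lies in both centralizers. -/
theorem sz_dvd_sz_mul {x y : G} (hxy : x * y = y * x) (hco : (orderOf x).Coprime (orderOf y)) :
    sz x ∣ sz (x * y) := by
  refine Subgroup.index_dvd_of_le fun h hh => mem_cent.2 ?_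
  rw [mem_cent] at hh
  have h1 : Commute h ((x * y) ^ orderOf y) := (Commute.symm hh).pow_right _
  rw [(Commute.mul_pow hxy), pow_orderOf_eq_one, mul_one] at h1
  obtain ⟨t, ht⟩ := exists_pow_eq_self_of_coprime (x := x) hco.symm
  have h2 := h1.pow_right t
  rw [ht] at h2
  exact h2.symm.eq

theorem mem_closure_primePow (x : G) :
    x ∈ Subgroup.closure {z : G | z ∈ Subgroup.zpowers x ∧ ∃ l k : ℕ, l.Prime ∧ orderOf z = l ^ k} := by
  set Y := Subgroup.closure {z : G | z ∈ Subgroup.zpowers x ∧ ∃ l k : ℕ, l.Prime ∧ orderOf z = l ^ k}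
  have h : Y.subgroupOf (Subgroup.zpowers x) = ⊤ := FittingCores.eq_top_of_forall_sylow_le fun l hl => by
    haveI := Fact.mk hl
    obtain ⟨Q⟩ : Nonempty (Sylow l (Subgroup.zpowers x)) := inferInstance
    refine ⟨Q, fun z hz => ?_⟩
    obtain ⟨k, hk⟩ := IsPGroup.iff_orderOf.1 Q.isPGroup' ⟨z, hz⟩
    rw [Subgroup.orderOf_mk] at hk
    exact Subgroup.subset_closure ⟨z.2, l, k, hl, (Subgroup.orderOf_coe z).trans hk⟩
  exact (h.ge (Subgroup.mem_top ⟨x, Subgroup.mem_zpowers x⟩) :)

theorem sz_dvd_of_mem_zpowers {x z : G} (hz : z ∈ Subgroup.zpowers x) : sz z ∣ sz x := by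
  refine Subgroup.index_dvd_of_le fun h hh => mem_cent.2 ?_
  obtain ⟨i, rfl⟩ := Subgroup.mem_zpowers_iff.1 hz
  exact (Commute.zpow_left (mem_cent.1 hh) i).eq

/-- A subgroup of index prime to `l` contains a conjugate of every `l`-element. -/
theorem exists_conj_mem {l k : ℕ} (hl : l.Prime) {C : Subgroup G} (hC : ¬ l ∣ C.index) {y : G}
    (hy : orderOf y = l ^ k) : ∃ g : G, g * y * g⁻¹ ∈ C := by
  haveI := Fact.mk hl
  obtain ⟨T⟩ : Nonempty (Sylow l C) := inferInstance
  have hT : IsPGroup l ((T : Subgroup C).map C.subtype) := T.isPGroup'.map _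
  obtain ⟨T', hT'⟩ := hT.exists_le_sylow
  have heq : (T' : Subgroup G) ≤ C := by
    have h1 : ¬ l ∣ ((T : Subgroup C).map C.subtype).index := by
      rw [Subgroup.index_map_subtype]
      exact hl.not_dvd_mul T.not_dvd_index hC
    obtain ⟨j, hj⟩ := T'.isPGroup'.exists_card_eq
    have h2 : ((T : Subgroup C).map C.subtype).relIndex T' = 1 := by
      refine Nat.eq_one_of_dvd_coprimes (Nat.Coprime.pow_left j (hl.coprime_iff_not_dvd.2 h1))
        (hj ▸ Subgroup.relIndex_dvd_card _ _) (Subgroup.relIndex_dvd_index_of_le hT')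
    exact (Subgroup.relIndex_eq_one.1 h2).trans (Subgroup.map_subtype_le _)
  obtain ⟨T'', hT''⟩ := (IsPGroup.of_card (n := k) (by rw [Nat.card_zpowers, hy]) :
    IsPGroup l (Subgroup.zpowers y)).exists_le_sylow
  obtain ⟨g, hg⟩ := MulAction.exists_smul_eq G T'' T'
  refine ⟨g, heq ?_⟩
  rw [← hg]
  exact Subgroup.smul_mem_pointwise_smul y (MulAut.conj g) _ (hT'' (Subgroup.mem_zpowers y))

variable {σ : ℕ → Prop}

/-- All primes of the class size are in `σ`. -/
def InSide (σ : ℕ → Prop) (g : G) : Prop := ∀ l : ℕ, l.Prime → l ∣ sz g → σ l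

theorem dichotomy_mul (h1 : ∀ g : G, InSide σ g ∨ InSide (fun l => ¬ σ l) g) {x y : G}
    (hxy : x * y = y * x) (hco : (orderOf x).Coprime (orderOf y))
    (hx : InSide (fun l => ¬ σ l) x) (hy : InSide σ y) : sz x = 1 ∨ sz y = 1 := by
  by_contra hne
  push Not at hne
  obtain ⟨q, hq, hqx⟩ := Nat.exists_prime_and_dvd hne.1
  obtain ⟨l, hl, hly⟩ := Nat.exists_prime_and_dvd hne.2
  rcases h1 (x * y) with h | h
  · exact hx q hq hqx (h q hq (hqx.trans (sz_dvd_sz_mul hxy hco)))
  · refine h l hl (hly.trans ?_) (hy l hl hly)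
    rw [hxy]
    exact sz_dvd_sz_mul hxy.symm hco.symm

/-- The main theorem, the kind `σ` containing a largest class. -/
theorem main (h1 : ∀ g : G, InSide σ g ∨ InSide (fun l => ¬ σ l) g) (a₀ : G)
    (hmax : ∀ g : G, sz g ≤ sz a₀) (ha₀ : InSide σ a₀) (b₀ : G) {q₀ : ℕ} (hq₀ : q₀.Prime)
    (hqσ : ¬ σ q₀) (hqb : q₀ ∣ sz b₀) :
    ∃ H : Subgroup (G ⧸ Subgroup.center G), Cfsg.IsFrobeniusComplement H ∧ IsMulCommutative H ∧
      ∀ x ∈ Cfsg.frobeniusKernel H, ∀ y ∈ Cfsg.frobeniusKernel H, x * y = y * x := by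
  classical
  -- the elements of the second kind
  let T2 : G → Prop := fun b => InSide (fun l => ¬ σ l) b ∧ sz b ≠ 1
  have hT2conj : ∀ c b, T2 b → T2 (c * b * c⁻¹) := fun c b ⟨h, h'⟩ =>
    ⟨fun l hl hd => h l hl (by rwa [sz_conj] at hd), by rwa [sz_conj]⟩
  -- the stabiliser of the largest class
  let M₀ : Subgroup G :=
    { carrier := {m | ∀ a, IsConj a₀ a ↔ IsConj a₀ (a * m)}
      one_mem' := fun a => by rw [mul_one]
      mul_mem' := fun {m n} hm hn a => by rw [← mul_assoc]; exact (hm a).trans (hn _)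
      inv_mem' := fun {m} hm a => by
        have := hm (a * m⁻¹)
        rw [inv_mul_cancel_right] at this
        exact this.symm }
  have hM₀n : M₀.Normal := ⟨fun m hm c a => by
    have h2 : ∀ z, IsConj a₀ z ↔ IsConj a₀ (c⁻¹ * z * c) := fun z => by
      have hz : IsConj z (c⁻¹ * z * c) := isConj_iff.2 ⟨c⁻¹, by rw [inv_inv]⟩
      exact ⟨fun h => h.trans hz, fun h => h.trans hz.symm⟩
    rw [h2 a, h2 (a * (c * m * c⁻¹)), show c⁻¹ * (a * (c * m * c⁻¹)) * c = c⁻¹ * a * c * m by group]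
    exact hm _⟩
  have hM₀dvd : Nat.card M₀ ∣ sz a₀ := by
    rw [← card_class]
    set t : Set (G ⧸ M₀) := QuotientGroup.mk '' {z | IsConj a₀ z} with ht
    refine ⟨Nat.card t, ?_⟩
    rw [← Nat.card_prod, ← Nat.card_congr (QuotientGroup.preimageMkEquivSubgroupProdSet M₀ t)]
    refine Nat.card_congr (Equiv.subtypeEquivRight fun z => ⟨fun h => ⟨z, h, rfl⟩, ?_⟩)
    rintro ⟨w, hw, hwz⟩
    have h3 : w⁻¹ * z ∈ M₀ := QuotientGroup.eq.1 hwz
    have h4 := (h3 w).1 hw
    rwa [mul_inv_cancel_left] at h4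
  have hM₀σ : ∀ l : ℕ, l.Prime → l ∣ Nat.card M₀ → σ l := fun l hl hd => ha₀ l hl (hd.trans hM₀dvd)
  have hcomm : ∀ b, T2 b → ∀ g : G, ⁅g, b⁆ ∈ M₀ := by
    rintro b ⟨hb, -⟩ g a
    have hco : (Subgroup.centralizer ({a₀} : Set G)).index.Coprime (Subgroup.centralizer ({b} : Set G)).index :=
      Nat.coprime_of_dvd fun l hl h h' => hb l hl h' (ha₀ l hl h)
    -- every product of conjugates is a conjugate of `a₀ * b`
    have hprod : ∀ a, IsConj a₀ a → ∀ b', IsConj b b' → IsConj (a₀ * b) (a * b') := by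
      intro a ha b' hb'
      obtain ⟨s, rfl⟩ := isConj_iff.1 ha
      obtain ⟨h, rfl⟩ := isConj_iff.1 hb'
      obtain ⟨u, hu, v, hv, huv⟩ := exists_mul_of_coprime hco (s⁻¹ * h)
      refine isConj_iff.2 ⟨s * u, ?_⟩
      have e1 : u * a₀ * u⁻¹ = a₀ := by rw [← mem_cent.1 hu, mul_inv_cancel_right]
      have e2 : v * b * v⁻¹ = b := by rw [← mem_cent.1 hv, mul_inv_cancel_right]
      calc s * u * (a₀ * b) * (s * u)⁻¹ = s * (u * a₀ * u⁻¹) * s⁻¹ * (s * (u * b * u⁻¹) * s⁻¹) := by group
        _ = s * a₀ * s⁻¹ * (s * (u * (v * b * v⁻¹) * u⁻¹) * s⁻¹) := by rw [e1, e2]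
        _ = s * a₀ * s⁻¹ * ((s * (u * v)) * b * (s * (u * v))⁻¹) := by group
        _ = s * a₀ * s⁻¹ * (h * b * h⁻¹) := by rw [← huv, mul_inv_cancel_left]
    have himage : ∀ b', IsConj b b' → ∀ z, IsConj (a₀ * b) z → IsConj a₀ (z * b'⁻¹) := by
      intro b' hb' z hz
      have hinj : Function.Injective (fun a : {a // IsConj a₀ a} =>
          (⟨a.1 * b', hprod a.1 a.2 b' hb'⟩ : {z // IsConj (a₀ * b) z})) := fun a a' h =>
        Subtype.ext (mul_right_cancel (congrArg Subtype.val h))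
      have hle := Nat.card_le_card_of_injective _ hinj
      have hge : Nat.card {z // IsConj (a₀ * b) z} ≤ Nat.card {a // IsConj a₀ a} := by
        rw [card_class, card_class]; exact hmax _
      obtain ⟨⟨a', ha'⟩, hab⟩ :=
        ((Nat.bijective_iff_injective_and_card _).2 ⟨hinj, le_antisymm hle hge⟩).2 ⟨z, hz⟩
      have : a' * b' = z := congrArg Subtype.val hab
      rwa [← this, mul_inv_cancel_right]
    have hg : IsConj b (g * b * g⁻¹) := isConj_iff.2 ⟨g, rfl⟩
    rw [show a * ⁅g, b⁆ = a * (g * b * g⁻¹) * b⁻¹ by rw [commutatorElement_def]; group]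
    refine ⟨fun ha => himage b (IsConj.refl b) _ (hprod a ha _ hg), fun ha => ?_⟩
    have h3 := himage _ hg _ (hprod _ ha b (IsConj.refl b))
    rwa [inv_mul_cancel_right, mul_inv_cancel_right] at h3
  have hcent : ∀ b, T2 b → M₀ ≤ Subgroup.centralizer ({b} : Set G) := by
    rintro b ⟨hb, -⟩
    rw [← Subgroup.relIndex_eq_one]
    refine Nat.eq_one_of_dvd_coprimes (Nat.coprime_of_dvd fun l hl h h' => hb l hl h' (hM₀σ l hl h))
      (Subgroup.relIndex_dvd_card _ _) ?_
    have := hM₀n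
    obtain ⟨k, hk⟩ := Subgroup.relIndex_dvd_index_of_normal M₀ (Subgroup.centralizer ({b} : Set G))
    have h2 : (Subgroup.centralizer ({b} : Set G)).relIndex M₀ * M₀.index =
        M₀.relIndex (Subgroup.centralizer ({b} : Set G)) * sz b := by
      rw [sz, ← Subgroup.inf_relIndex_right (Subgroup.centralizer ({b} : Set G)) M₀,
        ← Subgroup.inf_relIndex_left (Subgroup.centralizer ({b} : Set G)) M₀,
        Subgroup.relIndex_mul_index inf_le_right, Subgroup.relIndex_mul_index inf_le_left]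
    rw [hk, mul_left_comm] at h2
    refine ⟨k, (Nat.eq_of_mul_eq_mul_left (Nat.pos_of_ne_zero fun h0 => ?_) h2).symm⟩
    rw [h0, zero_mul] at hk
    exact Subgroup.index_ne_zero_of_finite hk
  -- the subgroup generated by the second kind
  set H := Subgroup.center G ⊔ Subgroup.closure {b | T2 b} with hH
  have hgen : ∀ {X : Subgroup G}, Subgroup.center G ≤ X → (∀ b, T2 b → b ∈ X) → H ≤ X := fun h h' =>
    sup_le h ((Subgroup.closure_le _).2 h')
  have hTH : ∀ b, T2 b → b ∈ H := fun b hb => Subgroup.mem_sup_right (Subgroup.subset_closure hb)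
  have hHn : H.Normal := ⟨fun x hx c => by
    refine (hgen (X := H.comap (MulAut.conj c).toMonoidHom) (fun z hz => ?_) (fun b hb => hTH _ (hT2conj c b hb)) hx :)
    show c * z * c⁻¹ ∈ H
    rw [Subgroup.mem_center_iff.1 hz c, mul_inv_cancel_right]
    exact Subgroup.mem_sup_left hz⟩
  have hMH : ∀ m ∈ M₀, ∀ x ∈ H, m * x = x * m := fun m hm x hx => by
    refine (mem_cent.1 (hgen (X := Subgroup.centralizer ({m} : Set G)) (fun z hz => mem_cent.2
      (Subgroup.mem_center_iff.1 hz m)) (fun b hb => mem_cent.2 (mem_cent.1 (hcent b hb hm)).symm) hx))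
  have hGH : ∀ g : G, ∀ x ∈ H, ⁅g, x⁆ ∈ M₀ := by
    intro g x hx
    have := hM₀n
    have h2 : H ≤ (Subgroup.center (G ⧸ M₀)).comap (QuotientGroup.mk' M₀) := hgen
      (fun z hz => Subgroup.mem_center_iff.2 fun w => by
        obtain ⟨w, rfl⟩ := QuotientGroup.mk'_surjective M₀ w
        rw [← map_mul, Subgroup.mem_center_iff.1 hz w, map_mul])
      (fun b hb => Subgroup.mem_center_iff.2 fun w => by
        obtain ⟨w, rfl⟩ := QuotientGroup.mk'_surjective M₀ w
        rw [← commutatorElement_eq_one_iff_mul_comm, ← map_commutatorElement]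
        exact (QuotientGroup.eq_one_iff _).2 (hcomm b hb w))
    have h3 := Subgroup.mem_center_iff.1 (h2 hx) (QuotientGroup.mk' M₀ g)
    rw [← commutatorElement_eq_one_iff_mul_comm, ← map_commutatorElement] at h3
    exact (QuotientGroup.eq_one_iff _).1 h3
  haveI hHnil : Group.IsNilpotent H := by
    refine (Subgroup.isNilpotent_iff_lowerCentralSeries H).2 ⟨2, eq_bot_iff.2 ?_⟩
    rw [Subgroup.lowerCentralSeries_succ, Subgroup.lowerCentralSeries_succ, Subgroup.lowerCentralSeries_zero]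
    refine Subgroup.commutator_le.2 fun m hm x hx => Subgroup.mem_bot.2 ?_
    refine commutatorElement_eq_one_iff_mul_comm.2 (hMH m ?_ x hx)
    exact Subgroup.commutator_le.2 (fun a _ c hc => hGH a c hc) hm
  -- prime power elements of the second kind
  have hpart : ∀ b, T2 b → ∀ z ∈ Subgroup.zpowers b, z ∈ Subgroup.center G ∨ T2 z := fun b hb z hz => by
    by_cases h : sz z = 1
    · exact Or.inl (sz_one_iff.1 h)
    · exact Or.inr ⟨fun l hl hd => hb.1 l hl (hd.trans (sz_dvd_of_mem_zpowers hz)), h⟩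
  have hgen' : ∀ {X : Subgroup G}, Subgroup.center G ≤ X →
      (∀ b, T2 b → ∀ l k : ℕ, l.Prime → orderOf b = l ^ k → b ∈ X) → H ≤ X := fun {X} h h' => by
    refine hgen h fun b hb => ((Subgroup.closure_le _).2 ?_) (mem_closure_primePow b)
    rintro z ⟨hz, l, k, hl, hzo⟩
    exact (hpart b hb z hz).elim (fun hc => h hc) fun hc => h' z hc l k hl hzo
  have hprime : ∀ b, T2 b → ∀ l k : ℕ, l.Prime → orderOf b = l ^ k → σ l := by
    intro b hb l k hl hbo
    by_contra hlσ
    refine hb.2 (sz_one_iff.2 (Subgroup.mem_center_iff.2 fun g => ?_))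
    have hm := hcomm b hb g
    have hmb : Commute b ⁅g, b⁆ := mem_cent.1 (hcent b hb hm)
    have h2 : ⁅g, b⁆ ^ orderOf b = 1 := by
      have h3 : (g * b * g⁻¹) ^ orderOf b = ⁅g, b⁆ ^ orderOf b := by
        rw [show g * b * g⁻¹ = ⁅g, b⁆ * b by rw [commutatorElement_def, inv_mul_cancel_right],
          hmb.symm.mul_pow, pow_orderOf_eq_one, mul_one]
      rw [← h3, conj_pow, pow_orderOf_eq_one, mul_one, mul_inv_cancel]
    rw [← commutatorElement_eq_one_iff_mul_comm, ← orderOf_eq_one_iff]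
    refine Nat.eq_one_of_dvd_coprimes (Nat.coprime_of_dvd fun s hs h h' => hlσ ?_)
      (Subgroup.orderOf_dvd_natCard M₀ hm) (orderOf_dvd_of_pow_eq_one h2)
    rw [hbo] at h'
    exact (Nat.prime_dvd_prime_iff_eq hs hl).1 (hs.dvd_of_dvd_pow h') ▸ hM₀σ s hs h
  have hcore : ∀ x ∈ H, ∀ l k : ℕ, l.Prime → orderOf x = l ^ k → x ∈ Cfsg.pCore l G := by
    intro x hx l k hl hxo
    haveI := Fact.mk hl
    refine FittingCores.pCore_map_subtype_le l hHn ⟨⟨x, hx⟩, ?_, rfl⟩
    exact FittingCores.le_pCore_of_isSubnormal (LEWielandt.isSubnormal_of_isNilpotent (Subgroup.zpowers (⟨x, hx⟩ : H)))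
      (IsPGroup.of_card (n := k) (by rw [Nat.card_zpowers, Subgroup.orderOf_mk, hxo])) (Subgroup.mem_zpowers _)
  have hcorecent : ∀ b, T2 b → ∀ l : ℕ, l.Prime → σ l → ∀ y ∈ Cfsg.pCore l G, b * y = y * b := by
    intro b hb l hl hlσ y hy
    haveI := Fact.mk hl
    obtain ⟨k, hk⟩ := IsPGroup.iff_orderOf.1 (FittingCores.pCore_isPGroup (G := G) l) ⟨y, hy⟩
    have hnd : ¬ l ∣ (Subgroup.centralizer ({b} : Set G)).index := fun h => hb.1 l hl h hlσ
    -- a Sylow subgroup inside the centralizer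
    obtain ⟨T⟩ : Nonempty (Sylow l (Subgroup.centralizer ({b} : Set G))) := inferInstance
    obtain ⟨T', hT'⟩ := (T.isPGroup'.map (Subgroup.centralizer ({b} : Set G)).subtype).exists_le_sylow
    have h2 : ((T : Subgroup (Subgroup.centralizer ({b} : Set G))).map (Subgroup.centralizer ({b} : Set G)).subtype).relIndex T' = 1 := by
      obtain ⟨j, hj⟩ := T'.isPGroup'.exists_card_eq
      refine Nat.eq_one_of_dvd_coprimes (Nat.Coprime.pow_left j (hl.coprime_iff_not_dvd.2 ?_))
        (hj ▸ Subgroup.relIndex_dvd_card _ _) (Subgroup.relIndex_dvd_index_of_le hT')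
      rw [Subgroup.index_map_subtype]
      exact hl.not_dvd_mul T.not_dvd_index hnd
    exact mem_cent.1 (Subgroup.map_subtype_le _ (Subgroup.relIndex_eq_one.1 h2 (FittingCores.pCore_le_sylow T' hy)))
  have hHab : ∀ x ∈ H, ∀ y ∈ H, x * y = y * x := by
    intro x hx y hy
    refine (mem_cent.1 (hgen' (X := Subgroup.centralizer ({x} : Set G)) (fun z hz => mem_cent.2
      (Subgroup.mem_center_iff.1 hz x)) (fun b hb l k hl hbo => ?_) hy))
    refine mem_cent.2 (mem_cent.1 (hgen' (X := Subgroup.centralizer ({b} : Set G)) (fun z hz => mem_cent.2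
      (Subgroup.mem_center_iff.1 hz b)) (fun c hc l' k' hl' hco' => mem_cent.2 ?_) hx)).symm
    exact hcorecent b hb l' hl' (hprime c hc l' k' hl' hco') c (hcore c (hTH c hc) l' k' hl' hco')
  have hHcl : ∀ x ∈ H, H ≤ Subgroup.centralizer ({x} : Set G) := fun x hx y hy => mem_cent.2 (hHab x hx y hy)
  -- modulo the centre `H` is a `σ`-group
  have hHσ : ∀ x ∈ H, ∃ n : ℕ, 0 < n ∧ (∀ l : ℕ, l.Prime → l ∣ n → σ l) ∧ x ^ n ∈ Subgroup.center G := by
    intro x hx
    let X : Subgroup G :=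
      { carrier := {x | x ∈ H ∧ ∃ n : ℕ, 0 < n ∧ (∀ l : ℕ, l.Prime → l ∣ n → σ l) ∧ x ^ n ∈ Subgroup.center G}
        one_mem' := ⟨one_mem H, 1, one_pos, fun l hl h => absurd (Nat.dvd_one.1 h) hl.ne_one, by simp⟩
        mul_mem' := by
          rintro a b ⟨ha, n, hn0, hn, hna⟩ ⟨hb, m, hm0, hm, hmb⟩
          refine ⟨mul_mem ha hb, n * m, Nat.mul_pos hn0 hm0, fun l hl h =>
            (hl.dvd_mul.1 h).elim (hn l hl) (hm l hl), ?_⟩
          rw [Commute.mul_pow (hHab a ha b hb), pow_mul, mul_comm n m, pow_mul b]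
          exact mul_mem (pow_mem hna m) (pow_mem hmb n)
        inv_mem' := by
          rintro a ⟨ha, n, hn0, hn, hna⟩
          exact ⟨inv_mem ha, n, hn0, hn, by rw [inv_pow]; exact inv_mem hna⟩ }
    refine ((hgen' (X := X) (fun z hz => ⟨Subgroup.mem_sup_left hz, 1, one_pos,
      fun l hl h => absurd (Nat.dvd_one.1 h) hl.ne_one, by rwa [pow_one]⟩) (fun b hb l k hl hbo => ?_)) hx).2
    refine ⟨hTH b hb, l ^ k, pow_pos hl.pos k, fun s hs h => ?_, by rw [← hbo, pow_orderOf_eq_one]; exact one_mem _⟩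
    exact (Nat.prime_dvd_prime_iff_eq hs hl).1 (hs.dvd_of_dvd_pow h) ▸ hprime b hb l k hl hbo
  -- elements outside have classes of the first kind
  have hout : ∀ y, y ∉ H → InSide σ y ∧ sz y ≠ 1 := fun y hy => by
    refine ⟨?_, fun h => hy (Subgroup.mem_sup_left (sz_one_iff.1 h))⟩
    rcases h1 y with h | h
    · exact h
    · exact absurd (hTH y ⟨h, fun h' => hy (Subgroup.mem_sup_left (sz_one_iff.1 h'))⟩) hy
  set π := QuotientGroup.mk' H with hπ
  have hSylcen : ∀ q : ℕ, q.Prime → ¬ σ q → ∀ u : G, ∀ k : ℕ, orderOf u = q ^ k → π u ∈ Subgroup.center (G ⧸ H) := by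
    intro q hq hqs u k hu
    have htop : Subgroup.centralizer ({π u} : Set (G ⧸ H)) = ⊤ := Counting.eq_top_of_conj_cover _ fun w => by
      obtain ⟨w, rfl⟩ := QuotientGroup.mk'_surjective H w
      by_cases hw : w ∈ H
      · refine ⟨1, ?_⟩
        rw [show π w = 1 from (QuotientGroup.eq_one_iff w).2 hw, inv_one, one_mul, mul_one]
        exact one_mem _
      · obtain ⟨g, hg⟩ := exists_conj_mem hq (fun h => hqs ((hout w hw).1 q hq h)) hu
        refine ⟨π g, mem_cent.2 ?_⟩
        rw [← map_inv, ← map_mul, ← map_mul, ← map_mul, ← map_mul]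
        refine congrArg π ?_
        rw [mem_cent] at hg
        calc u * (g⁻¹ * w * g) = g⁻¹ * ((g * u * g⁻¹) * w) * g := by group
          _ = g⁻¹ * (w * (g * u * g⁻¹)) * g := by rw [hg]
          _ = g⁻¹ * w * g * u := by group
    exact Subgroup.mem_center_iff.2 fun w => (mem_cent.1 (htop.ge (Subgroup.mem_top w))).symm
  obtain ⟨b₁, hb₁, l₁, k₁, hl₁, hb₁o⟩ : ∃ b, T2 b ∧ ∃ l k : ℕ, l.Prime ∧ orderOf b = l ^ k := by
    by_contra hno
    push Not at hno
    have h2 : H ≤ Subgroup.center G := hgen' le_rfl fun b hb l k hl hbo => absurd hbo (hno b hb l k hl)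
    have hb₀ : T2 b₀ := ⟨(h1 b₀).resolve_left fun h => hqσ (h q₀ hq₀ hqb),
      fun h => hq₀.ne_one (Nat.dvd_one.1 (h ▸ hqb))⟩
    exact hb₀.2 (sz_one_iff.2 (h2 (hTH b₀ hb₀)))
  -- no element outside `H` has order a power of a prime in `σ`
  have hσfree : ∀ l : ℕ, l.Prime → σ l → ∀ y : G, ∀ k : ℕ, orderOf y = l ^ k → y ∈ H := by
    intro l hl hlσ y k hy
    by_contra hyH
    have hfix : ∀ b, T2 b → ∀ r j : ℕ, r.Prime → orderOf b = r ^ j → r = l := by
      intro b hb r j hr hbo
      by_contra hne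
      obtain ⟨g, hg⟩ := exists_conj_mem hl (fun h => hb.1 l hl h hlσ) hy
      have hgy : g * y * g⁻¹ ∉ H := fun h => hyH (by
        have := hHn.conj_mem _ h g⁻¹
        simpa [mul_assoc] using this)
      rcases dichotomy_mul h1 (mem_cent.1 hg) (by
        rw [orderOf_conj', hbo, hy]
        exact Nat.coprime_pow_primes j k hr hl hne) hb.1 (hout _ hgy).1 with h | h
      · exact hb.2 h
      · exact (hout _ hgy).2 h
    haveI := Fact.mk hl
    -- the `l`-elements form a normal subgroup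
    obtain ⟨P⟩ : Nonempty (Sylow l G) := inferInstance
    have hHP : H ≤ Subgroup.center G ⊔ (P : Subgroup G) := hgen' le_sup_left fun b hb r j hr hbo => by
      refine Subgroup.mem_sup_right (FittingCores.pCore_le_sylow P ?_)
      exact hfix b hb r j hr hbo ▸ hcore b (hTH b hb) r j hr hbo
    haveI hQn : ((P : Subgroup G).map π).Normal := by
      rw [← Subgroup.normalizer_eq_top_iff]
      refine FittingCores.eq_top_of_forall_sylow_le fun q hq => ?_
      haveI := Fact.mk hq
      by_cases hql : q = l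
      · subst hql
        refine ⟨P.mapSurjective (QuotientGroup.mk'_surjective H), ?_⟩
        exact Subgroup.le_normalizer
      obtain ⟨T⟩ : Nonempty (Sylow q (G ⧸ H)) := inferInstance
      refine ⟨T, fun w hw => ?_⟩
      obtain ⟨j, hj⟩ := IsPGroup.iff_orderOf.1 T.isPGroup' ⟨w, hw⟩
      rw [Subgroup.orderOf_mk] at hj
      obtain ⟨w, rfl⟩ := QuotientGroup.mk'_surjective H w
      -- lift to a `q`-element
      obtain ⟨T'⟩ : Nonempty (Sylow q G) := inferInstance
      obtain ⟨g, hg⟩ := exists_conj_mem hq (C := (T' : Subgroup G).map π) ((T'.mapSurjective (QuotientGroup.mk'_surjective H)).not_dvd_index) hj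
      obtain ⟨u, hu, hug⟩ := hg
      obtain ⟨i, hi⟩ := IsPGroup.iff_orderOf.1 T'.isPGroup' ⟨u, hu⟩
      rw [Subgroup.orderOf_mk] at hi
      have hcases : π u ∈ Subgroup.center (G ⧸ H) := by
        by_cases hqs : σ q
        · have huH : u ∈ H := by
            by_contra huH
            obtain ⟨g', hg'⟩ := exists_conj_mem hq (fun h => hb₁.1 q hq h hqs) hi
            have hgu : g' * u * g'⁻¹ ∉ H := fun h => huH (by
              have := hHn.conj_mem _ h g'⁻¹
              simpa [mul_assoc] using this)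
            rcases dichotomy_mul h1 (mem_cent.1 hg') (by
              rw [orderOf_conj', hb₁o, hi, hfix b₁ hb₁ l₁ k₁ hl₁ hb₁o]
              exact Nat.coprime_pow_primes k₁ i hl hq (Ne.symm hql)) hb₁.1 (hout _ hgu).1 with h | h
            · exact hb₁.2 h
            · exact (hout _ hgu).2 h
          rw [show π u = 1 from (QuotientGroup.eq_one_iff u).2 huH]
          exact one_mem _
        · exact hSylcen q hq hqs u i hi
      have hwc : π w ∈ Subgroup.center (G ⧸ H) := by
        rw [hug] at hcases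
        have := (inferInstance : (Subgroup.center (G ⧸ H)).Normal).conj_mem _ hcases g⁻¹
        simpa [mul_assoc, hπ] using this
      exact Subgroup.center_le_normalizer _ hwc
    have hPy : ∀ z : G, ∀ j : ℕ, orderOf z = l ^ j → z ∈ Cfsg.pCore l G := by
      intro z j hz
      have hPZ : (Subgroup.center G ⊔ (P : Subgroup G)).Normal := by
        have hle : ((P : Subgroup G).map π).comap π = Subgroup.center G ⊔ (P : Subgroup G) := by
          rw [Subgroup.comap_map_eq, QuotientGroup.ker_mk']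
          exact le_antisymm (sup_le le_sup_right hHP) (sup_le (le_sup_of_le_right le_sup_left) le_sup_left)
        rw [← hle]
        exact hQn.comap π
      have hPn : (P : Subgroup G).Normal := ⟨fun a ha c => by
        obtain ⟨zc, hzc, a', ha', he⟩ := Subgroup.mem_sup_of_normal_left.1
          (hPZ.conj_mem a (Subgroup.mem_sup_right ha) c)
        -- the central part is an `l`-element
        have hzc' : zc ∈ (P : Subgroup G) := by
          have hcom : Commute zc a' := (Subgroup.mem_center_iff.1 hzc a').symm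
          obtain ⟨i, hi⟩ := P.isPGroup' ⟨a, ha⟩
          obtain ⟨i', hi'⟩ := P.isPGroup' ⟨a', ha'⟩
          have e1 : (zc * a') ^ l ^ i = 1 := by
            rw [he, conj_pow, show a ^ l ^ i = 1 from congrArg Subtype.val hi, mul_one, mul_inv_cancel]
          have e2 : zc ^ l ^ (i + i') = 1 := by
            have e3 : (zc * a') ^ l ^ (i + i') = 1 := by rw [pow_add, pow_mul, e1, one_pow]
            rw [hcom.mul_pow, pow_add l i i', mul_comm (l ^ i), pow_mul a',
              show a' ^ l ^ i' = 1 from congrArg Subtype.val hi', one_pow, mul_one] at e3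
            rwa [pow_add, mul_comm (l ^ i)]
          have hzP : IsPGroup l (Subgroup.zpowers zc) := by
            obtain ⟨m, -, hm⟩ := (Nat.dvd_prime_pow hl).1 (orderOf_dvd_of_pow_eq_one e2)
            exact IsPGroup.of_card (n := m) (by rw [Nat.card_zpowers, hm])
          have hzn : (Subgroup.zpowers zc).Normal := ⟨fun w hw c' => by
            rw [Subgroup.mem_center_iff.1 ((Subgroup.zpowers_le.2 hzc) hw) c', mul_inv_cancel_right]; exact hw⟩
          exact FittingCores.pCore_le_sylow P (FittingCores.le_pCore hzn hzP (Subgroup.mem_zpowers zc))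
        rw [← he]
        exact mul_mem hzc' ha'⟩
      refine FittingCores.le_pCore hPn P.isPGroup' ?_
      obtain ⟨T, hT⟩ := (IsPGroup.of_card (n := j) (by rw [Nat.card_zpowers, hz]) :
        IsPGroup l (Subgroup.zpowers z)).exists_le_sylow
      obtain ⟨g, hg⟩ := MulAction.exists_smul_eq G P T
      have : (T : Subgroup G) = (P : Subgroup G) := by
        rw [← hg, Sylow.coe_subgroup_smul]
        exact SolvBasic.conjSmul_eq_self_of_mem_normalizer (by rw [Subgroup.normalizer_eq_top]; trivial)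
      exact this ▸ hT (Subgroup.mem_zpowers z)
    -- a contradiction from a product
    obtain ⟨q, hq, hqd⟩ := Nat.exists_prime_and_dvd hb₁.2
    have hqs : ¬ σ q := hb₁.1 q hq hqd
    have hlb : l₁ = l := hfix b₁ hb₁ l₁ k₁ hl₁ hb₁o
    have hyb : b₁ * y = y * b₁ := hcorecent b₁ hb₁ l hl hlσ y (hPy y k hy)
    have hbyH : b₁ * y ∉ H := fun h => hyH (by
      have := mul_mem (inv_mem (hTH b₁ hb₁)) h
      rwa [inv_mul_cancel_left] at this)
    have hby : ∃ j, orderOf (b₁ * y) = l ^ j := by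
      have h3 : orderOf (b₁ * y) ∣ l ^ (k₁ + k) := by
        refine orderOf_dvd_of_pow_eq_one ?_
        rw [Commute.mul_pow hyb, pow_add, pow_mul b₁, mul_comm (l ^ k₁), pow_mul y, ← hy, pow_orderOf_eq_one,
          one_pow, mul_one, ← hlb, ← hb₁o, pow_orderOf_eq_one, one_pow]
      obtain ⟨j, -, hj⟩ := (Nat.dvd_prime_pow hl).1 h3
      exact ⟨j, hj⟩
    obtain ⟨jb, hjb⟩ := hby
    -- the centralizer of `b₁` contains every element of `q`-power order
    refine hqs (False.elim ?_)
    haveI := Fact.mk hq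
    obtain ⟨Q⟩ : Nonempty (Sylow q G) := inferInstance
    have hQC : ∀ z : G, z ∉ H → ∃ g : G, ∀ u ∈ (Q : Subgroup G), (g * u * g⁻¹) * z = z * (g * u * g⁻¹) := by
      intro z hz
      obtain ⟨T⟩ : Nonempty (Sylow q (Subgroup.centralizer ({z} : Set G))) := inferInstance
      obtain ⟨T', hT'⟩ := (T.isPGroup'.map (Subgroup.centralizer ({z} : Set G)).subtype).exists_le_sylow
      have h2 : ((T : Subgroup (Subgroup.centralizer ({z} : Set G))).map (Subgroup.centralizer ({z} : Set G)).subtype).relIndex T' = 1 := by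
        obtain ⟨i, hi⟩ := T'.isPGroup'.exists_card_eq
        refine Nat.eq_one_of_dvd_coprimes (Nat.Coprime.pow_left i (hq.coprime_iff_not_dvd.2 ?_))
          (hi ▸ Subgroup.relIndex_dvd_card _ _) (Subgroup.relIndex_dvd_index_of_le hT')
        rw [Subgroup.index_map_subtype]
        exact hq.not_dvd_mul T.not_dvd_index fun h => hqs ((hout z hz).1 q hq h)
      obtain ⟨g, hg⟩ := MulAction.exists_smul_eq G Q T'
      refine ⟨g, fun u hu => (mem_cent.1 (Subgroup.map_subtype_le _ (Subgroup.relIndex_eq_one.1 h2 ?_))).symm⟩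
      rw [← hg]
      exact Subgroup.smul_mem_pointwise_smul u (MulAut.conj g) _ hu
    obtain ⟨g₁, hg₁⟩ := hQC y hyH
    obtain ⟨g₂, hg₂⟩ := hQC (b₁ * y) hbyH
    -- the image of `Q` is central, so the two conjugators differ by an element of `H` up to `N(Q)`
    have hQH : ∀ u ∈ (Q : Subgroup G), ∀ g : G, g * u * g⁻¹ * u⁻¹ ∈ H := fun u hu g => by
      obtain ⟨i, hi⟩ := IsPGroup.iff_orderOf.1 Q.isPGroup' ⟨u, hu⟩
      rw [Subgroup.orderOf_mk] at hi
      have h4 := Subgroup.mem_center_iff.1 (hSylcen q hq hqs u i hi) (π g)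
      rw [← commutatorElement_eq_one_iff_mul_comm, ← map_commutatorElement] at h4
      exact (QuotientGroup.eq_one_iff _).1 h4
    have hd : ¬ q ∣ sz b₁ := by
      -- every element of the conjugate by `g₂` of `Q` commutes with `b₁`
      have key : ∀ u ∈ (Q : Subgroup G), (g₂ * u * g₂⁻¹) * b₁ = b₁ * (g₂ * u * g₂⁻¹) := by
        intro u hu
        set u₂ := g₂ * u * g₂⁻¹
        set h := g₁ * u * g₁⁻¹ * u₂⁻¹ with hh
        have hhH : h ∈ H := by
          rw [show h = (g₁ * u * g₁⁻¹ * u⁻¹) * (g₂ * u * g₂⁻¹ * u⁻¹)⁻¹ by simp only [h, u₂]; group]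
          exact mul_mem (hQH u hu g₁) (inv_mem (hQH u hu g₂))
        have hyh : h * y = y * h := by
          -- `y` centralises `H`
          refine (mem_cent.1 (hgen' (X := Subgroup.centralizer ({y} : Set G)) (fun z hz => mem_cent.2
            (Subgroup.mem_center_iff.1 hz y)) (fun b hb r j hr hbo => mem_cent.2 ?_) hhH)).symm
          exact (hcorecent b hb l hl hlσ y (hPy y k hy)).symm
        have e1 : u₂ * y = y * u₂ := by
          have e2 : u₂ = h⁻¹ * (g₁ * u * g₁⁻¹) := by rw [hh]; group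
          rw [e2]
          exact ((Commute.inv_left hyh).mul_left (hg₁ u hu)).eq
        have e3 := hg₂ u hu
        calc u₂ * b₁ = u₂ * (b₁ * y) * y⁻¹ := by group
          _ = b₁ * y * u₂ * y⁻¹ := by rw [e3]
          _ = b₁ * (y * u₂) * y⁻¹ := by group
          _ = b₁ * u₂ := by rw [← e1]; group
      intro hdvd
      refine (g₂ • Q).not_dvd_index (hdvd.trans (Subgroup.index_dvd_of_le fun z hz => mem_cent.2 ?_))
      obtain ⟨u, hu, rfl⟩ := (Subgroup.mem_smul_pointwise_iff_exists _ _ _).1 (by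
        rw [Sylow.coe_subgroup_smul] at hz; exact hz)
      exact (key u hu).symm
    exact hd hqd
  -- the quotient is abelian
  have hquot : ∀ u v : G ⧸ H, u * v = v * u := by
    have h2 : Subgroup.center (G ⧸ H) = ⊤ := FittingCores.eq_top_of_forall_sylow_le fun q hq => by
      haveI := Fact.mk hq
      obtain ⟨T⟩ : Nonempty (Sylow q G) := inferInstance
      refine ⟨T.mapSurjective (QuotientGroup.mk'_surjective H), ?_⟩
      rintro _ ⟨u, hu, rfl⟩
      obtain ⟨i, hi⟩ := IsPGroup.iff_orderOf.1 T.isPGroup' ⟨u, hu⟩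
      rw [Subgroup.orderOf_mk] at hi
      by_cases hqs : σ q
      · rw [show π u = 1 from (QuotientGroup.eq_one_iff u).2 (hσfree q hq hqs u i hi)]
        exact one_mem _
      · exact hSylcen q hq hqs u i hi
    exact fun u v => Subgroup.mem_center_iff.1 (h2.ge (Subgroup.mem_top v)) u
  -- primes
  have hindex : ∀ q : ℕ, q.Prime → q ∣ H.index → ¬ σ q := by
    intro q hq hd hqs
    haveI := Fact.mk hq
    obtain ⟨T⟩ : Nonempty (Sylow q G) := inferInstance
    refine T.not_dvd_index (hd.trans (Subgroup.index_dvd_of_le fun u hu => ?_))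
    obtain ⟨i, hi⟩ := IsPGroup.iff_orderOf.1 T.isPGroup' ⟨u, hu⟩
    rw [Subgroup.orderOf_mk] at hi
    exact hσfree q hq hqs u i hi
  set ζ := QuotientGroup.mk' (Subgroup.center G) with hζ
  set N := H.map ζ with hN
  haveI hNn : N.Normal := hHn.map _ (QuotientGroup.mk'_surjective _)
  have hNindex : N.index = H.index :=
    Subgroup.index_map_eq _ (QuotientGroup.mk'_surjective _) (by rw [QuotientGroup.ker_mk']; exact le_sup_left)
  have hNcop : (Nat.card N).Coprime N.index := Nat.coprime_of_dvd fun q hq h h' => by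
    haveI := Fact.mk hq
    obtain ⟨⟨_, ⟨x, hx, rfl⟩⟩, hn⟩ := exists_prime_orderOf_dvd_card' (G := N) q h
    rw [← Subgroup.orderOf_coe] at hn
    obtain ⟨n, hn0, hnσ, hnz⟩ := hHσ x hx
    refine hindex q hq (hNindex ▸ h') (hnσ q hq ?_)
    rw [← hn]
    exact orderOf_dvd_of_pow_eq_one (by rw [← map_pow]; exact (QuotientGroup.eq_one_iff _).2 hnz)
  obtain ⟨K, hK⟩ := Subgroup.exists_right_complement'_of_coprime hNcop
  have hK1 : K ≠ ⊥ := by
    rintro rfl
    have hHtop : N = ⊤ := Subgroup.isComplement'_bot_right.1 hK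
    refine hb₁.2 (sz_one_iff.2 (Subgroup.mem_center_iff.2 fun g => ?_))
    have hg : g ∈ H := by
      rw [← Subgroup.index_eq_one] at hHtop
      rw [hNindex, Subgroup.index_eq_one] at hHtop
      exact hHtop ▸ Subgroup.mem_top g
    exact hHab g hg b₁ (hTH b₁ hb₁)
  have hN1 : N ≠ ⊥ := fun h => hb₁.2 (sz_one_iff.2 ((QuotientGroup.eq_one_iff b₁).1
    (Subgroup.mem_bot.1 (h ▸ Subgroup.mem_map_of_mem ζ (hTH b₁ hb₁)))))
  have hNab : ∀ a ∈ N, ∀ b ∈ N, a * b = b * a := by
    rintro _ ⟨a, ha, rfl⟩ _ ⟨b, hb, rfl⟩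
    rw [← map_mul, hHab a ha b hb, map_mul]
  have hreg : ∀ c ∈ K, ∀ n ∈ N, c * n = n * c → c = 1 ∨ n = 1 := by
    intro c hc n hn hcn
    by_contra hne
    push Not at hne
    -- a power of prime order
    obtain ⟨q, hq, hqd⟩ := Nat.exists_prime_and_dvd (fun h => hne.1 (orderOf_eq_one_iff.1 h))
    haveI := Fact.mk hq
    obtain ⟨i, hi⟩ := hqd
    set c₁ := c ^ i with hc₁
    have hc₁o : orderOf c₁ = q := by
      rw [hc₁, orderOf_pow, hi, Nat.gcd_eq_right (Dvd.intro_left q rfl)]
      refine Nat.mul_div_cancel _ (Nat.pos_of_ne_zero fun h0 => ?_)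
      rw [h0, mul_zero] at hi
      exact (orderOf_pos c).ne' hi
    have hc₁n : c₁ * n = n * c₁ := (Commute.pow_left hcn i).eq
    obtain ⟨y₀, hy₀⟩ := QuotientGroup.mk'_surjective (Subgroup.center G) c₁
    obtain ⟨x₀, hx₀, rfl⟩ := hn
    have hy₀H : y₀ ∉ H := fun h => hq.ne_one (by
      rw [← hc₁o, orderOf_eq_one_iff]
      exact (Subgroup.disjoint_def.1 hK.disjoint) (hy₀ ▸ Subgroup.mem_map_of_mem ζ h) (pow_mem hc i))
    have hqσ' : ¬ σ q := fun hqs => by
      refine hindex q hq ?_ hqs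
      rw [← hNindex, ← hc₁o]
      rw [hK.symm.index_eq_card]
      exact Subgroup.orderOf_dvd_natCard K (pow_mem hc i)
    -- the `q`-part of the lift
    obtain ⟨e, m, hqm, hm⟩ : ∃ e m : ℕ, ¬ q ∣ m ∧ orderOf y₀ = q ^ e * m :=
      ⟨_, _, Nat.not_dvd_ordCompl hq (orderOf_pos y₀).ne', (Nat.ordProj_mul_ordCompl_eq_self _ q).symm⟩
    set y := y₀ ^ m with hy
    have hyo : (y) ^ q ^ e = 1 := by rw [hy, ← pow_mul, mul_comm, ← hm, pow_orderOf_eq_one]
    have hyH : y ∉ H := fun h => hy₀H (by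
      obtain ⟨t, ht⟩ := exists_pow_eq_self_of_coprime (x := c₁) (n := m) (by
        rw [hc₁o]; exact (hq.coprime_iff_not_dvd.2 hqm).symm)
      have h5 : ζ y₀ ∈ N := by
        rw [hζ, hy₀, ← ht, ← hy₀, ← map_pow, ← hy]
        exact pow_mem (Subgroup.mem_map_of_mem ζ h) t
      obtain ⟨w, hw, hwy⟩ := h5
      have := mul_mem hw (Subgroup.mem_sup_left ((QuotientGroup.eq.1 hwy) : w⁻¹ * y₀ ∈ Subgroup.center G) : w⁻¹ * y₀ ∈ H)
      rwa [mul_inv_cancel_left] at this)
    obtain ⟨e', m', hqm', hm'⟩ : ∃ e m : ℕ, ¬ q ∣ m ∧ orderOf x₀ = q ^ e * m :=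
      ⟨_, _, Nat.not_dvd_ordCompl hq (orderOf_pos x₀).ne', (Nat.ordProj_mul_ordCompl_eq_self _ q).symm⟩
    set x := x₀ ^ q ^ e' with hx
    have hxH : x ∈ H := pow_mem hx₀ _
    have hxo : x ^ m' = 1 := by rw [hx, ← pow_mul, ← hm', pow_orderOf_eq_one]
    have hxZ : x ∉ Subgroup.center G := fun h => hne.2 (by
      obtain ⟨s, hs0, hsσ, hsz⟩ := hHσ x₀ hx₀
      rw [← orderOf_eq_one_iff]
      refine Nat.eq_one_of_dvd_coprimes (Nat.Coprime.pow_left e' (hq.coprime_iff_not_dvd.2 fun hd => hqσ' (hsσ q hq hd)))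
        (orderOf_dvd_of_pow_eq_one ?_) (orderOf_dvd_of_pow_eq_one ?_)
      · rw [← map_pow]; exact (QuotientGroup.eq_one_iff _).2 h
      · rw [← map_pow]; exact (QuotientGroup.eq_one_iff _).2 hsz)
    -- the commutator is central of coprime order
    set z := ⁅y, x⁆ with hz
    have hzc : z ∈ Subgroup.center G := by
      refine (QuotientGroup.eq_one_iff z).1 ?_
      show ζ ⁅y, x⁆ = 1
      rw [map_commutatorElement, commutatorElement_eq_one_iff_mul_comm, hy, hx, map_pow, map_pow,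
        show ζ y₀ = c₁ from hy₀]
      exact ((Commute.pow_left hc₁n m).pow_right _).eq
    have hcz : ∀ w, Commute z w := fun w => (Subgroup.mem_center_iff.1 hzc w).symm
    have hyx : y * x * y⁻¹ = z * x := by rw [hz, commutatorElement_def, inv_mul_cancel_right]
    have hz1 : z ^ m' = 1 := by
      have h6 : (y * x * y⁻¹) ^ m' = z ^ m' * x ^ m' := by rw [hyx, (hcz x).mul_pow]
      rw [conj_pow, hxo, mul_one, mul_inv_cancel, mul_one] at h6
      exact h6.symm
    have hz2 : z ^ q ^ e = 1 := by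
      have h6 : x * y * x⁻¹ = z⁻¹ * y := by rw [hz, commutatorElement_def]; group
      have h7 : (x * y * x⁻¹) ^ q ^ e = z⁻¹ ^ q ^ e * y ^ q ^ e := by rw [h6, ((hcz y).inv_left).mul_pow]
      rw [conj_pow, hyo, mul_one, mul_inv_cancel, mul_one, inv_pow, eq_comm, inv_eq_one] at h7
      exact h7
    have hz0 : z = 1 := by
      rw [← orderOf_eq_one_iff]
      exact Nat.eq_one_of_dvd_coprimes (Nat.Coprime.pow_left e (hq.coprime_iff_not_dvd.2 hqm'))
        (orderOf_dvd_of_pow_eq_one hz2) (orderOf_dvd_of_pow_eq_one hz1)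
    have hxy : x * y = y * x := by
      rw [hz, commutatorElement_eq_one_iff_mul_comm] at hz0
      exact hz0.symm
    have hco : (orderOf x).Coprime (orderOf y) :=
      Nat.Coprime.coprime_dvd_left (orderOf_dvd_of_pow_eq_one hxo)
        (Nat.Coprime.coprime_dvd_right (orderOf_dvd_of_pow_eq_one hyo)
          (Nat.Coprime.pow_right e (hq.coprime_iff_not_dvd.2 hqm').symm))
    have hxside : InSide (fun l => ¬ σ l) x := fun l hl hd => hindex l hl
      (hd.trans (Subgroup.index_dvd_of_le (hHcl x hxH)))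
    rcases dichotomy_mul h1 hxy hco hxside (hout y hyH).1 with h | h
    · exact hxZ (sz_one_iff.1 h)
    · exact (hout y hyH).2 h
  obtain ⟨hfc, hker⟩ := PrimeCodegree.isFrobeniusComplement_of_regular hK hK1 hN1 hreg
  refine ⟨K, hfc, .of_setLike_mul_comm fun a ha b hb => ?_, fun a ha b hb => ?_⟩
  · -- `K` embeds in the abelian quotient
    obtain ⟨a₁, rfl⟩ := QuotientGroup.mk'_surjective (Subgroup.center G) a
    obtain ⟨b₁', rfl⟩ := QuotientGroup.mk'_surjective (Subgroup.center G) b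
    rw [← commutatorElement_eq_one_iff_mul_comm]
    refine (Subgroup.disjoint_def.1 hK.disjoint) ?_ ?_
    · rw [← map_commutatorElement]
      refine Subgroup.mem_map_of_mem ζ ((QuotientGroup.eq_one_iff _).1 ?_)
      show π ⁅a₁, b₁'⁆ = 1
      rw [map_commutatorElement, commutatorElement_eq_one_iff_mul_comm]
      exact hquot _ _
    · exact Subgroup.commutator_le.2 (fun u hu v hv => by
        rw [commutatorElement_def]; exact mul_mem (mul_mem (mul_mem hu hv) (inv_mem hu)) (inv_mem hv))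
        (Subgroup.commutator_mem_commutator ha hb)
  · rw [hker] at ha hb
    exact hNab a ha b hb

/-- Disconnected class-size graph. -/
theorem of_disconnected (S : Set ℕ) (hS : ∃ p ∈ S, p.Prime ∧ ∃ g : G, p ∣ sz g)
    (hS' : ∃ q ∉ S, q.Prime ∧ ∃ g : G, q ∣ sz g)
    (hdisc : ∀ p q : ℕ, p.Prime → q.Prime → p ∈ S → q ∉ S → ∀ g : G, p ∣ sz g → ¬ q ∣ sz g) :
    ∃ H : Subgroup (G ⧸ Subgroup.center G), Cfsg.IsFrobeniusComplement H ∧ IsMulCommutative H ∧
      ∀ x ∈ Cfsg.frobeniusKernel H, ∀ y ∈ Cfsg.frobeniusKernel H, x * y = y * x := by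
  classical
  have h1 : ∀ g : G, InSide (fun l => l ∈ S) g ∨ InSide (fun l => l ∉ S) g := by
    intro g
    by_cases h : ∃ p : ℕ, p.Prime ∧ p ∈ S ∧ p ∣ sz g
    · obtain ⟨p, hp, hpS, hpd⟩ := h
      exact Or.inl fun l hl hd => by_contra fun hlS => hdisc p l hp hl hpS hlS g hpd hd
    · exact Or.inr fun l hl hd hlS => h ⟨l, hl, hlS, hd⟩
  obtain ⟨a₀, hmax⟩ := Finite.exists_max (fun g : G => sz g)
  rcases h1 a₀ with ha | ha
  · obtain ⟨q, hqS, hq, g, hg⟩ := hS'
    exact main h1 a₀ hmax ha g hq hqS hg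
  · obtain ⟨q, hqS, hq, g, hg⟩ := hS
    exact main (σ := fun l => l ∉ S) (fun g => (h1 g).symm.imp id (fun h l hl hd => not_not.2 (h l hl hd)))
      a₀ hmax ha g hq (not_not.2 hqS) hg

end Cfsg.Agent.ClassGraph
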