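import Mathlib.RingTheory.IntegralDomain
import Mathlib.LinearAlgebra.LinearIndependent.Lemmas
import Mathlib.LinearAlgebra.FreeModule.Finite.Matrix
import Mathlib.Algebra.Module.ZMod
import Mathlib.RepresentationTheory.Basic
import Mathlib.GroupTheory.PGroup
import Mathlib.GroupTheory.Nilpotent
import Mathlib.FieldTheory.Finite.Basic

/-!
The fixed spaces of a conjugacy class inside a normal `p`-subgroup, `p` odd, of an irreducible
linear group in coprime characteristic do not cover the space.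
-/

set_option autoImplicit false
set_option linter.style.haveILetI false
set_option linter.unusedSectionVars false

open Module
open scoped commutatorElement

universe v

namespace Cfsg.Agent.ClassCover

variable {r : ℕ} [Fact r.Prime] {V : Type v} [AddCommGroup V] [Module (ZMod r) V] [Finite V]

/-- Irreducibility of a linear group. -/
def Irred (M : Subgroup (Module.End (ZMod r) V)ˣ) : Prop :=
  ∀ U : Submodule (ZMod r) V, (∀ m ∈ M, ∀ x ∈ U, (m : Module.End (ZMod r) V) x ∈ U) → U = ⊥ ∨ U = ⊤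

/-- A system of orthogonal idempotents permuted by a linear group. -/
structure System (M : Subgroup (Module.End (ZMod r) V)ˣ) (S : Finset (Module.End (ZMod r) V)) :
    Prop where
  ne_zero : ∀ e ∈ S, e ≠ 0
  idem : ∀ e ∈ S, e * e = e
  orth : ∀ e ∈ S, ∀ f ∈ S, e ≠ f → e * f = 0
  total : ∑ e ∈ S, e = 1
  perm : ∀ m ∈ M, ∀ e ∈ S, (m : Module.End (ZMod r) V) * e * ↑m⁻¹ ∈ S

section Basic

variable {M : Subgroup (Module.End (ZMod r) V)ˣ}

theorem finite_end : Finite (Module.End (ZMod r) V) :=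
  Finite.of_injective (fun f => (f : V → V)) DFunLike.coe_injective

theorem finite_units : Finite (Module.End (ZMod r) V)ˣ :=
  haveI := finite_end (r := r) (V := V)
  Finite.of_injective Units.val Units.val_injective

/-- Conjugation of endomorphisms by units. -/
theorem conj_conj (a b : (Module.End (ZMod r) V)ˣ) (e : Module.End (ZMod r) V) :
    (↑(a * b) : Module.End (ZMod r) V) * e * ↑(a * b)⁻¹ =
      (a : Module.End (ZMod r) V) * ((b : Module.End (ZMod r) V) * e * ↑b⁻¹) * ↑a⁻¹ := by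
  rw [Units.val_mul, mul_inv_rev, Units.val_mul]
  simp only [mul_assoc]

theorem conj_mul (a : (Module.End (ZMod r) V)ˣ) (e f : Module.End (ZMod r) V) :
    (a : Module.End (ZMod r) V) * (e * f) * ↑a⁻¹ =
      ((a : Module.End (ZMod r) V) * e * ↑a⁻¹) * ((a : Module.End (ZMod r) V) * f * ↑a⁻¹) := by
  simp only [mul_assoc, Units.inv_mul_cancel_left]

theorem conj_inv_conj (a : (Module.End (ZMod r) V)ˣ) (e : Module.End (ZMod r) V) :
    (↑a⁻¹ : Module.End (ZMod r) V) * ((a : Module.End (ZMod r) V) * e * ↑a⁻¹) * (a : Module.End (ZMod r) V) = e := by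
  simp only [mul_assoc, Units.inv_mul_cancel_left, Units.inv_mul, mul_one]

/-- In a minimal system a normal subgroup fixes every member or is transitive. -/
theorem fix_or_transitive {S : Finset (Module.End (ZMod r) V)} (hS : System M S)
    (hmin : ∀ S', System M S' → 2 ≤ S'.card → S.card ≤ S'.card)
    (Q : Subgroup (Module.End (ZMod r) V)ˣ) (hQM : Q ≤ M) (hQn : ∀ m ∈ M, ∀ y ∈ Q, m * y * m⁻¹ ∈ Q) :
    (∀ y ∈ Q, ∀ e ∈ S, (y : Module.End (ZMod r) V) * e * ↑y⁻¹ = e) ∨
      (∀ e ∈ S, ∀ f ∈ S, ∃ y ∈ Q, (y : Module.End (ZMod r) V) * e * ↑y⁻¹ = f) := by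
  classical
  let R : Module.End (ZMod r) V → Module.End (ZMod r) V → Prop := fun e f =>
    ∃ y ∈ Q, (y : Module.End (ZMod r) V) * e * ↑y⁻¹ = f
  have hrefl : ∀ e, R e e := fun e => ⟨1, one_mem Q, by simp⟩
  have hsymm : ∀ e f, R e f → R f e := by
    rintro e f ⟨y, hy, rfl⟩
    exact ⟨y⁻¹, inv_mem hy, by rw [inv_inv]; exact conj_inv_conj y e⟩
  have htrans : ∀ e f g, R e f → R f g → R e g := by
    rintro e f g ⟨y, hy, rfl⟩ ⟨z, hz, rfl⟩
    exact ⟨z * y, mul_mem hz hy, conj_conj z y e⟩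
  let O : Module.End (ZMod r) V → Finset (Module.End (ZMod r) V) := fun e => S.filter fun f => R e f
  have hOmem : ∀ e f, f ∈ O e ↔ f ∈ S ∧ R e f := fun e f => Finset.mem_filter
  have hOeq : ∀ e f, R e f → O e = O f := fun e f h => Finset.filter_congr fun g _ =>
    ⟨fun hg => htrans _ _ _ (hsymm _ _ h) hg, fun hg => htrans _ _ _ h hg⟩
  set T := S.image O with hT
  have hTdisj : ∀ P ∈ T, ∀ P' ∈ T, P ≠ P' → ∀ f ∈ P, f ∉ P' := by
    intro P hP P' hP' hne f hf hf'
    obtain ⟨e, -, rfl⟩ := Finset.mem_image.1 hP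
    obtain ⟨e', -, rfl⟩ := Finset.mem_image.1 hP'
    exact hne ((hOeq e f ((hOmem _ _).1 hf).2).trans (hOeq e' f ((hOmem _ _).1 hf').2).symm)
  let sm : Finset (Module.End (ZMod r) V) → Module.End (ZMod r) V := fun P => ∑ f ∈ P, f
  have hTsub : ∀ P ∈ T, ∀ f ∈ P, f ∈ S := by
    intro P hP f hf
    obtain ⟨e, -, rfl⟩ := Finset.mem_image.1 hP
    exact ((hOmem _ _).1 hf).1
  have hmulsm : ∀ P ∈ T, ∀ f ∈ S, f * sm P = if f ∈ P then f else 0 := by
    intro P hP f hf
    simp only [sm, Finset.mul_sum]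
    split_ifs with h
    · rw [Finset.sum_eq_single f (fun g hg hne => hS.orth f hf g (hTsub P hP g hg) hne.symm)
        (fun h' => absurd h h'), hS.idem f hf]
    · exact Finset.sum_eq_zero fun g hg => hS.orth f hf g (hTsub P hP g hg) fun e => h (e ▸ hg)
  have hsmmul : ∀ P ∈ T, ∀ P' ∈ T, sm P * sm P' = if P = P' then sm P else 0 := by
    intro P hP P' hP'
    conv_lhs => arg 1; simp only [sm]
    rw [Finset.sum_mul, Finset.sum_congr rfl fun f hf => hmulsm P' hP' f (hTsub P hP f hf)]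
    split_ifs with h
    · subst h
      exact Finset.sum_congr rfl fun f hf => if_pos hf
    · exact Finset.sum_eq_zero fun f hf => if_neg (hTdisj P hP P' hP' h f hf)
  have hTne : ∀ P ∈ T, sm P ≠ 0 := by
    intro P hP h0
    obtain ⟨e, he, rfl⟩ := Finset.mem_image.1 hP
    have h1 := hmulsm (O e) hP e he
    rw [h0, mul_zero, if_pos ((hOmem e e).2 ⟨he, hrefl e⟩)] at h1
    exact hS.ne_zero e he h1.symm
  have hinj : Set.InjOn sm (T : Set (Finset (Module.End (ZMod r) V))) := by
    intro P hP P' hP' he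
    by_contra hne
    have h1 := hsmmul P hP P' hP'
    rw [if_neg hne, ← he] at h1
    have h2 := hsmmul P hP P hP
    rw [if_pos rfl, h1] at h2
    exact hTne P hP h2.symm
  have hS' : System M (T.image sm) := by
    refine ⟨?_, ?_, ?_, ?_, ?_⟩
    · intro e he
      obtain ⟨P, hP, rfl⟩ := Finset.mem_image.1 he
      exact hTne P hP
    · intro e he
      obtain ⟨P, hP, rfl⟩ := Finset.mem_image.1 he
      rw [hsmmul P hP P hP, if_pos rfl]
    · intro e he f hf hne
      obtain ⟨P, hP, rfl⟩ := Finset.mem_image.1 he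
      obtain ⟨P', hP', rfl⟩ := Finset.mem_image.1 hf
      rw [hsmmul P hP P' hP', if_neg fun h => hne (by rw [h])]
    · rw [Finset.sum_image hinj]
      simp only [sm]
      rw [← hS.total, ← Finset.sum_biUnion (fun P hP P' hP' hne => Finset.disjoint_left.2
        (hTdisj P hP P' hP' hne))]
      refine Finset.sum_congr ?_ fun _ _ => rfl
      ext f
      simp only [Finset.mem_biUnion, id_eq]
      exact ⟨fun ⟨P, hP, hf⟩ => hTsub P hP f hf,
        fun hf => ⟨O f, Finset.mem_image_of_mem O hf, (hOmem f f).2 ⟨hf, hrefl f⟩⟩⟩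
    · intro m hm e he
      obtain ⟨P, hP, rfl⟩ := Finset.mem_image.1 he
      obtain ⟨e₀, he₀, rfl⟩ := Finset.mem_image.1 hP
      refine Finset.mem_image.2 ⟨O ((m : Module.End (ZMod r) V) * e₀ * ↑m⁻¹),
        Finset.mem_image_of_mem O (hS.perm m hm e₀ he₀), ?_⟩
      simp only [sm, Finset.mul_sum, Finset.sum_mul]
      symm
      refine Finset.sum_nbij' (fun f => (m : Module.End (ZMod r) V) * f * ↑m⁻¹)
        (fun f => (↑m⁻¹ : Module.End (ZMod r) V) * f * m) ?_ ?_ ?_ ?_ fun f _ => rfl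
      · intro f hf
        rw [hOmem] at hf ⊢
        obtain ⟨hfS, y, hy, rfl⟩ := hf
        refine ⟨hS.perm m hm _ hfS, m * y * m⁻¹, hQn m hm y hy, ?_⟩
        rw [conj_conj (m * y) m⁻¹, inv_inv, conj_inv_conj, conj_conj]
      · intro f hf
        rw [hOmem] at hf ⊢
        obtain ⟨hfS, y, hy, hyf⟩ := hf
        have h2 := hS.perm m⁻¹ (inv_mem hm) f hfS
        rw [inv_inv] at h2
        refine ⟨h2, m⁻¹ * y * m, by simpa using hQn m⁻¹ (inv_mem hm) y hy, ?_⟩
        rw [← hyf, conj_conj (m⁻¹ * y) m, conj_conj m⁻¹ y, inv_inv]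
      · intro f _
        exact conj_inv_conj m f
      · intro f _
        simp only [mul_assoc, Units.mul_inv_cancel_left, Units.mul_inv, mul_one]
  rcases Nat.lt_or_ge T.card 2 with hlt | hge
  · right
    intro e he f hf
    have h1 : O e = O f := Finset.card_le_one.1 (by rw [hT] at hlt; omega) _ (Finset.mem_image_of_mem O he) _
      (Finset.mem_image_of_mem O hf)
    have h2 : f ∈ O e := h1 ▸ (hOmem f f).2 ⟨hf, hrefl f⟩
    exact ((hOmem e f).1 h2).2
  · left
    intro y hy e he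
    have h1 := hmin _ hS' (by rwa [Finset.card_image_of_injOn hinj])
    rw [Finset.card_image_of_injOn hinj] at h1
    have h2 := Finset.card_image_iff.1 (le_antisymm Finset.card_image_le h1)
    have hye := hS.perm y (hQM hy) e he
    exact h2 hye he (hOeq _ _ ⟨y, hy, rfl⟩).symm

/-- The algebra generated by an abelian normal subgroup of a primitive group has no zero
divisors. -/
theorem eq_zero_or_isUnit (hirr : Irred M) (hprim : ∀ S, System M S → S.card < 2)
    (B : Subalgebra (ZMod r) (Module.End (ZMod r) V)) (hBc : ∀ a ∈ B, ∀ b ∈ B, a * b = b * a)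
    (hBM : ∀ m ∈ M, ∀ b ∈ B, (m : Module.End (ZMod r) V) * b * ↑m⁻¹ ∈ B)
    {b : Module.End (ZMod r) V} (hb : b ∈ B) : b = 0 ∨ ∃ c ∈ B, b * c = 1 := by
  classical
  haveI := finite_end (r := r) (V := V)
  -- the nilpotent elements vanish
  have hnil : ∀ c ∈ B, ∀ n : ℕ, c ^ n = 0 → c = 0 := by
    intro c hc n hn
    by_contra hc0
    obtain ⟨i, hi, hi'⟩ : ∃ i, c ^ i ≠ 0 ∧ c ^ (i + 1) = 0 := by
      have hex : ∃ i, c ^ i = 0 := ⟨n, hn⟩
      obtain ⟨i, hi⟩ := Nat.exists_eq_succ_of_ne_zero (n := Nat.find hex) (fun h => by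
        have := Nat.find_spec hex
        rw [h, pow_zero] at this
        exact hc0 (by rw [← mul_one c, this, mul_zero]))
      exact ⟨i, Nat.find_min hex (by omega), by rw [← Nat.succ_eq_add_one, ← hi]; exact Nat.find_spec hex⟩
    have hi0 : i ≠ 0 := fun h => hc0 (by rw [h, zero_add, pow_one] at hi'; exact hi')
    -- the common kernel of the elements of square zero
    let U : Submodule (ZMod r) V :=
      ⨅ (d : Module.End (ZMod r) V) (_ : d ∈ B ∧ d * d = 0), LinearMap.ker d
    have hU : ∀ x, x ∈ U ↔ ∀ d, d ∈ B → d * d = 0 → d x = 0 := fun x => by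
      simp [U, Submodule.mem_iInf]
    have hd₀ : c ^ i ∈ B ∧ c ^ i * c ^ i = 0 := ⟨pow_mem hc i, by
      rw [← pow_add, show i + i = (i + 1) + (i - 1) by omega, pow_add, hi', zero_mul]⟩
    rcases hirr U (fun m hm x hx => (hU _).2 fun d hd hdd => by
      have h1 : (↑m⁻¹ : Module.End (ZMod r) V) * d * (m : Module.End (ZMod r) V) ∈ B := by
        have := hBM m⁻¹ (inv_mem hm) d hd
        rwa [inv_inv] at this
      have h2 := (hU x).1 hx _ h1 (by
        calc (↑m⁻¹ : Module.End (ZMod r) V) * d * m * (↑m⁻¹ * d * m)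
            = ↑m⁻¹ * (d * d) * m := by simp only [mul_assoc, Units.mul_inv_cancel_left]
          _ = 0 := by rw [hdd, mul_zero, zero_mul])
      have h3 := congrArg (m : Module.End (ZMod r) V) h2
      simp only [← Module.End.mul_apply, ← mul_assoc, Units.mul_inv, one_mul, map_zero] at h3
      simpa [Module.End.mul_apply] using h3) with h | h
    · -- commuting square zero elements have a common kernel
      have key : ∀ F : Finset (Module.End (ZMod r) V), (∀ d ∈ F, d ∈ B ∧ d * d = 0) →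
          ∃ x : V, x ≠ 0 ∧ ∀ d ∈ F, d x = 0 := by
        intro F
        induction F using Finset.induction with
        | empty =>
          intro _
          obtain ⟨x, hx⟩ : ∃ x : V, (c ^ i) x ≠ 0 := by
            by_contra hh
            push Not at hh
            exact hi (LinearMap.ext hh)
          exact ⟨_, hx, fun d hd => absurd hd (Finset.notMem_empty d)⟩
        | insert d F hdF ih =>
          intro hF
          obtain ⟨x, hx0, hx⟩ := ih fun e he => hF e (Finset.mem_insert_of_mem he)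
          obtain ⟨hdB, hdd⟩ := hF d (Finset.mem_insert_self d F)
          by_cases hdx : d x = 0
          · refine ⟨x, hx0, fun e he => ?_⟩
            rcases Finset.mem_insert.1 he with rfl | he
            · exact hdx
            · exact hx e he
          · refine ⟨d x, hdx, fun e he => ?_⟩
            rcases Finset.mem_insert.1 he with rfl | he
            · rw [← Module.End.mul_apply, hdd]; rfl
            · rw [← Module.End.mul_apply, hBc e (hF e (Finset.mem_insert_of_mem he)).1 d hdB,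
                Module.End.mul_apply, hx e he, map_zero]
      have := Fintype.ofFinite (Module.End (ZMod r) V)
      obtain ⟨x, hx0, hx⟩ := key (Finset.univ.filter fun d => d ∈ B ∧ d * d = 0)
        fun d hd => (Finset.mem_filter.1 hd).2
      exact hx0 ((Submodule.mem_bot (ZMod r)).1 (h ▸ (hU x).2 fun d hd hdd =>
        hx d (Finset.mem_filter.2 ⟨Finset.mem_univ _, hd, hdd⟩)))
    · exact hi (LinearMap.ext fun x => (hU x).1 (h.ge Submodule.mem_top) _ hd₀.1 hd₀.2)
  -- an idempotent power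
  obtain ⟨n, hn, he⟩ : ∃ n, 0 < n ∧ b ^ n * b ^ n = b ^ n := by
    obtain ⟨i, j, hij, h⟩ : ∃ i j : ℕ, i < j ∧ b ^ i = b ^ j := by
      obtain ⟨i, j, hne, h⟩ := Finite.exists_ne_map_eq_of_infinite (fun i : ℕ => b ^ i)
      rcases Nat.lt_or_gt_of_ne hne with h' | h'
      · exact ⟨i, j, h', h⟩
      · exact ⟨j, i, h', h.symm⟩
    have hper : ∀ t, i ≤ t → ∀ s, b ^ (t + s * (j - i)) = b ^ t := by
      intro t ht s
      induction s with
      | zero => simp
      | succ s ih =>
        rw [show t + (s + 1) * (j - i) = j + (t - i + s * (j - i)) by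
          rw [Nat.succ_mul]; omega, pow_add, ← h, ← pow_add,
          show i + (t - i + s * (j - i)) = t + s * (j - i) by omega, ih]
    refine ⟨(i + 1) * (j - i), Nat.mul_pos (by omega) (by omega), ?_⟩
    rw [← pow_add]
    exact hper _ (le_trans (Nat.le_succ i) (Nat.le_mul_of_pos_right _ (by omega))) (i + 1)
  set e := b ^ n with he'
  have heB : e ∈ B := pow_mem hb n
  by_cases he0 : e = 0
  · exact Or.inl (hnil b hb n he0)
  by_cases he1 : e = 1
  · refine Or.inr ⟨b ^ (n - 1), pow_mem hb _, ?_⟩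
    rw [← pow_succ', Nat.sub_add_cancel hn]
    exact he1
  exfalso
  -- the atoms generated by the translates of `e`
  letI : CommRing B := { (inferInstance : Ring B) with mul_comm := fun a c => Subtype.ext (hBc _ a.2 _ c.2) }
  haveI : Finite M := haveI := finite_units (r := r) (V := V); inferInstance
  have := Fintype.ofFinite M
  let cj : M → B → B := fun m a =>
    ⟨((m : (Module.End (ZMod r) V)ˣ) : Module.End (ZMod r) V) * a * ↑(m : (Module.End (ZMod r) V)ˣ)⁻¹,
      hBM m m.2 a a.2⟩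
  have hcj_mul : ∀ m a c, cj m (a * c) = cj m a * cj m c := fun m a c => Subtype.ext (conj_mul _ _ _)
  let eM : M → B := fun m => cj m ⟨e, heB⟩
  set O : Finset B := Finset.univ.image eM with hO
  have hOid : ∀ f ∈ O, f * f = f := by
    intro f hf
    obtain ⟨m, -, rfl⟩ := Finset.mem_image.1 hf
    rw [← hcj_mul]
    exact congrArg (cj m) (Subtype.ext he)
  let atom : Finset B → B := fun s => (∏ f ∈ s, f) * ∏ f ∈ O \ s, (1 - f)
  have hmul_atom : ∀ s, s ⊆ O → ∀ f ∈ O, f * atom s = if f ∈ s then atom s else 0 := by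
    intro s hs f hf
    simp only [atom]
    split_ifs with h
    · rw [← mul_assoc, ← Finset.mul_prod_erase s (fun f => f) h, ← mul_assoc f, hOid f hf]
    · rw [← Finset.mul_prod_erase (O \ s) (fun f => 1 - f) (Finset.mem_sdiff.2 ⟨hf, h⟩),
        ← mul_assoc, mul_comm f, mul_assoc (∏ f ∈ s, f), ← mul_assoc f, mul_sub, mul_one, hOid f hf,
        sub_self, zero_mul, mul_zero]
  have hatom_one : ∑ s ∈ O.powerset, atom s = 1 := by
    simp only [atom]
    rw [← Finset.prod_add (fun f : B => f) (fun f => 1 - f) O]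
    exact Finset.prod_eq_one fun f _ => by rw [add_sub_cancel]
  have horth : ∀ s, s ⊆ O → ∀ t, t ⊆ O → s ≠ t → atom s * atom t = 0 := by
    suffices h : ∀ s, s ⊆ O → ∀ t, t ⊆ O → ∀ f ∈ s, f ∉ t → atom s * atom t = 0 by
      intro s hs t ht hne
      obtain ⟨f, hf⟩ : ∃ f, ¬ (f ∈ s ↔ f ∈ t) := by
        by_contra hh
        push Not at hh
        exact hne (Finset.ext hh)
      by_cases hfs : f ∈ s
      · exact h s hs t ht f hfs fun hft => hf (iff_of_true hfs hft)
      · rw [mul_comm]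
        exact h t ht s hs f (by by_contra hft; exact hf (iff_of_false hfs hft)) hfs
    intro s hs t ht f hfs hft
    have h1 : atom s = f * atom s := (hmul_atom s hs f (hs hfs)).trans (if_pos hfs) |>.symm
    rw [h1, mul_comm f, mul_assoc, hmul_atom t ht f (hs hfs), if_neg hft, mul_zero]
  have hidem : ∀ s, s ⊆ O → atom s * atom s = atom s := by
    intro s hs
    have h1 := congrArg (atom s * ·) hatom_one
    simp only [Finset.mul_sum, mul_one] at h1
    rwa [Finset.sum_eq_single s (fun t ht hne => horth s hs t (Finset.mem_powerset.1 ht) hne.symm)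
      (fun h => absurd (Finset.mem_powerset.2 hs) h)] at h1
  set A := O.powerset.filter (fun s => atom s ≠ 0) with hA
  have hAO : ∀ s ∈ A, s ⊆ O := fun s hs => Finset.mem_powerset.1 (Finset.mem_filter.1 hs).1
  have hAne : ∀ s ∈ A, atom s ≠ 0 := fun s hs => (Finset.mem_filter.1 hs).2
  have hinjA : Set.InjOn (fun s => ((atom s : B) : Module.End (ZMod r) V)) (A : Set (Finset B)) := by
    intro s hs t ht h
    by_contra hne
    have h1 := horth s (hAO s hs) t (hAO t ht) hne
    rw [← Subtype.ext h, hidem s (hAO s hs)] at h1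
    exact hAne s hs h1
  have hsumA : ∑ s ∈ A, atom s = 1 := by
    rw [hA, Finset.sum_filter_ne_zero, hatom_one]
  have hperm : ∀ m : M, ∀ s, s ⊆ O → s.image (cj m) ⊆ O ∧ cj m (atom s) = atom (s.image (cj m)) := by
    intro m s hs
    let ρ : B →* B :=
      { toFun := cj m
        map_one' := Subtype.ext (by simp [cj])
        map_mul' := hcj_mul m }
    have hinj : Function.Injective (cj m) := fun a c h => Subtype.ext (by
      have := congrArg (fun x : B => (↑(m : (Module.End (ZMod r) V)ˣ)⁻¹ : Module.End (ZMod r) V) * (x : Module.End (ZMod r) V) * ((m : (Module.End (ZMod r) V)ˣ) : Module.End (ZMod r) V)) h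
      simpa only [cj, conj_inv_conj] using this)
    have himO : O.image (cj m) = O := by
      refine Finset.eq_of_subset_of_card_le (fun f hf => ?_) (Finset.card_image_of_injective _ hinj).ge
      obtain ⟨g, hg, rfl⟩ := Finset.mem_image.1 hf
      obtain ⟨m', -, rfl⟩ := Finset.mem_image.1 hg
      refine Finset.mem_image.2 ⟨m * m', Finset.mem_univ _, Subtype.ext ?_⟩
      exact conj_conj _ _ _
    have hsub1 : ∀ f, cj m (1 - f) = 1 - cj m f := fun f => Subtype.ext (by
      simp [cj, mul_sub, sub_mul])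
    refine ⟨(Finset.image_subset_image hs).trans himO.le, ?_⟩
    show ρ (_ * _) = (∏ f ∈ s.image (cj m), f) * ∏ f ∈ O \ s.image (cj m), (1 - f)
    rw [map_mul, map_prod, map_prod, Finset.prod_image hinj.injOn,
      show O \ s.image (cj m) = (O \ s).image (cj m) by rw [Finset.image_sdiff _ _ hinj, himO],
      Finset.prod_image hinj.injOn]
    exact congrArg _ (Finset.prod_congr rfl fun f _ => hsub1 f)
  refine absurd (hprim (A.image fun s => ((atom s : B) : Module.End (ZMod r) V)) ⟨?_, ?_, ?_, ?_, ?_⟩) ?_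
  · intro f hf
    obtain ⟨s, hs, rfl⟩ := Finset.mem_image.1 hf
    exact fun h => hAne s hs (Subtype.ext h)
  · intro f hf
    obtain ⟨s, hs, rfl⟩ := Finset.mem_image.1 hf
    exact congrArg Subtype.val (hidem s (hAO s hs))
  · intro f hf g hg hne
    obtain ⟨s, hs, rfl⟩ := Finset.mem_image.1 hf
    obtain ⟨t, ht, rfl⟩ := Finset.mem_image.1 hg
    exact congrArg Subtype.val (horth s (hAO s hs) t (hAO t ht) fun h => hne (by rw [h]))
  · rw [Finset.sum_image hinjA]
    have := congrArg (fun x : B => (x : Module.End (ZMod r) V)) hsumA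
    simpa using this
  · intro m hm f hf
    obtain ⟨s, hs, rfl⟩ := Finset.mem_image.1 hf
    obtain ⟨h1, h2⟩ := hperm ⟨m, hm⟩ s (hAO s hs)
    refine Finset.mem_image.2 ⟨_, Finset.mem_filter.2 ⟨Finset.mem_powerset.2 h1, ?_⟩,
      (congrArg Subtype.val h2).symm⟩
    rw [← h2]
    intro h0
    refine hAne s hs (Subtype.ext ?_)
    have h3 := congrArg (fun x : B => (↑m⁻¹ : Module.End (ZMod r) V) * (x : Module.End (ZMod r) V) * (m : Module.End (ZMod r) V)) h0
    simpa [cj, conj_inv_conj] using h3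
  · rw [Finset.card_image_of_injOn hinjA, not_lt]
    by_contra hlt
    obtain ⟨s, hs⟩ : ∃ s, s ∈ A := by
      by_contra h
      push Not at h
      rw [Finset.eq_empty_of_forall_notMem h, Finset.sum_empty] at hsumA
      exact he0 (by
        have := congrArg (fun x : B => (x : Module.End (ZMod r) V) * e) hsumA
        simpa using this.symm)
    have hAs : A = {s} := Finset.eq_singleton_iff_unique_mem.2
      ⟨hs, fun t ht => Finset.card_le_one.1 (by omega) t ht s hs⟩
    rw [hAs, Finset.sum_singleton] at hsumA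
    have heO : (⟨e, heB⟩ : B) ∈ O := Finset.mem_image.2 ⟨1, Finset.mem_univ _, Subtype.ext (by simp [eM, cj])⟩
    have h1 := hmul_atom s (hAO s hs) _ heO
    rw [hsumA, mul_one] at h1
    split_ifs at h1
    · exact he1 (congrArg Subtype.val h1)
    · exact he0 (congrArg Subtype.val h1)

end Basic

/-- The arithmetic used for the counting. -/
theorem arith_in {p N D y v : ℕ} (hp : 3 ≤ p) (hN : N ≤ D * D) (hD : 3 ≤ D) (hy : y < N * p)
    (hv : (p + 1) ^ D ≤ v) : y ^ 3 < (p - 1) ^ 3 * v ^ 2 := by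
  have key : ∀ D : ℕ, 3 ≤ D → (3 * (D * D)) ^ 3 ≤ 8 * (4 ^ D) ^ 2 := by
    intro D hD
    induction D, hD using Nat.le_induction with
    | base => norm_num
    | succ n hn ih =>
      have h1 : (n + 1) * (n + 1) ≤ 2 * (n * n) := by nlinarith
      calc (3 * ((n + 1) * (n + 1))) ^ 3 ≤ (3 * (2 * (n * n))) ^ 3 := by gcongr
        _ = 8 * (3 * (n * n)) ^ 3 := by ring
        _ ≤ 8 * (8 * (4 ^ n) ^ 2) := by gcongr
        _ ≤ 16 * (8 * (4 ^ n) ^ 2) := by gcongr; norm_num
        _ = _ := by ring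
  have h1 : 2 * y < 3 * ((D * D) * (p - 1)) := by
    calc 2 * y < 2 * (N * p) := by omega
      _ ≤ 2 * (D * D * p) := by gcongr
      _ = (D * D) * (2 * p) := by ring
      _ ≤ (D * D) * (3 * (p - 1)) := Nat.mul_le_mul_left _ (by omega)
      _ = _ := by ring
  have h2 : (2 * y) ^ 3 < (3 * ((D * D) * (p - 1))) ^ 3 := Nat.pow_lt_pow_left h1 (by omega)
  have h3 : (3 * (D * D)) ^ 3 ≤ 8 * v ^ 2 := (key D hD).trans (by
    gcongr
    exact le_trans (Nat.pow_le_pow_left (by omega) D) hv)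
  have h4 : 8 * y ^ 3 < 8 * ((p - 1) ^ 3 * v ^ 2) := by
    calc 8 * y ^ 3 = (2 * y) ^ 3 := by ring
      _ < (3 * ((D * D) * (p - 1))) ^ 3 := h2
      _ = (3 * (D * D)) ^ 3 * (p - 1) ^ 3 := by ring
      _ ≤ 8 * v ^ 2 * (p - 1) ^ 3 := by gcongr
      _ = _ := by ring
  omega

theorem arith_out {p N D y v : ℕ} (hp : 3 ≤ p) (hN : N ≤ D * D) (hD1 : 1 ≤ D) (hD : N = 1 ∨ 3 ≤ D)
    (hy : y ≤ N * p) (hv : (p ^ 2 + 1) ^ D ≤ v) : y ^ 3 < v ^ 2 := by
  have h1 : y ^ 3 ≤ (N * p) ^ 3 := Nat.pow_le_pow_left hy 3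
  rcases hD with rfl | hD
  · have h2 : p ^ 2 < v :=
      lt_of_lt_of_le (Nat.lt_succ_self _) ((Nat.le_self_pow (by omega) _).trans hv)
    have h3 : p ^ 4 ≤ v ^ 2 := by
      calc p ^ 4 = (p ^ 2) ^ 2 := by ring
        _ ≤ v ^ 2 := Nat.pow_le_pow_left h2.le 2
    rw [one_mul] at h1
    calc y ^ 3 ≤ p ^ 3 := h1
      _ < p ^ 4 := Nat.pow_lt_pow_right (by omega) (by omega)
      _ ≤ v ^ 2 := h3
  have key : ∀ D : ℕ, 3 ≤ D → (D * D) ^ 3 * 27 < 3 ^ (4 * D) := by
    intro D hD
    induction D, hD using Nat.le_induction with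
    | base => norm_num
    | succ n hn ih =>
      have h1 : (n + 1) * (n + 1) ≤ 2 * (n * n) := by nlinarith
      calc ((n + 1) * (n + 1)) ^ 3 * 27 ≤ (2 * (n * n)) ^ 3 * 27 := by gcongr
        _ = 8 * ((n * n) ^ 3 * 27) := by ring
        _ < 8 * 3 ^ (4 * n) := by gcongr
        _ ≤ 81 * 3 ^ (4 * n) := by gcongr; norm_num
        _ = _ := by ring
  have h5 : (D * D * p) ^ 3 < p ^ (4 * D) := by
    have h6 : (D * D) ^ 3 < p ^ (4 * D - 3) := by
      refine lt_of_lt_of_le ?_ (Nat.pow_le_pow_left hp _)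
      have h7 := key D hD
      rw [show 4 * D = (4 * D - 3) + 3 by omega, pow_add] at h7
      norm_num at h7
      exact h7
    calc (D * D * p) ^ 3 = (D * D) ^ 3 * p ^ 3 := by ring
      _ < p ^ (4 * D - 3) * p ^ 3 := Nat.mul_lt_mul_of_pos_right h6 (by positivity)
      _ = p ^ (4 * D) := by rw [← pow_add]; congr 1; omega
  calc y ^ 3 ≤ (N * p) ^ 3 := h1
    _ ≤ (D * D * p) ^ 3 := by gcongr
    _ < p ^ (4 * D) := h5
    _ = ((p ^ 2) ^ D) ^ 2 := by rw [← pow_mul, ← pow_mul]; ring_nf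
    _ ≤ v ^ 2 := by
      refine Nat.pow_le_pow_left (le_trans (Nat.pow_le_pow_left ?_ D) hv) 2
      omega

/-- From a comparison of cubes to a comparison of `p`-th powers. -/
theorem pow_lt_of_cube {p a c v : ℕ} (hp : 3 ≤ p) (hv : 1 ≤ v) (h : a ^ 3 < c ^ 3 * v ^ 2) :
    a ^ p < c ^ p * v ^ (p - 1) := by
  have h1 : (a ^ p) ^ 3 < (c ^ p * v ^ (p - 1)) ^ 3 := by
    calc (a ^ p) ^ 3 = (a ^ 3) ^ p := by rw [← pow_mul, ← pow_mul, mul_comm]
      _ < (c ^ 3 * v ^ 2) ^ p := Nat.pow_lt_pow_left h (by omega)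
      _ = (c ^ p) ^ 3 * v ^ (2 * p) := by rw [mul_pow, ← pow_mul, ← pow_mul, ← pow_mul, mul_comm 3 p]
      _ ≤ (c ^ p) ^ 3 * v ^ ((p - 1) * 3) := Nat.mul_le_mul_left _ (Nat.pow_le_pow_right hv (by omega))
      _ = _ := by rw [mul_pow, ← pow_mul v]
  exact lt_of_pow_lt_pow_left₀ 3 (Nat.zero_le _) h1

/-- In a cyclic group there are at most `p` elements with `a ^ p = 1`. -/
theorem card_pow_eq_one_le {A : Type*} [Group A] [Finite A] [IsCyclic A] {p : ℕ} (hp : 0 < p) :
    Nat.card {a : A // a ^ p = 1} ≤ p := by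
  classical
  have := Fintype.ofFinite A
  rw [Nat.card_eq_fintype_card, Fintype.card_subtype]
  exact IsCyclic.card_pow_eq_one_le hp

section Primitive

variable {p : ℕ} [hp : Fact p.Prime]

/-- The eigenspaces of a translated element are independent. -/
theorem pow_card_fixed_le (y g c : (Module.End (ZMod r) V)ˣ) (hc : g * y * g⁻¹ = c * y)
    (hcp : c ^ p = 1) (hgc : Commute g c) (hcy : Commute c y)
    (hcinj : ∀ t : ℕ, ¬ p ∣ t → ∀ x : V, ((c ^ t : (Module.End (ZMod r) V)ˣ) : Module.End (ZMod r) V) x = x → x = 0)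
    (hpr : p ≠ r) :
    Nat.card {x : V // (y : Module.End (ZMod r) V) x = x} ^ p ≤ Nat.card V := by
  classical
  haveI : NeZero p := ⟨hp.out.ne_zero⟩
  have hiter : ∀ i : ℕ, g ^ i * y * (g ^ i)⁻¹ = c ^ i * y := by
    intro i
    induction i with
    | zero => simp
    | succ i ih =>
      calc g ^ (i + 1) * y * (g ^ (i + 1))⁻¹ = g * (g ^ i * y * (g ^ i)⁻¹) * g⁻¹ := by rw [pow_succ']; group
        _ = g * (c ^ i * y) * g⁻¹ := by rw [ih]
        _ = g * c ^ i * g⁻¹ * (g * y * g⁻¹) := by group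
        _ = _ := by rw [(hgc.pow_right i).eq, mul_inv_cancel_right, hc, pow_succ, mul_assoc]
  set C := {x : V // (y : Module.End (ZMod r) V) x = x}
  let Φ : (Fin p → C) → V := fun f =>
    ∑ i : Fin p, ((g ^ (i : ℕ) : (Module.End (ZMod r) V)ˣ) : Module.End (ZMod r) V) (f i : V)
  -- `y` on the translates
  have hy : ∀ (i : ℕ) (x : C), (y : Module.End (ZMod r) V)
      (((g ^ i : (Module.End (ZMod r) V)ˣ) : Module.End (ZMod r) V) x) =
      ((c ^ (p - i % p) : (Module.End (ZMod r) V)ˣ) : Module.End (ZMod r) V)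
        (((g ^ i : (Module.End (ZMod r) V)ˣ) : Module.End (ZMod r) V) x) := by
    intro i x
    have h1 : y * g ^ i = c ^ (p - i % p) * g ^ i * y := by
      have h2 : c ^ (p - i % p) * c ^ i = 1 := by
        rw [← pow_add]
        have h3 : p - i % p + i = p * (1 + i / p) := by
          have := Nat.mod_add_div i p
          have := Nat.mod_lt i hp.out.pos
          rw [Nat.mul_add, mul_one]
          omega
        rw [h3, pow_mul, hcp, one_pow]
      calc y * g ^ i = c ^ (p - i % p) * c ^ i * y * g ^ i := by rw [h2, one_mul]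
        _ = c ^ (p - i % p) * (g ^ i * y * (g ^ i)⁻¹) * g ^ i := by rw [hiter]; group
        _ = _ := by group
    rw [← Module.End.mul_apply, ← Units.val_mul, h1, Units.val_mul, Units.val_mul, Module.End.mul_apply,
      Module.End.mul_apply, x.2]
  have hinj : Function.Injective Φ := by
    intro f f' hff
    -- differences
    let w : Fin p → V := fun i =>
      ((g ^ (i : ℕ) : (Module.End (ZMod r) V)ˣ) : Module.End (ZMod r) V) ((f i : V) - f' i)
    have hw0 : ∑ i, w i = 0 := by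
      simp only [w, map_sub, Finset.sum_sub_distrib]
      exact sub_eq_zero.2 hff
    let e : Fin p → ℕ := fun i => p - (i : ℕ) % p
    have hyw : ∀ i, (y : Module.End (ZMod r) V) (w i) =
        ((c ^ e i : (Module.End (ZMod r) V)ˣ) : Module.End (ZMod r) V) (w i) := fun i => by
      simp only [w, map_sub]
      rw [hy, hy]
    have hyj : ∀ (j : ℕ) i, ((y ^ j : (Module.End (ZMod r) V)ˣ) : Module.End (ZMod r) V) (w i) =
        ((c ^ (j * e i) : (Module.End (ZMod r) V)ˣ) : Module.End (ZMod r) V) (w i) := by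
      intro j i
      induction j with
      | zero => simp
      | succ j ih =>
        rw [pow_succ', Units.val_mul, Module.End.mul_apply, ih, ← Module.End.mul_apply, ← Units.val_mul,
          (hcy.pow_left (j * e i)).symm.eq, Units.val_mul, Module.End.mul_apply, hyw, ← Module.End.mul_apply,
          ← Units.val_mul, ← pow_add, Nat.succ_mul]
    have hjsum : ∀ j : ℕ, ∑ i, ((c ^ (j * e i) : (Module.End (ZMod r) V)ˣ) : Module.End (ZMod r) V) (w i) = 0 :=
      fun j => by simp only [← hyj, ← map_sum, hw0, map_zero]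
    funext l
    have hzero : ∀ t : ℕ, ¬ p ∣ t → ∀ x : V,
        ∑ j ∈ Finset.range p, ((c ^ (j * t) : (Module.End (ZMod r) V)ˣ) : Module.End (ZMod r) V) x = 0 := by
      intro t ht x
      apply hcinj t ht
      rw [map_sum]
      have hper : ∀ j : ℕ, ((c ^ t : (Module.End (ZMod r) V)ˣ) : Module.End (ZMod r) V)
          (((c ^ (j * t) : (Module.End (ZMod r) V)ˣ) : Module.End (ZMod r) V) x) =
          ((c ^ ((j + 1) * t) : (Module.End (ZMod r) V)ˣ) : Module.End (ZMod r) V) x := fun j => by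
        rw [← Module.End.mul_apply, ← Units.val_mul, ← pow_add, Nat.succ_mul, add_comm]
      simp only [hper]
      have h1 := Finset.sum_range_succ' (fun j => ((c ^ (j * t) : (Module.End (ZMod r) V)ˣ) : Module.End (ZMod r) V) x) p
      have h2 := Finset.sum_range_succ (fun j => ((c ^ (j * t) : (Module.End (ZMod r) V)ˣ) : Module.End (ZMod r) V) x) p
      rw [h2] at h1
      have h3 : c ^ (p * t) = c ^ (0 * t) := by rw [pow_mul, hcp, one_pow, zero_mul, pow_zero]
      simp only [h3] at h1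
      exact (add_right_cancel h1).symm
    have h4 : ∑ j ∈ Finset.range p, ((c ^ (j * (p - e l % p)) : (Module.End (ZMod r) V)ˣ) : Module.End (ZMod r) V)
        (∑ i, ((c ^ (j * e i) : (Module.End (ZMod r) V)ˣ) : Module.End (ZMod r) V) (w i)) = 0 :=
      Finset.sum_eq_zero fun j _ => by rw [hjsum, map_zero]
    simp only [map_sum, ← Module.End.mul_apply, ← Units.val_mul, ← pow_add, ← mul_add] at h4
    rw [Finset.sum_comm, Finset.sum_eq_single l] at h4
    rotate_left
    · intro i _ hil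
      refine hzero _ (fun hd => hil ?_) _
      have hi := i.2
      have hl := l.2
      simp only [e] at hd
      rw [Nat.mod_eq_of_lt hi, Nat.mod_eq_of_lt hl] at hd
      rcases Nat.eq_zero_or_pos (l : ℕ) with hl0 | hl0
      · rw [hl0, Nat.sub_zero, Nat.mod_self, Nat.sub_zero] at hd
        have h5 : p ∣ p - (i : ℕ) := (Nat.dvd_add_right (dvd_refl p)).1 hd
        rcases Nat.eq_zero_or_pos (i : ℕ) with hi0 | hi0
        · exact Fin.ext (by omega)
        · have := Nat.le_of_dvd (by omega) h5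
          omega
      · rw [Nat.mod_eq_of_lt (by omega : p - (l : ℕ) < p), show p - (p - (l : ℕ)) = (l : ℕ) by omega] at hd
        obtain ⟨t, ht⟩ := hd
        rcases Nat.lt_or_ge t 2 with h2 | h2
        · interval_cases t
          · omega
          · exact Fin.ext (by omega)
        · have := Nat.mul_le_mul_left p h2
          omega
    · exact fun h => absurd (Finset.mem_univ _) h
    have h5 : ∀ j ∈ Finset.range p, c ^ (j * (p - e l % p + e l)) = 1 := fun j _ => by
      have h6 : p ∣ p - e l % p + e l := by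
        have := Nat.mod_add_div (e l) p
        have := Nat.mod_lt (e l) hp.out.pos
        exact ⟨1 + e l / p, by rw [Nat.mul_add, mul_one]; omega⟩
      obtain ⟨t, ht⟩ := h6
      rw [ht, show j * (p * t) = p * (j * t) by ring, pow_mul, hcp, one_pow]
    rw [Finset.sum_congr rfl fun j hj => by rw [h5 j hj, Units.val_one, Module.End.one_apply],
      Finset.sum_const, Finset.card_range, ← Nat.cast_smul_eq_nsmul (ZMod r), smul_eq_zero] at h4
    rcases h4 with h4 | h4
    · rw [CharP.cast_eq_zero_iff (ZMod r) r] at h4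
      exact absurd ((Nat.prime_dvd_prime_iff_eq (Fact.out : r.Prime) hp.out).1 h4).symm hpr
    · have h6 := congrArg ((g ^ (l : ℕ))⁻¹ : (Module.End (ZMod r) V)ˣ).val h4
      simp only [w, ← Module.End.mul_apply, ← Units.val_mul, inv_mul_cancel, Units.val_one, Module.End.one_apply,
        map_zero] at h6
      exact Subtype.ext (sub_eq_zero.1 h6)
  calc Nat.card C ^ p = Nat.card (Fin p → C) := by rw [Nat.card_fun, Nat.card_fin]
    _ ≤ Nat.card V := Nat.card_le_card_of_injective Φ hinj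

theorem sub_one_dvd_pow {u : ℤ} (hu : (p : ℤ) ∣ u - 1) :
    ∀ n : ℕ, (p : ℤ) ^ 2 ∣ 2 * (∑ i ∈ Finset.range n, u ^ i) - (2 * n + (u - 1) * (n * (n - 1))) ∧
      (p : ℤ) ^ 2 ∣ u ^ n - (1 + n * (u - 1))
  | 0 => by simp
  | n + 1 => by
    obtain ⟨h1, h2⟩ := sub_one_dvd_pow hu n
    have h3 : (p : ℤ) ^ 2 ∣ (u - 1) * (u - 1) := by rw [pow_two]; exact mul_dvd_mul hu hu
    constructor
    · have h4 := dvd_add h1 (h2.mul_left 2)
      rw [Finset.sum_range_succ]
      refine dvd_trans h4 (dvd_of_eq ?_)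
      push_cast
      ring
    · have h4 := dvd_add (h2.mul_left u) (h3.mul_left (n : ℤ))
      refine dvd_trans h4 (dvd_of_eq ?_)
      push_cast
      ring

/-- A geometric sum of length `p` is not divisible by `p ^ 2`, `p` odd. -/
theorem not_sq_dvd_geom {u : ℤ} (hu : (p : ℤ) ∣ u - 1) (hp3 : 3 ≤ p) :
    ¬ (p : ℤ) ^ 2 ∣ ∑ i ∈ Finset.range p, u ^ i := by
  intro h
  obtain ⟨h1, -⟩ := sub_one_dvd_pow hu p
  obtain ⟨t, ht⟩ := hu
  have h2 : (p : ℤ) ^ 2 ∣ (u - 1) * (p * (p - 1)) := ⟨t * (p - 1), by rw [ht]; ring⟩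
  have h3 : (p : ℤ) ^ 2 ∣ 2 * (p : ℤ) := by
    have := dvd_sub (dvd_sub (h.mul_left 2) h1) h2
    refine dvd_trans this (dvd_of_eq ?_)
    ring
  have h4 : p ^ 2 ∣ 2 * p := by exact_mod_cast h3
  rw [pow_two, Nat.mul_dvd_mul_iff_right hp.out.pos] at h4
  have := Nat.le_of_dvd (by norm_num) h4
  omega

/-- The primitive case. -/
theorem exists_moved_primitive {M : Subgroup (Module.End (ZMod r) V)ˣ} (hirr : Irred M)
    (hprim : ∀ S, System M S → S.card < 2) (P : Subgroup (Module.End (ZMod r) V)ˣ) (hPM : P ≤ M)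
    (hPn : ∀ m ∈ M, ∀ y ∈ P, m * y * m⁻¹ ∈ P) (hPp : IsPGroup p P) (hp3 : 3 ≤ p) (hpr : p ≠ r)
    {x : (Module.End (ZMod r) V)ˣ} (hxP : x ∈ P) (hxp : x ^ p = 1) (hx1 : x ≠ 1) :
    ∃ v : V, ∀ m ∈ M, ((m * x * m⁻¹ : (Module.End (ZMod r) V)ˣ) : Module.End (ZMod r) V) v ≠ v := by
  classical
  haveI := finite_units (r := r) (V := V)
  haveI := finite_end (r := r) (V := V)
  obtain ⟨w₀, hw₀⟩ : ∃ w : V, (x : Module.End (ZMod r) V) w ≠ w := by
    by_contra h
    push Not at h
    exact hx1 (Units.ext (LinearMap.ext h))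
  -- a maximal abelian normal subgroup
  let Ok : Subgroup (Module.End (ZMod r) V)ˣ → Prop := fun A =>
    A ≤ P ∧ (∀ m ∈ M, ∀ a ∈ A, m * a * m⁻¹ ∈ A) ∧ ∀ a ∈ A, ∀ b ∈ A, a * b = b * a
  haveI : Finite (Subgroup (Module.End (ZMod r) V)ˣ) := Finite.of_injective _ SetLike.coe_injective
  obtain ⟨A, -, ⟨hAP, hAn, hAc⟩, hAmax⟩ := Finite.exists_le_maximal (a := (⊥ : Subgroup (Module.End (ZMod r) V)ˣ)) (p := Ok)
    ⟨bot_le, fun m _ a ha => by rw [Subgroup.mem_bot.1 ha]; simp,
      fun a ha b hb => by rw [Subgroup.mem_bot.1 ha, Subgroup.mem_bot.1 hb]⟩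
  -- the field generated by `A`
  let B : Subalgebra (ZMod r) (Module.End (ZMod r) V) :=
    Algebra.adjoin (ZMod r) ((fun a : (Module.End (ZMod r) V)ˣ => (a : Module.End (ZMod r) V)) '' A)
  have hAB : ∀ a ∈ A, (a : Module.End (ZMod r) V) ∈ B := fun a ha => Algebra.subset_adjoin ⟨a, ha, rfl⟩
  have hBc : ∀ a ∈ B, ∀ b ∈ B, a * b = b * a := by
    intro a ha b hb
    refine (Algebra.commute_of_mem_adjoin_of_forall_mem_commute (R := ZMod r) hb fun c hc => ?_).eq
    refine (Algebra.commute_of_mem_adjoin_of_forall_mem_commute (R := ZMod r) ha fun d hd => ?_).symm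
    obtain ⟨c', hc', rfl⟩ := hc
    obtain ⟨d', hd', rfl⟩ := hd
    show (c' : Module.End (ZMod r) V) * d' = d' * c'
    rw [← Units.val_mul, hAc c' hc' d' hd', Units.val_mul]
  have hBM : ∀ m ∈ M, ∀ b ∈ B, (m : Module.End (ZMod r) V) * b * ↑m⁻¹ ∈ B := by
    intro m hm b hb
    induction hb using Algebra.adjoin_induction with
    | mem z hz =>
      obtain ⟨a, ha, rfl⟩ := hz
      rw [← Units.val_mul, ← Units.val_mul]
      exact hAB _ (hAn m hm a ha)
    | algebraMap t =>
      rw [← Algebra.commutes, mul_assoc, Units.mul_inv, mul_one]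
      exact B.algebraMap_mem t
    | add y z _ _ hy hz => rw [mul_add, add_mul]; exact B.add_mem hy hz
    | mul y z _ _ hy hz => rw [conj_mul]; exact B.mul_mem hy hz
  letI : CommRing B := { (inferInstance : Ring B) with mul_comm := fun a c => Subtype.ext (hBc _ a.2 _ c.2) }
  haveI : Nontrivial B := ⟨⟨0, 1, fun h => hw₀ (by
    have h1 := LinearMap.congr_fun (congrArg (fun b : B => (b : Module.End (ZMod r) V)) h)
    have h2 : ∀ z : V, z = 0 := fun z => (h1 z).symm
    rw [h2 w₀, map_zero])⟩⟩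
  have hfield : IsField B :=
    { exists_pair_ne := exists_pair_ne B
      mul_comm := mul_comm
      mul_inv_cancel := fun {b} hb => by
        obtain h | ⟨c, hc, hbc⟩ := eq_zero_or_isUnit hirr hprim B hBc hBM b.2
        · exact absurd (Subtype.ext h) hb
        · exact ⟨⟨c, hc⟩, Subtype.ext hbc⟩ }
  haveI : IsDomain B := hfield.isDomain
  have hfpf : ∀ a ∈ A, a ≠ 1 → ∀ z : V, (a : Module.End (ZMod r) V) z = z → z = 0 := by
    intro a ha ha1 z hz
    have hne : (⟨a, hAB a ha⟩ : B) - 1 ≠ 0 := fun h => ha1 (Units.ext (by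
      rw [sub_eq_zero] at h
      exact congrArg Subtype.val h))
    obtain ⟨c, hc⟩ := hfield.mul_inv_cancel hne
    have h1 : ((a : Module.End (ZMod r) V) - 1) * (c : Module.End (ZMod r) V) = 1 := congrArg Subtype.val hc
    have h2 : (c : Module.End (ZMod r) V) * ((a : Module.End (ZMod r) V) - 1) = 1 := by
      rw [← hBc _ (B.sub_mem (hAB a ha) B.one_mem) _ c.2, h1]
    have h3 := LinearMap.congr_fun h2 z
    rw [Module.End.mul_apply, LinearMap.sub_apply, Module.End.one_apply, hz, sub_self, map_zero] at h3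
    exact h3.symm
  by_cases hxA : x ∈ A
  · refine ⟨w₀, fun m hm h => hw₀ ?_⟩
    have h0 := hfpf _ (hAn m hm x hxA) (fun he => hx1 (by
      rwa [mul_inv_eq_one, mul_eq_left] at he)) w₀ h
    rw [h0, map_zero]
  -- `A` is cyclic
  let ι : A →* B :=
    { toFun := fun a => ⟨((a : (Module.End (ZMod r) V)ˣ) : Module.End (ZMod r) V), hAB _ a.2⟩
      map_one' := rfl
      map_mul' := fun a b => rfl }
  have hιinj : Function.Injective ι := fun a b h => Subtype.ext (Units.ext (congrArg Subtype.val h))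
  haveI : IsCyclic A := isCyclic_of_injective_ringHom ι hιinj
  have hAp := hPp.to_le hAP
  haveI : Finite B := Finite.of_injective Subtype.val Subtype.val_injective
  have hBcard : Nat.card A < Nat.card B := by
    refine lt_of_le_of_ne (Nat.card_le_card_of_injective ι hιinj) fun he => ?_
    obtain ⟨a, ha⟩ := ((Nat.bijective_iff_injective_and_card ι).2 ⟨hιinj, he⟩).2 0
    have h1 : ι a * ι a⁻¹ = 1 := by rw [← map_mul, mul_inv_cancel, map_one]
    rw [ha, zero_mul] at h1
    exact zero_ne_one h1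
  -- elements of `P` of order `p` fix the elements of order `p` of `A`
  have hexp : ∀ y ∈ P, ∃ s : ℤ, ∀ a ∈ A, y * a * y⁻¹ = a ^ s := fun y hy => by
    let f : A →* A :=
      { toFun := fun a => ⟨y * a * y⁻¹, hAn y (hPM hy) a a.2⟩
        map_one' := Subtype.ext (by simp)
        map_mul' := fun a b => Subtype.ext (by push_cast; group) }
    obtain ⟨s, hs⟩ := f.map_cyclic
    exact ⟨s, fun a ha => by
      have := congrArg Subtype.val (hs ⟨a, ha⟩)
      simpa [f] using this⟩
  have hpowexp : ∀ (y : (Module.End (ZMod r) V)ˣ) (s : ℤ), (∀ a ∈ A, y * a * y⁻¹ = a ^ s) →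
      ∀ (n : ℕ), ∀ a ∈ A, y ^ n * a * (y ^ n)⁻¹ = a ^ (s ^ n) := by
    intro y s hs n
    induction n with
    | zero => simp
    | succ n ih =>
      intro a ha
      calc y ^ (n + 1) * a * (y ^ (n + 1))⁻¹ = y * (y ^ n * a * (y ^ n)⁻¹) * y⁻¹ := by rw [pow_succ']; group
        _ = y * a ^ (s ^ n) * y⁻¹ := by rw [ih a ha]
        _ = (a ^ (s ^ n)) ^ s := hs _ (zpow_mem ha _)
        _ = _ := by rw [← zpow_mul, pow_succ]
  have hfermat : ∀ s : ℤ, (p : ℤ) ∣ s ^ p - s := fun s => by
    rw [← ZMod.intCast_zmod_eq_zero_iff_dvd]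
    push_cast
    rw [ZMod.pow_card, sub_self]
  have hzp : ∀ (a : (Module.End (ZMod r) V)ˣ), a ^ p = 1 → ∀ i : ℤ, (p : ℤ) ∣ i → a ^ i = 1 := by
    rintro a ha i ⟨t, rfl⟩
    rw [zpow_mul, zpow_natCast, ha, one_zpow]
  have homega : ∀ y ∈ P, y ^ p = 1 → ∀ a ∈ A, a ^ p = 1 → y * a * y⁻¹ = a := by
    intro y hy hyp a ha hap
    obtain ⟨s, hs⟩ := hexp y hy
    have h1 := hpowexp y s hs p a ha
    rw [hyp, one_mul, inv_one, mul_one] at h1
    rw [hs a ha]
    conv_rhs => rw [h1, show s ^ p = s + (s ^ p - s) by ring, zpow_add, hzp a hap _ (hfermat s), mul_one]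
  -- the centraliser of `A`
  set K := P ⊓ Subgroup.centralizer (A : Set (Module.End (ZMod r) V)ˣ) with hK
  have hAK : A ≤ K := fun a ha => ⟨hAP ha, Subgroup.mem_centralizer_iff.2 fun b hb => hAc b hb a ha⟩
  have hKn : ∀ m ∈ M, ∀ k ∈ K, m * k * m⁻¹ ∈ K := by
    intro m hm k hk
    refine ⟨hPn m hm k hk.1, Subgroup.mem_centralizer_iff.2 fun a ha => ?_⟩
    have h1 : m⁻¹ * a * m ∈ A := by simpa using hAn m⁻¹ (inv_mem hm) a ha
    have h2 := Subgroup.mem_centralizer_iff.1 hk.2 _ h1
    calc a * (m * k * m⁻¹) = m * ((m⁻¹ * a * m) * k) * m⁻¹ := by group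
      _ = m * (k * (m⁻¹ * a * m)) * m⁻¹ := by rw [h2]
      _ = m * k * m⁻¹ * a := by group
  have hKA : ∀ k ∈ K, ∀ a ∈ A, k * a = a * k := fun k hk a ha => (Subgroup.mem_centralizer_iff.1 hk.2 a ha).symm
  have hsup : ∀ L : Subgroup (Module.End (ZMod r) V)ˣ, L ≤ K → (∀ m ∈ M, ∀ l ∈ L, m * l * m⁻¹ ∈ L) →
      (∀ a ∈ L, ∀ b ∈ L, a * b = b * a) → L ≤ A := by
    intro L hLK hLn hLc
    have hok : Ok (A ⊔ L) := by
      refine ⟨sup_le hAP fun l hl => (hLK hl).1, fun m hm z hz => ?_, ?_⟩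
      · have hle : A ⊔ L ≤ (A ⊔ L).comap (MulAut.conj m).toMonoidHom :=
          sup_le (fun a ha => Subgroup.mem_sup_left (hAn m hm a ha))
            (fun l hl => Subgroup.mem_sup_right (hLn m hm l hl))
        exact hle hz
      · rw [Subgroup.sup_eq_closure]
        have : IsMulCommutative (Subgroup.closure ((A : Set (Module.End (ZMod r) V)ˣ) ∪ L)) :=
          Subgroup.isMulCommutative_closure (by
            rintro a (ha | ha) b (hb | hb)
            · exact hAc a ha b hb
            · exact (hKA b (hLK hb) a ha).symm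
            · exact hKA a (hLK ha) b hb
            · exact hLc a ha b hb)
        exact fun a ha b hb => setLike_mul_comm ha hb
    exact le_sup_right.trans (hAmax hok le_sup_left)
  have hKcomm : ⁅K, K⁆ ≤ A := by
    have hKp : IsPGroup p K := hPp.to_le inf_le_left
    haveI := hKp.isNilpotent
    let L : ℕ → Subgroup (Module.End (ZMod r) V)ˣ := fun i => Nat.rec K (fun _ X => ⁅X, K⁆) i
    have hL0 : L 0 = K := rfl
    have hLs : ∀ i, L (i + 1) = ⁅L i, K⁆ := fun i => rfl
    have hLK : ∀ i, L i ≤ K := by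
      intro i
      induction i with
      | zero => exact le_rfl
      | succ i ih =>
        rw [hLs]
        exact (Subgroup.commutator_mono ih le_rfl).trans (Subgroup.commutator_le.2 fun a ha b hb => by
          rw [commutatorElement_def]; exact mul_mem (mul_mem (mul_mem ha hb) (inv_mem ha)) (inv_mem hb))
    have hLle : ∀ i, L i ≤ K.lowerCentralSeries i := by
      intro i
      induction i with
      | zero => exact le_rfl
      | succ i ih =>
        rw [hLs, Subgroup.lowerCentralSeries_succ]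
        exact Subgroup.commutator_mono ih le_rfl
    have hLn : ∀ i, ∀ m ∈ M, ∀ l ∈ L i, m * l * m⁻¹ ∈ L i := by
      intro i
      induction i with
      | zero => exact hKn
      | succ i ih =>
        intro m hm l hl
        rw [hLs] at hl ⊢
        have hle : ⁅L i, K⁆ ≤ (⁅L i, K⁆).comap (MulAut.conj m).toMonoidHom :=
          Subgroup.commutator_le.2 fun a ha b hb => by
            rw [Subgroup.mem_comap, map_commutatorElement]
            exact Subgroup.commutator_mem_commutator (ih m hm a ha) (hKn m hm b hb)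
        exact hle hl
    have hex : ∃ i, L (i + 1) ≤ A := by
      obtain ⟨n, hn⟩ := (Subgroup.isNilpotent_iff_lowerCentralSeries K).1 ‹Group.IsNilpotent K›
      refine ⟨n, ?_⟩
      rw [hLs]
      refine (Subgroup.commutator_mono ((hLle n).trans hn.le) le_rfl).trans ?_
      rw [Subgroup.commutator_bot_left]
      exact bot_le
    rcases Nat.eq_zero_or_pos (Nat.find hex) with h0 | h0
    · have := Nat.find_spec hex
      rwa [h0, hLs, hL0] at this
    exfalso
    obtain ⟨i, hi⟩ := Nat.exists_eq_add_of_le h0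
    have hnot : ¬ L (i + 1) ≤ A := Nat.find_min hex (by omega)
    have hA2 : L (i + 2) ≤ A := by
      have := Nat.find_spec hex
      rwa [hi, show Nat.succ 0 + i + 1 = i + 2 by omega] at this
    apply hnot
    refine hsup _ (hLK (i + 1)) (hLn (i + 1)) ?_
    have hbot : ⁅⁅L (i + 1), K⁆, K⁆ = ⊥ := by
      rw [Subgroup.commutator_eq_bot_iff_le_centralizer]
      exact fun a ha => Subgroup.mem_centralizer_iff.2 fun k hk => hKA k hk a (hA2 ha)
    have h3 : ⁅⁅K, K⁆, L (i + 1)⁆ = ⊥ := by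
      refine Subgroup.commutator_commutator_eq_bot_of_rotate ?_ hbot
      rw [Subgroup.commutator_comm K (L (i + 1))]
      exact hbot
    have h4 : L (i + 1) ≤ ⁅K, K⁆ := Subgroup.commutator_mono (hLK i) le_rfl
    intro a ha b hb
    exact (Subgroup.mem_centralizer_iff.1
      ((Subgroup.commutator_eq_bot_iff_le_centralizer.1 h3) (h4 ha)) b hb).symm
  have hKcen : ∀ g ∈ K, ∀ k ∈ K, ⁅g, k⁆ ∈ A := fun g hg k hk => hKcomm (Subgroup.commutator_mem_commutator hg hk)
  have hcentA : ∀ k ∈ K, (∀ g ∈ K, g * k = k * g) → k ∈ A := by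
    intro k hk hkc
    refine hsup (K ⊓ Subgroup.centralizer (K : Set (Module.End (ZMod r) V)ˣ)) inf_le_left ?_ ?_ ⟨hk, Subgroup.mem_centralizer_iff.2 hkc⟩
    · intro m hm l hl
      refine ⟨hKn m hm l hl.1, Subgroup.mem_centralizer_iff.2 fun g hg => ?_⟩
      have h1 : m⁻¹ * g * m ∈ K := by simpa using hKn m⁻¹ (inv_mem hm) g hg
      have h2 := Subgroup.mem_centralizer_iff.1 hl.2 _ h1
      calc g * (m * l * m⁻¹) = m * ((m⁻¹ * g * m) * l) * m⁻¹ := by group
        _ = m * (l * (m⁻¹ * g * m)) * m⁻¹ := by rw [h2]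
        _ = m * l * m⁻¹ * g := by group
    · exact fun a ha b hb => (Subgroup.mem_centralizer_iff.1 ha.2 b hb.1).symm
  -- `V` over the field
  letI : Field B := hfield.toField
  haveI : Module.Finite B V := Module.Finite.of_finite
  set D := Module.finrank B V with hD
  have hVcard : Nat.card V = Nat.card B ^ D := Module.natCard_eq_pow_finrank
  set N := Nat.card (K ⧸ A.subgroupOf K) with hN
  haveI hAKn : (A.subgroupOf K).Normal := ⟨fun a ha g => by
    show (g : (Module.End (ZMod r) V)ˣ) * (a : (Module.End (ZMod r) V)ˣ) * (g : (Module.End (ZMod r) V)ˣ)⁻¹ ∈ A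
    rw [hKA g g.2 a ha, mul_inv_cancel_right]; exact ha⟩
  have hND : N ≤ D * D := by
    have hlin : ∀ k ∈ K, ∀ (b : B) (z : V), (k : Module.End (ZMod r) V) (b • z) = b • (k : Module.End (ZMod r) V) z := by
      intro k hk b z
      have h1 : Commute (k : Module.End (ZMod r) V) (b : Module.End (ZMod r) V) :=
        Algebra.commute_of_mem_adjoin_of_forall_mem_commute b.2 fun c hc => by
          obtain ⟨a, ha, rfl⟩ := hc
          show (k : Module.End (ZMod r) V) * a = a * k
          rw [← Units.val_mul, hKA k hk a ha, Units.val_mul]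
      exact LinearMap.congr_fun h1.eq z
    let T : K ⧸ A.subgroupOf K → (V →ₗ[B] V) := fun q =>
      { toFun := fun z => ((q.out : (Module.End (ZMod r) V)ˣ) : Module.End (ZMod r) V) z
        map_add' := map_add _
        map_smul' := hlin _ q.out.2 }
    let χ : K ⧸ A.subgroupOf K → (K →* B) := fun q =>
      { toFun := fun g => ι ⟨⁅(g : (Module.End (ZMod r) V)ˣ), (q.out : (Module.End (ZMod r) V)ˣ)⁆, hKcen _ g.2 _ q.out.2⟩
        map_one' := by
          refine Subtype.ext ?_
          show ((⁅(1 : (Module.End (ZMod r) V)ˣ), (q.out : (Module.End (ZMod r) V)ˣ)⁆ : (Module.End (ZMod r) V)ˣ) : Module.End (ZMod r) V) = _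
          rw [commutatorElement_one_left]; rfl
        map_mul' := fun g h => by
          rw [← map_mul]
          refine congrArg ι (Subtype.ext ?_)
          show ⁅(g : (Module.End (ZMod r) V)ˣ) * h, (q.out : (Module.End (ZMod r) V)ˣ)⁆ = ⁅(g : (Module.End (ZMod r) V)ˣ), (q.out : (Module.End (ZMod r) V)ˣ)⁆ * ⁅(h : (Module.End (ZMod r) V)ˣ), (q.out : (Module.End (ZMod r) V)ˣ)⁆
          rw [show ⁅(g : (Module.End (ZMod r) V)ˣ) * h, (q.out : (Module.End (ZMod r) V)ˣ)⁆ = (g : (Module.End (ZMod r) V)ˣ) * ⁅(h : (Module.End (ZMod r) V)ˣ), (q.out : (Module.End (ZMod r) V)ˣ)⁆ * (g : (Module.End (ZMod r) V)ˣ)⁻¹ * ⁅(g : (Module.End (ZMod r) V)ˣ), (q.out : (Module.End (ZMod r) V)ˣ)⁆ by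
            simp only [commutatorElement_def]; group, hKA g g.2 _ (hKcen _ h.2 _ q.out.2), mul_inv_cancel_right]
          exact hAc _ (hKcen _ h.2 _ q.out.2) _ (hKcen _ g.2 _ q.out.2) }
    have hχ : Function.Injective χ := by
      intro q q' h
      rw [← QuotientGroup.out_eq' q, ← QuotientGroup.out_eq' q', QuotientGroup.eq]
      show (((q.out)⁻¹ * q'.out : K) : (Module.End (ZMod r) V)ˣ) ∈ A
      push_cast
      refine hcentA _ (mul_mem (inv_mem q.out.2) q'.out.2) fun g hg => ?_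
      have h1 : ⁅g, (q.out : (Module.End (ZMod r) V)ˣ)⁆ = ⁅g, (q'.out : (Module.End (ZMod r) V)ˣ)⁆ :=
        congrArg Subtype.val (hιinj (DFunLike.congr_fun h ⟨g, hg⟩))
      simp only [commutatorElement_def] at h1
      calc g * ((q.out : (Module.End (ZMod r) V)ˣ)⁻¹ * q'.out) = (q.out : (Module.End (ZMod r) V)ˣ)⁻¹ * ((q.out : (Module.End (ZMod r) V)ˣ) * g * (q.out : (Module.End (ZMod r) V)ˣ)⁻¹ * g⁻¹) * (g * q'.out * g⁻¹ * (q'.out : (Module.End (ZMod r) V)ˣ)⁻¹) * q'.out * g := by group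
        _ = (q.out : (Module.End (ZMod r) V)ˣ)⁻¹ * ((q.out : (Module.End (ZMod r) V)ˣ) * g * (q.out : (Module.End (ZMod r) V)ˣ)⁻¹ * g⁻¹) * (g * q.out * g⁻¹ * (q.out : (Module.End (ZMod r) V)ˣ)⁻¹) * q'.out * g := by rw [h1]
        _ = _ := by group
    have hli : LinearIndependent B T := by
      have := Fintype.ofFinite (K ⧸ A.subgroupOf K)
      rw [Fintype.linearIndependent_iff]
      intro cf hcf q
      by_contra hq
      have hconj : ∀ (g : K) (q : K ⧸ A.subgroupOf K) (z : V),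
          ((g : (Module.End (ZMod r) V)ˣ) : Module.End (ZMod r) V) (T q z) = χ q g • T q (((g : (Module.End (ZMod r) V)ˣ) : Module.End (ZMod r) V) z) := by
        intro g q z
        show ((g : (Module.End (ZMod r) V)ˣ) : Module.End (ZMod r) V) (((q.out : (Module.End (ZMod r) V)ˣ) : Module.End (ZMod r) V) z) =
          ((⁅(g : (Module.End (ZMod r) V)ˣ), (q.out : (Module.End (ZMod r) V)ˣ)⁆ : (Module.End (ZMod r) V)ˣ) : Module.End (ZMod r) V) (((q.out : (Module.End (ZMod r) V)ˣ) : Module.End (ZMod r) V) (((g : (Module.End (ZMod r) V)ˣ) : Module.End (ZMod r) V) z))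
        rw [← Module.End.mul_apply, ← Module.End.mul_apply, ← Module.End.mul_apply, ← Units.val_mul,
          ← Units.val_mul, ← Units.val_mul, commutatorElement_def]
        congr 2
        group
      have hz : ∀ z : V, T q z = 0 := fun z => by
        rw [← Module.forall_dual_apply_eq_zero_iff B (T q z)]
        intro φ
        have hindep := (linearIndependent_monoidHom K B).comp χ hχ
        rw [Fintype.linearIndependent_iff] at hindep
        have h0 := hindep (fun q' => cf q' * φ (T q' z)) (funext fun g => by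
          simp only [Finset.sum_apply, Pi.smul_apply, Function.comp_apply, smul_eq_mul, Pi.zero_apply]
          have h1 := congrArg (fun f : V →ₗ[B] V =>
            f ((((g : (Module.End (ZMod r) V)ˣ)⁻¹ : (Module.End (ZMod r) V)ˣ) : Module.End (ZMod r) V) z)) hcf
          simp only [LinearMap.sum_apply, LinearMap.smul_apply, LinearMap.zero_apply] at h1
          have h2 := congrArg ((g : (Module.End (ZMod r) V)ˣ) : Module.End (ZMod r) V) h1
          simp only [map_sum, map_zero, hlin _ g.2, hconj, ← Module.End.mul_apply, ← Units.val_mul,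
            mul_inv_cancel, Units.val_one, Module.End.one_apply] at h2
          have h3 := congrArg φ h2
          simp only [map_sum, map_smul, map_zero, smul_eq_mul] at h3
          rw [← h3]
          exact Finset.sum_congr rfl fun q' _ => by ring) q
        exact (mul_eq_zero.1 h0).resolve_left hq
      exact hx1 (Units.ext (LinearMap.ext fun z => by
        have h1 : ∀ z : V, z = 0 := fun z => by
          have h2 := hz ((((q.out : (Module.End (ZMod r) V)ˣ)⁻¹ : (Module.End (ZMod r) V)ˣ) : Module.End (ZMod r) V) z)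
          simpa [T, ← Module.End.mul_apply, ← Units.val_mul] using h2
        rw [h1 z, map_zero, map_zero]))
    have := Fintype.ofFinite (K ⧸ A.subgroupOf K)
    rw [hN, Nat.card_eq_fintype_card]
    refine hli.fintype_card_le_finrank.trans_eq ?_
    rw [Module.finrank_linearMap]
  have hV1 : 1 ≤ Nat.card V := Nat.card_pos
  have hD1 : 1 ≤ D := by
    by_contra h
    have : Nat.card V = 1 := by rw [hVcard, show D = 0 by omega, pow_zero]
    haveI := (Nat.card_eq_one_iff_unique.1 this).1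
    exact hw₀ (Subsingleton.elim _ _)
  have hN3 : N = 1 ∨ 3 ≤ D := by
    by_contra hcon
    push Not at hcon
    obtain ⟨hN1, hD3⟩ := hcon
    obtain ⟨j, hj⟩ := ((hPp.to_le (inf_le_left : K ≤ P)).to_quotient (A.subgroupOf K)).exists_card_eq
    rw [← hN] at hj
    have hN4 : N ≤ 4 := hND.trans (Nat.mul_le_mul (by omega : D ≤ 2) (by omega : D ≤ 2))
    have hj1 : j = 1 := by
      rcases Nat.lt_or_ge j 2 with h | h
      · rcases Nat.eq_zero_or_pos j with h0 | h0
        · exact absurd (by rw [hj, h0, pow_zero]) hN1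
        · omega
      · have := (Nat.pow_le_pow_right (by omega : 1 ≤ p) h).trans (hj ▸ hN4)
        have := Nat.mul_le_mul hp3 hp3
        rw [pow_two] at *
        omega
    rw [hj1, pow_one, hN] at hj
    haveI : IsCyclic (K ⧸ A.subgroupOf K) := isCyclic_of_prime_card hj
    have hcomm : IsMulCommutative K := MonoidHom.isMulCommutative_of_isCyclic_of_ker_le_center
      (QuotientGroup.mk' (A.subgroupOf K)) (by
        rw [QuotientGroup.ker_mk']
        exact fun a ha => Subgroup.mem_center_iff.2 fun g => Subtype.ext (hKA g g.2 a ha))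
    apply hN1
    rw [hN, ← Subgroup.index_eq_card, Subgroup.index_eq_one, Subgroup.subgroupOf_eq_top]
    exact fun k hk => hcentA k hk fun g hg =>
      (congrArg Subtype.val (hcomm.is_comm.comm (⟨g, hg⟩ : K) ⟨k, hk⟩))
  -- elements in one coset of `A`
  have hlift : ∀ y ∈ P, ∀ a ∈ A, y ^ p = 1 → (y * a) ^ p = 1 → a ^ p = 1 := by
    intro y hy a ha hyp hyap
    obtain ⟨u, hu⟩ := hexp y⁻¹ (inv_mem hy)
    have hE : ∀ n : ℕ, (y * a) ^ n = y ^ n * a ^ (∑ i ∈ Finset.range n, u ^ i) := by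
      intro n
      induction n with
      | zero => simp
      | succ n ih =>
        have h1 : ∀ i : ℤ, a ^ i * y = y * (a ^ i) ^ u := fun i => by
          have := hu (a ^ i) (zpow_mem ha i)
          rw [inv_inv] at this
          rw [← this]; group
        rw [pow_succ, ih, Finset.sum_range_succ', pow_zero, zpow_add, zpow_one, pow_succ y]
        calc y ^ n * a ^ (∑ i ∈ Finset.range n, u ^ i) * (y * a)
            = y ^ n * (a ^ (∑ i ∈ Finset.range n, u ^ i) * y) * a := by group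
          _ = _ := by
            rw [h1, ← zpow_mul, Finset.sum_mul]
            simp only [← pow_succ, mul_assoc]
            rw [← mul_assoc, ← pow_succ]
    have h2 := hE p
    rw [hyp, hyap, one_mul] at h2
    have hdvd : (orderOf a : ℤ) ∣ ∑ i ∈ Finset.range p, u ^ i := orderOf_dvd_iff_zpow_eq_one.2 h2.symm
    have hup := hpowexp y⁻¹ u hu p a ha
    rw [inv_pow, hyp, inv_one, one_mul, inv_one, mul_one] at hup
    obtain ⟨k, hk⟩ := IsPGroup.iff_orderOf.1 hAp ⟨a, ha⟩
    rw [Subgroup.orderOf_mk] at hk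
    rcases Nat.lt_or_ge k 2 with hk2 | hk2
    · rw [← orderOf_dvd_iff_pow_eq_one, hk]
      exact (pow_dvd_pow p (by omega : k ≤ 1)).trans (dvd_of_eq (pow_one p))
    exfalso
    have hdp : (p : ℤ) ∣ (orderOf a : ℤ) := by
      rw [hk]; exact_mod_cast dvd_pow_self p (by omega : k ≠ 0)
    have h3 : (orderOf a : ℤ) ∣ u ^ p - 1 := orderOf_dvd_iff_zpow_eq_one.2 (by
      rw [zpow_sub, zpow_one, ← hup, mul_inv_cancel])
    have hu1 : (p : ℤ) ∣ u - 1 := by
      have := dvd_sub (hdp.trans h3) (hfermat u)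
      simpa using this
    refine not_sq_dvd_geom hu1 hp3 (dvd_trans ?_ hdvd)
    rw [hk]
    exact_mod_cast pow_dvd_pow p hk2
  -- the elements to be counted
  set y₀ : (Module.End (ZMod r) V)ˣ := if x ∈ K then 1 else x with hy₀
  let Y : Finset (Module.End (ZMod r) V)ˣ :=
    haveI := Fintype.ofFinite (Module.End (ZMod r) V)ˣ
    Finset.univ.filter fun y => y ∈ P ∧ y₀⁻¹ * y ∈ K ∧ y ^ p = 1 ∧ y ∉ A
  have hYmem : ∀ y, y ∈ Y ↔ y ∈ P ∧ y₀⁻¹ * y ∈ K ∧ y ^ p = 1 ∧ y ∉ A := fun y => by simp [Y]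
  have hyA : ∀ y ∈ Y, ∃ g c : (Module.End (ZMod r) V)ˣ, g * y * g⁻¹ = c * y ∧ c ^ p = 1 ∧ c ≠ 1 ∧ c ∈ A ∧ Commute g c ∧ Commute c y := by
    intro y hy
    obtain ⟨hyP, hyK, hyp, hynA⟩ := (hYmem y).1 hy
    by_cases hyK' : y ∈ K
    · obtain ⟨g, hg, hne⟩ : ∃ g ∈ K, g * y ≠ y * g := by
        by_contra h
        push Not at h
        exact hynA (hcentA y hyK' h)
      have hcA := hKcen g hg y hyK'
      have hcy : Commute ⁅g, y⁆ y := (hKA y hyK' _ hcA).symm
      have hconj : g * y * g⁻¹ = ⁅g, y⁆ * y := by rw [commutatorElement_def, inv_mul_cancel_right]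
      refine ⟨g, ⁅g, y⁆, hconj, ?_, fun h => hne (commutatorElement_eq_one_iff_mul_comm.1 h),
        hcA, hKA g hg _ hcA, hcy⟩
      have h1 : (g * y * g⁻¹) ^ p = ⁅g, y⁆ ^ p * y ^ p := by rw [hconj, hcy.mul_pow]
      rw [conj_pow, hyp, mul_one, mul_inv_cancel, mul_one] at h1
      exact h1.symm
    · obtain ⟨a, ha, hmov⟩ : ∃ a ∈ A, y * a * y⁻¹ ≠ a := by
        by_contra h
        push Not at h
        refine hyK' ⟨hyP, Subgroup.mem_centralizer_iff.2 fun a ha => ?_⟩
        exact (mul_inv_eq_iff_eq_mul.1 (h a ha)).symm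
      obtain ⟨k, hk⟩ := IsPGroup.iff_orderOf.1 hAp ⟨a, ha⟩
      rw [Subgroup.orderOf_mk] at hk
      have hex : ∃ i, y * a ^ p ^ i * y⁻¹ = a ^ p ^ i := ⟨k, by rw [← hk, pow_orderOf_eq_one]; simp⟩
      obtain ⟨i, hi⟩ := Nat.exists_eq_succ_of_ne_zero (n := Nat.find hex) (fun h => by
        have := Nat.find_spec hex
        rw [h, pow_zero, pow_one] at this
        exact hmov this)
      set g := a ^ p ^ i with hg
      have hgA : g ∈ A := pow_mem ha _
      have hgmov : y * g * y⁻¹ ≠ g := Nat.find_min hex (by omega)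
      have hgp : y * g ^ p * y⁻¹ = g ^ p := by
        have := Nat.find_spec hex
        rwa [hi, Nat.succ_eq_add_one, pow_succ, pow_mul] at this
      have hginv : y * g⁻¹ * y⁻¹ ∈ A := hAn y (hPM hyP) _ (inv_mem hgA)
      set c := g * (y * g⁻¹ * y⁻¹) with hc
      have hcA : c ∈ A := mul_mem hgA hginv
      have hcp : c ^ p = 1 := by
        have hcm : Commute g (y * g⁻¹ * y⁻¹) := hAc g hgA _ hginv
        rw [hc, hcm.mul_pow, conj_pow, inv_pow,
          show y * (g ^ p)⁻¹ * y⁻¹ = (y * g ^ p * y⁻¹)⁻¹ by group, hgp, mul_inv_cancel]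
      refine ⟨g, c, by rw [hc]; group, hcp, ?_, hcA, hAc g hgA c hcA, ?_⟩
      · intro h
        rw [hc, show y * g⁻¹ * y⁻¹ = (y * g * y⁻¹)⁻¹ by group, mul_inv_eq_one] at h
        exact hgmov h.symm
      · exact (mul_inv_eq_iff_eq_mul.1 (homega y hyP hyp c hcA hcp)).symm
  have hQ : ∀ y ∈ Y, Nat.card {z : V // (y : Module.End (ZMod r) V) z = z} ^ p ≤ Nat.card V := by
    intro y hy
    obtain ⟨g, c, h1, h2, h3, h4, h5, h6⟩ := hyA y hy
    refine pow_card_fixed_le y g c h1 h2 h5 h6 (fun t ht z hz => ?_) hpr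
    refine hfpf _ (pow_mem h4 t) (fun h => ht ?_) z hz
    have := orderOf_dvd_of_pow_eq_one h
    rwa [orderOf_eq_prime h2 h3] at this
  -- the bound on the number of elements
  set c₀ := if x ∈ K then p - 1 else 1 with hc₀
  have hbound : Y.card ^ 3 < c₀ ^ 3 * Nat.card V ^ 2 := by
    have hfib : ∀ y ∈ Y, (Y.filter fun y' => y⁻¹ * y' ∈ A).card ≤ p := by
      intro y hy
      obtain ⟨hyP, -, hyp, -⟩ := (hYmem y).1 hy
      have hmem : ∀ y' : {y' // y' ∈ Y.filter fun y' => y⁻¹ * y' ∈ A},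
          (⟨y⁻¹ * y'.1, (Finset.mem_filter.1 y'.2).2⟩ : A) ^ p = 1 := fun y' => Subtype.ext (by
        obtain ⟨h1, h2⟩ := Finset.mem_filter.1 y'.2
        exact hlift y hyP _ h2 hyp (by rw [mul_inv_cancel_left]; exact ((hYmem _).1 h1).2.2.1))
      rw [← Fintype.card_coe, ← Nat.card_eq_fintype_card]
      refine (Nat.card_le_card_of_injective (fun y' => (⟨_, hmem y'⟩ : {a : A // a ^ p = 1}))
        fun y₁ y₂ h => ?_).trans (card_pow_eq_one_le hp.out.pos)
      exact Subtype.ext (mul_left_cancel (congrArg (fun a : {a : A // a ^ p = 1} => ((a : A) : (Module.End (ZMod r) V)ˣ)) h))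
    let cls : (Module.End (ZMod r) V)ˣ → K ⧸ A.subgroupOf K := fun y =>
      if h : y₀⁻¹ * y ∈ K then QuotientGroup.mk ⟨_, h⟩ else 1
    have hcard : Y.card ≤ p * (Y.image cls).card := by
      refine Finset.card_le_mul_card_image Y p fun q hq => ?_
      obtain ⟨y, hy, rfl⟩ := Finset.mem_image.1 hq
      refine le_trans (Finset.card_le_card fun y' hy' => ?_) (hfib y hy)
      obtain ⟨h1, h2⟩ := Finset.mem_filter.1 hy'
      refine Finset.mem_filter.2 ⟨h1, ?_⟩
      simp only [cls, dif_pos ((hYmem y).1 hy).2.1, dif_pos ((hYmem y').1 h1).2.1] at h2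
      have h3 := QuotientGroup.eq.1 h2.symm
      rw [Subgroup.mem_subgroupOf] at h3
      simpa [mul_assoc] using h3
    haveI := Fintype.ofFinite (K ⧸ A.subgroupOf K)
    have hNf : Fintype.card (K ⧸ A.subgroupOf K) = N := by rw [hN, Nat.card_eq_fintype_card]
    have hBp1 : p + 1 ≤ Nat.card B ∧ (x ∉ K → p ^ 2 + 1 ≤ Nat.card B) := by
      obtain ⟨k, hk⟩ := IsPGroup.iff_card.1 hAp
      rw [hk] at hBcard
      have hA1 : k ≠ 0 := fun h => by
        have hA1 : A = ⊥ := Subgroup.eq_bot_of_card_eq _ (by rw [hk, h, pow_zero])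
        -- then the centre of `P` gives a larger subgroup
        haveI : Nontrivial P := ⟨⟨⟨x, hxP⟩, 1, fun h' => hx1 (congrArg Subtype.val h')⟩⟩
        haveI := hPp.center_nontrivial
        obtain ⟨⟨z, hz⟩, hz1⟩ := exists_ne (1 : Subgroup.center P)
        refine hz1 (Subtype.ext (Subtype.ext ?_))
        have hzA : (z : (Module.End (ZMod r) V)ˣ) ∈ A := by
          refine hcentA _ ⟨z.2, ?_⟩ fun g hg => ?_
          · rw [hA1, Subgroup.coe_bot]
            exact Subgroup.mem_centralizer_iff.2 fun a ha => by rw [Set.mem_singleton_iff.1 ha]; simp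
          · exact congrArg Subtype.val (Subgroup.mem_center_iff.1 hz ⟨g, hg.1⟩)
        rw [hA1, Subgroup.mem_bot] at hzA
        exact hzA
      refine ⟨?_, fun hxK => ?_⟩
      · have := Nat.pow_le_pow_right hp.out.pos (show 1 ≤ k by omega)
        rw [pow_one] at this
        omega
      · have hk2 : 2 ≤ k := by
          by_contra h
          refine hxK ⟨hxP, Subgroup.mem_centralizer_iff.2 fun a ha => ?_⟩
          have hap : a ^ p = 1 := by
            rw [← orderOf_dvd_iff_pow_eq_one]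
            have := Subgroup.orderOf_dvd_natCard A ha
            rwa [hk, show k = 1 by omega, pow_one] at this
          exact (mul_inv_eq_iff_eq_mul.1 (homega x hxP hxp a ha hap)).symm
        have := Nat.pow_le_pow_right hp.out.pos hk2
        omega
    by_cases hxK : x ∈ K
    · have h1 : Y.card < N * p := by
        have hsub : Y.image cls ⊆ Finset.univ.erase 1 := by
          intro q hq
          obtain ⟨y, hy, rfl⟩ := Finset.mem_image.1 hq
          obtain ⟨-, h2, -, h4⟩ := (hYmem y).1 hy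
          refine Finset.mem_erase.2 ⟨fun h => h4 ?_, Finset.mem_univ _⟩
          simp only [cls, dif_pos h2] at h
          have h5 : y₀⁻¹ * y ∈ A := (QuotientGroup.eq_one_iff (N := A.subgroupOf K) (⟨_, h2⟩ : K)).1 h
          rwa [hy₀, if_pos hxK, inv_one, one_mul] at h5
        have h2 := Finset.card_le_card hsub
        rw [Finset.card_erase_of_mem (Finset.mem_univ _), Finset.card_univ, hNf] at h2
        have hN0 : 0 < N := Nat.card_pos
        calc Y.card ≤ p * (Y.image cls).card := hcard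
          _ ≤ p * (N - 1) := Nat.mul_le_mul_left _ h2
          _ < p * N := Nat.mul_lt_mul_of_pos_left (by omega) hp.out.pos
          _ = N * p := mul_comm _ _
      have hD3 : 3 ≤ D := hN3.resolve_left fun hN1 => hxA (by
        haveI := (Nat.card_eq_one_iff_unique.1 (hN ▸ hN1)).1
        exact (QuotientGroup.eq_one_iff (N := A.subgroupOf K) (⟨x, hxK⟩ : K)).1 (Subsingleton.elim _ _))
      rw [hc₀, if_pos hxK]
      exact arith_in hp3 hND hD3 h1 (by rw [hVcard]; exact Nat.pow_le_pow_left hBp1.1 D)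
    · have h1 : Y.card ≤ N * p := by
        have h2 := Finset.card_le_univ (Y.image cls)
        rw [hNf] at h2
        calc Y.card ≤ p * (Y.image cls).card := hcard
          _ ≤ p * N := Nat.mul_le_mul_left _ h2
          _ = N * p := mul_comm _ _
      rw [hc₀, if_neg hxK, one_pow, one_mul]
      exact arith_out hp3 hND hD1 hN3 h1 (by rw [hVcard]; exact Nat.pow_le_pow_left (hBp1.2 hxK) D)
  -- counting
  by_contra hcon
  push Not at hcon
  have hconjY : ∀ m ∈ M, m * x * m⁻¹ ∈ Y := by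
    intro m hm
    refine (hYmem _).2 ⟨hPn m hm x hxP, ?_, by rw [conj_pow, hxp, mul_one, mul_inv_cancel], fun h => hxA ?_⟩
    · rw [hy₀]
      split_ifs with hxK
      · rw [inv_one, one_mul]; exact hKn m hm x hxK
      · refine ⟨P.mul_mem (P.inv_mem hxP) (hPn m hm x hxP), Subgroup.mem_centralizer_iff.2 fun a ha => ?_⟩
        obtain ⟨s, hs⟩ := hexp x hxP
        have h1 : m⁻¹ * a * m ∈ A := by simpa using hAn m⁻¹ (inv_mem hm) a ha
        have h2 : m * x * m⁻¹ * a * (m * x * m⁻¹)⁻¹ = a ^ s := by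
          calc m * x * m⁻¹ * a * (m * x * m⁻¹)⁻¹ = m * (x * (m⁻¹ * a * m) * x⁻¹) * m⁻¹ := by group
            _ = m * (m⁻¹ * a * m) ^ s * m⁻¹ := by rw [hs _ h1]
            _ = (m * (m⁻¹ * a * m) * m⁻¹) ^ s := (conj_zpow ..).symm
            _ = _ := by congr 1; group
        rw [← hs a ha] at h2
        calc a * (x⁻¹ * (m * x * m⁻¹)) = x⁻¹ * (x * a * x⁻¹) * (m * x * m⁻¹) := by group
          _ = x⁻¹ * (m * x * m⁻¹ * a * (m * x * m⁻¹)⁻¹) * (m * x * m⁻¹) := by rw [h2]
          _ = x⁻¹ * (m * x * m⁻¹) * a := by group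
    · have h1 := hAn m⁻¹ (inv_mem hm) _ h
      simpa [mul_assoc] using h1
  haveI := Fintype.ofFinite V
  set Vne : Finset V := Finset.univ.filter fun z => z ≠ 0 with hVne
  have hlow : ∀ z ∈ Vne, c₀ ≤ (Y.filter fun y : (Module.End (ZMod r) V)ˣ => (y : Module.End (ZMod r) V) z = z).card := by
    intro z _
    obtain ⟨m, hm, hmz⟩ := hcon z
    set y := m * x * m⁻¹ with hy
    have hyY := hconjY m hm
    rw [hc₀]
    split_ifs with hxK
    · have hord : orderOf y = p := orderOf_eq_prime ((hYmem y).1 hyY).2.2.1 fun h => hx1 (by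
        rwa [hy, mul_inv_eq_one, mul_eq_left] at h)
      refine le_trans ?_ (Finset.card_le_card_of_injOn (s := Finset.Icc 1 (p - 1)) (fun i => y ^ i) ?_ ?_)
      · simp
      · intro i hi
        rw [Finset.mem_coe, Finset.mem_Icc] at hi
        rw [Finset.mem_coe, Finset.mem_filter, hYmem]
        obtain ⟨h1, h2, h3, h4⟩ := (hYmem y).1 hyY
        rw [hy₀, if_pos hxK, inv_one, one_mul] at h2 ⊢
        refine ⟨⟨pow_mem h1 i, pow_mem h2 i, by rw [← pow_mul, mul_comm, pow_mul, h3, one_pow], fun h => h4 ?_⟩, ?_⟩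
        · obtain ⟨t, ht⟩ := exists_pow_eq_self_of_coprime (x := y) (n := i) (by
            rw [hord]
            exact (hp.out.coprime_iff_not_dvd.2 (Nat.not_dvd_of_pos_of_lt (by omega) (by omega))).symm)
          rw [← ht]; exact pow_mem h t
        · clear hi
          dsimp only
          induction i with
          | zero => simp
          | succ i ih => rw [pow_succ', Units.val_mul, Module.End.mul_apply, ih, hmz]
      · intro i hi j hj h
        rw [Finset.mem_coe, Finset.mem_Icc] at hi hj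
        exact pow_injOn_Iio_orderOf (Set.mem_Iio.2 (by omega)) (Set.mem_Iio.2 (by omega)) h
    · exact Finset.card_pos.2 ⟨y, Finset.mem_filter.2 ⟨hyY, hmz⟩⟩
  have hne : Y.Nonempty := ⟨_, hconjY 1 (one_mem M)⟩
  obtain ⟨ym, hym, hmax⟩ := Finset.exists_max_image Y (fun y => Nat.card {z : V // (y : Module.End (ZMod r) V) z = z}) hne
  set Q := Nat.card {z : V // (ym : Module.End (ZMod r) V) z = z} with hQdef
  have hsum : c₀ * (Nat.card V - 1) ≤ Y.card * (Q - 1) := by
    have h1 : c₀ * (Nat.card V - 1) ≤ ∑ z ∈ Vne, (Y.filter fun y : (Module.End (ZMod r) V)ˣ => (y : Module.End (ZMod r) V) z = z).card := by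
      refine le_trans (le_of_eq ?_) (Finset.card_nsmul_le_sum _ _ c₀ hlow)
      rw [hVne, Finset.filter_ne', Finset.card_erase_of_mem (Finset.mem_univ _), Finset.card_univ,
        Nat.card_eq_fintype_card, smul_eq_mul, mul_comm]
    have h2 : ∑ z ∈ Vne, (Y.filter fun y : (Module.End (ZMod r) V)ˣ => (y : Module.End (ZMod r) V) z = z).card =
        ∑ y ∈ Y, (Vne.filter fun z => (y : Module.End (ZMod r) V) z = z).card := by
      simp only [Finset.card_filter]
      rw [Finset.sum_comm]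
    refine h1.trans (h2.trans_le ?_)
    refine (Finset.sum_le_card_nsmul _ _ (Q - 1) fun y hy => ?_).trans_eq (by rw [smul_eq_mul])
    have h3 : (Vne.filter fun z => (y : Module.End (ZMod r) V) z = z) =
        (Finset.univ.filter fun z => (y : Module.End (ZMod r) V) z = z).erase 0 := by
      ext z; simp [hVne]
    rw [h3, Finset.card_erase_of_mem (by simp)]
    refine Nat.sub_le_sub_right ?_ 1
    rw [← Fintype.card_subtype, ← Nat.card_eq_fintype_card]
    exact hmax y hy
  have hlt : Y.card * Q < c₀ * Nat.card V := by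
    refine lt_of_pow_lt_pow_left₀ p (Nat.zero_le _) ?_
    have h1 := pow_lt_of_cube hp3 hV1 hbound
    calc (Y.card * Q) ^ p = Y.card ^ p * Q ^ p := mul_pow _ _ _
      _ ≤ Y.card ^ p * Nat.card V := Nat.mul_le_mul_left _ (hQ ym hym)
      _ < c₀ ^ p * Nat.card V ^ (p - 1) * Nat.card V := Nat.mul_lt_mul_of_pos_right h1 hV1
      _ = _ := by rw [mul_assoc, ← pow_succ, Nat.sub_add_cancel hp.out.pos, mul_pow]
  have hYc : c₀ ≤ Y.card :=
    (hlow w₀ (Finset.mem_filter.2 ⟨Finset.mem_univ _, fun h => hw₀ (by rw [h, map_zero])⟩)).trans (Finset.card_filter_le _ _)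
  rw [Nat.mul_sub, Nat.mul_sub, mul_one, mul_one] at hsum
  haveI : Nonempty {z : V // (ym : Module.End (ZMod r) V) z = z} := ⟨⟨0, map_zero _⟩⟩
  have hYQ : Y.card ≤ Y.card * Q := Nat.le_mul_of_pos_right _ Nat.card_pos
  omega

end Primitive

section Main

variable {p : ℕ} [hp : Fact p.Prime]

/-- In an irreducible linear group, some vector is moved by every conjugate of an element of order
`p` of a normal `p`-subgroup. -/
theorem exists_moved (hp3 : 3 ≤ p) (hpr : p ≠ r) : ∀ (n : ℕ) (V : Type v) [AddCommGroup V] [Module (ZMod r) V]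
    [Finite V], Nat.card V = n → ∀ (M P : Subgroup (Module.End (ZMod r) V)ˣ), Irred M → P ≤ M →
    (∀ m ∈ M, ∀ y ∈ P, m * y * m⁻¹ ∈ P) → IsPGroup p P → ∀ x ∈ P, x ^ p = 1 → x ≠ 1 →
    ∃ v : V, ∀ m ∈ M, ((m * x * m⁻¹ : (Module.End (ZMod r) V)ˣ) : Module.End (ZMod r) V) v ≠ v := by
  intro n
  induction n using Nat.strong_induction_on with
  | _ n IH =>
  intro V _ _ _ hn M P hirr hPM hPn hPp x hxP hxp hx1
  classical
  haveI := finite_end (r := r) (V := V)
  haveI := finite_units (r := r) (V := V)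
  by_cases hprim : ∀ S, System M S → S.card < 2
  · exact exists_moved_primitive hirr hprim P hPM hPn hPp hp3 hpr hxP hxp hx1
  push Not at hprim
  have hex : ∃ c : ℕ, ∃ S, System M S ∧ 2 ≤ S.card ∧ S.card = c := by
    obtain ⟨S, hS, h2⟩ := hprim
    exact ⟨_, S, hS, h2, rfl⟩
  obtain ⟨S, hS, hS2, hSc⟩ := Nat.find_spec hex
  have hmin : ∀ S', System M S' → 2 ≤ S'.card → S.card ≤ S'.card := fun S' h1 h2 => by
    rw [hSc]; exact Nat.find_min' hex ⟨S', h1, h2, rfl⟩
  have hcomm : ∀ (y : (Module.End (ZMod r) V)ˣ) (e : Module.End (ZMod r) V),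
      (y : Module.End (ZMod r) V) * e * ↑y⁻¹ = e → ∀ z, (y : Module.End (ZMod r) V) (e z) = e ((y : Module.End (ZMod r) V) z) := by
    intro y e h z
    conv_rhs => rw [← h]
    rw [← Module.End.mul_apply, ← Module.End.mul_apply, mul_assoc _ _ (y : Module.End (ZMod r) V),
      Units.inv_mul, mul_one]
  have hMtrans : ∀ e ∈ S, ∀ f ∈ S, ∃ m ∈ M, (m : Module.End (ZMod r) V) * e * ↑m⁻¹ = f := by
    refine (fix_or_transitive hS hmin M le_rfl (fun m hm y hy => mul_mem (mul_mem hm hy) (inv_mem hm))).resolve_left ?_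
    intro hfix
    obtain ⟨e, he, f, hf, hef⟩ := Finset.one_lt_card.1 (show 1 < S.card by omega)
    rcases hirr (LinearMap.range e) (fun m hm z hz => by
      obtain ⟨w, rfl⟩ := hz
      exact ⟨_, (hcomm m e (hfix m hm e he) w).symm⟩) with h | h
    · exact hS.ne_zero e he (LinearMap.range_eq_bot.1 h)
    · refine hS.ne_zero f hf (LinearMap.ext fun z => ?_)
      obtain ⟨w, hw⟩ := h.ge (Submodule.mem_top : z ∈ ⊤)
      rw [← hw, ← Module.End.mul_apply, hS.orth f hf e he hef.symm]; simp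
  -- the kernel of the action of `P` on the system
  let K₀ : Subgroup (Module.End (ZMod r) V)ˣ :=
    { carrier := {y | y ∈ P ∧ ∀ e ∈ S, (y : Module.End (ZMod r) V) * e * ↑y⁻¹ = e}
      one_mem' := ⟨one_mem P, fun e _ => by simp⟩
      mul_mem' := fun {a b} ⟨ha, ha'⟩ ⟨hb, hb'⟩ => ⟨mul_mem ha hb, fun e he => by rw [conj_conj, hb' e he, ha' e he]⟩
      inv_mem' := fun {a} ⟨ha, ha'⟩ => ⟨inv_mem ha, fun e he => by
        rw [inv_inv]; conv_lhs => rw [← ha' e he]
        exact conj_inv_conj a e⟩ }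
  have hK₀n : ∀ m ∈ M, ∀ y ∈ K₀, m * y * m⁻¹ ∈ K₀ := by
    rintro m hm y ⟨hy, hy'⟩
    refine ⟨hPn m hm y hy, fun e he => ?_⟩
    have h1 := hS.perm m⁻¹ (inv_mem hm) e he
    rw [inv_inv] at h1
    rw [conj_conj (m * y) m⁻¹, conj_conj m y, inv_inv, hy' _ h1]
    simp only [mul_assoc, Units.mul_inv_cancel_left, Units.mul_inv, mul_one]
  obtain ⟨e₀, he₀⟩ := Finset.card_pos.1 (show 0 < S.card by omega)
  by_cases hxK : x ∈ K₀
  swap
  · -- every conjugate moves every member of the system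
    have hPfix : ¬ ∀ y ∈ P, ∀ e ∈ S, (y : Module.End (ZMod r) V) * e * ↑y⁻¹ = e := fun h => hxK ⟨hxP, h x hxP⟩
    let Zc : Subgroup (Module.End (ZMod r) V)ˣ :=
      { carrier := {z | z ∈ P ∧ ∀ u ∈ P, z⁻¹ * u⁻¹ * z * u ∈ K₀}
        one_mem' := ⟨one_mem P, fun u _ => by simp⟩
        mul_mem' := fun {a b} ⟨ha, ha'⟩ ⟨hb, hb'⟩ => ⟨mul_mem ha hb, fun u hu => by
          rw [show (a * b)⁻¹ * u⁻¹ * (a * b) * u = (b⁻¹ * (a⁻¹ * u⁻¹ * a * u) * b) * (b⁻¹ * u⁻¹ * b * u) by group]
          exact mul_mem (by simpa using hK₀n b⁻¹ (inv_mem (hPM hb)) _ (ha' u hu)) (hb' u hu)⟩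
        inv_mem' := fun {a} ⟨ha, ha'⟩ => ⟨inv_mem ha, fun u hu => by
          rw [show a⁻¹⁻¹ * u⁻¹ * a⁻¹ * u = a * (a⁻¹ * u⁻¹ * a * u)⁻¹ * a⁻¹ by group]
          exact hK₀n a (hPM ha) _ (inv_mem (ha' u hu))⟩ }
    have hZn : ∀ m ∈ M, ∀ z ∈ Zc, m * z * m⁻¹ ∈ Zc := by
      rintro m hm z ⟨hz, hz'⟩
      refine ⟨hPn m hm z hz, fun u hu => ?_⟩
      have h1 : m⁻¹ * u * m ∈ P := by simpa using hPn m⁻¹ (inv_mem hm) u hu
      rw [show (m * z * m⁻¹)⁻¹ * u⁻¹ * (m * z * m⁻¹) * u =
        m * (z⁻¹ * (m⁻¹ * u * m)⁻¹ * z * (m⁻¹ * u * m)) * m⁻¹ by group]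
      exact hK₀n m hm _ (hz' _ h1)
    have hZtrans : ∀ e ∈ S, ∀ f ∈ S, ∃ z ∈ Zc, (z : Module.End (ZMod r) V) * e * ↑z⁻¹ = f := by
      refine (fix_or_transitive hS hmin Zc (fun z hz => hPM hz.1) hZn).resolve_left fun hfix => ?_
      have hZK : Zc ≤ K₀ := fun z hz => ⟨hz.1, hfix z hz⟩
      set K₁ := K₀.subgroupOf P with hK₁
      haveI : K₁.Normal := ⟨fun a ha g => hK₀n _ (hPM g.2) _ ha⟩
      haveI : Nontrivial (P ⧸ K₁) := by
        refine ⟨⟨QuotientGroup.mk ⟨x, hxP⟩, 1, fun h => hxK ?_⟩⟩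
        exact (QuotientGroup.eq_one_iff (⟨x, hxP⟩ : P)).1 h
      haveI := (hPp.to_quotient K₁).center_nontrivial
      obtain ⟨⟨zb, hzb⟩, hz1⟩ := exists_ne (1 : Subgroup.center (P ⧸ K₁))
      obtain ⟨z, rfl⟩ := QuotientGroup.mk_surjective zb
      refine hz1 (Subtype.ext ((QuotientGroup.eq_one_iff z).2 (hZK ⟨z.2, fun u hu => ?_⟩)))
      have h1 := Subgroup.mem_center_iff.1 hzb (QuotientGroup.mk ⟨u, hu⟩)
      rw [← QuotientGroup.mk_mul, ← QuotientGroup.mk_mul, QuotientGroup.eq] at h1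
      rw [Subgroup.mem_subgroupOf] at h1
      simpa [mul_assoc] using h1
    have hreg : ∀ y ∈ P, ∀ e ∈ S, (y : Module.End (ZMod r) V) * e * ↑y⁻¹ = e → y ∈ K₀ := by
      intro y hy e he hye
      refine ⟨hy, fun f hf => ?_⟩
      obtain ⟨z, ⟨hz, hz'⟩, rfl⟩ := hZtrans e he f hf
      obtain ⟨-, h1⟩ := hz' y hy
      have h2 : y * z = z * y * (z⁻¹ * y⁻¹ * z * y)⁻¹ := by group
      rw [← conj_conj y z, h2, conj_conj, conj_conj z y]
      have h3 : (↑(z⁻¹ * y⁻¹ * z * y)⁻¹ : Module.End (ZMod r) V) * e * ↑((z⁻¹ * y⁻¹ * z * y)⁻¹)⁻¹ = e :=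
        (inv_mem (hz' y hy)).2 e he
      rw [h3, hye]
    obtain ⟨w, hw⟩ : ∃ w, e₀ w ≠ 0 := by
      by_contra h
      push Not at h
      exact hS.ne_zero e₀ he₀ (LinearMap.ext h)
    refine ⟨e₀ w, fun m hm hfix => hw ?_⟩
    set y := m * x * m⁻¹
    have hf := hS.perm y (mul_mem (mul_mem hm (hPM hxP)) (inv_mem hm)) e₀ he₀
    have hne : (y : Module.End (ZMod r) V) * e₀ * ↑y⁻¹ ≠ e₀ := fun h => hxK (by
      have := hK₀n m⁻¹ (inv_mem hm) y (hreg y (hPn m hm x hxP) e₀ he₀ h)
      simpa [y, mul_assoc] using this)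
    have h1 : ((y : Module.End (ZMod r) V) * e₀ * ↑y⁻¹) (e₀ w) = e₀ w := by
      conv_lhs => rw [← hfix]
      rw [← Module.End.mul_apply, mul_assoc _ _ (y : Module.End (ZMod r) V), Units.inv_mul, mul_one,
        Module.End.mul_apply, ← Module.End.mul_apply e₀, hS.idem e₀ he₀, hfix]
    rw [← Module.End.mul_apply, hS.orth _ hf e₀ he₀ hne, LinearMap.zero_apply] at h1
    exact h1.symm
  -- every conjugate fixes every member
  obtain ⟨e₁, he₁, hx₁⟩ : ∃ e ∈ S, (x : Module.End (ZMod r) V) * e ≠ e := by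
    by_contra h
    push Not at h
    refine hx1 (Units.ext ?_)
    rw [← mul_one (x : Module.End (ZMod r) V), ← hS.total, Finset.mul_sum, Finset.sum_congr rfl h, hS.total]
    rfl
  obtain ⟨m₀, hm₀, rfl⟩ := hMtrans e₀ he₀ e₁ he₁
  set W := LinearMap.range e₀
  let M₁ : Subgroup (Module.End (ZMod r) V)ˣ :=
    { carrier := {a | a ∈ M ∧ (a : Module.End (ZMod r) V) * e₀ * ↑a⁻¹ = e₀}
      one_mem' := ⟨one_mem M, by simp⟩
      mul_mem' := fun {a b} ⟨ha, ha'⟩ ⟨hb, hb'⟩ => ⟨mul_mem ha hb, by rw [conj_conj, hb', ha']⟩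
      inv_mem' := fun {a} ⟨ha, ha'⟩ => ⟨inv_mem ha, by
        rw [inv_inv]; conv_lhs => rw [← ha']
        exact conj_inv_conj a e₀⟩ }
  have hWinv : ∀ a : M₁, ∀ z ∈ W, ((a : (Module.End (ZMod r) V)ˣ) : Module.End (ZMod r) V) z ∈ W := by
    rintro a _ ⟨z, rfl⟩
    exact ⟨_, (hcomm _ e₀ a.2.2 z).symm⟩
  let ρ : M₁ →* Module.End (ZMod r) W :=
    { toFun := fun a => ((a : (Module.End (ZMod r) V)ˣ) : Module.End (ZMod r) V).restrict (hWinv a)
      map_one' := LinearMap.ext fun z => Subtype.ext (by simp)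
      map_mul' := fun a b => LinearMap.ext fun z => Subtype.ext (by simp) }
  set φ := ρ.toHomUnits
  set M' := φ.range
  set P₁ := (P ⊓ M₁).subgroupOf M₁ with hP₁
  set P' := P₁.map φ
  set x' := m₀⁻¹ * x * m₀ with hx'
  have hx'K : x' ∈ K₀ := by simpa using hK₀n m₀⁻¹ (inv_mem hm₀) x hxK
  have hx'M₁ : x' ∈ M₁ := ⟨hPM hx'K.1, hx'K.2 e₀ he₀⟩
  have hirr' : Irred M' := by
    intro U hU
    set U' : Submodule (ZMod r) V := U.map W.subtype with hU'
    let T : Submodule (ZMod r) V := ⨆ m : M, U'.map ((m : (Module.End (ZMod r) V)ˣ) : Module.End (ZMod r) V)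
    have hT : ∀ m ∈ M, ∀ z ∈ T, (m : Module.End (ZMod r) V) z ∈ T := by
      intro m hm z hz
      have hle : T ≤ T.comap (m : Module.End (ZMod r) V) := iSup_le fun m' => by
        rintro _ ⟨w, hw, rfl⟩
        refine le_iSup (fun m : M => U'.map ((m : (Module.End (ZMod r) V)ˣ) : Module.End (ZMod r) V))
          (⟨m, hm⟩ * m') ⟨w, hw, ?_⟩
        simp
      exact hle hz
    have hUT : U' ≤ T := fun w hw => le_iSup (fun m : M => U'.map ((m : (Module.End (ZMod r) V)ˣ) : Module.End (ZMod r) V))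
      1 ⟨w, hw, by simp⟩
    rcases hirr T hT with h | h
    · left
      refine (Submodule.eq_bot_iff _).2 fun u hu => Subtype.ext ?_
      have := hUT (Submodule.mem_map_of_mem hu)
      rwa [h, Submodule.mem_bot] at this
    · right
      refine eq_top_iff.2 fun u _ => ?_
      have hle : T ≤ U'.comap e₀ := iSup_le fun m => by
        rintro _ ⟨_, ⟨w, hw, rfl⟩, rfl⟩
        rw [Submodule.mem_comap]
        obtain ⟨z, hz⟩ := w.2
        by_cases hm1 : ((m : (Module.End (ZMod r) V)ˣ) : Module.End (ZMod r) V) * e₀ * ↑(m : (Module.End (ZMod r) V)ˣ)⁻¹ = e₀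
        · refine ⟨(φ ⟨_, m.2, hm1⟩ : Module.End (ZMod r) W) w, hU _ ⟨_, rfl⟩ w hw, ?_⟩
          show ((m : (Module.End (ZMod r) V)ˣ) : Module.End (ZMod r) V) (w : V) = _
          rw [Submodule.subtype_apply, ← hcomm _ e₀ hm1, ← hz, ← Module.End.mul_apply e₀, hS.idem e₀ he₀]
        · have hf := hS.perm _ (inv_mem m.2) e₀ he₀
          rw [inv_inv] at hf
          have hne : (↑(m : (Module.End (ZMod r) V)ˣ)⁻¹ : Module.End (ZMod r) V) * e₀ * ((m : (Module.End (ZMod r) V)ˣ) : Module.End (ZMod r) V) ≠ e₀ := fun h => hm1 (by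
            conv_lhs => rw [← h]
            simp only [mul_assoc, Units.mul_inv_cancel_left, Units.mul_inv, mul_one])
          have h0 : e₀ (((m : (Module.End (ZMod r) V)ˣ) : Module.End (ZMod r) V) (w : V)) = 0 := by
            rw [← hz, ← Module.End.mul_apply, ← Module.End.mul_apply,
              show e₀ * ((m : (Module.End (ZMod r) V)ˣ) : Module.End (ZMod r) V) * e₀ =
                ((m : (Module.End (ZMod r) V)ˣ) : Module.End (ZMod r) V) * ((↑(m : (Module.End (ZMod r) V)ˣ)⁻¹ * e₀ * ((m : (Module.End (ZMod r) V)ˣ) : Module.End (ZMod r) V)) * e₀) by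
                  simp only [mul_assoc, Units.mul_inv_cancel_left],
              hS.orth _ hf e₀ he₀ hne, mul_zero, LinearMap.zero_apply]
          rw [Submodule.subtype_apply, h0]
          exact zero_mem _
      obtain ⟨z, hz⟩ := u.2
      have h1 : e₀ (u : V) ∈ U' := hle (h.ge Submodule.mem_top)
      rw [← hz, ← Module.End.mul_apply, hS.idem e₀ he₀, hz] at h1
      obtain ⟨u₁, hu₁, he⟩ := h1
      exact Subtype.ext he ▸ hu₁
  have hWlt : Nat.card W < n := by
    obtain ⟨f, hf, hne⟩ := Finset.exists_mem_ne (show 1 < S.card by omega) e₀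
    obtain ⟨z, hz⟩ : ∃ z, z ∉ W := by
      by_contra h
      push Not at h
      refine hS.ne_zero f hf (LinearMap.ext fun z => ?_)
      obtain ⟨w, hw⟩ := h z
      rw [← hw, ← Module.End.mul_apply, hS.orth f hf e₀ he₀ hne, LinearMap.zero_apply, LinearMap.zero_apply]
    rw [← hn]
    exact Finite.card_subtype_lt (p := fun z => z ∈ W) hz
  have hx'' : φ ⟨x', hx'M₁⟩ ≠ 1 := fun h => hx₁ (by
    have h1 : (x' : Module.End (ZMod r) V) * e₀ = e₀ := LinearMap.ext fun z => by
      have := congrArg (fun u : (Module.End (ZMod r) W)ˣ => ((u : Module.End (ZMod r) W) ⟨e₀ z, z, rfl⟩ : V)) h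
      exact this
    calc (x : Module.End (ZMod r) V) * ((m₀ : Module.End (ZMod r) V) * e₀ * ↑m₀⁻¹)
        = (m₀ : Module.End (ZMod r) V) * ((x' : Module.End (ZMod r) V) * e₀) * ↑m₀⁻¹ := by
          simp only [hx', Units.val_mul, mul_assoc, Units.mul_inv_cancel_left]
      _ = _ := by rw [h1])
  obtain ⟨w, hw⟩ := IH _ hWlt W rfl M' P' hirr' (Subgroup.map_le_range _ _) (by
      rintro _ ⟨a, rfl⟩ _ ⟨b, hb, rfl⟩
      refine ⟨a * b * a⁻¹, ⟨hPn _ a.2.1 _ hb.1, M₁.mul_mem (M₁.mul_mem a.2 b.2) (M₁.inv_mem a.2)⟩, ?_⟩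
      rw [map_mul, map_mul, map_inv])
    (((hPp.to_le (inf_le_left : P ⊓ M₁ ≤ P)).comap_of_injective M₁.subtype Subtype.val_injective).map φ)
    (φ ⟨x', hx'M₁⟩) ⟨_, ⟨hx'K.1, hx'M₁⟩, rfl⟩
    (by
      rw [← map_pow, show (⟨x', hx'M₁⟩ : M₁) ^ p = 1 from Subtype.ext (by
        show x' ^ p = 1
        have := conj_pow (i := p) (a := m₀⁻¹) (b := x)
        rw [inv_inv] at this
        rw [hx', this, hxp, mul_one, inv_mul_cancel]), map_one]) hx''
  -- the sum of the translates
  choose t ht ht' using fun f : S => hMtrans e₀ he₀ f f.2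
  have hwe : e₀ (w : V) = w := by
    obtain ⟨z, hz⟩ := w.2
    rw [← hz, ← Module.End.mul_apply, hS.idem e₀ he₀]
  refine ⟨∑ f : S, (t f : Module.End (ZMod r) V) (w : V), fun m hm hfix => ?_⟩
  set y := m * x * m⁻¹ with hy
  have he := hS.perm _ (mul_mem hm hm₀) e₀ he₀
  set e := ((m * m₀ : (Module.End (ZMod r) V)ˣ) : Module.End (ZMod r) V) * e₀ * ↑(m * m₀)⁻¹ with hedef
  have htf : ∀ f : S, (f : Module.End (ZMod r) V) ((t f : Module.End (ZMod r) V) (w : V)) = (t f : Module.End (ZMod r) V) (w : V) := fun f => by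
    conv_rhs => rw [← hwe]
    rw [← ht' f, ← Module.End.mul_apply, ← Module.End.mul_apply, mul_assoc _ _ (t f : Module.End (ZMod r) V),
      Units.inv_mul, mul_one]
  have hev : e (∑ f : S, (t f : Module.End (ZMod r) V) (w : V)) = (t ⟨e, he⟩ : Module.End (ZMod r) V) (w : V) := by
    rw [map_sum, Finset.sum_eq_single (⟨e, he⟩ : S)]
    · exact htf ⟨e, he⟩
    · intro f _ hf
      rw [← htf f, ← Module.End.mul_apply, hS.orth e he f f.2 fun h => hf (Subtype.ext h.symm), LinearMap.zero_apply]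
    · exact fun h => absurd (Finset.mem_univ _) h
  have hyt : (y : Module.End (ZMod r) V) ((t ⟨e, he⟩ : Module.End (ZMod r) V) (w : V)) = (t ⟨e, he⟩ : Module.End (ZMod r) V) (w : V) := by
    rw [← hev, hcomm y e ((hK₀n m hm x hxK).2 e he), hfix]
  set t₀ := t ⟨e, he⟩ with ht₀
  have hte : (t₀ : Module.End (ZMod r) V) * e₀ * ↑t₀⁻¹ = e := ht' ⟨e, he⟩
  have ha : t₀⁻¹ * (m * m₀) ∈ M₁ := by
    refine ⟨mul_mem (inv_mem (ht ⟨e, he⟩)) (mul_mem hm hm₀), ?_⟩
    rw [conj_conj, ← hedef, ← hte, inv_inv, conj_inv_conj]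
  refine hw (φ ⟨_, ha⟩) ⟨_, rfl⟩ ?_
  rw [← map_inv, ← map_mul, ← map_mul]
  refine Subtype.ext ?_
  show ((t₀⁻¹ * (m * m₀) * x' * (t₀⁻¹ * (m * m₀))⁻¹ : (Module.End (ZMod r) V)ˣ) : Module.End (ZMod r) V) (w : V) = _
  rw [show t₀⁻¹ * (m * m₀) * x' * (t₀⁻¹ * (m * m₀))⁻¹ = t₀⁻¹ * y * t₀ by rw [hx', hy]; group,
    Units.val_mul, Units.val_mul, Module.End.mul_apply, Module.End.mul_apply, hyt, ← Module.End.mul_apply,
    Units.inv_mul, Module.End.one_apply]

end Main

end Cfsg.Agent.ClassCover
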