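import Cfsg.Agent.Lib.Solvable.KegelWielandt
import Cfsg.Agent.Lib.Solvable.Factorised

/-! Derived length of a product of an abelian subgroup and a subgroup of class at most two. -/

set_option autoImplicit false
open scoped Pointwise commutatorElement

universe u

namespace Cfsg.Agent.ClassTwoProduct

open Cfsg.Agent.SolvBasic

variable {G : Type u} [Group G]

lemma derivedSeries_two_eq : derivedSeries G 2 = ⁅commutator G, commutator G⁆ := by
  rw [derivedSeries_succ, derivedSeries_one]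

lemma derivedSeries_two_of_comm (h : IsMulCommutative (commutator G)) :
    derivedSeries G 2 = ⊥ := by
  rw [derivedSeries_two_eq, Subgroup.commutator_eq_bot_iff_le_centralizer]
  exact fun x hx => Subgroup.mem_centralizer_iff.2 fun y hy =>
    setLike_mul_comm (s := commutator G) hy hx

variable [Finite G] {A B : Subgroup G}

lemma class_le_two_nilpotent {B : Type u} [Group B] (hB : commutator B ≤ Subgroup.center B) :
    Group.IsNilpotent B := by
  have : Group.IsNilpotent (B ⧸ Subgroup.center B) := by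
    letI : CommGroup (B ⧸ Subgroup.center B) :=
      { mul_comm := fun a b => by
          obtain ⟨a, rfl⟩ := QuotientGroup.mk'_surjective _ a
          obtain ⟨b, rfl⟩ := QuotientGroup.mk'_surjective _ b
          change Commute _ _
          rw [← commutatorElement_eq_one_iff_commute, ← map_commutatorElement]
          exact (QuotientGroup.eq_one_iff _).2 (hB (Subgroup.commutator_mem_commutator
            (Subgroup.mem_top a) (Subgroup.mem_top b))) }
    infer_instance
  exact Group.of_quotient_center_nilpotent this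

/-- `G'' = 1` when every nontrivial element of `B'` generates `G` together with `A`. -/
lemma metabelian_case [Group.IsSolvable G] (hA : IsMulCommutative A)
    (hB : commutator ↥B ≤ Subgroup.center ↥B) (hAB : ∀ g : G, ∃ a ∈ A, ∃ b ∈ B, g = a * b)
    (hgen : ∀ w ∈ ⁅B, B⁆, w ≠ 1 → A ⊔ Subgroup.zpowers w = ⊤) :
    derivedSeries G 2 = ⊥ := by
  set N := derivedSeries G 2 with hN
  have hNn : N.Normal := derivedSeries_normal G 2
  have hBB : ∀ c ∈ ⁅B, B⁆, c ∈ B ∧ ∀ y ∈ B, Commute c y := by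
    intro c hc
    rw [← Subgroup.map_subtype_commutator] at hc
    obtain ⟨c', hc', rfl⟩ := hc
    exact ⟨c'.2, fun y hy =>
      (congrArg Subtype.val (Subgroup.mem_center_iff.1 (hB hc') ⟨y, hy⟩)).symm⟩
  have hNG : N ≤ commutator G := by
    rw [hN, derivedSeries_two_eq]; exact Subgroup.commutator_mono le_top le_top
  by_cases hmeet : ∃ w ∈ ⁅B, B⁆, w ∈ N ∧ w ≠ 1
  · obtain ⟨w, hw, hwN, hw1⟩ := hmeet
    have hAN : N ⊔ A = ⊤ := top_le_iff.1 (hgen w hw hw1 ▸
      sup_le le_sup_right (Subgroup.zpowers_le.2 (Subgroup.mem_sup_left hwN)))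
    set f := QuotientGroup.mk' N with hf
    have hle : commutator G ≤ N := by
      rw [commutator_def, Subgroup.commutator_le]
      intro g _ g' _
      have hdec : ∀ x : G, ∃ a ∈ A, f x = f a := fun x => by
        obtain ⟨m, hm, a, ha, e⟩ := (mem_sup_iff_of_le_normalizer
          (show A ≤ Subgroup.normalizer (N : Set G) by rw [Subgroup.normalizer_eq_top]; exact le_top)).1
          (hAN ▸ Subgroup.mem_top x)
        exact ⟨a, ha, by rw [e, map_mul, show f m = 1 from (QuotientGroup.eq_one_iff m).2 hm, one_mul]⟩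
      obtain ⟨a, ha, e⟩ := hdec g
      obtain ⟨a', ha', e'⟩ := hdec g'
      refine (QuotientGroup.eq_one_iff _).1 ?_
      change f ⁅g, g'⁆ = 1
      rw [map_commutatorElement, e, e', ← map_commutatorElement,
        commutatorElement_eq_one_iff_mul_comm.2 (setLike_mul_comm (s := A) ha ha'), map_one]
    obtain ⟨n, hn⟩ := (inferInstance : Group.IsSolvable G).solvable
    have hall : ∀ k, commutator G ≤ derivedSeries G (k + 1) := by
      intro k
      induction k with
      | zero => rw [derivedSeries_one]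
      | succ k ihk =>
        refine hle.trans ?_
        rw [hN, derivedSeries_two_eq, derivedSeries_succ]
        exact Subgroup.commutator_mono ihk ihk
    have h0 : commutator G ≤ ⊥ := (hall n).trans (by rw [derivedSeries_succ, hn]; simp)
    exact le_bot_iff.1 (hNG.trans h0)
  push Not at hmeet
  by_cases hBc : ⁅B, B⁆ = ⊥
  · refine derivedSeries_two_of_comm (Cfsg.Agent.Factorised.ito hA (.of_setLike_mul_comm ?_) hAB)
    intro x hx y hy
    have h := Subgroup.commutator_mem_commutator hx hy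
    rw [hBc, Subgroup.mem_bot] at h
    exact commutatorElement_eq_one_iff_mul_comm.1 h
  obtain ⟨w, hw, hw1⟩ := (Subgroup.bot_or_exists_ne_one _).resolve_left hBc
  set Z := (Subgroup.center ↥B).map B.subtype with hZdef
  have hZB : Z ≤ B := Subgroup.map_subtype_le _
  have hZc : ∀ z ∈ Z, ∀ y ∈ B, Commute z y := by
    rintro _ ⟨z, hz, rfl⟩ y hy
    exact (congrArg Subtype.val (Subgroup.mem_center_iff.1 hz ⟨y, hy⟩)).symm
  have hAZ : A ⊔ Z = ⊤ := top_le_iff.1 (hgen w hw hw1 ▸ sup_le le_sup_left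
    (Subgroup.zpowers_le.2 (Subgroup.mem_sup_right
      ⟨⟨w, (hBB w hw).1⟩, Subgroup.mem_center_iff.2 fun y =>
        Subtype.ext ((hBB w hw).2 y y.2).symm.eq, rfl⟩)))
  have cA : ∀ x ∈ A, ∀ y ∈ A, Commute x y := fun x hx y hy => setLike_mul_comm (s := A) hx hy
  have key : ∀ a ∈ A, ∀ b ∈ Z, ∀ a₁ ∈ A, ∀ b₁ ∈ Z, Commute ⁅a, b⁆ ⁅a₁, b₁⁆ := by
    intro a ha b hb a₁ ha₁ b₁ hb₁
    obtain ⟨a₁, rfl⟩ : ∃ c, c⁻¹ = a₁ := ⟨a₁⁻¹, inv_inv _⟩
    obtain ⟨b₁, rfl⟩ : ∃ c, c⁻¹ = b₁ := ⟨b₁⁻¹, inv_inv _⟩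
    rw [inv_mem_iff] at ha₁ hb₁
    obtain ⟨b₂, hb₂, a₂, ha₂, e2⟩ := Cfsg.Agent.Factorised.mul_swap hAB (a₁ * b * a₁⁻¹)
    obtain ⟨a₃, ha₃, b₃, hb₃, e3⟩ := hAB (b₁ * a * b₁⁻¹)
    have hA1 : ∀ x ∈ A, a₁ * ⁅x, b⁆ * a₁⁻¹ = ⁅x, b₂⁆ := by
      intro x hx
      have hxa : a₁ * x * a₁⁻¹ = x := by rw [(cA _ ha₁ _ hx).eq, mul_inv_cancel_right]
      calc a₁ * ⁅x, b⁆ * a₁⁻¹ = ⁅a₁ * x * a₁⁻¹, a₁ * b * a₁⁻¹⁆ := by
            simp [commutatorElement_def, mul_assoc]
        _ = x * b₂ * (a₂ * x⁻¹) * a₂⁻¹ * b₂⁻¹ := by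
            rw [hxa, e2, commutatorElement_def, mul_inv_rev]; simp [mul_assoc]
        _ = x * b₂ * (x⁻¹ * a₂) * a₂⁻¹ * b₂⁻¹ := by rw [((cA _ hx _ ha₂).symm.inv_right).eq]
        _ = _ := by simp [commutatorElement_def, mul_assoc]
    have hB1 : ∀ y ∈ B, b₁ * ⁅a, y⁆ * b₁⁻¹ = a₃ * ⁅b₃, y⁆ * a₃⁻¹ * ⁅a₃, y⁆ := by
      intro y hy
      have hyb : b₁ * y * b₁⁻¹ = y := by rw [(hZc _ hb₁ _ hy).eq, mul_inv_cancel_right]
      calc b₁ * ⁅a, y⁆ * b₁⁻¹ = ⁅b₁ * a * b₁⁻¹, b₁ * y * b₁⁻¹⁆ := by
            simp [commutatorElement_def, mul_assoc]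
        _ = _ := by rw [hyb, e3]; simp [commutatorElement_def, mul_assoc]
    have hb3 : ⁅b₃, b⁆ = 1 :=
      commutatorElement_eq_one_iff_commute.2 (hZc b hb b₃ hb₃).symm
    have hu : (b₁ * a₁) * ⁅a, b⁆ * (b₁ * a₁)⁻¹ = a₃ * ⁅b₃, b₂⁆ * a₃⁻¹ * ⁅a₃, b₂⁆ := by
      rw [← hB1 b₂ hb₂, ← hA1 a ha]; simp [mul_assoc]
    have hv : (a₁ * b₁) * ⁅a, b⁆ * (a₁ * b₁)⁻¹ = ⁅a₃, b₂⁆ := by
      calc (a₁ * b₁) * ⁅a, b⁆ * (a₁ * b₁)⁻¹ = a₁ * (b₁ * ⁅a, b⁆ * b₁⁻¹) * a₁⁻¹ := by
            simp [mul_assoc]
        _ = _ := by rw [hB1 b (hZB hb), hb3, mul_one, mul_inv_cancel, one_mul, hA1 a₃ ha₃]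
    have hc : ⁅b₃, b₂⁆ ∈ N := by
      have h1 : ⁅⁅a, b⁆, ⁅a₁⁻¹, b₁⁻¹⁆⁆ ∈ N := by
        rw [hN, derivedSeries_two_eq]
        exact Subgroup.commutator_mem_commutator
          (Subgroup.commutator_mem_commutator (Subgroup.mem_top a) (Subgroup.mem_top b))
          (Subgroup.commutator_mem_commutator (Subgroup.mem_top _) (Subgroup.mem_top _))
      have h2 : a₃ * ⁅b₃, b₂⁆ * a₃⁻¹ =
          (b₁ * a₁) * ⁅⁅a, b⁆, ⁅a₁⁻¹, b₁⁻¹⁆⁆ * (b₁ * a₁)⁻¹ := by
        calc a₃ * ⁅b₃, b₂⁆ * a₃⁻¹ = ((b₁ * a₁) * ⁅a, b⁆ * (b₁ * a₁)⁻¹) *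
              ((a₁ * b₁) * ⁅a, b⁆ * (a₁ * b₁)⁻¹)⁻¹ := by rw [hu, hv, mul_inv_cancel_right]
          _ = _ := by simp [commutatorElement_def, mul_assoc]
      have h3 := hNn.conj_mem _ h1 (b₁ * a₁)
      rw [← h2] at h3
      simpa [mul_assoc] using hNn.conj_mem _ h3 a₃⁻¹
    have hc1 := hmeet _ (Subgroup.commutator_mem_commutator hb₃ hb₂) hc
    rw [hc1, mul_one, mul_inv_cancel, one_mul] at hu
    have h12 := hu.trans hv.symm
    have h13 : ⁅a₁⁻¹, b₁⁻¹⁆ = (b₁ * a₁)⁻¹ * (a₁ * b₁) := by
      simp [commutatorElement_def, mul_assoc]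
    rw [h13]
    refine Commute.symm ?_
    have h14 := congrArg (fun z => (b₁ * a₁)⁻¹ * z * (a₁ * b₁)) h12
    change _ = _
    simpa [mul_assoc] using h14.symm
  set D := ⁅A, Z⁆ with hD
  have hDle : D ≤ Subgroup.centralizer (D : Set G) := by
    rw [hD, Subgroup.commutator_le]
    intro a ha b hb
    have h2 : ⁅A, Z⁆ ≤ Subgroup.centralizer {⁅a, b⁆} := Subgroup.commutator_le.2
      fun a₁ ha₁ b₁ hb₁ =>
        Subgroup.mem_centralizer_singleton_iff.2 (key a ha b hb a₁ ha₁ b₁ hb₁).eq.symm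
    exact Subgroup.mem_centralizer_iff.2 fun y hy =>
      Subgroup.mem_centralizer_singleton_iff.1 (h2 hy)
  have hDn : D.Normal := by
    rw [← Subgroup.normalizer_eq_top_iff, eq_top_iff, ← hAZ]
    exact sup_le (Subgroup.normalizer_commutator_ge_left A Z)
      (Subgroup.normalizer_commutator_ge_right A Z)
  set f := QuotientGroup.mk' D with hf
  have hGD : commutator G ≤ D := by
    have hcomm : ∀ x ∈ ((A : Set G) ∪ Z), ∀ y ∈ ((A : Set G) ∪ Z), Commute (f x) (f y) := by
      have hab : ∀ x ∈ A, ∀ y ∈ Z, Commute (f x) (f y) := fun x hx y hy => by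
        rw [← commutatorElement_eq_one_iff_commute, ← map_commutatorElement]
        exact (QuotientGroup.eq_one_iff _).2 (Subgroup.commutator_mem_commutator hx hy)
      rintro x (hx | hx) y (hy | hy)
      · exact (cA x hx y hy).map f
      · exact hab x hx y hy
      · exact (hab y hy x hx).symm
      · exact (hZc x hx y (hZB hy)).map f
    have h1 : ∀ y ∈ ((A : Set G) ∪ Z), ∀ g : G, Commute (f g) (f y) := by
      intro y hy g
      have hg : g ∈ A ⊔ Z := hAZ ▸ Subgroup.mem_top g
      rw [Subgroup.sup_eq_closure] at hg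
      induction hg using Subgroup.closure_induction with
      | mem x hx => exact hcomm x hx y hy
      | one => rw [map_one]; exact Commute.one_left _
      | mul x x' _ _ hx hx' => rw [map_mul]; exact hx.mul_left hx'
      | inv x _ hx => rw [map_inv]; exact hx.inv_left
    have h2 : ∀ g g' : G, Commute (f g) (f g') := by
      intro g g'
      have hg : g' ∈ A ⊔ Z := hAZ ▸ Subgroup.mem_top g'
      rw [Subgroup.sup_eq_closure] at hg
      induction hg using Subgroup.closure_induction with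
      | mem x hx => exact h1 x hx g
      | one => rw [map_one]; exact Commute.one_right _
      | mul x x' _ _ hx hx' => rw [map_mul]; exact hx.mul_right hx'
      | inv x _ hx => rw [map_inv]; exact hx.inv_right
    rw [commutator_def, Subgroup.commutator_le]
    intro g _ g' _
    refine (QuotientGroup.eq_one_iff _).1 ?_
    change f ⁅g, g'⁆ = 1
    rw [map_commutatorElement, commutatorElement_eq_one_iff_commute]
    exact h2 g g'
  exact derivedSeries_two_of_comm (.of_setLike_mul_comm fun x hx y hy =>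
    Subgroup.mem_centralizer_iff.1 (hDle (hGD hy)) x (hGD hx))

lemma length_lt {m M : ℕ} (hM : M ≠ 0) (hd : m ∣ M) (hne : m ≠ M) :
    m.primeFactorsList.length < M.primeFactorsList.length := by
  obtain ⟨c, rfl⟩ := hd
  have hm : m ≠ 0 := left_ne_zero_of_mul hM
  have hc : c ≠ 0 := right_ne_zero_of_mul hM
  have hc1 : c ≠ 1 := fun h => hne (by rw [h, mul_one])
  rw [(Nat.perm_primeFactorsList_mul hm hc).length_eq, List.length_append]
  have : 0 < c.primeFactorsList.length := List.length_pos_of_ne_nil fun h => by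
    rcases (Nat.primeFactorsList_eq_nil c).1 h with h | h
    · exact hc h
    · exact hc1 h
  omega

omit [Finite G] in
lemma class_two_sub {H : Type u} [Group H] (f : H →* G) (hf : Function.Injective f)
    (hB : commutator ↥B ≤ Subgroup.center ↥B) (C : Subgroup H) (hC : C.map f ≤ B) :
    commutator ↥C ≤ Subgroup.center ↥C := by
  intro c hc
  rw [Subgroup.mem_center_iff]
  intro d
  let g : C →* B := (f.comp C.subtype).codRestrict B fun x => hC ⟨x, x.2, rfl⟩
  have hg : Function.Injective g := fun x y h =>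
    Subtype.ext (hf (congrArg Subtype.val h :))
  apply hg
  rw [map_mul, map_mul]
  refine Subgroup.mem_center_iff.1 (hB ?_) (g d)
  have := Subgroup.mem_map_of_mem g hc
  rw [commutator_def, Subgroup.map_commutator] at this
  exact Subgroup.commutator_mono le_top le_top this

omit [Finite G] in
lemma derivedSeries_le_of_two {R : Subgroup G} {i : ℕ} (h : derivedSeries G i ≤ R) :
    derivedSeries G (i + 2) ≤ ⁅⁅R, R⁆, ⁅R, R⁆⁆ := by
  rw [derivedSeries_succ, derivedSeries_succ]
  exact Subgroup.commutator_mono (Subgroup.commutator_mono h h) (Subgroup.commutator_mono h h)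

theorem derived_length_aux : ∀ N : ℕ, ∀ {G : Type u} [Group G] [Finite G] (A B : Subgroup G),
    (Nat.card ↥(commutator ↥B)).primeFactorsList.length = N → IsMulCommutative A →
    commutator ↥B ≤ Subgroup.center ↥B → (∀ g : G, ∃ a ∈ A, ∃ b ∈ B, g = a * b) →
      derivedSeries G (2 * (1 + N)) = ⊥ := by
  intro N
  induction N using Nat.strong_induction_on with
  | _ N ih =>
    intro G _ _ A B hN hA hB hAB
    by_cases hBc : ⁅B, B⁆ = ⊥
    · refine le_bot_iff.1 ((derivedSeries_antitone G (by omega : 2 ≤ 2 * (1 + N))).trans (le_of_eq ?_))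
      refine derivedSeries_two_of_comm (Cfsg.Agent.Factorised.ito hA (.of_setLike_mul_comm ?_) hAB)
      intro x hx y hy
      have h := Subgroup.commutator_mem_commutator hx hy
      rw [hBc, Subgroup.mem_bot] at h
      exact commutatorElement_eq_one_iff_mul_comm.1 h
    classical
    -- choose `z` with `A ⊔ ⟨z⟩` as small as possible
    have hex : ∃ k, ∃ z ∈ ⁅B, B⁆, z ≠ 1 ∧ Nat.card (A ⊔ Subgroup.zpowers z : Subgroup G) = k := by
      obtain ⟨z, hz, hz1⟩ := (Subgroup.bot_or_exists_ne_one _).resolve_left hBc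
      exact ⟨_, z, hz, hz1, rfl⟩
    obtain ⟨z, hz, hz1, hzk⟩ := Nat.find_spec hex
    set H := A ⊔ Subgroup.zpowers z with hH
    have hmin : ∀ w ∈ ⁅B, B⁆, w ≠ 1 → w ∈ H → A ⊔ Subgroup.zpowers w = H := by
      intro w hw hw1 hwH
      refine Subgroup.eq_of_le_of_card_ge (sup_le le_sup_left (Subgroup.zpowers_le.2 hwH)) ?_
      rw [hzk]
      exact Nat.find_min' hex ⟨w, hw, hw1, rfl⟩
    have hAnil : Group.IsNilpotent A := by
      letI : CommGroup A := { mul_comm := mul_comm' }
      infer_instance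
    have := Cfsg.Agent.KegelWielandt.product_solvable hAnil (class_le_two_nilpotent hB) hAB
    have hH2 : derivedSeries H 2 = ⊥ := by
      refine metabelian_case (A := A.subgroupOf H) (B := B.subgroupOf H)
        (.of_setLike_mul_comm fun x hx y hy => Subtype.ext (setLike_mul_comm (s := A) hx hy))
        (class_two_sub H.subtype H.subtype_injective hB _ (Subgroup.map_comap_le _ _)) (fun g => ?_)
        (fun w hw hw1 => ?_)
      · obtain ⟨a, ha, b, hb, e⟩ := hAB g
        have haH : a ∈ H := Subgroup.mem_sup_left ha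
        have hbH : b ∈ H := by
          rw [show b = a⁻¹ * g by rw [e, inv_mul_cancel_left]]
          exact H.mul_mem (H.inv_mem haH) g.2
        exact ⟨⟨a, haH⟩, ha, ⟨b, hbH⟩, hb, Subtype.ext e⟩
      · have hwB : (w : G) ∈ ⁅B, B⁆ := by
          have h1 := Subgroup.mem_map_of_mem H.subtype hw
          rw [Subgroup.map_commutator] at h1
          exact Subgroup.commutator_mono (Subgroup.map_comap_le _ _) (Subgroup.map_comap_le _ _) h1
        refine Subgroup.map_injective H.subtype_injective ?_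
        rw [Subgroup.map_sup, Subgroup.map_subgroupOf_eq_of_le le_sup_left, MonoidHom.map_zpowers,
          ← MonoidHom.range_eq_map, Subgroup.range_subtype]
        exact hmin w hwB (fun h => hw1 (Subtype.ext h)) w.2
    set R := Subgroup.normalClosure ({z} : Set G) with hR
    have hzB : z ∈ B ∧ ∀ y ∈ B, Commute z y := by
      have hz' := hz
      rw [← Subgroup.map_subtype_commutator] at hz'
      obtain ⟨c, hc, rfl⟩ := hz'
      exact ⟨c.2, fun y hy =>
        (congrArg Subtype.val (Subgroup.mem_center_iff.1 (hB hc) ⟨y, hy⟩)).symm⟩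
    have hRH : R ≤ H := by
      rw [hR, Subgroup.normalClosure, Subgroup.closure_le]
      intro y hy
      obtain ⟨k, hk, hky⟩ := Group.mem_conjugatesOfSet_iff.1 hy
      obtain ⟨c, rfl⟩ := isConj_iff.1 hky
      obtain rfl := Set.mem_singleton_iff.1 hk
      obtain ⟨a, ha, b, hb, rfl⟩ := hAB c
      rw [show a * b * k * (a * b)⁻¹ = a * (b * k * b⁻¹) * a⁻¹ by group,
        (hzB.2 b hb).symm.eq, mul_inv_cancel_right]
      exact H.mul_mem (H.mul_mem (Subgroup.mem_sup_left ha)
        (Subgroup.mem_sup_right (Subgroup.mem_zpowers k))) (H.inv_mem (Subgroup.mem_sup_left ha))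
    have hR2 : ⁅⁅R, R⁆, ⁅R, R⁆⁆ = ⊥ := by
      have h1 : (derivedSeries H 2).map H.subtype = ⊥ := by rw [hH2, Subgroup.map_bot]
      rw [derivedSeries_two_eq, Subgroup.map_commutator, Subgroup.map_subtype_commutator] at h1
      exact le_bot_iff.1 (h1 ▸ Subgroup.commutator_mono (Subgroup.commutator_mono hRH hRH)
        (Subgroup.commutator_mono hRH hRH))
    set f := QuotientGroup.mk' R with hf
    set g := f.subgroupMap B with hg
    have hgs : Function.Surjective g := f.subgroupMap_surjective B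
    have hcm : (commutator ↥B).map g = commutator ↥(B.map f) := by
      rw [commutator_def, Subgroup.map_commutator, Subgroup.map_top_of_surjective g hgs, ← commutator_def]
    have hlt : (Nat.card ↥(commutator ↥(B.map f))).primeFactorsList.length < N := by
      rw [← hN, ← hcm]
      refine length_lt Nat.card_pos.ne' (Subgroup.card_map_dvd _ g) fun he => hz1 ?_
      have hz' := hz
      rw [← Subgroup.map_subtype_commutator] at hz'
      obtain ⟨c, hc, rfl⟩ := hz'
      have h1 : (g.subgroupMap (commutator ↥B)) ⟨c, hc⟩ = 1 :=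
        Subtype.ext (Subtype.ext ((QuotientGroup.eq_one_iff _).2
          (Subgroup.subset_normalClosure (Set.mem_singleton _))))
      have hbij := (Nat.bijective_iff_surjective_and_card _).2
        ⟨g.subgroupMap_surjective (commutator ↥B), he.symm⟩
      have h2 : (⟨c, hc⟩ : commutator ↥B) = 1 := hbij.1 (h1.trans (map_one _).symm)
      exact congrArg (fun w : commutator ↥B => ((w : B) : G)) h2
    have hq := ih _ hlt (A.map f) (B.map f) rfl
      (.of_setLike_mul_comm fun x hx y hy => by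
        obtain ⟨x, hx, rfl⟩ := hx
        obtain ⟨y, hy, rfl⟩ := hy
        rw [← map_mul, ← map_mul, setLike_mul_comm (s := A) hx hy])
      (by
        rw [← hcm]
        rintro _ ⟨c, hc, rfl⟩
        rw [Subgroup.mem_center_iff]
        intro d
        obtain ⟨d, rfl⟩ := hgs d
        rw [← map_mul, ← map_mul, Subgroup.mem_center_iff.1 (hB hc) d])
      (fun y => by
        obtain ⟨x, rfl⟩ := QuotientGroup.mk'_surjective R y
        obtain ⟨a, ha, b, hb, rfl⟩ := hAB x
        exact ⟨_, Subgroup.mem_map_of_mem f ha, _, Subgroup.mem_map_of_mem f hb, map_mul f a b⟩)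
    set M := (Nat.card ↥(commutator ↥(B.map f))).primeFactorsList.length
    have hle : derivedSeries G (2 * (1 + M)) ≤ R := by
      have h1 := map_derivedSeries_eq (f := f) (QuotientGroup.mk'_surjective R) (2 * (1 + M))
      rw [hq, Subgroup.map_eq_bot_iff, QuotientGroup.ker_mk'] at h1
      exact h1
    refine le_bot_iff.1 ((derivedSeries_antitone G (by omega : 2 * (1 + M) + 2 ≤ 2 * (1 + N))).trans ?_)
    exact (derivedSeries_le_of_two hle).trans hR2.le

end Cfsg.Agent.ClassTwoProduct
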