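import Cfsg.Agent.Lib.Solvable.HHLinear
import Mathlib.LinearAlgebra.Eigenspace.Semisimple
import Mathlib.LinearAlgebra.Eigenspace.Triangularizable
import Mathlib.Algebra.Order.Chebyshev

/-! A `q`-group extended by a fixed point free group of prime order `r`, acting on a module of
characteristic prime to `r`: if the group of order `r` has no fixed vector, then `q = 2` and `r` is a
Fermat prime. -/

set_option autoImplicit false
open scoped commutatorElement

open Module

namespace Cfsg.Agent.CoprimeFree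

theorem arith {ι : Type*} (s : Finset ι) (m : ι → ℕ) {N M r : ℕ} (hr : r.Prime)
    (hcard : s.card + 1 = r) (hsum : ∑ i ∈ s, m i = N) (hsq : ∑ i ∈ s, m i ^ 2 = M + 1)
    (hN : N * N = r * M + 1) (hN2 : 2 ≤ N) : N + 1 = r := by
  have h := sq_sum_le_card_mul_sum_sq (s := s) (f := m)
  rw [hsum, hsq] at h
  simp only [Nat.cast_id] at h
  have h1 : s.card * (M + 1) * r = s.card * (N * N + s.card) := by
    rw [hN, ← hcard]; ring
  have hle : N ≤ s.card := by
    have h' := Nat.mul_le_mul_right r h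
    rw [h1] at h'
    have h2 : N ^ 2 * r = N * N * s.card + N ^ 2 := by rw [← hcard]; ring
    rw [h2] at h'
    nlinarith
  have hdvd : r ∣ (N + 1) * (N - 1) := ⟨M, by
    obtain ⟨k, rfl⟩ := Nat.exists_eq_add_of_le hN2
    have hk : 2 + k - 1 = k + 1 := by omega
    rw [hk]
    nlinarith⟩
  rcases hr.dvd_mul.1 hdvd with h' | h' <;> have := Nat.le_of_dvd (by omega) h' <;> omega

section Inner

variable {K : Type*} [Field K] [IsAlgClosed K] {V : Type*} [AddCommGroup V] [Module K V]
  [FiniteDimensional K V] {W : Type*} [AddCommGroup W] [Module K W]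
  [FiniteDimensional K W] [Nontrivial W] {Q : Type*} [Group Q] [Finite Q]

open Classical in
theorem inner_count {r : ℕ} (hr2 : 2 ≤ r) (hrK : (r : K) ≠ 0) (τ : Q →* Module.End K V)
    (X : Module.End K V) (θ : MulAut Q)
    (hθ : θ ^ r = 1) (hX : X ^ r = 1)
    (hconj : ∀ t, X * τ t = τ (θ t) * X)
    (ρ : Q →* Module.End K W)
    (hirr : ∀ U : Submodule K W, (∀ t, ∀ v ∈ U, ρ t v ∈ U) → U = ⊥ ∨ U = ⊤)
    (ι : W →ₗ[K] V) (hι : ι ≠ 0) (hint : ∀ t, τ t ∘ₗ ι = ι ∘ₗ ρ t)
    (S : Subgroup Q) (μ : Q → K) (hμ : ∀ s ∈ S, ρ s = μ s • 1)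
    (hscal : ∀ (t : Q) (c : K), ρ t = c • 1 → t ∈ S)
    (hcomm : ∀ u t : Q, ⁅u, t⁆ ∈ S) (hSθ : ∀ s ∈ S, θ s ∈ S) (hμθ : ∀ s ∈ S, μ (θ s) = μ s)
    (hfree : ∀ t, t ∉ S → ∀ i, 0 < i → i < r → ((θ ^ i) t) * t⁻¹ ∉ S) (hS : S ≠ ⊤) :
    ∃ (ω : Finset K) (m : K → ℕ) (N M : ℕ), ω.card = r ∧ (1 : K) ∈ ω ∧ 2 ≤ N ∧ N * N = S.index ∧
      N * N = r * M + 1 ∧ ∑ a ∈ ω, m a = N ∧ ∑ a ∈ ω, m a ^ 2 = M + 1 ∧
      (∑ i ∈ Finset.range r, X ^ i = 0 → m 1 = 0) := by
  set N := r with hN
  have hN2 : 2 ≤ N := hr2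
  obtain ⟨hspan, hschur⟩ := HHLinear.span_eq_top_and_schur ρ hirr
  have hSn : S.Normal := ⟨fun s hs g => by
    rw [show g * s * g⁻¹ = ⁅g, s⁆ * s by rw [commutatorElement_def]; group]
    exact S.mul_mem (hcomm g s) hs⟩
  have hρinv : ∀ t, ρ t⁻¹ * ρ t = 1 := fun t => by rw [← map_mul, inv_mul_cancel, map_one]
  have hρne : ∀ t, ρ t ≠ 0 := fun t h => by
    have := hρinv t
    rw [h, mul_zero] at this
    exact zero_ne_one this
  -- the basis
  let B : Q ⧸ S → Module.End K W := fun i => ρ i.out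
  have hrep : ∀ t : Q, ∃ c : K, ρ t = c • B (QuotientGroup.mk t) := by
    intro t
    obtain ⟨s, hs⟩ := QuotientGroup.mk_out_eq_mul S t
    have hs' : ρ t = ρ ((QuotientGroup.mk t : Q ⧸ S).out) * ρ (s : Q)⁻¹ := by
      rw [← map_mul, hs, mul_inv_cancel_right]
    refine ⟨μ (s : Q)⁻¹, ?_⟩
    rw [hs', hμ _ (S.inv_mem s.2), mul_smul_comm, mul_one]
  have hind : LinearIndependent K B := by
    refine HHLinear.linearIndependent_of_eigen
      (fun u : Q => LinearMap.mulLeft K (ρ u) * LinearMap.mulRight K (ρ u⁻¹)) B (fun i => hρne _)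
      (fun i u => μ ⁅u, i.out⁆) (fun i u => ?_) ?_
    · change ρ u * (B i * ρ u⁻¹) = _
      rw [← map_mul, ← map_mul, show u * (i.out * u⁻¹) = ⁅u, i.out⁆ * i.out by
        rw [commutatorElement_def]; group, map_mul, hμ _ (hcomm _ _), smul_mul_assoc, one_mul]
    · intro i j hij
      rw [← i.out_eq', ← j.out_eq']
      refine QuotientGroup.eq.2 ?_
      suffices h : ∀ u, Commute (ρ (i.out⁻¹ * j.out)) (ρ u) by
        obtain ⟨c, hc⟩ := hschur _ h
        exact hscal _ c hc
      intro u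
      have h1 : μ ⁅u, i.out⁆ = μ ⁅u, j.out⁆ := congrFun hij u
      have e1 : ∀ t : Q, ρ u * ρ t = μ ⁅u, t⁆ • (ρ t * ρ u) := fun t => by
        rw [← map_mul, ← map_mul, show u * t = ⁅u, t⁆ * (t * u) by
          rw [commutatorElement_def]; group, map_mul, hμ _ (hcomm _ _), smul_mul_assoc, one_mul]
      have hc0 : μ ⁅u, i.out⁆ ≠ 0 := fun h0 => by
        have := hμ _ (hcomm u i.out)
        rw [h0, zero_smul] at this
        exact hρne _ this
      have e2 : ρ i.out * (ρ u * ρ (i.out⁻¹ * j.out)) = ρ i.out * (ρ (i.out⁻¹ * j.out) * ρ u) := by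
        refine smul_right_injective _ hc0 ?_
        change μ ⁅u, i.out⁆ • (ρ i.out * (ρ u * ρ (i.out⁻¹ * j.out))) =
          μ ⁅u, i.out⁆ • (ρ i.out * (ρ (i.out⁻¹ * j.out) * ρ u))
        rw [← mul_assoc, ← smul_mul_assoc, ← e1, mul_assoc, ← map_mul (ρ) i.out, mul_inv_cancel_left,
          e1, ← h1, ← mul_assoc (ρ i.out), ← map_mul (ρ) i.out, mul_inv_cancel_left]
      have := congrArg (fun F => ρ i.out⁻¹ * F) e2
      simp only [← mul_assoc, hρinv, one_mul] at this
      exact this.symm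
  have hBspan : ⊤ ≤ Submodule.span K (Set.range B) := by
    rw [← hspan, Submodule.span_le]
    rintro _ ⟨t, rfl⟩
    obtain ⟨c, hc⟩ := hrep t
    rw [hc]
    exact Submodule.smul_mem _ c (Submodule.subset_span ⟨_, rfl⟩)
  have : Fintype (Q ⧸ S) := Fintype.ofFinite _
  let b : Basis (Q ⧸ S) K (Module.End K W) := Basis.mk hind hBspan
  have hb : ∀ i, b i = B i := fun i => Basis.mk_apply _ _ i
  -- the automorphism induced by `θ`
  let C₀ : Module.End K (Module.End K W) := b.constr K fun i => ρ (θ i.out)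
  have hC₀ : ∀ t, C₀ (ρ t) = ρ (θ t) := by
    intro t
    obtain ⟨s, hs⟩ := QuotientGroup.mk_out_eq_mul S t
    set i : Q ⧸ S := QuotientGroup.mk t with hi
    have ht : t = i.out * (s : Q)⁻¹ := by rw [hs, mul_inv_cancel_right]
    have hθt : θ t = θ i.out * θ (s : Q)⁻¹ := by rw [← map_mul, ← ht]
    have hb' : C₀ (B i) = ρ (θ i.out) := by rw [← hb, Basis.constr_basis]
    rw [hθt, map_mul, hμ _ (hSθ _ (S.inv_mem s.2)), hμθ _ (S.inv_mem s.2), mul_smul_comm, mul_one,
      ← hb', ← map_smul]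
    congr 1
    conv_lhs => rw [ht, map_mul, hμ _ (S.inv_mem s.2), mul_smul_comm, mul_one]
  have hCmul : ∀ F G, C₀ (F * G) = C₀ F * C₀ G := by
    intro F G
    have hF : F ∈ Submodule.span K (Set.range ρ) := hspan ▸ Submodule.mem_top
    induction hF using Submodule.span_induction with
    | mem x hx =>
      obtain ⟨t, rfl⟩ := hx
      have hG : G ∈ Submodule.span K (Set.range ρ) := hspan ▸ Submodule.mem_top
      induction hG using Submodule.span_induction with
      | mem y hy => obtain ⟨u, rfl⟩ := hy; rw [← map_mul, hC₀, hC₀, hC₀, map_mul, map_mul]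
      | zero => simp
      | add y z _ _ hy hz => rw [mul_add, map_add, map_add, hy, hz, mul_add]
      | smul c y _ hy => rw [mul_smul_comm, map_smul, map_smul, hy, mul_smul_comm]
    | zero => simp
    | add y z _ _ hy hz => rw [add_mul, map_add, map_add, hy, hz, add_mul]
    | smul c y _ hy => rw [smul_mul_assoc, map_smul, map_smul, hy, smul_mul_assoc]
  have hC1 : C₀ 1 = 1 := by rw [← map_one ρ, hC₀, map_one]
  have hCpow : ∀ (k : ℕ) (t : Q), (C₀ ^ k) (ρ t) = ρ ((θ ^ k) t) := by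
    intro k
    induction k with
    | zero => simp
    | succ k ih =>
      intro t
      rw [pow_succ', Module.End.mul_apply, ih, hC₀, ← MulAut.mul_apply, ← pow_succ']
  have hCN : C₀ ^ N = 1 := b.ext fun i => by
    rw [hb, hCpow, hθ]; rfl
  have hCbij : Function.Bijective C₀ := by
    have h1 : N - 1 + 1 = N := by omega
    refine Function.bijective_iff_has_inverse.2 ⟨(C₀ ^ (N - 1) : Module.End K _), fun F => ?_, fun F => ?_⟩
    · rw [← Module.End.mul_apply, ← pow_succ, h1, hCN, Module.End.one_apply]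
    · rw [← Module.End.mul_apply, ← pow_succ', h1, hCN, Module.End.one_apply]
  obtain ⟨T, hT⟩ := (AlgEquiv.ofBijective (AlgHom.ofLinearMap C₀ hC1 hCmul) hCbij).eq_linearEquivConjAlgEquiv
  set g₀ : Module.End K W := T.toLinearMap with hg₀
  set g₀' : Module.End K W := T.symm.toLinearMap with hg₀'
  have h01 : g₀ * g₀' = 1 := LinearMap.ext fun w => T.apply_symm_apply w
  have h10 : g₀' * g₀ = 1 := LinearMap.ext fun w => T.symm_apply_apply w
  have hconjC : ∀ F, C₀ F = g₀ * F * g₀' := by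
    intro F
    have := congrArg (fun Φ : Module.End K W ≃ₐ[K] Module.End K W => Φ F) hT
    refine this.trans ?_
    refine LinearMap.ext fun w => ?_
    simp [LinearEquiv.conjAlgEquiv_apply, g₀, g₀']
  -- normalise
  have hCk : ∀ (k : ℕ) F, (C₀ ^ k) F = g₀ ^ k * F * g₀' ^ k := by
    intro k
    induction k with
    | zero => simp
    | succ k ih => intro F; rw [pow_succ', Module.End.mul_apply, ih, hconjC, pow_succ', pow_succ g₀']; simp [mul_assoc]
  have hcomm01 : Commute g₀ g₀' := by rw [Commute, SemiconjBy, h01, h10]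
  obtain ⟨c, hc⟩ := hschur (g₀ ^ N) fun t => by
    have h := hCk N (ρ t)
    rw [hCN, Module.End.one_apply] at h
    change g₀ ^ N * ρ t = ρ t * g₀ ^ N
    conv_rhs => rw [h, mul_assoc, ← hcomm01.symm.mul_pow, h10, one_pow, mul_one]
  have hc0 : c ≠ 0 := by
    rintro rfl
    have h := congrArg (fun F => F * g₀' ^ N) hc
    simp only [← hcomm01.mul_pow, h01, one_pow, zero_smul, zero_mul] at h
    exact one_ne_zero h
  obtain ⟨rt, hs⟩ := IsAlgClosed.exists_pow_nat_eq c (show 0 < N by omega)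
  have hs0 : rt ≠ 0 := by rintro rfl; rw [zero_pow (by omega)] at hs; exact hc0 hs.symm
  set g : Module.End K W := rt⁻¹ • g₀ with hg
  set g' : Module.End K W := rt • g₀' with hg'
  have hgg' : g * g' = 1 := by rw [hg, hg', smul_mul_smul_comm, h01, inv_mul_cancel₀ hs0, one_smul]
  have hg'g : g' * g = 1 := by rw [hg, hg', smul_mul_smul_comm, h10, mul_inv_cancel₀ hs0, one_smul]
  have hgN : g ^ N = 1 := by
    rw [hg, smul_pow, hc, inv_pow, hs, smul_smul, inv_mul_cancel₀ hc0, one_smul]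
  have hCg : ∀ F, C₀ F = g * F * g' := fun F => by
    rw [hconjC, hg, hg', smul_mul_assoc, smul_mul_smul_comm, inv_mul_cancel₀ hs0, one_smul]
  have hgρ : ∀ t, g * ρ t = ρ (θ t) * g := fun t => by
    rw [← hC₀, hCg, mul_assoc _ g' g, hg'g, mul_one]
  -- the permutation of the basis
  let σf : Q ⧸ S →* Q ⧸ S := QuotientGroup.map S S θ.toMonoidHom (fun s hs => hSθ s hs)
  have hσk : ∀ (k : ℕ) (t : Q), (σf^[k]) (QuotientGroup.mk t) = QuotientGroup.mk ((θ ^ k) t) := by
    intro k
    induction k with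
    | zero => simp
    | succ k ih =>
      intro t
      rw [Function.iterate_succ_apply', ih, pow_succ']
      rfl
  have hσN : ∀ i, (σf^[N]) i = i := fun i => by rw [← i.out_eq', hσk, hθ]; rfl
  have hσinj : Function.Injective σf := fun i j hij => by
    have h := congrArg (σf^[N - 1]) hij
    rw [← Function.iterate_succ_apply, ← Function.iterate_succ_apply,
      show (N - 1).succ = N by omega, hσN, hσN] at h
    exact h
  let σ : Equiv.Perm (Q ⧸ S) := Equiv.ofBijective σf (Finite.injective_iff_bijective.1 hσinj)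
  have hσpow : ∀ (k : ℕ) i, (σ ^ k) i = (σf^[k]) i := fun k i => by
    rw [Equiv.Perm.coe_pow]; rfl
  have hσN' : σ ^ N = 1 := Equiv.ext fun i => (hσpow N i).trans (hσN i)
  have hfree' : ∀ i : Q ⧸ S, i ≠ 1 → ∀ k l, k < N → l < N → (σ ^ k) i = (σ ^ l) i → k = l := by
    intro i hi
    suffices h : ∀ k l, l ≤ k → k < N → (σ ^ k) i = (σ ^ l) i → k = l by
      intro k l hk hl he
      rcases le_total l k with hle | hle
      · exact h k l hle hk he
      · exact (h l k hle hl he.symm).symm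
    intro k l hle hk he
    by_contra hne
    have h : (σ ^ (k - l)) i = i := by
      refine (σ ^ l).injective ?_
      rw [← Equiv.Perm.mul_apply, ← pow_add, Nat.add_sub_cancel' hle, he]
    rw [hσpow, ← i.out_eq', hσk] at h
    refine hfree i.out (fun hm => hi ?_) (k - l) (by omega) (by omega) ?_
    · rw [← i.out_eq']; exact (QuotientGroup.eq_one_iff _).2 hm
    · rw [← QuotientGroup.eq_one_iff, QuotientGroup.mk_mul, QuotientGroup.mk_inv, h, mul_inv_cancel]
  have hC0b : ∀ i, ∃ d : K, C₀ (b i) = d • b (σ i) := fun i => by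
    rw [hb, hC₀]
    obtain ⟨d, hd⟩ := hrep (θ i.out)
    refine ⟨d, ?_⟩
    rw [hd, hb]
    congr 2
    conv_rhs => rw [← i.out_eq']
    rfl
  obtain ⟨i₀, hi₀⟩ : ∃ i : Q ⧸ S, i ≠ 1 := by
    by_contra h
    push Not at h
    exact hS (eq_top_iff.2 fun t _ => (QuotientGroup.eq_one_iff t).1 (h _))
  clear_value g g'
  -- an equivariant embedding
  let U : Submodule K (W →ₗ[K] V) :=
    { carrier := {f | ∀ t, τ t ∘ₗ f = f ∘ₗ ρ t}
      add_mem' := fun {a b} ha hb t => by rw [LinearMap.comp_add, LinearMap.add_comp, ha t, hb t]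
      zero_mem' := fun t => by simp
      smul_mem' := fun c f hf t => by rw [LinearMap.comp_smul, LinearMap.smul_comp, hf t] }
  let Φ : Module.End K (W →ₗ[K] V) :=
    (LinearMap.llcomp K W V V X) * (LinearMap.lcomp K V g')
  have hΦ : ∀ f, Φ f = X ∘ₗ f ∘ₗ g' := fun f => rfl
  have hΦk : ∀ (k : ℕ) f, (Φ ^ k) f = (X ^ k) ∘ₗ f ∘ₗ (g' ^ k) := by
    intro k
    induction k with
    | zero => simp [Module.End.one_eq_id]
    | succ k ih =>
      intro f
      rw [pow_succ', Module.End.mul_apply, ih, hΦ, pow_succ' X, pow_succ g']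
      rfl
  have hg'N : g' ^ N = 1 := by
    have hc' : Commute g' g := by rw [Commute, SemiconjBy, hg'g, hgg']
    have := congrArg (fun F => g' ^ N * F) hgN
    simp only [← hc'.mul_pow, hg'g, one_pow, mul_one] at this
    exact this.symm
  have hΦN : Φ ^ N = 1 := LinearMap.ext fun f => by
    rw [hΦk, hX, hg'N]; rfl
  have hΦU : ∀ f ∈ U, Φ f ∈ U := by
    intro f hf t
    obtain ⟨t', rfl⟩ := θ.surjective t
    refine LinearMap.ext fun w => ?_
    have h1 : τ (θ t') (X (f (g' w))) = X (τ t' (f (g' w))) :=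
      (congrArg (fun F : Module.End K V => F (f (g' w))) (hconj t')).symm
    have h2 : g' * ρ (θ t') = ρ t' * g' := by
      calc g' * ρ (θ t') = g' * (ρ (θ t') * g) * g' := by rw [mul_assoc, mul_assoc, hgg', mul_one]
        _ = _ := by rw [← hgρ, ← mul_assoc g', hg'g, one_mul]
    change τ (θ t') (X (f (g' w))) = X (f (g' (ρ (θ t') w)))
    rw [h1, show g' (ρ (θ t') w) = ρ t' (g' w) from congrArg (fun F : Module.End K W => F w) h2]
    exact congrArg X (congrArg (fun F : W →ₗ[K] V => F (g' w)) (hf t'))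
  obtain ⟨ΦU, hΦU'⟩ : ∃ F : Module.End K U, ∀ f : U, ((F f : U) : W →ₗ[K] V) = Φ f :=
    ⟨Φ.restrict hΦU, fun f => rfl⟩
  have : Nontrivial U := ⟨⟨⟨ι, hint⟩, 0, fun h => hι (congrArg Subtype.val h)⟩⟩
  obtain ⟨lam, hlam⟩ := Module.End.exists_eigenvalue ΦU
  obtain ⟨⟨f, hfU⟩, hf, hfne⟩ := hlam.exists_hasEigenvector
  rw [Module.End.mem_eigenspace_iff] at hf
  have hΦf : Φ f = lam • f := by rw [← hΦU' ⟨f, hfU⟩, hf]; rfl
  have hf0 : f ≠ 0 := fun h => hfne (Subtype.ext h)
  have hΦkf : ∀ k : ℕ, (Φ ^ k) f = lam ^ k • f := by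
    intro k
    induction k with
    | zero => simp
    | succ k ih => rw [pow_succ', Module.End.mul_apply, ih, map_smul, hΦf, smul_smul, ← pow_succ]
  have hlamN : lam ^ N = 1 := by
    have h := hΦkf N
    rw [hΦN, Module.End.one_apply] at h
    exact smul_left_injective K hf0 ((h.symm).trans (one_smul K f).symm)
  have hlam0 : lam ≠ 0 := by rintro rfl; rw [zero_pow (by omega)] at hlamN; exact zero_ne_one hlamN
  have hXf : ∀ w, X (f w) = f ((lam • g) w) := fun w => by
    have := congrArg (fun F : W →ₗ[K] V => F (g w)) hΦf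
    rw [hΦ] at this
    simp only [LinearMap.comp_apply, LinearMap.smul_apply] at this
    rw [← Module.End.mul_apply g', hg'g, Module.End.one_apply] at this
    rw [this, LinearMap.smul_apply, map_smul]
  have hXk : ∀ (k : ℕ) w, (X ^ k) (f w) = f (((lam • g) ^ k) w) := by
    intro k
    induction k with
    | zero => simp
    | succ k ih =>
      intro w
      rw [pow_succ', Module.End.mul_apply, ih, hXf, pow_succ', Module.End.mul_apply]
  have hfinj : ∀ w, f w = 0 → w = 0 := by
    intro w hw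
    rcases hirr (LinearMap.ker f) (fun t v hv => by
      rw [LinearMap.mem_ker] at hv ⊢
      have := congrArg (fun F : W →ₗ[K] V => F v) (hfU t)
      simp only [LinearMap.comp_apply] at this
      rw [← this, hv, map_zero]) with h | h
    · exact (Submodule.mem_bot K).1 (h ▸ hw)
    · exact absurd (LinearMap.ker_eq_top.1 h) hf0
  obtain ⟨G, hG⟩ : ∃ F, F = lam • g := ⟨_, rfl⟩
  obtain ⟨G', hG'⟩ : ∃ F, F = lam⁻¹ • g' := ⟨_, rfl⟩
  simp only [← hG] at hXk
  have hGG' : G * G' = 1 := by rw [hG, hG', smul_mul_smul_comm, hgg', mul_inv_cancel₀ hlam0, one_smul]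
  have hGN : G ^ N = 1 := by rw [hG, smul_pow, hgN, hlamN, one_smul]
  have hCG : ∀ F, C₀ F = G * F * G' := fun F => by
    rw [hCg, hG, hG', smul_mul_assoc, smul_mul_smul_comm, mul_inv_cancel₀ hlam0, one_smul]
  have hGsum : ∑ i ∈ Finset.range N, X ^ i = 0 → ∑ i ∈ Finset.range N, G ^ i = 0 := fun hsum =>
    LinearMap.ext fun w => hfinj _ (by
      rw [LinearMap.sum_apply, map_sum]
      simp_rw [← hXk]
      rw [← LinearMap.sum_apply, hsum]
      rfl)
  -- a basis of eigenvectors of `G`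
  have hss : G.IsSemisimple := by
    refine Module.End.isSemisimple_of_squarefree_aeval_eq_zero
      (Polynomial.separable_X_pow_sub_C (1 : K) hrK one_ne_zero).squarefree ?_
    simp [hGN]
  have hspanG : ⊤ ≤ Submodule.span K {w : W | w ≠ 0 ∧ ∃ a : K, G w = a • w} := by
    rw [← Module.End.iSup_maxGenEigenspace_eq_top G, iSup_le_iff]
    intro a w hw
    rw [hss.isFinitelySemisimple.maxGenEigenspace_eq_eigenspace, Module.End.mem_eigenspace_iff] at hw
    by_cases h0 : w = 0
    · rw [h0]; exact Submodule.zero_mem _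
    · exact Submodule.subset_span ⟨h0, a, hw⟩
  let be := Basis.ofSpan hspanG
  have hbev : ∀ i, be i ≠ 0 ∧ ∃ a : K, G (be i) = a • be i := fun i =>
    Basis.ofSpan_subset hspanG ⟨i, rfl⟩
  choose hb0 ev hev using hbev
  have hGk : ∀ (k : ℕ) i, (G ^ k) (be i) = ev i ^ k • be i := by
    intro k
    induction k with
    | zero => simp
    | succ k ih => intro i; rw [pow_succ', Module.End.mul_apply, ih, map_smul, hev, smul_smul, ← pow_succ]
  have hevN : ∀ i, ev i ^ N = 1 := fun i => by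
    have h := hGk N i
    rw [hGN, Module.End.one_apply] at h
    exact smul_left_injective K (hb0 i) (h.symm.trans (one_smul K _).symm)
  have hev0 : ∀ i, ev i ≠ 0 := fun i h => by
    have := hevN i
    rw [h, zero_pow (by omega)] at this
    exact zero_ne_one this
  have hev1 : ∑ i ∈ Finset.range N, X ^ i = 0 → ∀ i, ev i ≠ 1 := fun hsum i h => by
    have := congrArg (fun F : Module.End K W => F (be i)) (hGsum hsum)
    simp only [LinearMap.sum_apply, hGk, h, one_pow, one_smul, Finset.sum_const, Finset.card_range,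
      LinearMap.zero_apply, ← Nat.cast_smul_eq_nsmul K] at this
    exact (smul_ne_zero hrK (hb0 i)) this
  have : Fintype _ := FiniteDimensional.fintypeBasisIndex be
  have hG'be : ∀ i, G' (be i) = (ev i)⁻¹ • be i := fun i => by
    have hG'G : G' * G = 1 := by rw [hG, hG', smul_mul_smul_comm, hg'g, inv_mul_cancel₀ hlam0, one_smul]
    have := congrArg (fun F : Module.End K W => F (be i)) hG'G
    simp only [Module.End.mul_apply, hev, map_smul, Module.End.one_apply] at this
    rw [eq_comm, ← smul_right_injective W (hev0 i) |>.eq_iff, smul_smul, mul_inv_cancel₀ (hev0 i), one_smul]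
    exact this.symm
  have hunit : ∀ ij, C₀ (be.end ij) = (ev ij.1 * (ev ij.2)⁻¹) • be.end ij := fun ij => be.ext fun k => by
    rw [hCG, Module.End.mul_apply, Module.End.mul_apply, hG'be, map_smul, LinearMap.smul_apply,
      Basis.end_apply_apply]
    split_ifs with hk
    · rw [map_smul, hev, smul_smul, hk, mul_comm]
    · rw [smul_zero, map_zero, smul_zero]
  -- representatives of the free orbits
  let rep : Q ⧸ S → Q ⧸ S := fun i => (Quotient.mk (Equiv.Perm.SameCycle.setoid σ) i).out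
  let D : Finset (Q ⧸ S) := Finset.univ.filter fun i => i ≠ 1 ∧ rep i = i
  have hσ1 : ∀ k : ℕ, (σ ^ k) (1 : Q ⧸ S) = 1 := fun k => by
    rw [hσpow]; exact Function.iterate_fixed (map_one σf) k
  have horb : ∀ i, ∃ k < N, (σ ^ k) (rep i) = i := fun i => by
    have hsc : Equiv.Perm.SameCycle σ (rep i) i :=
      Quotient.exact (Quotient.out_eq (Quotient.mk (Equiv.Perm.SameCycle.setoid σ) i))
    obtain ⟨z, hz⟩ := hsc.exists_nat_pow_eq
    refine ⟨z % N, Nat.mod_lt _ (by omega), ?_⟩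
    rw [← Nat.mod_add_div z N, pow_add, pow_mul, hσN', one_pow, mul_one] at hz
    exact hz
  have hrepD : ∀ i, i ≠ 1 → rep i ∈ D := fun i hi => by
    refine Finset.mem_filter.2 ⟨Finset.mem_univ _, fun h => hi ?_, ?_⟩
    · obtain ⟨k, -, hk⟩ := horb i
      rw [← hk, h, hσ1]
    · change (Quotient.mk _ (rep i)).out = rep i
      rw [Quotient.out_eq]
  have hrepσ : ∀ (k : ℕ) d, d ∈ D → rep ((σ ^ k) d) = d := fun k d hd => by
    refine Eq.trans ?_ (Finset.mem_filter.1 hd).2.2
    exact congrArg Quotient.out (Quotient.sound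
      ((Equiv.Perm.sameCycle_pow_left).2 (Equiv.Perm.SameCycle.refl _ _)))
  have hDcard : N * D.card + 1 = Nat.card (Q ⧸ S) := by
    rw [Nat.card_eq_fintype_card, ← Finset.card_univ,
      ← Finset.card_erase_add_one (Finset.mem_univ (1 : Q ⧸ S))]
    congr 1
    rw [← Finset.card_range N, ← Finset.card_product]
    refine Finset.card_bij (fun a _ => (σ ^ a.1) a.2) ?_ ?_ ?_
    · rintro ⟨k, d⟩ h
      refine Finset.mem_erase.2 ⟨fun hk => (Finset.mem_filter.1 (Finset.mem_product.1 h).2).2.1 ?_,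
        Finset.mem_univ _⟩
      exact (σ ^ k).injective (hk.trans (hσ1 k).symm)
    · rintro ⟨k, d⟩ h ⟨k', d'⟩ h' heq
      simp only [Finset.mem_product, Finset.mem_range] at h h'
      have hd : d = d' := by
        have := congrArg rep heq
        rwa [hrepσ k d h.2, hrepσ k' d' h'.2] at this
      subst hd
      rw [hfree' d (Finset.mem_filter.1 h.2).2.1 k k' h.1 h'.1 heq]
    · intro i hi
      obtain ⟨k, hk, hki⟩ := horb i
      exact ⟨⟨k, rep i⟩, Finset.mem_product.2 ⟨Finset.mem_range.2 hk, hrepD i (Finset.ne_of_mem_erase hi)⟩, hki⟩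
  have hrecur : ∀ (F : Module.End K W) (a : K) i, C₀ F = a • F →
      ∃ d : K, C₀ (b i) = d • b (σ i) ∧ a * b.repr F (σ i) = d * b.repr F i := by
    intro F a i hF
    obtain ⟨d, hd⟩ := hC0b i
    refine ⟨d, hd, ?_⟩
    have hall : ∀ j, ∃ d : K, C₀ (b j) = d • b (σ j) := hC0b
    choose dd hdd using hall
    have hsum' : C₀ F = ∑ j, (b.repr F j * dd j) • b (σ j) := by
      conv_lhs => rw [← b.sum_repr F, map_sum]
      simp [hdd, smul_smul]
    have h := congrArg (fun T => b.repr T (σ i)) hsum'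
    simp only [hF, map_sum, map_smul, Finsupp.coe_finset_sum, Finset.sum_apply, Finsupp.smul_apply,
      Basis.repr_self, smul_eq_mul] at h
    rw [Finset.sum_eq_single i (fun j _ hj => by
      rw [Finsupp.single_eq_of_ne (fun h => hj (σ.injective h).symm), mul_zero])
      (fun h => absurd (Finset.mem_univ i) h), Finsupp.single_eq_same, mul_one] at h
    have hdi : dd i = d := smul_left_injective K (b.ne_zero (σ i)) ((hdd i).symm.trans hd)
    rw [h, hdi, mul_comm]
  have hdet : ∀ (F : Module.End K W) (a : K), a ≠ 0 → C₀ F = a • F → (∀ d ∈ D, b.repr F d = 0) →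
      b.repr F 1 = 0 → F = 0 := by
    intro F a ha hF hD h1
    refine b.repr.injective (Finsupp.ext fun i => ?_)
    rw [map_zero, Finsupp.zero_apply]
    by_cases hi : i = 1
    · rwa [hi]
    obtain ⟨k, -, hk⟩ := horb i
    rw [← hk]
    clear hk
    induction k with
    | zero => simpa using hD _ (hrepD i hi)
    | succ k ih =>
      obtain ⟨d, -, hd⟩ := hrecur F a ((σ ^ k) (rep i)) hF
      rw [ih, mul_zero, mul_eq_zero] at hd
      rw [pow_succ', Equiv.Perm.mul_apply]
      exact hd.resolve_left ha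
  have hB1 : C₀ (b 1) = b 1 := by
    rw [hb]
    change C₀ (ρ _) = ρ _
    have h : (1 : Q ⧸ S).out ∈ S := by rw [← QuotientGroup.eq_one_iff]; exact (1 : Q ⧸ S).out_eq'
    rw [hμ _ h, map_smul, hC1]
  have hone : ∀ (F : Module.End K W) (a : K), a ≠ 1 → C₀ F = a • F → b.repr F 1 = 0 := by
    intro F a ha hF
    obtain ⟨d, hd, hd'⟩ := hrecur F a 1 hF
    have h1 : σ (1 : Q ⧸ S) = 1 := by simpa using hσ1 1
    rw [hB1, h1] at hd
    have hd1 : d = 1 := smul_left_injective K (b.ne_zero 1) (hd.symm.trans (one_smul K (b 1)).symm)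
    rw [h1, hd1] at hd'
    exact (mul_eq_mul_right_iff.1 hd').resolve_left ha
  -- counting eigenvalues
  let ω := Polynomial.nthRootsFinset N (1 : K)
  let P : K → Finset (_ × _) := fun a => Finset.univ.filter fun ij => ev ij.1 = a * ev ij.2
  have hEig : ∀ a, a ≠ 0 → (P a).card ≤ D.card + if a = 1 then 1 else 0 := by
    intro a ha
    let E := Module.End.eigenspace C₀ a
    have hmem : ∀ x ∈ P a, be.end x ∈ E := fun x hx => by
      rw [Module.End.mem_eigenspace_iff, hunit, (Finset.mem_filter.1 hx).2, mul_assoc,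
        mul_inv_cancel₀ (hev0 _), mul_one]
    have hli : LinearIndependent K fun x : P a => (⟨be.end x, hmem x x.2⟩ : E) :=
      LinearIndependent.of_comp E.subtype (be.end.linearIndependent.comp _ Subtype.val_injective)
    have h1 : (P a).card ≤ finrank K E := by simpa using hli.fintype_card_le_finrank
    let D' : Finset (Q ⧸ S) := if a = 1 then insert 1 D else D
    let L : E →ₗ[K] (D' → K) :=
      { toFun := fun F d => b.repr (F : Module.End K W) d
        map_add' := fun F F' => funext fun d => by simp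
        map_smul' := fun c F => funext fun d => by simp }
    have hL : Function.Injective L := by
      rw [injective_iff_map_eq_zero]
      rintro ⟨F, hF⟩ hF0
      rw [Module.End.mem_eigenspace_iff] at hF
      refine Subtype.ext (hdet F a ha hF (fun d hd => ?_) ?_)
      · exact congrFun hF0 ⟨d, by simp only [D']; split_ifs <;> simp [hd]⟩
      · by_cases h : a = 1
        · exact congrFun hF0 ⟨1, by simp only [D', if_pos h]; simp⟩
        · exact hone F a h hF
    refine h1.trans ((LinearMap.finrank_le_finrank_of_injective hL).trans ?_)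
    rw [Module.finrank_fintype_fun_eq_card, Fintype.card_coe]
    simp only [D']
    split_ifs <;> simp [Finset.card_insert_le]
  have hωcard : ω.card = N := by
    have := NeZero.mk hrK
    obtain ⟨z, hz⟩ := HasEnoughRootsOfUnity.exists_primitiveRoot K N
    exact hz.card_nthRootsFinset
  have hω : ∀ a, a ∈ ω ↔ a ^ N = 1 := fun a => Polynomial.mem_nthRootsFinset (by omega) 1
  have hω1 : (1 : K) ∈ ω := (hω 1).2 (one_pow N)
  have hP1 : ∀ a ∈ ω, a ≠ 0 := fun a ha h => by
    rw [hω, h, zero_pow (by omega)] at ha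
    exact zero_ne_one ha
  have hdim := finrank_eq_card_basis be
  have hcount : finrank K W * finrank K W = ∑ a ∈ ω, (P a).card := by
    rw [hdim, ← Fintype.card_prod, ← Finset.card_univ, Finset.card_eq_sum_card_fiberwise (f := fun ij => ev ij.1 * (ev ij.2)⁻¹) (t := ω)
      fun ij _ => by rw [Finset.mem_coe, hω, mul_pow, inv_pow, hevN, hevN, inv_one, one_mul]]
    refine Finset.sum_congr rfl fun a _ => congrArg Finset.card (Finset.filter_congr fun ij _ => ?_)
    rw [mul_inv_eq_iff_eq_mul₀ (hev0 _)]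
  have hcard : finrank K W * finrank K W = Nat.card (Q ⧸ S) := by
    rw [← Module.finrank_linearMap (R := K) (S := K) (M := W) (N := W), finrank_eq_card_basis b,
      Nat.card_eq_fintype_card]
  have hP : (P 1).card = D.card + 1 := by
    refine le_antisymm (by simpa using hEig 1 one_ne_zero) ?_
    have h := hcount
    rw [← Finset.add_sum_erase ω _ hω1, hcard, ← hDcard] at h
    have h' : ∑ a ∈ ω.erase 1, (P a).card ≤ (N - 1) * D.card := by
      refine (Finset.sum_le_card_nsmul _ _ _ fun a ha => ?_).trans (by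
        rw [Finset.card_erase_of_mem hω1, hωcard, smul_eq_mul])
      have := hEig a (hP1 a (Finset.mem_of_mem_erase ha))
      rwa [if_neg (Finset.ne_of_mem_erase ha), add_zero] at this
    rw [Nat.sub_mul, one_mul] at h'
    have := Nat.le_mul_of_pos_left D.card (show 0 < N by omega)
    omega
  let m : K → ℕ := fun a => (Finset.univ.filter fun i => ev i = a).card
  have hmaps : ∀ i, ev i ∈ ω := fun i => (hω _).2 (hevN i)
  have hm1 : ∑ a ∈ ω, m a = finrank K W := by
    rw [hdim, ← Finset.card_univ,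
      Finset.card_eq_sum_card_fiberwise (f := ev) (t := ω) fun i _ => hmaps i]
  have hm2 : ∑ a ∈ ω, m a ^ 2 = D.card + 1 := by
    rw [← hP, Finset.card_eq_sum_card_fiberwise (f := fun ij => ev ij.1) (t := ω)
      fun ij _ => hmaps ij.1]
    refine Finset.sum_congr rfl fun a _ => ?_
    rw [sq, ← Finset.card_product]
    refine congrArg Finset.card (Finset.ext fun ij => ?_)
    simp only [P, Finset.mem_product, Finset.mem_filter, Finset.mem_univ, true_and, one_mul]
    constructor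
    · rintro ⟨h, h'⟩; exact ⟨h.trans h'.symm, h⟩
    · rintro ⟨h, h'⟩; exact ⟨h', h ▸ h'⟩
  have hd2 : 2 ≤ finrank K W := by
    by_contra h
    have h1 : finrank K W = 1 := le_antisymm (by omega) Module.finrank_pos
    rw [h1] at hcard
    have : Subsingleton (Q ⧸ S) := (Nat.card_eq_one_iff_unique.1 (by simpa using hcard.symm)).1
    exact hi₀ (Subsingleton.elim _ _)
  refine ⟨ω, m, finrank K W, D.card, hωcard, hω1, hd2, hcard, by rw [hcard, hDcard], hm1, hm2,
    fun hsum => Finset.card_eq_zero.2 (Finset.filter_eq_empty_iff.2 fun i _ => hev1 hsum i)⟩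

end Inner

variable {K : Type*} [Field K] {V : Type*} [AddCommGroup V] [Module K V] {Q : Type*} [Group Q]
  [Finite Q] {r : ℕ} [hr : Fact r.Prime]

lemma iterate_eq (θ : MulAut Q) {t z : Q} (hz : θ z = z) (ht : θ t = z * t) :
    ∀ k : ℕ, (θ ^ k) t = z ^ k * t := by
  intro k
  induction k with
  | zero => simp
  | succ k ih => rw [pow_succ', MulAut.mul_apply, ih, map_mul, map_pow, hz, ht, ← mul_assoc, ← pow_succ]

lemma fixed_of_delta_fixed (θ : MulAut Q) (hθ : θ ^ r = 1) (hQr : (Nat.card Q).Coprime r) {t : Q}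
    (ht : θ (θ t * t⁻¹) = θ t * t⁻¹) : θ t = t := by
  have h := iterate_eq θ ht (t := t) (by rw [inv_mul_cancel_right]) r
  rw [hθ, MulAut.one_apply] at h
  have h1 : (θ t * t⁻¹) ^ r = 1 := mul_right_cancel (h.symm.trans (one_mul t).symm)
  have h2 := orderOf_eq_one_iff.1 (Nat.Coprime.eq_one_of_dvd
    (hQr.coprime_dvd_left (orderOf_dvd_natCard (θ t * t⁻¹))) (orderOf_dvd_of_pow_eq_one h1))
  exact mul_inv_eq_one.1 h2

lemma fixed_of_pow_fixed (θ : MulAut Q) (hθ : θ ^ r = 1) {i : ℕ} (hi : 0 < i) (hir : i < r) {t : Q}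
    (ht : (θ ^ i) t = t) : θ t = t := by
  obtain ⟨k, hk⟩ := exists_pow_eq_self_of_coprime (x := θ) (n := i)
    (Nat.Coprime.coprime_dvd_right (orderOf_dvd_of_pow_eq_one hθ)
      ((hr.out.coprime_iff_not_dvd.2 (fun h => absurd (Nat.le_of_dvd hi h) (not_le.2 hir))).symm))
  rw [← hk]
  clear hk
  induction k with
  | zero => simp
  | succ k ih => rw [pow_succ, MulAut.mul_apply, ht, ih]

/-- A Frobenius group `Q⟨x⟩` whose complement has no fixed vector acts trivially through `Q`. -/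
theorem frobenius_trivial (hQK : (Nat.card Q : K) ≠ 0) (τ : Q →* Module.End K V) (X : Module.End K V)
    (θ : MulAut Q) (hθ : θ ^ r = 1) (hsum : ∑ i ∈ Finset.range r, X ^ i = 0)
    (hconj : ∀ t, X * τ t = τ (θ t) * X) (hfix : ∀ t, θ t = t → t = 1) : ∀ t, τ t = 1 := by
  classical
  have := Fintype.ofFinite Q
  have hconjk : ∀ (i : ℕ) t, X ^ i * τ t = τ ((θ ^ i) t) * X ^ i := by
    intro i
    induction i with
    | zero => simp
    | succ i ih =>
      intro t
      rw [pow_succ', mul_assoc, ih, ← mul_assoc, hconj, mul_assoc, ← MulAut.mul_apply, ← pow_succ']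
  set e := ∑ t : Q, τ t with he
  have hi : ∀ i ∈ Finset.range r, ∑ t : Q, τ t * X ^ i * τ t⁻¹ =
      e * X ^ i + if i = 0 then (Nat.card Q : K) • (1 : Module.End K V) - e else 0 := by
    intro i hi
    split_ifs with h0
    · subst h0
      simp only [pow_zero, mul_one, ← map_mul, mul_inv_cancel, map_one, Finset.sum_const,
        Finset.card_univ, Nat.card_eq_fintype_card, add_sub_cancel, ← Nat.cast_smul_eq_nsmul K]
    · rw [add_zero, he, Finset.sum_mul]
      have hbij : Function.Bijective fun t : Q => t * (θ ^ i) t⁻¹ := by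
        refine (Finite.injective_iff_bijective).1 fun s t hst => ?_
        simp only [map_inv] at hst
        have h : (θ ^ i) (t⁻¹ * s) = t⁻¹ * s := by
          rw [map_mul, map_inv]
          calc ((θ ^ i) t)⁻¹ * (θ ^ i) s = t⁻¹ * (t * ((θ ^ i) t)⁻¹ * (θ ^ i) s) := by group
            _ = t⁻¹ * s := by rw [← hst, inv_mul_cancel_right]
        have h1 := hfix _ (fixed_of_pow_fixed θ hθ (Nat.pos_of_ne_zero h0) (Finset.mem_range.1 hi) h)
        exact (inv_mul_eq_one.1 h1).symm
      refine Fintype.sum_bijective _ hbij _ _ fun t => ?_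
      rw [mul_assoc, hconjk, ← mul_assoc, ← map_mul]
  have h0 : ∑ t : Q, τ t * (∑ i ∈ Finset.range r, X ^ i) * τ t⁻¹ = 0 := by simp [hsum]
  simp_rw [Finset.mul_sum, Finset.sum_mul] at h0
  rw [Finset.sum_comm, Finset.sum_congr rfl hi, Finset.sum_add_distrib, ← Finset.mul_sum, hsum,
    mul_zero, zero_add, Finset.sum_ite_eq' (Finset.range r) 0,
    if_pos (Finset.mem_range.2 hr.out.pos), sub_eq_zero] at h0
  intro s
  have h : τ s * e = e := by
    rw [he, Finset.mul_sum]
    simp_rw [← map_mul]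
    exact Equiv.sum_comp (Equiv.mulLeft s) fun t => τ t
  rw [← h0, mul_smul_comm, mul_one] at h
  exact smul_right_injective _ hQK h

theorem special_count [IsAlgClosed K] [FiniteDimensional K V] {h : ℕ} (hh : 2 ≤ h)
    (hhK : (h : K) ≠ 0) (hQK : (Nat.card Q : K) ≠ 0)
    (τ : Q →* Module.End K V) (hτ : Function.Injective τ) (X : Module.End K V) (θ : MulAut Q)
    (hθ : θ ^ h = 1) (hX : X ^ h = 1)
    (hconj : ∀ t, X * τ t = τ (θ t) * X) (hab : ∃ a b : Q, a * b ≠ b * a)
    (hQZ : ∀ u t : Q, ⁅u, t⁆ ∈ Subgroup.center Q) (hZfix : ∀ t ∈ Subgroup.center Q, θ t = t)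
    (hfree : ∀ t, t ∉ Subgroup.center Q → ∀ i, 0 < i → i < h →
      ((θ ^ i) t) * t⁻¹ ∉ Subgroup.center Q)
    (hker : ∀ M : Subgroup Q, M.Normal → (∀ s ∈ M, θ s ∈ M) → ⁅M, ⊤⁆ ≠ commutator Q →
      M ≤ Subgroup.center Q) :
    ∃ (ω : Finset K) (m : K → ℕ) (N M : ℕ), ω.card = h ∧ (1 : K) ∈ ω ∧ 2 ≤ N ∧
      N * N = (Subgroup.center Q).index ∧
      N * N = h * M + 1 ∧ ∑ a ∈ ω, m a = N ∧ ∑ a ∈ ω, m a ^ 2 = M + 1 ∧
      (∑ i ∈ Finset.range h, X ^ i = 0 → m 1 = 0) := by
  classical
  obtain ⟨a, b, hab'⟩ := hab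
  set Z := Subgroup.center Q with hZ
  set z := ⁅a, b⁆ with hz
  have hz1 : z ≠ 1 := fun h => hab' (commutatorElement_eq_one_iff_mul_comm.1 h)
  let F : Submodule K V := LinearMap.ker (τ z - 1)
  have hFmem : ∀ v, v ∈ F ↔ τ z v = v := fun v => by
    rw [LinearMap.mem_ker, LinearMap.sub_apply, Module.End.one_apply, sub_eq_zero]
  have hFi : ∀ t, ∀ v ∈ F, τ t v ∈ F := fun t v hv => by
    rw [hFmem] at hv ⊢
    rw [← Module.End.mul_apply, ← map_mul, (Subgroup.mem_center_iff.1 (hQZ a b) t).symm, map_mul,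
      Module.End.mul_apply, hv]
  have hF : F ≠ ⊤ := fun h => hz1 (hτ (by
    rw [map_one]
    exact LinearMap.ext fun v => (hFmem v).1 (h ▸ Submodule.mem_top)))
  obtain ⟨U, hU, hUi⟩ := HHLinear.exists_complement τ hQK F hFi
  have hU0 : U ≠ ⊥ := fun h => hF (by have := hU.sup_eq_top; rwa [h, sup_bot_eq] at this)
  obtain ⟨W, hWU, hW0, hWi, hWmin⟩ := HHLinear.exists_irreducible τ U hU0 hUi
  have : Nontrivial W := Submodule.nontrivial_iff_ne_bot.2 hW0
  let σ : Q →* Module.End K W :=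
    { toFun := fun t => (τ t).restrict (hWi t)
      map_one' := LinearMap.ext fun w => Subtype.ext (by simp)
      map_mul' := fun a b => LinearMap.ext fun w => Subtype.ext (by simp) }
  have hirr : ∀ U : Submodule K W, (∀ t, ∀ v ∈ U, σ t v ∈ U) → U = ⊥ ∨ U = ⊤ := fun U hU => by
    rcases hWmin (U.map W.subtype) (Submodule.map_subtype_le _ _) (by
      rintro t _ ⟨v, hv, rfl⟩
      exact ⟨_, hU t v hv, rfl⟩) with h | h
    · exact Or.inl (Submodule.map_injective_of_injective W.injective_subtype (by rw [h, Submodule.map_bot]))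
    · exact Or.inr (Submodule.map_injective_of_injective W.injective_subtype
        (by rw [h, Submodule.map_subtype_top]))
  obtain ⟨w₀, hw₀⟩ := exists_ne (0 : W)
  obtain ⟨-, hschur⟩ := HHLinear.span_eq_top_and_schur σ hirr
  have hscal : ∀ t : Q, ∃ c : K, t ∈ Z → σ t = c • 1 := fun t => by
    by_cases ht : t ∈ Z
    · obtain ⟨c, hc⟩ := hschur (σ t) fun u => by
        rw [Commute, SemiconjBy, ← map_mul, ← map_mul, Subgroup.mem_center_iff.1 ht u]
      exact ⟨c, fun _ => hc⟩
    · exact ⟨0, fun h => absurd h ht⟩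
  choose μ hμ using hscal
  have hσinv : ∀ t, σ t * σ t⁻¹ = 1 := fun t => by rw [← map_mul, mul_inv_cancel, map_one]
  let M : Subgroup Q :=
    { carrier := {t : Q | ∀ u : Q, σ ⁅u, t⁆ = 1}
      one_mem' := fun u => by simp [commutatorElement_def]
      mul_mem' := fun {s t} hs ht u => by
        rw [show ⁅u, s * t⁆ = ⁅u, s⁆ * (s * ⁅u, t⁆ * s⁻¹) by simp only [commutatorElement_def]; group,
          map_mul, hs u, one_mul, map_mul, map_mul, ht u, mul_one, hσinv]
      inv_mem' := fun {s} hs u => by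
        have h : σ ⁅u, s⁻¹⁆ = σ s⁻¹ * σ ⁅u, s⁆⁻¹ * σ s := by
          rw [← map_mul, ← map_mul]
          congr 1
          simp only [commutatorElement_def]; group
        rw [h]
        have h' := hσinv ⁅u, s⁆
        rw [hs u, one_mul] at h'
        rw [h', mul_one]
        simpa using hσinv s⁻¹ }
  have hZM : Z ≤ M := fun t ht u => by
    rw [commutatorElement_eq_one_iff_mul_comm.2 (Subgroup.mem_center_iff.1 ht u), map_one]
  have hMn : M.Normal := ⟨fun t ht g => by
    rw [show g * t * g⁻¹ = ⁅g, t⁆ * t by rw [commutatorElement_def]; group]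
    exact M.mul_mem (hZM (hQZ g t)) ht⟩
  have hMZ : M ≤ Z := by
    refine hker M hMn (fun t ht u => ?_) (fun heq => ?_)
    · obtain ⟨u', rfl⟩ := θ.surjective u
      rw [← map_commutatorElement, hZfix _ (hQZ u' t), ht u']
    · have hzk : z ∈ σ.ker := by
        have hle : ⁅M, (⊤ : Subgroup Q)⁆ ≤ σ.ker := Subgroup.commutator_le.2 fun s hs u _ => by
          rw [MonoidHom.mem_ker, ← commutatorElement_inv]
          have h' := hσinv ⁅u, s⁆
          rw [hs u, one_mul] at h'
          exact h'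
        exact hle (heq ▸ Subgroup.commutator_mem_commutator (Subgroup.mem_top a) (Subgroup.mem_top b))
      have hfix0 : τ z (w₀ : V) = w₀ :=
        congrArg Subtype.val (congrArg (fun G : Module.End K W => G w₀) (MonoidHom.mem_ker.1 hzk))
      exact hw₀ (Subtype.ext (Submodule.disjoint_def.1 hU.disjoint _ ((hFmem _).2 hfix0) (hWU w₀.2)))
  refine inner_count hh hhK τ X θ hθ hX hconj σ hirr W.subtype (fun h => hw₀ (Subtype.ext (by
    simpa using congrArg (fun G : W →ₗ[K] V => G w₀) h))) (fun t => rfl) Z μ hμ (fun t c hc => ?_) hQZ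
    (fun s hs => by rw [hZfix s hs]; exact hs) (fun s hs => by rw [hZfix s hs])
    hfree (fun h => hab' ?_)
  · refine hMZ fun u => ?_
    rw [commutatorElement_def, map_mul, map_mul, map_mul, hc, mul_smul_comm, mul_one, smul_mul_assoc,
      hσinv, smul_mul_assoc, one_mul]
    have h' := hσinv t
    rw [hc, smul_mul_assoc, one_mul] at h'
    exact h'
  · exact (Subgroup.mem_center_iff.1 (show b ∈ Z from h ▸ Subgroup.mem_top b) a)

theorem special [IsAlgClosed K] [FiniteDimensional K V] {q e : ℕ} [hq : Fact q.Prime]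
    (hqr : q ≠ r) (hrK : (r : K) ≠ 0) (hQK : (Nat.card Q : K) ≠ 0) (hQ : Nat.card Q = q ^ e)
    (τ : Q →* Module.End K V) (hτ : Function.Injective τ) (X : Module.End K V) (θ : MulAut Q)
    (hθ : θ ^ r = 1) (hX : X ^ r = 1) (hsum : ∑ i ∈ Finset.range r, X ^ i = 0)
    (hconj : ∀ t, X * τ t = τ (θ t) * X) (hab : ∃ a b : Q, a * b ≠ b * a)
    (hQZ : ∀ u t : Q, ⁅u, t⁆ ∈ Subgroup.center Q) (hfix : ∀ t, θ t = t ↔ t ∈ Subgroup.center Q)
    (hker : ∀ M : Subgroup Q, M.Normal → (∀ s ∈ M, θ s ∈ M) → ⁅M, ⊤⁆ ≠ commutator Q →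
      M ≤ Subgroup.center Q) :
    q = 2 ∧ ∃ n : ℕ, 1 ≤ n ∧ r = 2 ^ n + 1 ∧ (Subgroup.center Q).index = 2 ^ (2 * n) := by
  classical
  obtain ⟨ω, m, N, M, hω, hω1, hN2, hNS, hNM, hm1, hm2, hm0⟩ :=
    special_count hr.out.two_le hrK hQK τ hτ X θ hθ hX hconj hab hQZ (fun t ht => (hfix t).2 ht)
      (fun t ht i hi hir hmem => ht (by
        have hcop : (Nat.card Q).Coprime r := by
          rw [hQ]
          exact ((Nat.coprime_primes hq.out hr.out).2 hqr).pow_left e
        have hθi : (θ ^ i) ^ r = 1 := by rw [← pow_mul, mul_comm, pow_mul, hθ, one_pow]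
        have hzfix : (θ ^ i) ((θ ^ i) t * t⁻¹) = (θ ^ i) t * t⁻¹ := by
          have h := (hfix _).2 hmem
          have hall : ∀ k : ℕ, (θ ^ k) ((θ ^ i) t * t⁻¹) = (θ ^ i) t * t⁻¹ := by
            intro k
            induction k with
            | zero => simp
            | succ k ih => rw [pow_succ θ k, MulAut.mul_apply, h, ih]
          exact hall i
        exact (hfix t).1 (fixed_of_pow_fixed θ hθ hi hir (fixed_of_delta_fixed (θ ^ i) hθi hcop hzfix))))
      hker
  have hz := hm0 hsum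
  have hres := arith (ω.erase 1) m hr.out (by rw [Finset.card_erase_add_one hω1, hω])
    (by rw [Finset.sum_erase _ hz, hm1]) (by rw [Finset.sum_erase _ (by rw [hz]; rfl), hm2]) hNM hN2
  obtain ⟨d, -, hd⟩ := (Nat.dvd_prime_pow hq.out).1
    (show N ∣ q ^ e from hQ ▸ (Dvd.intro _ hNS).trans (Subgroup.index_dvd_card _))
  have hd1 : 1 ≤ d := Nat.pos_of_ne_zero fun h => by rw [h, pow_zero] at hd; omega
  have hq2 : q = 2 := by
    rcases hr.out.eq_two_or_odd with h | h
    · omega
    · by_contra hne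
      have hodd := (hq.out.odd_of_ne_two hne).pow (n := d)
      rw [← hd, Nat.odd_iff] at hodd
      omega
  refine ⟨hq2, d, hd1, by rw [← hq2, ← hd]; omega, ?_⟩
  rw [← hNS, hd, hq2, ← pow_add, two_mul]

theorem general [IsAlgClosed K] [FiniteDimensional K V] {q e : ℕ} [hq : Fact q.Prime] (hqr : q ≠ r)
    (hrK : (r : K) ≠ 0) (hqK : (q : K) ≠ 0) (hQ : Nat.card Q = q ^ e) (τ : Q →* Module.End K V)
    (hτ : Function.Injective τ) (X : Module.End K V) (θ : MulAut Q) (hθ : θ ^ r = 1) (hX : X ^ r = 1)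
    (hsum : ∑ i ∈ Finset.range r, X ^ i = 0) (hconj : ∀ t, X * τ t = τ (θ t) * X)
    (hne : ∃ t, θ t ≠ t) :
    q = 2 ∧ (∃ n : ℕ, r = 2 ^ n + 1) ∧ ∃ a b : Q, a * b ≠ b * a := by
  classical
  obtain ⟨Q₁, ⟨hQ₁inv, t₀, ht₀, ht₀ne⟩, hmin⟩ := WellFounded.has_min
    (wellFounded_lt (α := Subgroup Q))
    {H | (∀ s ∈ H, θ s ∈ H) ∧ ∃ t ∈ H, θ t ≠ t} ⟨⊤, fun _ _ => trivial, by simpa using hne⟩
  have hsmall : ∀ H : Subgroup Q, H < Q₁ → (∀ s ∈ H, θ s ∈ H) → ∀ t ∈ H, θ t = t := fun H hH hinv t ht => by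
    by_contra h
    exact hmin H ⟨hinv, t, ht, h⟩ hH
  have hbij : Function.Bijective (fun s : Q₁ => (⟨θ s, hQ₁inv s s.2⟩ : Q₁)) :=
    Finite.injective_iff_bijective.1 fun s t h => Subtype.ext (θ.injective (congrArg Subtype.val h))
  let θ₁ : MulAut Q₁ :=
    MulEquiv.ofBijective ((θ.toMonoidHom.comp Q₁.subtype).codRestrict Q₁ fun s => hQ₁inv s s.2) hbij
  have hθ₁v : ∀ s : Q₁, ((θ₁ s : Q₁) : Q) = θ s := fun s => rfl
  have hθ₁k : ∀ (k : ℕ) (s : Q₁), (((θ₁ ^ k) s : Q₁) : Q) = (θ ^ k) s := by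
    intro k
    induction k with
    | zero => simp
    | succ k ih => intro s; rw [pow_succ', MulAut.mul_apply, hθ₁v, ih, pow_succ', MulAut.mul_apply]
  have hθ₁ : θ₁ ^ r = 1 := MulEquiv.ext fun s => Subtype.ext (by rw [hθ₁k, hθ]; rfl)
  have hQ₁p : IsPGroup q Q₁ := (IsPGroup.of_card hQ).to_subgroup Q₁
  obtain ⟨e₁, he₁⟩ := hQ₁p.exists_card_eq
  have hcop : (Nat.card Q₁).Coprime r := by
    rw [he₁]
    exact ((Nat.coprime_primes hq.out hr.out).2 hqr).pow_left e₁
  have hQ₁K : (Nat.card Q₁ : K) ≠ 0 := by rw [he₁, Nat.cast_pow]; exact pow_ne_zero _ hqK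
  have hne₁ : θ₁ ⟨t₀, ht₀⟩ ≠ ⟨t₀, ht₀⟩ := fun h => ht₀ne (congrArg Subtype.val h)
  have hsmall₁ : ∀ H : Subgroup Q₁, H ≠ ⊤ → (∀ s ∈ H, θ₁ s ∈ H) → ∀ t ∈ H, θ₁ t = t := by
    intro H hH hinv t ht
    refine Subtype.ext (hsmall (H.map Q₁.subtype) ((Subgroup.map_subtype_le H).lt_of_ne fun h => hH ?_) ?_ _
      (Subgroup.mem_map_of_mem Q₁.subtype ht))
    · exact Subgroup.map_injective Q₁.subtype_injective (by
        rw [h, ← MonoidHom.range_eq_map, Subgroup.range_subtype])
    · rintro _ ⟨s, hs, rfl⟩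
      exact ⟨θ₁ s, hinv s hs, rfl⟩
  have hdelta : ∀ t : Q₁, θ₁ (θ₁ t * t⁻¹) = θ₁ t * t⁻¹ → θ₁ t = t := fun t =>
    fixed_of_delta_fixed θ₁ hθ₁ hcop
  -- `Q₁` is generated by the elements `θ t * t⁻¹`
  set D := Subgroup.closure (Set.range fun t : Q₁ => θ₁ t * t⁻¹) with hD
  have hDtop : D = ⊤ := by
    by_contra hD'
    refine hne₁ (hdelta _ (hsmall₁ D hD' (fun s hs => ?_) _ (Subgroup.subset_closure ⟨_, rfl⟩)))
    have h : D.map θ₁.toMonoidHom ≤ D := by
      rw [hD, MonoidHom.map_closure, Subgroup.closure_le]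
      rintro _ ⟨_, ⟨t, rfl⟩, rfl⟩
      exact Subgroup.subset_closure ⟨θ₁ t, by simp⟩
    exact h (Subgroup.mem_map_of_mem θ₁.toMonoidHom hs)
  have hcen : ∀ H : Subgroup Q₁, H.Normal → H ≠ ⊤ → (∀ s ∈ H, θ₁ s ∈ H) → H ≤ Subgroup.center Q₁ := by
    intro H hHn hH hinv d hd
    have hfx := hsmall₁ H hH hinv
    refine Subgroup.mem_center_iff.2 fun g => ?_
    have hle : D ≤ Subgroup.centralizer ({d} : Set Q₁) := by
      rw [hD, Subgroup.closure_le]
      rintro _ ⟨t, rfl⟩
      refine Subgroup.mem_centralizer_iff.2 fun y hy => ?_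
      rw [Set.mem_singleton_iff.1 hy]
      -- `θ` fixes `t⁻¹ d t`
      have h := hfx _ (hHn.conj_mem d hd t⁻¹)
      rw [map_mul, map_mul, map_inv, hfx d hd, inv_inv] at h
      have h2 := congrArg (fun y => θ₁ t * y * t⁻¹) h
      simp only [mul_assoc, mul_inv_cancel_left, mul_inv_cancel, mul_one] at h2
      simpa [mul_assoc] using h2
    exact (Subgroup.mem_centralizer_iff.1 (hle (hDtop ▸ Subgroup.mem_top g)) d rfl).symm
  have hτ₁ : Function.Injective (τ.comp Q₁.subtype) := hτ.comp Q₁.subtype_injective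
  by_cases hab : ∀ a b : Q₁, a * b = b * a
  · exfalso
    let δ : Q₁ →* Q₁ :=
      { toFun := fun t => θ₁ t * t⁻¹
        map_one' := by simp
        map_mul' := fun a b => by
          rw [map_mul, mul_inv_rev, mul_assoc, mul_assoc]
          congr 1
          rw [← mul_assoc, hab (θ₁ b * b⁻¹), hab (θ₁ b)] }
    have hδ : Function.Surjective δ := by
      rw [← MonoidHom.range_eq_top, eq_top_iff, ← hDtop, hD, Subgroup.closure_le]
      rintro _ ⟨t, rfl⟩
      exact ⟨t, rfl⟩
    have hfp : ∀ t, θ₁ t = t → t = 1 := fun t ht =>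
      (Finite.injective_iff_surjective.2 hδ) (by
        change θ₁ t * t⁻¹ = θ₁ 1 * 1⁻¹
        rw [ht]; simp)
    have h1 := frobenius_trivial hQ₁K (τ.comp Q₁.subtype) X θ₁ hθ₁ hsum (fun t => hconj t) hfp
    exact hne₁ (by rw [show (⟨t₀, ht₀⟩ : Q₁) = 1 from hτ₁ (by rw [map_one]; exact h1 _), map_one])
  push Not at hab
  have hZtop : Subgroup.center Q₁ ≠ ⊤ := fun h => by
    obtain ⟨a, b, hab⟩ := hab
    exact hab (Subgroup.mem_center_iff.1 (show b ∈ Subgroup.center Q₁ from h ▸ Subgroup.mem_top b) a)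
  have hZinv : ∀ s ∈ Subgroup.center Q₁, θ₁ s ∈ Subgroup.center Q₁ := fun s hs =>
    Subgroup.mem_center_iff.2 fun u => by
      obtain ⟨u', rfl⟩ := θ₁.surjective u
      rw [← map_mul, ← map_mul, Subgroup.mem_center_iff.1 hs u']
  have hQZ : ∀ u t : Q₁, ⁅u, t⁆ ∈ Subgroup.center Q₁ := by
    have : Group.IsNilpotent Q₁ := hQ₁p.isNilpotent
    have : Nontrivial Q₁ := ⟨⟨_, _, hne₁⟩⟩
    have h := hcen (commutator Q₁) inferInstance (Group.IsSolvable.commutator_lt_top_of_nontrivial Q₁).ne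
      (fun s hs => by
        have h : (commutator Q₁).map θ₁.toMonoidHom ≤ commutator Q₁ := by
          rw [commutator_def, Subgroup.map_commutator]
          exact Subgroup.commutator_mono le_top le_top
        exact h (Subgroup.mem_map_of_mem θ₁.toMonoidHom hs))
    exact fun u t => h (Subgroup.commutator_mem_commutator (Subgroup.mem_top u) (Subgroup.mem_top t))
  have hfix : ∀ t, θ₁ t = t ↔ t ∈ Subgroup.center Q₁ := by
    intro t
    refine ⟨fun ht => ?_, fun ht => hsmall₁ _ hZtop hZinv t ht⟩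
    let π := QuotientGroup.mk' (Subgroup.center Q₁)
    let T : Subgroup Q₁ :=
      { carrier := {t | π (θ₁ t) = π t}
        one_mem' := by simp
        mul_mem' := fun {a b} ha hb => by
          change π (θ₁ (a * b)) = π (a * b)
          rw [map_mul, map_mul, map_mul, ha, hb]
        inv_mem' := fun {a} ha => by
          change π (θ₁ a⁻¹) = π a⁻¹
          rw [map_inv, map_inv, map_inv, ha] }
    have hTn : T.Normal := ⟨fun a ha g => by
      change π _ = π _
      have hc : ∀ u v : Q₁, π u * π v = π v * π u := fun u v => by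
        rw [← commutatorElement_eq_one_iff_mul_comm, ← map_commutatorElement]
        exact (QuotientGroup.eq_one_iff _).2 (hQZ u v)
      simp only [map_mul, map_inv]
      rw [hc (θ₁ g), mul_inv_cancel_right, hc g a, mul_inv_cancel_right]
      exact ha⟩
    have hTfix : ∀ a ∈ T, θ₁ a = a := fun a ha => hdelta a (hsmall₁ _ hZtop hZinv _ (by
      rw [← QuotientGroup.eq_one_iff]
      change π _ = 1
      rw [map_mul, map_inv, ha, mul_inv_cancel]))
    refine hcen T hTn (fun h => hne₁ (hTfix _ (h ▸ Subgroup.mem_top _))) (fun a ha => ?_) ?_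
    · rwa [hTfix a ha]
    · change π _ = π _
      rw [ht]
  obtain ⟨hq2, n, -, hn, -⟩ := special hqr hrK hQ₁K he₁ (τ.comp Q₁.subtype) hτ₁ X θ₁ hθ₁ hX hsum
    (fun t => hconj t) hab hQZ hfix (fun M hM hinv hne' => hcen M hM (fun h => hne' (by
      rw [h, commutator_def])) hinv)
  obtain ⟨a, b, hab⟩ := hab
  exact ⟨hq2, ⟨n, hn⟩, a, b, fun h => hab (Subtype.ext h)⟩

theorem action_aux [IsAlgClosed K] [FiniteDimensional K V] {q e : ℕ} [hq : Fact q.Prime]
    (hq2 : q ≠ 2) (hqr : q ≠ r) (hrK : (r : K) ≠ 0) (hqK : (q : K) ≠ 0) {Qb : Type*} [Group Qb]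
    [Finite Qb] (he : Nat.card Qb = q ^ e) (π : Q →* Qb) (hπ : Function.Surjective π)
    (τ : Q →* Module.End K V) (τb : Qb →* Module.End K V) (hτπ : ∀ t, τb (π t) = τ t)
    (hinj : Function.Injective τb) (X : Module.End K V) (θ : MulAut Q) (θb : MulAut Qb)
    (hθπ : ∀ t, θb (π t) = π (θ t)) (hθ : θ ^ r = 1) (hX : X ^ r = 1)
    (hsum : ∑ i ∈ Finset.range r, X ^ i = 0) (hconj : ∀ t, X * τ t = τ (θ t) * X) :
    ∀ t, τ (θ t) = τ t := by
  intro t
  have hpow : ∀ (k : ℕ) t, (θb ^ k) (π t) = π ((θ ^ k) t) := by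
    intro k
    induction k with
    | zero => simp
    | succ k ih => intro t; rw [pow_succ', MulAut.mul_apply, ih, hθπ, pow_succ' θ, MulAut.mul_apply]
  have hθb : θb ^ r = 1 := MulEquiv.ext fun c => by
    obtain ⟨u, rfl⟩ := hπ c
    rw [hpow, hθ, MulAut.one_apply, MulAut.one_apply]
  have hcb : ∀ c, X * τb c = τb (θb c) * X := fun c => by
    obtain ⟨u, rfl⟩ := hπ c
    rw [hθπ, hτπ, hτπ]
    exact hconj u
  by_contra hne
  obtain ⟨hq', -, -⟩ := general hqr hrK hqK he τb hinj X θb hθb hX hsum hcb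
    ⟨π t, fun h => hne (by rw [← hτπ (θ t), ← hθπ, h, hτπ])⟩
  exact hq2 hq'

/-- If `q` is odd, a `q`-group on which `x` acts is centralised modulo the kernel of the action. -/
theorem action_trivial [IsAlgClosed K] [FiniteDimensional K V] {q : ℕ} [hq : Fact q.Prime]
    (hq2 : q ≠ 2) (hqr : q ≠ r) (hrK : (r : K) ≠ 0) (hqK : (q : K) ≠ 0) (hQ : IsPGroup q Q)
    (τ : Q →* Module.End K V) (X : Module.End K V) (θ : MulAut Q) (hθ : θ ^ r = 1) (hX : X ^ r = 1)
    (hsum : ∑ i ∈ Finset.range r, X ^ i = 0) (hconj : ∀ t, X * τ t = τ (θ t) * X) :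
    ∀ t, τ (θ t) = τ t := by
  have hXinv : X ^ (r - 1) * X = 1 := by rw [← pow_succ, Nat.sub_add_cancel hr.out.one_le, hX]
  have hiff : ∀ t, θ t ∈ τ.ker ↔ t ∈ τ.ker := by
    intro t
    rw [MonoidHom.mem_ker, MonoidHom.mem_ker]
    have h := hconj t
    constructor
    · intro h1
      rw [h1, one_mul] at h
      have := congrArg (fun F => X ^ (r - 1) * F) h
      simp only [← mul_assoc, hXinv, one_mul] at this
      exact this
    · intro h1
      rw [h1, mul_one] at h
      have hXinv' : X * X ^ (r - 1) = 1 := by rw [← pow_succ', Nat.sub_add_cancel hr.out.one_le, hX]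
      have := congrArg (fun F => F * X ^ (r - 1)) h
      simp only [mul_assoc, hXinv', mul_one] at this
      exact this.symm
  have hmap : τ.ker.map θ.toMonoidHom = τ.ker := by
    refine le_antisymm (Subgroup.map_le_iff_le_comap.2 fun t ht => (hiff t).2 ht) fun t ht => ?_
    exact ⟨θ.symm t, (hiff _).1 (by rwa [θ.apply_symm_apply]), θ.apply_symm_apply t⟩
  obtain ⟨e, he⟩ := (hQ.to_quotient τ.ker).exists_card_eq
  refine action_aux hq2 hqr hrK hqK he (QuotientGroup.mk' τ.ker) (QuotientGroup.mk'_surjective _) τ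
    (QuotientGroup.lift τ.ker τ le_rfl) (fun t => QuotientGroup.lift_mk τ.ker le_rfl t) ?_ X θ
    (QuotientGroup.congr τ.ker τ.ker θ hmap) (fun t => rfl) hθ hX hsum hconj
  intro c d hcd
  obtain ⟨u, rfl⟩ := QuotientGroup.mk_surjective c
  obtain ⟨v, rfl⟩ := QuotientGroup.mk_surjective d
  rw [QuotientGroup.lift_mk, QuotientGroup.lift_mk] at hcd
  refine QuotientGroup.eq.2 ?_
  rw [MonoidHom.mem_ker, map_mul, ← hcd, ← map_mul, inv_mul_cancel, map_one]

end Cfsg.Agent.CoprimeFree
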