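import Cfsg.Agent.Lib.Solvable.HHReduce
import Cfsg.Agent.Lib.Solvable.SFourFree
import Cfsg.Agent.Lib.Involutions.BaerSuzuki

/-! A cyclic normal subgroup of a Sylow `p`-subgroup of a `p`-solvable group lies in `O_{p',p}`. -/

set_option autoImplicit false
open scoped Pointwise commutatorElement

universe u

namespace Cfsg.Agent.CyclicNormal

variable {X : Type u} [Group X] [Finite X] {p : ℕ} [hp : Fact p.Prime]

lemma isPGroup_stabilizer {V K : Subgroup X} (hV : IsPGroup p V) (hVe : ∀ v ∈ V, v ^ p = 1)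
    (hcen : Subgroup.centralizer (V : Set X) ≤ V) {c : X}
    (W : Subgroup X) (hWV : W ≤ V) (hcW : c ∈ W) (hcp : c ^ p = 1)
    (hK1 : ∀ k ∈ K, ∀ v ∈ V, k * v * k⁻¹ * v⁻¹ ∈ W)
    (hK2 : ∀ k ∈ K, ∀ w ∈ W, k * w * k⁻¹ * w⁻¹ ∈ Subgroup.zpowers c)
    (hK3 : ∀ k ∈ K, k * c = c * k) : IsPGroup p K := by
  -- iterate: if `k v k⁻¹ = u v` and `k` fixes `u` then `kⁿ` sends `v` to `uⁿ v`
  have iter : ∀ (k v u : X), k * v * k⁻¹ = u * v → k * u * k⁻¹ = u → ∀ n : ℕ,
      k ^ n * v * (k ^ n)⁻¹ = u ^ n * v := by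
    intro k v u hv hu n
    induction n with
    | zero => simp
    | succ n ih =>
      have hun : k * u ^ n * k⁻¹ = u ^ n := by rw [← conj_pow, hu]
      calc k ^ (n + 1) * v * (k ^ (n + 1))⁻¹
          = k * (k ^ n * v * (k ^ n)⁻¹) * k⁻¹ := by rw [pow_succ']; simp [mul_assoc]
        _ = (k * u ^ n * k⁻¹) * (k * v * k⁻¹) := by rw [ih]; simp [mul_assoc]
        _ = _ := by rw [hun, hv, ← mul_assoc, ← pow_succ]
  intro k
  have hW : ∀ w ∈ W, (k : X) ^ p * w * ((k : X) ^ p)⁻¹ = w := by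
    intro w hw
    obtain ⟨i, hi⟩ := Subgroup.mem_zpowers_iff.1 (hK2 _ k.2 w hw)
    have h1 : (k : X) * w * (k : X)⁻¹ = c ^ i * w := by rw [hi, inv_mul_cancel_right]
    have h2 : (k : X) * c ^ i * (k : X)⁻¹ = c ^ i := by
      rw [← conj_zpow, hK3 _ k.2, mul_inv_cancel_right]
    rw [iter _ w _ h1 h2, ← zpow_natCast, ← zpow_mul, mul_comm, zpow_mul, zpow_natCast, hcp,
      one_zpow, one_mul]
  have hkp : ((k : X) ^ p) ∈ K := K.pow_mem k.2 p
  have hk2 : ((k : X) ^ p) ^ p ∈ V := by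
    refine hcen (Subgroup.mem_centralizer_iff.2 fun v hv => ?_)
    have hu := hK1 _ hkp v hv
    have h1 : (k : X) ^ p * v * ((k : X) ^ p)⁻¹ =
        ((k : X) ^ p * v * ((k : X) ^ p)⁻¹ * v⁻¹) * v := by simp [mul_assoc]
    have h2 := iter _ v _ h1 (hW _ hu) p
    rw [hVe _ (hWV hu), one_mul, mul_inv_eq_iff_eq_mul] at h2
    exact h2.symm
  obtain ⟨j, hj⟩ := hV ⟨_, hk2⟩
  refine ⟨1 + 1 + j, Subtype.ext ?_⟩
  rw [SubmonoidClass.coe_pow, pow_add, pow_mul, pow_add, pow_one, pow_mul]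
  exact congrArg Subtype.val hj

lemma conj_mul_pow {a u c : X} (hau : a * u * a⁻¹ = u * c) (hac : a * c = c * a)
    (huc : u * c = c * u) (n : ℕ) :
    (u * a) ^ n = u ^ n * c ^ (n * (n - 1) / 2) * a ^ n := by
  induction n with
  | zero => simp
  | succ n ih =>
    have han : ∀ m : ℕ, a ^ m * u = u * c ^ m * a ^ m := by
      intro m
      induction m with
      | zero => simp
      | succ m ihm =>
        have hau' : a * u = u * c * a := by rw [← hau]; simp [mul_assoc]
        have hcm : Commute a (c ^ m) := Commute.pow_right hac m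
        calc a ^ (m + 1) * u = a * (a ^ m * u) := by rw [pow_succ', mul_assoc]
          _ = (a * u) * c ^ m * a ^ m := by rw [ihm]; simp [mul_assoc]
          _ = u * c * (a * c ^ m) * a ^ m := by rw [hau']; simp [mul_assoc]
          _ = u * c * (c ^ m * a) * a ^ m := by rw [hcm.eq]
          _ = _ := by rw [pow_succ' c, pow_succ' a]; simp [mul_assoc]
    have hn : (n + 1) * (n + 1 - 1) / 2 = n * (n - 1) / 2 + n := by
      rcases n with _ | m
      · simp
      · simp only [Nat.add_sub_cancel]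
        have : (m + 1 + 1) * (m + 1) = (m + 1) * m + 2 * (m + 1) := by ring
        omega
    have huc' : ∀ i : ℕ, c ^ i * u = u * c ^ i := fun i => ((Commute.pow_right huc i).eq).symm
    calc (u * a) ^ (n + 1) = u ^ n * c ^ (n * (n - 1) / 2) * (a ^ n * u) * a := by
          rw [pow_succ, ih]; simp [mul_assoc]
      _ = u ^ n * (c ^ (n * (n - 1) / 2) * u) * c ^ n * (a ^ n * a) := by
          rw [han]; simp [mul_assoc]
      _ = u ^ (n + 1) * (c ^ (n * (n - 1) / 2) * c ^ n) * a ^ (n + 1) := by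
          rw [huc', pow_succ u, pow_succ a]; simp [mul_assoc]
      _ = _ := by rw [hn, pow_add c]

lemma mem_zpowers_of_pow_eq_one {a₀ t x : X} (ht : t ∈ Subgroup.zpowers a₀)
    (hx : x ∈ Subgroup.zpowers a₀) (hto : orderOf t = p) (hxp : x ^ p = 1) :
    x ∈ Subgroup.zpowers t := by
  classical
  have : Fintype (Subgroup.zpowers a₀) := Fintype.ofFinite _
  set K := Subgroup.zpowers a₀
  set S := Finset.univ.filter (fun k : K => k ^ p = 1) with hS
  set T := (Finset.univ.filter (fun k : K => (k : X) ∈ Subgroup.zpowers t)) with hT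
  have hTS : T ⊆ S := fun k hk => by
    rw [hT, Finset.mem_filter] at hk
    rw [hS, Finset.mem_filter]
    refine ⟨Finset.mem_univ _, Subtype.ext ?_⟩
    obtain ⟨i, hi⟩ := hk.2
    rw [SubmonoidClass.coe_pow, ← show t ^ i = (k : X) from hi, ← zpow_natCast, ← zpow_mul, mul_comm,
      zpow_mul, zpow_natCast, ← hto, pow_orderOf_eq_one, one_zpow]
    rfl
  have hTc : T.card = p := by
    calc T.card = Nat.card ((Subgroup.zpowers t).subgroupOf K) := by
          rw [Nat.card_eq_fintype_card, Fintype.card_subtype]; rfl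
      _ = p := by
          rw [Nat.card_congr (Subgroup.subgroupOfEquivOfLe (Subgroup.zpowers_le.2 ht)).toEquiv,
            Nat.card_zpowers, hto]
  have hSc : S.card ≤ p := IsCyclic.card_pow_eq_one_le hp.out.pos
  have heq : T = S := Finset.eq_of_subset_of_card_le hTS (by omega)
  have : (⟨x, hx⟩ : K) ∈ T := by
    rw [heq, hS, Finset.mem_filter]
    exact ⟨Finset.mem_univ _, Subtype.ext hxp⟩
  rw [hT, Finset.mem_filter] at this
  exact this.2

/-- The heart: `V` a self-centralizing elementary abelian normal `p`-subgroup containing `O_p`. -/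
theorem cyclic_le {V : Subgroup X} [V.Normal] (hV : Cfsg.IsElementaryAbelian p V)
    (hcen : Subgroup.centralizer (V : Set X) = V)
    (hmax : ∀ N : Subgroup X, N.Normal → IsPGroup p N → N ≤ V)
    {A : Subgroup X} (hA : IsCyclic A) (hAp : IsPGroup p A)
    (hVA : V ≤ Subgroup.normalizer (A : Set X))
    (h4 : p ≠ 2 ∨ ¬ Cfsg.Involves (Equiv.Perm (Fin 4)) X) : A ≤ V := by
  classical
  obtain ⟨hVc, hVe⟩ := hV
  have hcomm : ∀ x ∈ V, ∀ y ∈ V, x * y = y * x := fun x hx y hy => setLike_mul_comm hx hy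
  have hVp : IsPGroup p V := fun v => ⟨1, Subtype.ext (by simpa using hVe v v.2)⟩
  by_contra hAV
  obtain ⟨⟨a₀, ha₀⟩, hgen⟩ := hA.exists_generator
  have hgen' : ∀ x ∈ A, x ∈ Subgroup.zpowers a₀ := fun x hx => by
    obtain ⟨i, hi⟩ := Subgroup.mem_zpowers_iff.1 (hgen ⟨x, hx⟩)
    exact Subgroup.mem_zpowers_iff.2 ⟨i, by simpa using congrArg Subtype.val hi⟩
  have hex : ∃ j : ℕ, a₀ ^ p ^ j ∈ V := by
    obtain ⟨j, hj⟩ := hAp ⟨a₀, ha₀⟩
    exact ⟨j, by rw [show a₀ ^ p ^ j = 1 from congrArg Subtype.val hj]; exact V.one_mem⟩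
  obtain ⟨j, hj⟩ : ∃ j : ℕ, Nat.find hex = j + 1 := by
    refine Nat.exists_eq_succ_of_ne_zero fun h0 => hAV fun x hx => ?_
    have h1 : a₀ ∈ V := by simpa [h0] using Nat.find_spec hex
    exact Subgroup.zpowers_le.2 h1 (hgen' x hx)
  set a := a₀ ^ p ^ j with ha
  have haA : a ∈ A := A.pow_mem ha₀ _
  have haV : a ∉ V := Nat.find_min hex (by omega)
  set c := a ^ p with hc
  have hcV : c ∈ V := by
    have h1 := Nat.find_spec hex
    rw [hj, pow_succ, pow_mul] at h1
    exact h1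
  have hcp : c ^ p = 1 := hVe c hcV
  -- commutators with `a` lie in `⟨c⟩`
  have hA1 : ∀ v ∈ V, a * v * a⁻¹ * v⁻¹ ∈ A ⊓ V := fun v hv => ⟨by
    have h1 := (Subgroup.mem_normalizer_iff.1 (hVA hv) a⁻¹).1 (A.inv_mem haA)
    rw [mul_assoc, mul_assoc, ← mul_assoc v]
    exact A.mul_mem haA h1,
    V.mul_mem (Subgroup.Normal.conj_mem inferInstance v hv a) (V.inv_mem hv)⟩
  have hAc : ∀ x ∈ A ⊓ V, x ∈ Subgroup.zpowers c := by
    intro x hx
    have hxp : x ^ p = 1 := hVe x hx.2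
    by_cases hx1 : x = 1
    · rw [hx1]; exact one_mem _
    have hxo : orderOf x = p := orderOf_eq_prime hxp hx1
    have hax : x ∈ Subgroup.zpowers a₀ := hgen' x hx.1
    have haa : a ∈ Subgroup.zpowers a₀ := Subgroup.pow_mem _ (Subgroup.mem_zpowers a₀) _
    by_cases hc1 : c = 1
    · exfalso
      have haord : orderOf a = p := orderOf_eq_prime hc1 fun h => haV (h ▸ V.one_mem)
      exact haV (Subgroup.zpowers_le.2 hx.2 (mem_zpowers_of_pow_eq_one hax haa hxo hc1))
    · exact mem_zpowers_of_pow_eq_one (Subgroup.pow_mem _ haa p) hax (orderOf_eq_prime hcp hc1) hxp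
  have hac : a * c = c * a := by rw [hc]; exact (Commute.self_pow a p).eq
  -- the pair
  set Y := Subgroup.zpowers a ⊔ V with hY
  have hYp : IsPGroup p Y := by
    intro y
    obtain ⟨z, hz, v, hv, hzv⟩ : (y : X) ∈ (↑(Subgroup.zpowers a) * ↑V : Set X) := by
      rw [← Subgroup.mul_normal]; exact y.2
    obtain ⟨i, rfl⟩ := hz
    have hq : ((QuotientGroup.mk' V) (y : X)) ^ p = 1 := by
      rw [← hzv, map_mul, show (QuotientGroup.mk' V) v = 1 from (QuotientGroup.eq_one_iff v).2 hv,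
        mul_one, map_zpow, ← zpow_natCast, ← zpow_mul, mul_comm, zpow_mul, zpow_natCast, ← map_pow,
        show (QuotientGroup.mk' V) (a ^ p) = 1 from (QuotientGroup.eq_one_iff _).2 hcV, one_zpow]
    rw [← map_pow] at hq
    obtain ⟨k, hk⟩ := hVp ⟨_, (QuotientGroup.eq_one_iff _).1 hq⟩
    refine ⟨1 + k, Subtype.ext ?_⟩
    rw [SubmonoidClass.coe_pow, pow_add, pow_one, pow_mul]
    exact congrArg Subtype.val hk
  have haY : a ∈ Y := Subgroup.mem_sup_left (Subgroup.mem_zpowers a)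
  obtain ⟨g, hg⟩ : ∃ g : X, ¬ IsPGroup p ↥(Y ⊔ Y.map (MulAut.conj g).toMonoidHom) := by
    by_contra hcon
    push Not at hcon
    obtain ⟨N, hN, hNp, hYN⟩ := BaerSuzuki.baerSuzuki Y hYp hcon
    exact haV (hmax N hN hNp (hYN haY))
  set b := g * a * g⁻¹ with hb
  set d := g * c * g⁻¹ with hd
  have hdV : d ∈ V := Subgroup.Normal.conj_mem inferInstance c hcV g
  have hdp : d ^ p = 1 := hVe d hdV
  clear_value c d
  have hbd : b * d = d * b := by
    have := congrArg (fun t => g * t * g⁻¹) hac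
    simpa [hb, hd, mul_assoc] using this
  have hbp : b ^ p = d := by rw [hb, hd, conj_pow, ← hc]
  have hA1' : ∀ v ∈ V, a * v * a⁻¹ * v⁻¹ ∈ Subgroup.zpowers c := fun v hv => hAc _ (hA1 v hv)
  have hB1' : ∀ v ∈ V, b * v * b⁻¹ * v⁻¹ ∈ Subgroup.zpowers d := by
    intro v hv
    have hv' : g⁻¹ * v * g ∈ V := by
      simpa using Subgroup.Normal.conj_mem inferInstance v hv g⁻¹
    obtain ⟨i, hi⟩ := Subgroup.mem_zpowers_iff.1 (hA1' _ hv')
    refine Subgroup.mem_zpowers_iff.2 ⟨i, ?_⟩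
    rw [hd, conj_zpow, hi, hb]
    simp [mul_assoc]
  set W := Subgroup.zpowers c ⊔ Subgroup.zpowers d with hW
  have hWV : W ≤ V := sup_le (Subgroup.zpowers_le.2 hcV) (Subgroup.zpowers_le.2 hdV)
  have hcW : c ∈ W := Subgroup.mem_sup_left (Subgroup.mem_zpowers c)
  have hdW : d ∈ W := Subgroup.mem_sup_right (Subgroup.mem_zpowers d)
  -- if one of the two points is fixed by both, we get a `p`-group
  have key : ∀ (k₁ k₂ e : X), e ∈ W → k₁ * e = e * k₁ → k₂ * e = e * k₂ →
      (∀ v ∈ V, k₁ * v * k₁⁻¹ * v⁻¹ ∈ W) → (∀ v ∈ V, k₂ * v * k₂⁻¹ * v⁻¹ ∈ W) →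
      (∀ w ∈ W, k₁ * w * k₁⁻¹ * w⁻¹ ∈ Subgroup.zpowers e) →
      (∀ w ∈ W, k₂ * w * k₂⁻¹ * w⁻¹ ∈ Subgroup.zpowers e) →
      ∀ K : Subgroup X, K ≤ V ⊔ (Subgroup.closure {k₁, k₂}) → IsPGroup p K := by
    intro k₁ k₂ e he h₁ h₂ v₁ v₂ w₁ w₂ K hK
    let T : Subgroup X :=
      { carrier := {k | (∀ v ∈ V, k * v * k⁻¹ * v⁻¹ ∈ W) ∧
          (∀ w ∈ W, k * w * k⁻¹ * w⁻¹ ∈ Subgroup.zpowers e) ∧ k * e = e * k}
        one_mem' := ⟨fun v _ => by simp, fun w _ => by simp, by simp⟩
        mul_mem' := by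
          rintro k l ⟨k1, k2, k3⟩ ⟨l1, l2, l3⟩
          refine ⟨fun v hv => ?_, fun w hw => ?_, by rw [mul_assoc, l3, ← mul_assoc, k3, mul_assoc]⟩
          · have h := k1 _ (Subgroup.Normal.conj_mem inferInstance v hv l)
            rw [show k * l * v * (k * l)⁻¹ * v⁻¹ = (k * (l * v * l⁻¹) * k⁻¹ * (l * v * l⁻¹)⁻¹) *
              (l * v * l⁻¹ * v⁻¹) by simp [mul_assoc]]
            exact W.mul_mem h (l1 v hv)
          · have hl : l * w * l⁻¹ ∈ W := by
              rw [← inv_mul_cancel_right (l * w * l⁻¹) w]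
              exact W.mul_mem (Subgroup.zpowers_le.2 he (l2 w hw)) hw
            rw [show k * l * w * (k * l)⁻¹ * w⁻¹ = (k * (l * w * l⁻¹) * k⁻¹ * (l * w * l⁻¹)⁻¹) *
              (l * w * l⁻¹ * w⁻¹) by simp [mul_assoc]]
            exact mul_mem (k2 _ hl) (l2 w hw)
        inv_mem' := by
          rintro k ⟨k1, k2, k3⟩
          have k3' : k⁻¹ * e = e * k⁻¹ := (Commute.inv_left k3).eq
          have hW' : ∀ w ∈ W, k⁻¹ * w * k ∈ W := by
            have hmap : ∀ w : W, k * (w : X) * k⁻¹ ∈ W := fun w => by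
              rw [← inv_mul_cancel_right (k * (w : X) * k⁻¹) (w : X)]
              exact W.mul_mem (Subgroup.zpowers_le.2 he (k2 w w.2)) w.2
            intro w hw
            obtain ⟨w', hw'⟩ := (Finite.injective_iff_surjective (f := fun w : W => (⟨_, hmap w⟩ : W))).1
              (fun x y hxy => Subtype.ext (by simpa using congrArg Subtype.val hxy)) ⟨w, hw⟩
            have := congrArg Subtype.val hw'
            simp only at this
            rw [← this]
            simpa [mul_assoc] using w'.2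
          refine ⟨fun v hv => ?_, fun w hw => ?_, k3'⟩
          · have hv' : k⁻¹ * v * k ∈ V := by
              simpa using Subgroup.Normal.conj_mem inferInstance v hv k⁻¹
            have h := W.inv_mem (k1 _ hv')
            simpa [mul_assoc] using h
          · have h := inv_mem (k2 _ (hW' w hw))
            simpa [mul_assoc] using h }
    have hVT : V ≤ T := fun v hv => ⟨fun w hw => by
        rw [hcomm v hv w hw, mul_inv_cancel_right, mul_inv_cancel]; exact one_mem _,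
      fun w hw => by
        rw [hcomm v hv w (hWV hw), mul_inv_cancel_right, mul_inv_cancel]; exact one_mem _,
      hcomm v hv e (hWV he)⟩
    have hT : IsPGroup p T := isPGroup_stabilizer hVp hVe hcen.le W hWV he (hVe e (hWV he))
      (fun k hk => hk.1) (fun k hk => hk.2.1) (fun k hk => hk.2.2)
    refine hT.to_le (hK.trans (sup_le hVT ((Subgroup.closure_le _).2 ?_)))
    rintro k (rfl | rfl)
    · exact ⟨v₁, w₁, h₁⟩
    · exact ⟨v₂, w₂, h₂⟩
  have hzc : Subgroup.zpowers c ≤ W := le_sup_left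
  have hzd : Subgroup.zpowers d ≤ W := le_sup_right
  have hWmem : ∀ w ∈ W, ∃ i j : ℤ, w = c ^ i * d ^ j := by
    intro w hw
    obtain ⟨x, ⟨i, rfl⟩, y, ⟨j, rfl⟩, rfl⟩ := (SolvBasic.mem_sup_iff_of_le_normalizer
      ((Subgroup.zpowers_le.2 (show d ∈ Subgroup.centralizer (Subgroup.zpowers c : Set X) from
        Subgroup.mem_centralizer_iff.2 fun x hx =>
          hcomm x (Subgroup.zpowers_le.2 hcV hx) d hdV)).trans
        (Subgroup.centralizer_le_normalizer _))).1 hw
    exact ⟨i, j, rfl⟩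
  have hfix : ∀ k : X, k * c = c * k → k * d = d * k → ∀ w ∈ W, k * w * k⁻¹ * w⁻¹ = 1 := by
    intro k h1 h2 w hw
    obtain ⟨i, j, rfl⟩ := hWmem w hw
    have : Commute k (c ^ i * d ^ j) := (Commute.zpow_right h1 i).mul_right (Commute.zpow_right h2 j)
    rw [this.eq, mul_inv_cancel_right, mul_inv_cancel]
  have hYg : Y ⊔ Y.map (MulAut.conj g).toMonoidHom ≤ V ⊔ Subgroup.closure {a, b} := by
    refine sup_le (sup_le (Subgroup.zpowers_le.2 (Subgroup.mem_sup_right
      (Subgroup.subset_closure (Set.mem_insert _ _)))) le_sup_left) ?_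
    rw [hY, Subgroup.map_sup, MonoidHom.map_zpowers]
    refine sup_le (Subgroup.zpowers_le.2 (Subgroup.mem_sup_right
      (Subgroup.subset_closure (Set.mem_insert_of_mem _ rfl)))) ?_
    rintro _ ⟨v, hv, rfl⟩
    exact Subgroup.mem_sup_left (Subgroup.Normal.conj_mem inferInstance v hv g)
  have hbc : b * c ≠ c * b := fun h => hg (key a b c hcW hac h
    (fun v hv => hzc (hA1' v hv)) (fun v hv => hzd (hB1' v hv)) (fun w hw => hA1' w (hWV hw))
    (fun w hw => by rw [hfix b h hbd w hw]; exact one_mem _) _ hYg)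
  have had : a * d ≠ d * a := fun h => hg (key a b d hdW h hbd
    (fun v hv => hzc (hA1' v hv)) (fun v hv => hzd (hB1' v hv))
    (fun w hw => by rw [hfix a hac h w hw]; exact one_mem _) (fun w hw => hB1' w (hWV hw)) _ hYg)
  have hc1 : c ≠ 1 := fun h => hbc (by simp [h])
  have hd1 : d ≠ 1 := fun h => had (by simp [h])
  have hco : orderOf c = p := orderOf_eq_prime hcp hc1
  have hdo : orderOf d = p := orderOf_eq_prime hdp hd1
  obtain ⟨β, hβ⟩ : ∃ β : ℕ, a * d * a⁻¹ = d * c ^ β := by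
    obtain ⟨i, hi⟩ := (mem_powers_iff_mem_zpowers (x := c)).2 (hA1' d hdV)
    refine ⟨i, ?_⟩
    rw [← hcomm _ (V.pow_mem hcV i) d hdV, show c ^ i = a * d * a⁻¹ * d⁻¹ from hi,
      inv_mul_cancel_right]
  obtain ⟨α, hα⟩ : ∃ α : ℕ, b * c * b⁻¹ = c * d ^ α := by
    obtain ⟨i, hi⟩ := (mem_powers_iff_mem_zpowers (x := d)).2 (hB1' c hcV)
    refine ⟨i, ?_⟩
    rw [← hcomm _ (V.pow_mem hdV i) c hcV, show d ^ i = b * c * b⁻¹ * c⁻¹ from hi,
      inv_mul_cancel_right]
  have hβ0 : ¬ p ∣ β := fun h => had (by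
    rw [orderOf_dvd_iff_pow_eq_one.1 (hco ▸ h), mul_one] at hβ
    exact mul_inv_eq_iff_eq_mul.1 hβ)
  have hα0 : ¬ p ∣ α := fun h => hbc (by
    rw [orderOf_dvd_iff_pow_eq_one.1 (hdo ▸ h), mul_one] at hα
    exact mul_inv_eq_iff_eq_mul.1 hα)
  have hbk : ∀ k : ℕ, b ^ k * c * (b ^ k)⁻¹ = c * d ^ (α * k) := by
    intro k
    induction k with
    | zero => simp
    | succ k ih =>
      calc b ^ (k + 1) * c * (b ^ (k + 1))⁻¹ = b * (b ^ k * c * (b ^ k)⁻¹) * b⁻¹ := by
            rw [pow_succ']; simp [mul_assoc]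
        _ = (b * c * b⁻¹) * (b * d ^ (α * k) * b⁻¹) := by rw [ih]; simp [mul_assoc]
        _ = _ := by
            rw [hα, ← conj_pow, hbd, mul_inv_cancel_right, mul_assoc, ← pow_add, Nat.mul_succ,
              add_comm]
  have hbkd : ∀ k : ℕ, b ^ k * d * (b ^ k)⁻¹ = d := fun k => by
    rw [((Commute.pow_left hbd k)).eq, mul_inv_cancel_right]
  have haW : a * c * a⁻¹ = c := by rw [hac, mul_inv_cancel_right]
  -- the action of `a * b ^ k` on `W`
  have hyc : ∀ k : ℕ, (a * b ^ k) * c * (a * b ^ k)⁻¹ = c ^ (1 + β * (α * k)) * d ^ (α * k) := by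
    intro k
    calc (a * b ^ k) * c * (a * b ^ k)⁻¹ = a * (b ^ k * c * (b ^ k)⁻¹) * a⁻¹ := by simp [mul_assoc]
      _ = (a * c * a⁻¹) * (a * d ^ (α * k) * a⁻¹) := by rw [hbk]; simp [mul_assoc]
      _ = c * (d * c ^ β) ^ (α * k) := by rw [haW, ← conj_pow, hβ]
      _ = _ := by
          have hdc : Commute d (c ^ β) := hcomm d hdV _ (V.pow_mem hcV β)
          rw [hdc.mul_pow, ← pow_mul, hcomm _ (V.pow_mem hdV _) _ (V.pow_mem hcV _), ← mul_assoc,
            ← pow_succ', add_comm]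
  have hyd : ∀ k : ℕ, (a * b ^ k) * d * (a * b ^ k)⁻¹ = d * c ^ β := fun k => by
    calc (a * b ^ k) * d * (a * b ^ k)⁻¹ = a * (b ^ k * d * (b ^ k)⁻¹) * a⁻¹ := by simp [mul_assoc]
      _ = _ := by rw [hbkd, hβ]
  by_cases hp2 : p = 2
  · subst hp2
    -- `U = ⟨c, d⟩` is a four-group with `S₃` induced
    refine h4.resolve_left (fun h => h rfl) ?_
    have hc2 : ∀ i : ℕ, ¬ 2 ∣ i → c ^ i = c := fun i hi => by
      rw [← pow_mod_orderOf, hco, Nat.two_dvd_ne_zero.1 hi, pow_one]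
    have hd2 : ∀ i : ℕ, ¬ 2 ∣ i → d ^ i = d := fun i hi => by
      rw [← pow_mod_orderOf, hdo, Nat.two_dvd_ne_zero.1 hi, pow_one]
    rw [hc2 β hβ0] at hβ
    rw [hd2 α hα0] at hα
    have hcd : d ∉ Subgroup.zpowers c := fun hmem => had (by
      obtain ⟨i, hi⟩ := hmem
      rw [← show c ^ i = d from hi]
      exact (Commute.zpow_right hac i).eq)
    have hcardW : Nat.card W = 4 := by
      have hinf : Subgroup.zpowers c ⊓ Subgroup.zpowers d = ⊥ := by
        refine (Subgroup.eq_bot_iff_forall _).2 fun x hx => ?_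
        obtain ⟨i, hi⟩ := (mem_powers_iff_mem_zpowers (x := d)).2 hx.2
        by_cases h2 : 2 ∣ i
        · rw [← show d ^ i = x from hi]
          exact orderOf_dvd_iff_pow_eq_one.1 (hdo ▸ h2)
        · exact absurd (by rw [← hd2 i h2, show d ^ i = x from hi]; exact hx.1) hcd
      rw [hW, SolvBasic.card_sup_of_inf_eq_bot ((Subgroup.zpowers_le.2 (show d ∈ Subgroup.centralizer
        (Subgroup.zpowers c : Set X) from Subgroup.mem_centralizer_iff.2 fun x hx =>
          hcomm x (Subgroup.zpowers_le.2 hcV hx) d hdV)).trans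
        (Subgroup.centralizer_le_normalizer _)) hinf, Nat.card_zpowers, Nat.card_zpowers, hco, hdo]
    have hnorm : ∀ k : X, k * c * k⁻¹ ∈ W → k * d * k⁻¹ ∈ W →
        k ∈ Subgroup.normalizer (W : Set X) := fun k h1 h2 =>
      Carter.le_normalizer_of_conj_mem (fun w hw => by
        obtain ⟨i, j, rfl⟩ := hWmem w hw
        rw [show k * (c ^ i * d ^ j) * k⁻¹ = (k * c * k⁻¹) ^ i * (k * d * k⁻¹) ^ j by
          rw [conj_zpow, conj_zpow]; simp [mul_assoc]]
        exact W.mul_mem (W.zpow_mem h1 i) (W.zpow_mem h2 j))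
    have hyc1 : (a * b) * c * (a * b)⁻¹ = d := by
      calc (a * b) * c * (a * b)⁻¹ = a * (b * c * b⁻¹) * a⁻¹ := by simp [mul_assoc]
        _ = (a * c * a⁻¹) * (a * d * a⁻¹) := by rw [hα]; simp [mul_assoc]
        _ = c * (c * d) := by rw [haW, hβ, hcomm d hdV c hcV]
        _ = d := by rw [← mul_assoc, ← pow_two, hcp, one_mul]
    have hyd1 : (a * b) * d * (a * b)⁻¹ = d * c := by
      calc (a * b) * d * (a * b)⁻¹ = a * (b * d * b⁻¹) * a⁻¹ := by simp [mul_assoc]
        _ = _ := by rw [hbd, mul_inv_cancel_right, hβ]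
    have ha2 : a ^ 2 ∈ Subgroup.centralizer (W : Set X) :=
      Subgroup.mem_centralizer_iff.2 fun w hw => hcomm w (hWV hw) _ (hc ▸ hcV)
    refine SFourFree.involves_of_four hcardW (fun u hu => hVe u (hWV hu)) (a := a) (y := a * b)
      (hnorm a (by rw [haW]; exact hcW) (by rw [hβ]; exact W.mul_mem hdW hcW))
      (hnorm _ (by rw [hyc1]; exact hdW) (by rw [hyd1]; exact W.mul_mem hdW hcW)) ?_ ?_ ha2 ?_
    · intro h
      apply hcd
      have := Subgroup.mem_centralizer_iff.1 h c hcW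
      rw [← this, mul_inv_cancel_right] at hyc1
      rw [← hyc1]
      exact Subgroup.mem_zpowers c
    · refine Subgroup.mem_centralizer_iff.2 fun w hw => ?_
      have h3 : ∀ w ∈ W, (a * b) ^ 3 * w * ((a * b) ^ 3)⁻¹ = w := by
        set y := a * b with hy
        have e : ∀ x, y ^ 3 * x * (y ^ 3)⁻¹ = y * (y * (y * x * y⁻¹) * y⁻¹) * y⁻¹ := fun x => by
          simp [pow_succ, mul_assoc]
        have e1 : y * (d * c) * y⁻¹ = c := by
          calc y * (d * c) * y⁻¹ = (y * d * y⁻¹) * (y * c * y⁻¹) := by simp [mul_assoc]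
            _ = c := by
              rw [hyd1, hyc1, hcomm d hdV c hcV, mul_assoc, ← pow_two, hdp, mul_one]
        intro w hw
        obtain ⟨i, j, rfl⟩ := hWmem w hw
        have hc3 : y ^ 3 * c * (y ^ 3)⁻¹ = c := by rw [e, hyc1, hyd1, e1]
        have hd3 : y ^ 3 * d * (y ^ 3)⁻¹ = d := by rw [e, hyd1, e1, hyc1]
        calc y ^ 3 * (c ^ i * d ^ j) * (y ^ 3)⁻¹
            = (y ^ 3 * c ^ i * (y ^ 3)⁻¹) * (y ^ 3 * d ^ j * (y ^ 3)⁻¹) := by simp [mul_assoc]
          _ = _ := by rw [← conj_zpow, ← conj_zpow, hc3, hd3]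
      exact (mul_inv_eq_iff_eq_mul.1 (h3 w hw)).symm
    · refine Subgroup.mem_centralizer_iff.2 fun w hw => hcomm w (hWV hw) _ ?_
      rw [show a * (a * b) * a⁻¹ * (a * b) = a ^ 2 * b ^ 2 by simp [pow_two, mul_assoc]]
      exact V.mul_mem (hc ▸ hcV) (by rw [hbp]; exact hdV)
  · -- `p` odd: an element inverting `W` and fixing `a` modulo `V`
    have hcopα : Nat.Coprime (β * α) p :=
      ((hp.out.coprime_iff_not_dvd).2 (fun h => (hp.out.dvd_mul.1 h).elim hβ0 hα0)).symm
    obtain ⟨k, hk⟩ : ∃ k : ℕ, p ∣ β * (α * k) + 2 := by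
      obtain ⟨s, hs⟩ := Nat.exists_mul_mod_eq_one_of_coprime hcopα hp.out.one_lt
      refine ⟨s * (p - 2), ?_⟩
      have hp3 : 2 ≤ p := hp.out.two_le
      have : (β * (α * (s * (p - 2))) + 2) % p = 0 := by
        rw [show β * (α * (s * (p - 2))) = (β * α * s) * (p - 2) by ring, Nat.add_mod, Nat.mul_mod,
          show (β * α * s) % p = 1 from hs.2 ▸ rfl, one_mul, Nat.mod_mod, ← Nat.add_mod,
          Nat.sub_add_cancel hp3, Nat.mod_self]
      exact Nat.dvd_of_mod_eq_zero this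
    set y := a * b ^ k with hy
    set e := β * (α * k) with he
    have hpow : ∀ (x : X), x ^ p = 1 → ∀ m n : ℕ, (p : ℤ) ∣ (m : ℤ) - n → x ^ m = x ^ n := by
      intro x hx m n hmn
      rw [← zpow_natCast, ← zpow_natCast, ← sub_add_cancel (m : ℤ) n, zpow_add]
      obtain ⟨t, ht⟩ := hmn
      rw [ht, zpow_mul, zpow_natCast, hx, one_zpow, one_mul]
    have hy2c : y ^ 2 * c * (y ^ 2)⁻¹ = c⁻¹ := by
      calc y ^ 2 * c * (y ^ 2)⁻¹ = y * (y * c * y⁻¹) * y⁻¹ := by simp [pow_two, mul_assoc]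
        _ = (y * c * y⁻¹) ^ (1 + e) * (y * d * y⁻¹) ^ (α * k) := by
            conv_lhs => rw [hyc]
            rw [conj_pow, conj_pow, he]; simp [mul_assoc]
        _ = c ^ ((1 + e) * (1 + e) + β * (α * k)) * d ^ (α * k * (1 + e) + α * k) := by
            have hcd1 : ∀ i j : ℕ, Commute (c ^ i) (d ^ j) := fun i j =>
              hcomm _ (V.pow_mem hcV i) _ (V.pow_mem hdV j)
            rw [hyc, hyd, (hcd1 _ _).mul_pow, (show Commute d (c ^ β) from hcomm d hdV _ (V.pow_mem hcV β)).mul_pow,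
              ← pow_mul, ← pow_mul, ← pow_mul, mul_assoc, ← mul_assoc (d ^ _) (d ^ _),
              ← pow_add, ← (hcd1 _ _).eq, ← mul_assoc, ← pow_add]
        _ = c⁻¹ := by
            obtain ⟨t, ht⟩ := hk
            have htz : (β : ℤ) * (α * k) + 2 = p * t := by exact_mod_cast ht
            rw [hpow d hdp (α * k * (1 + e) + α * k) 0 ⟨(t : ℤ) * (α * k), by
                rw [he]; push_cast; linear_combination ((α : ℤ) * k) * htz⟩,
              pow_zero, mul_one]
            refine eq_inv_of_mul_eq_one_left ?_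
            rw [← pow_succ]
            refine (hpow c hcp _ 0 ⟨(t : ℤ) * (1 + e), ?_⟩).trans (pow_zero c)
            rw [he]
            push_cast
            linear_combination ((1 : ℤ) + β * (α * k)) * htz
    have hy2d : y ^ 2 * d * (y ^ 2)⁻¹ = d⁻¹ := by
      calc y ^ 2 * d * (y ^ 2)⁻¹ = y * (y * d * y⁻¹) * y⁻¹ := by simp [pow_two, mul_assoc]
        _ = (y * d * y⁻¹) * (y * c * y⁻¹) ^ β := by
            conv_lhs => rw [hyd]
            rw [conj_pow]; simp [mul_assoc]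
        _ = c ^ (β + (1 + e) * β) * d ^ (1 + α * k * β) := by
            have hcd1 : ∀ i j : ℕ, Commute (c ^ i) (d ^ j) := fun i j =>
              hcomm _ (V.pow_mem hcV i) _ (V.pow_mem hdV j)
            rw [hyc, hyd, (hcd1 _ _).mul_pow, ← pow_mul, ← pow_mul, hcomm d hdV _ (V.pow_mem hcV β),
              mul_assoc, ← mul_assoc d, hcomm d hdV _ (V.pow_mem hcV _), mul_assoc, ← pow_succ',
              ← mul_assoc, ← pow_add, add_comm (α * k * β) 1]
        _ = d⁻¹ := by
            obtain ⟨t, ht⟩ := hk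
            have htz : (β : ℤ) * (α * k) + 2 = p * t := by exact_mod_cast ht
            rw [hpow c hcp (β + (1 + e) * β) 0 ⟨(t : ℤ) * β, by
                rw [he]; push_cast; linear_combination (β : ℤ) * htz⟩,
              pow_zero, one_mul]
            refine eq_inv_of_mul_eq_one_left ?_
            rw [← pow_succ]
            refine (hpow d hdp _ 0 ⟨(t : ℤ), ?_⟩).trans (pow_zero d)
            push_cast
            linear_combination htz
    set z := y ^ 2 with hz
    -- `z` commutes with `a` in its action on `V`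
    have hza : z * a * z⁻¹ * a⁻¹ ∈ V := by
      rw [← hcen]
      -- decompose `v` as a fixed vector times an element of `W`
      have hdec : ∀ v ∈ V, ∃ w ∈ W, a * (w⁻¹ * v) = (w⁻¹ * v) * a ∧ b * (w⁻¹ * v) = (w⁻¹ * v) * b := by
        intro v hv
        obtain ⟨i, hi⟩ := Subgroup.mem_zpowers_iff.1 (hA1' v hv)
        obtain ⟨j, hj⟩ := Subgroup.mem_zpowers_iff.1 (hB1' v hv)
        obtain ⟨s, hs⟩ := Nat.exists_mul_mod_eq_one_of_coprime ((hp.out.coprime_iff_not_dvd).2 hβ0).symm hp.out.one_lt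
        obtain ⟨r, hr⟩ := Nat.exists_mul_mod_eq_one_of_coprime ((hp.out.coprime_iff_not_dvd).2 hα0).symm hp.out.one_lt
        have hinv : ∀ (x : X), x ^ p = 1 → ∀ m n : ℕ, m * n % p = 1 → ∀ l : ℤ, (x ^ m) ^ ((n : ℤ) * l) = x ^ l := by
          intro x hx m n hmn l
          rw [← zpow_natCast, ← zpow_mul, ← mul_assoc, ← Nat.cast_mul, ← Nat.mod_add_div (m * n) p,
            hmn, Nat.cast_add, Nat.cast_one, Nat.cast_mul, add_mul, one_mul, zpow_add, mul_assoc,
            zpow_mul, zpow_natCast, hx, one_zpow, mul_one]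
        set w := c ^ ((r : ℤ) * j) * d ^ ((s : ℤ) * i) with hw
        have hwV : w ∈ V := V.mul_mem (V.zpow_mem hcV _) (V.zpow_mem hdV _)
        refine ⟨w, W.mul_mem (W.zpow_mem hcW _) (W.zpow_mem hdW _), ?_, ?_⟩
        · have h1 : a * w * a⁻¹ = w * c ^ i := by
            calc a * w * a⁻¹ = (a * c * a⁻¹) ^ ((r : ℤ) * j) * (a * d * a⁻¹) ^ ((s : ℤ) * i) := by
                  rw [conj_zpow, conj_zpow, hw]; simp [mul_assoc]
              _ = _ := by
                  rw [haW, hβ, (show Commute d (c ^ β) from hcomm d hdV _ (V.pow_mem hcV β)).mul_zpow,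
                    hinv c hcp β s hs.2 i, ← mul_assoc]
          have h2 : a * v * a⁻¹ = c ^ i * v := by rw [hi, inv_mul_cancel_right]
          refine mul_inv_eq_iff_eq_mul.1 ?_
          calc a * (w⁻¹ * v) * a⁻¹ = (a * w * a⁻¹)⁻¹ * (a * v * a⁻¹) := by simp [mul_assoc]
            _ = _ := by rw [h1, h2, hcomm _ hwV _ (V.zpow_mem hcV i)]; simp [mul_assoc]
        · have h1 : b * w * b⁻¹ = w * d ^ j := by
            calc b * w * b⁻¹ = (b * c * b⁻¹) ^ ((r : ℤ) * j) * (b * d * b⁻¹) ^ ((s : ℤ) * i) := by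
                  rw [conj_zpow, conj_zpow, hw]; simp [mul_assoc]
              _ = _ := by
                  rw [hα, hbd, mul_inv_cancel_right, (show Commute c (d ^ α) from hcomm c hcV _ (V.pow_mem hdV α)).mul_zpow,
                    hinv d hdp α r hr.2 j, mul_assoc, hcomm _ (V.zpow_mem hdV j) _ (V.zpow_mem hdV _),
                    ← mul_assoc]
          have h2 : b * v * b⁻¹ = d ^ j * v := by rw [hj, inv_mul_cancel_right]
          refine mul_inv_eq_iff_eq_mul.1 ?_
          calc b * (w⁻¹ * v) * b⁻¹ = (b * w * b⁻¹)⁻¹ * (b * v * b⁻¹) := by simp [mul_assoc]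
            _ = _ := by rw [h1, h2, hcomm _ hwV _ (V.zpow_mem hdV j)]; simp [mul_assoc]
      have hzW : ∀ w ∈ W, z * w * z⁻¹ = w⁻¹ := by
        intro w hw
        obtain ⟨i, j, rfl⟩ := hWmem w hw
        calc z * (c ^ i * d ^ j) * z⁻¹ = (z * c * z⁻¹) ^ i * (z * d * z⁻¹) ^ j := by
              rw [conj_zpow, conj_zpow]; simp [mul_assoc]
          _ = _ := by
              rw [hy2c, hy2d, mul_inv_rev, inv_zpow, inv_zpow,
                hcomm _ (V.inv_mem (V.zpow_mem hdV j)) _ (V.inv_mem (V.zpow_mem hcV i))]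
      have haWn : ∀ w ∈ W, a * w * a⁻¹ ∈ W := fun w hw => by
        rw [← inv_mul_cancel_right (a * w * a⁻¹) w]
        exact W.mul_mem (hzc (hA1' w (hWV hw))) hw
      refine Subgroup.mem_centralizer_iff.2 fun v hv => ?_
      obtain ⟨w, hw, hwa, hwb⟩ := hdec v hv
      set v₀ := w⁻¹ * v with hv₀
      have hzv : Commute z v₀ := (Commute.pow_left (Commute.mul_left hwa (Commute.pow_left hwb k)) 2)
      have hav : Commute a v₀ := hwa
      have hfix₀ : Commute (z * a * z⁻¹ * a⁻¹) v₀ :=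
        ((hzv.mul_left hav).mul_left hzv.inv_left).mul_left hav.inv_left
      have hzinv : ∀ u ∈ W, z⁻¹ * u * z = u⁻¹ := fun u hu => by
        have h1 := hzW u⁻¹ (W.inv_mem hu)
        rw [inv_inv] at h1
        calc z⁻¹ * u * z = z⁻¹ * (z * u⁻¹ * z⁻¹) * z := by rw [h1]
          _ = _ := by simp [mul_assoc]
      have hainv : a⁻¹ * w * a ∈ W := by
        rw [← inv_mul_cancel_right (a⁻¹ * w * a) w]
        refine W.mul_mem ?_ hw
        have hv' : a⁻¹ * w * a ∈ V := by
          simpa using Subgroup.Normal.conj_mem inferInstance w (hWV hw) a⁻¹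
        have h := W.inv_mem (hzc (hA1' _ hv'))
        simpa [mul_assoc] using h
      have hfixw : (z * a * z⁻¹ * a⁻¹) * w * (z * a * z⁻¹ * a⁻¹)⁻¹ = w := by
        calc (z * a * z⁻¹ * a⁻¹) * w * (z * a * z⁻¹ * a⁻¹)⁻¹
            = z * (a * (z⁻¹ * (a⁻¹ * w * a) * z) * a⁻¹) * z⁻¹ := by simp [mul_assoc]
          _ = z * (a * (a⁻¹ * w * a)⁻¹ * a⁻¹) * z⁻¹ := by rw [hzinv _ hainv]
          _ = z * w⁻¹ * z⁻¹ := by simp [mul_assoc]
          _ = w := by rw [hzW _ (W.inv_mem hw), inv_inv]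
      have hvw : v = w * v₀ := by rw [hv₀, mul_inv_cancel_left]
      rw [hvw]
      exact ((Commute.mul_right (mul_inv_eq_iff_eq_mul.1 hfixw) hfix₀.eq).eq).symm
    set u := z * a * z⁻¹ * a⁻¹ with hu
    have huV : u ∈ V := hza
    obtain ⟨i, hi⟩ := Subgroup.mem_zpowers_iff.1 (hA1' u huV)
    have hau : a * u * a⁻¹ = u * c ^ i := by
      rw [← hcomm _ (V.zpow_mem hcV i) u huV, hi, inv_mul_cancel_right]
    have hpw : (u * a) ^ p = c := by
      rw [conj_mul_pow hau (Commute.zpow_right hac i).eq (hcomm u huV _ (V.zpow_mem hcV i)) p,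
        hVe u huV, one_mul]
      obtain ⟨m, hm⟩ : p ∣ p * (p - 1) / 2 := by
        obtain ⟨t, ht⟩ := hp.out.odd_of_ne_two hp2
        refine ⟨t, ?_⟩
        rw [ht, Nat.add_sub_cancel, show (2 * t + 1) * (2 * t) = 2 * ((2 * t + 1) * t) by ring,
          Nat.mul_div_cancel_left _ two_pos]
      rw [hm, pow_mul, ← zpow_natCast (c ^ i) p, ← zpow_mul, mul_comm, zpow_mul, zpow_natCast, hcp,
        one_zpow, one_pow, one_mul]
      exact hc.symm
    rw [hu, inv_mul_cancel_right, conj_pow, ← hc, hy2c] at hpw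
    have : c ^ 2 = 1 := by rw [pow_two]; nth_rewrite 1 [← hpw]; exact inv_mul_cancel c
    exact hp2 (((Nat.prime_dvd_prime_iff_eq hp.out Nat.prime_two).1
      (hco ▸ orderOf_dvd_of_pow_eq_one this)))

theorem cyclic_le_pPrimePCore {G : Type u} [Group G] [Finite G] (hG : Cfsg.IsPSolvable p G)
    (P : Sylow p G) (A : Subgroup G) (hAP : A ≤ (P : Subgroup G))
    (hAn : (P : Subgroup G) ≤ Subgroup.normalizer (A : Set G)) (hA : IsCyclic A)
    (h : p ≠ 2 ∨ ¬ Cfsg.Involves (Equiv.Perm (Fin 4)) G) : A ≤ Cfsg.pPrimePCore p G := by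
  have hn := FittingCores.pPrimeCore_normal (G := G) p
  set f := QuotientGroup.mk' (Cfsg.pPrimeCore p G) with hf
  have hfs : Function.Surjective f := QuotientGroup.mk'_surjective _
  set H := G ⧸ Cfsg.pPrimeCore p G
  set g := QuotientGroup.mk' (HHReduce.Phi p H) with hg
  have hgs : Function.Surjective g := QuotientGroup.mk'_surjective _
  have hsol : Cfsg.IsPSolvable p H := PSolvable.quotient _ hG
  have hO : Cfsg.pPrimeCore p H = ⊥ := PBasic.pPrimeCore_quotient_pPrimeCore p G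
  set B := A.map (g.comp f) with hB
  have hBc : IsCyclic B := isCyclic_of_surjective _ ((g.comp f).subgroupMap_surjective A)
  have hP2 : (HHReduce.V p H : Subgroup (H ⧸ HHReduce.Phi p H)) ≤
      ((P.mapSurjective hfs).mapSurjective hgs : Sylow p (H ⧸ HHReduce.Phi p H)) :=
    Subgroup.map_mono (FittingCores.pCore_le_sylow (P.mapSurjective hfs))
  have hle : B ≤ HHReduce.V p H := by
    refine cyclic_le HHReduce.V_isElementaryAbelian (HHReduce.centralizer_V hsol hO)
      (fun N hN hNp => @HHReduce.le_V_of_isPGroup _ _ _ _ _ N hN hNp) hBc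
      ((P.isPGroup'.to_le hAP).map _) (hP2.trans ?_) (h.imp id fun h4 hi => h4 ?_)
    · rintro _ ⟨_, ⟨x, hx, rfl⟩, rfl⟩
      exact Subgroup.le_normalizer_map (g.comp f) ⟨x, hAn hx, rfl⟩
    · exact SFourFree.involves_quotient _ (SFourFree.involves_quotient _ hi)
  intro x hx
  rw [Cfsg.pPrimePCore, Subgroup.mem_comap, ← HHReduce.comap_V, Subgroup.mem_comap]
  exact hle (Subgroup.mem_map_of_mem (g.comp f) hx)

end Cfsg.Agent.CyclicNormal
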