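import Cfsg.Agent.Lib.Solvable.ClassCover
import Cfsg.Agent.Lib.Solvable.Fitting
import Cfsg.Agent.Lib.Solvable.CoprimeFreeGroup
import Cfsg.Agent.Lib.Techniques.CharP

/-!
An element of odd prime power order that lies in the `p`-core of a subgroup generated by it and
a suitable conjugate from every class of a solvable group lies in the `p`-core.
-/

set_option autoImplicit false
set_option linter.style.haveILetI false
set_option maxHeartbeats 1000000
open scoped Pointwise

universe u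

namespace Cfsg.Agent.FlavellOdd

variable {p : ℕ} [hp : Fact p.Prime]

/-- Every class has a member `g` with `x` in the `p`-core of the group generated by `x` and
its conjugate by `g`. -/
def Hyp (p : ℕ) {G : Type u} [Group G] (x : G) : Prop :=
  ∀ c : G, ∃ g : G, IsConj c g ∧ x ∈ CharP.opIn p (Subgroup.closure {x, g * x * g⁻¹})

theorem mem_opIn_of_le {G : Type u} [Group G] {K L : Subgroup G} (hLK : L ≤ K) {y : G}
    (hy : y ∈ CharP.opIn p K) (hyL : y ∈ L) : y ∈ CharP.opIn p L := by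
  obtain ⟨z, hz, rfl⟩ := hy
  refine ⟨⟨z, hyL⟩, FittingCores.le_pCore
    (N := (Cfsg.pCore p K).comap (Subgroup.inclusion hLK))
    ((FittingCores.pCore_normal p).comap _)
    ((FittingCores.pCore_isPGroup p).comap_of_injective _ (Subgroup.inclusion_injective hLK)) hz, rfl⟩

theorem map_mem_opIn {G H : Type u} [Group G] [Group H] (f : G →* H) {K : Subgroup G} {y : G}
    (hy : y ∈ CharP.opIn p K) : f y ∈ CharP.opIn p (K.map f) := by
  obtain ⟨z, hz, rfl⟩ := hy
  exact ⟨f.subgroupMap K z, FittingCores.pCore_map_le p (f.subgroupMap_surjective K) ⟨z, hz, rfl⟩, rfl⟩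

theorem hyp_map {G H : Type u} [Group G] [Group H] {f : G →* H} (hf : Function.Surjective f) {x : G}
    (h : Hyp p x) : Hyp p (f x) := by
  intro c
  obtain ⟨c, rfl⟩ := hf c
  obtain ⟨g, hg, hx⟩ := h c
  refine ⟨f g, f.map_isConj hg, ?_⟩
  have := map_mem_opIn f hx
  rwa [MonoidHom.map_closure, Set.image_insert_eq, Set.image_singleton, map_mul, map_mul, map_inv] at this

theorem hyp_pow {G : Type u} [Group G] {x : G} (h : Hyp p x) (k : ℕ) : Hyp p (x ^ k) := by
  intro c
  obtain ⟨g, hg, hx⟩ := h c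
  refine ⟨g, hg, mem_opIn_of_le ?_ (pow_mem hx k) (Subgroup.subset_closure (Set.mem_insert _ _))⟩
  refine (Subgroup.closure_le _).2 ?_
  rintro z (rfl | rfl)
  · rw [SetLike.mem_coe]
    exact Subgroup.pow_mem _ (Subgroup.subset_closure (show x ∈ ({x, g * x * g⁻¹} : Set G) from Or.inl rfl)) k
  · rw [SetLike.mem_coe, ← conj_pow]
    exact Subgroup.pow_mem _ (Subgroup.subset_closure (show g * x * g⁻¹ ∈ ({x, g * x * g⁻¹} : Set G) from Or.inr rfl)) k

/-- The key step: no element of order `p` has the property when the `p`-core is trivial. -/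
theorem no_order_p_aux {G : Type u} [Group G] [Finite G] (hp2 : p ≠ 2)
    (V : Subgroup G) [hVn : V.Normal] {r : ℕ} [Fact r.Prime] [hVc : IsMulCommutative V]
    (hV : V ≠ ⊥) (hVe : ∀ v ∈ V, v ^ r = 1) (hVp : IsPGroup r V)
    (hmin : ∀ K : Subgroup G, K.Normal → K ≤ V → K = ⊥ ∨ K = V)
    (IH : ∀ x : G ⧸ V, x ^ p = 1 → Hyp p x → x ∈ Cfsg.pCore p (G ⧸ V))
    (hO : Cfsg.pCore p G = ⊥) {x : G} (hxp : x ^ p = 1) (hx1 : x ≠ 1) (hyp : Hyp p x) : False := by
  classical
  have hp3 : 3 ≤ p := by have := hp.out.two_le; omega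
  have hr : r.Prime := Fact.out
  have hrp : p ≠ r := by
    rintro rfl
    exact hV (le_bot_iff.1 (hO ▸ FittingCores.le_pCore hVn hVp))
  -- the Sylow subgroup of the preimage of the core of `G ⧸ V`
  set π := QuotientGroup.mk' V with hπ
  set K := (Cfsg.pCore p (G ⧸ V)).comap π with hK
  haveI hKn : K.Normal := (FittingCores.pCore_normal p).comap _
  have hxK : x ∈ K := IH (π x) (by rw [← map_pow, hxp, map_one])
    (hyp_map (QuotientGroup.mk'_surjective V) hyp)
  have hVK : V ≤ K := fun v hv => by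
    rw [hK, Subgroup.mem_comap, show π v = 1 from (QuotientGroup.eq_one_iff v).2 hv]
    exact one_mem _
  have hxz : IsPGroup p ↥((Subgroup.zpowers x).subgroupOf K) := by
    refine IsPGroup.comap_of_injective ?_ K.subtype Subtype.val_injective
    exact IsPGroup.of_card (n := 1) (by rw [Nat.card_zpowers, orderOf_eq_prime hxp hx1, pow_one])
  obtain ⟨S₀, hS₀⟩ := hxz.exists_le_sylow
  set S := (S₀ : Subgroup K).map K.subtype with hS
  have hxS : x ∈ S := ⟨⟨x, hxK⟩, hS₀ (Subgroup.mem_zpowers x), rfl⟩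
  have hSp : IsPGroup p S := S₀.isPGroup'.map _
  set M := Subgroup.normalizer (S : Set G) with hM
  have hKVS : K ≤ V ⊔ S := by
    have h1 : ((S₀ : Subgroup K) ⊔ V.subgroupOf K).index = 1 := by
      obtain ⟨j, hj⟩ : ∃ j, (V.subgroupOf K).index = p ^ j := by
        have hpg := (FittingCores.pCore_isPGroup (G := G ⧸ V) p)
        obtain ⟨j, hj⟩ := hpg.exists_card_eq
        refine ⟨j, ?_⟩
        rw [← hj]
        have hrg : (π.comp K.subtype).range = Cfsg.pCore p (G ⧸ V) := by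
          rw [MonoidHom.range_comp, Subgroup.range_subtype, hK,
            Subgroup.map_comap_eq_self_of_surjective (QuotientGroup.mk'_surjective V)]
        rw [← hrg, ← Subgroup.index_ker, ← MonoidHom.comap_ker, hπ, QuotientGroup.ker_mk']
        rfl
      refine Nat.eq_one_of_dvd_coprimes (Nat.Coprime.pow_right j ((hp.out.coprime_iff_not_dvd).2
        S₀.not_dvd_index).symm) (Subgroup.index_dvd_of_le le_sup_left)
        (hj ▸ Subgroup.index_dvd_of_le le_sup_right)
    intro k hk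
    have h2 : (⟨k, hk⟩ : K) ∈ (S₀ : Subgroup K) ⊔ V.subgroupOf K := by
      rw [Subgroup.index_eq_one.1 h1]; exact Subgroup.mem_top _
    have h3 : k ∈ ((S₀ : Subgroup K) ⊔ V.subgroupOf K).map K.subtype := ⟨_, h2, rfl⟩
    rw [Subgroup.map_sup, Subgroup.subgroupOf_map_subtype, inf_eq_left.2 hVK, ← hS, sup_comm] at h3
    exact h3
  have hMV : M ⊔ V = ⊤ := by
    refine eq_top_iff.2 ((Sylow.normalizer_sup_eq_top S₀).ge.trans (sup_le le_sup_left ?_))
    exact hKVS.trans (sup_le le_sup_right (Subgroup.le_normalizer.trans le_sup_left))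
  have hVnorm : ∀ {g : G}, g ∈ Subgroup.normalizer (V : Set G) := fun {g} => by
    rw [Subgroup.normalizer_eq_top]; exact Subgroup.mem_top g
  -- the module
  letI instC : CommGroup V := { (inferInstance : Group V) with mul_comm := fun a b => mul_comm' a b }
  haveI instM : Module (ZMod r) (Additive V) := AddCommGroup.zmodModule fun v => by
    change Additive.ofMul ((Additive.toMul v) ^ r) = 0
    rw [show (Additive.toMul v) ^ r = 1 from Subtype.ext (hVe _ (Additive.toMul v).2)]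
    rfl
  let act : M →* MulAut V :=
    V.normalizerMonoidHom.comp (Subgroup.inclusion (fun g _ => hVnorm))
  let ρ₀ : M →* Module.End (ZMod r) (Additive V) := (CoprimeFree.autEnd r V).comp act
  let ρ := MonoidHom.toHomUnits ρ₀
  have hρ : ∀ (m : M) (v : Additive V),
      ((Additive.toMul ((ρ m : Module.End (ZMod r) (Additive V)) v) : V) : G) =
        (m : G) * (Additive.toMul v : V) * (m : G)⁻¹ := fun m v => rfl
  have hρfix : ∀ (m : M) (v : Additive V), (ρ m : Module.End (ZMod r) (Additive V)) v = v ↔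
      (m : G) * (Additive.toMul v : V) = (Additive.toMul v : V) * (m : G) := fun m v => by
    rw [← mul_inv_eq_iff_eq_mul, ← hρ m v]
    exact ⟨fun h => by rw [h], fun h => Additive.toMul.injective (Subtype.ext h)⟩
  have hirr : ClassCover.Irred ρ.range := by
    intro U hU
    let W : Subgroup G :=
      { carrier := {g | ∃ h : g ∈ V, Additive.ofMul (⟨g, h⟩ : V) ∈ U}
        one_mem' := ⟨one_mem V, U.zero_mem⟩
        mul_mem' := fun {a b} ⟨ha, ha'⟩ ⟨hb, hb'⟩ => ⟨mul_mem ha hb, U.add_mem ha' hb'⟩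
        inv_mem' := fun {a} ⟨ha, ha'⟩ => ⟨inv_mem ha, U.neg_mem ha'⟩ }
    have hW : W.Normal := by
      rw [← Subgroup.normalizer_eq_top_iff, eq_top_iff, ← hMV]
      have key : ∀ m ∈ M, ∀ w ∈ W, m * w * m⁻¹ ∈ W := by
        rintro m hm w ⟨hw, hw'⟩
        exact ⟨hVn.conj_mem w hw m, hU _ ⟨⟨m, hm⟩, rfl⟩ _ hw'⟩
      refine sup_le (fun m hm => Subgroup.mem_normalizer_iff.2 fun w => ⟨key m hm w, fun h => ?_⟩)
        (fun v hv => Subgroup.mem_normalizer_iff.2 fun w => ?_)
      · have := key m⁻¹ (inv_mem hm) _ h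
        simpa [mul_assoc] using this
      · have hc : ∀ w ∈ V, v * w * v⁻¹ = w := fun w hw => by
          rw [setLike_mul_comm hv hw, mul_inv_cancel_right]
        refine ⟨fun h => (hc w h.1).symm ▸ h, fun h => ?_⟩
        have hwV : w ∈ V := by
          have := hVn.conj_mem _ h.1 v⁻¹
          simpa [mul_assoc] using this
        rwa [hc w hwV] at h
    rcases hmin W hW (fun g hg => hg.1) with h | h
    · refine Or.inl ((Submodule.eq_bot_iff U).2 fun v hv => ?_)
      have hv' : ((Additive.toMul v : V) : G) ∈ W := ⟨(Additive.toMul v : V).2, hv⟩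
      rw [h, Subgroup.mem_bot] at hv'
      exact Additive.toMul.injective (Subtype.ext hv')
    · refine Or.inr (eq_top_iff.2 fun v _ => ?_)
      obtain ⟨_, hv⟩ := h.ge (Additive.toMul v : V).2
      exact hv
  have hxM : x ∈ M := Subgroup.le_normalizer hxS
  have hρx : ρ ⟨x, hxM⟩ ≠ 1 := by
    intro h
    have hxc : x ∈ Subgroup.centralizer (V : Set G) := Subgroup.mem_centralizer_iff.2 fun v hv =>
      ((hρfix ⟨x, hxM⟩ (Additive.ofMul ⟨v, hv⟩)).1 (by rw [h]; rfl)).symm
    have hCn : (S ⊓ Subgroup.centralizer (V : Set G)).Normal := by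
      rw [← Subgroup.normalizer_eq_top_iff, eq_top_iff, ← hMV]
      refine sup_le ?_ fun v hv => Subgroup.mem_normalizer_iff.2 fun w => ?_
      · have hcn : (Subgroup.centralizer (V : Set G)).Normal := inferInstance
        intro m hm
        refine Subgroup.mem_normalizer_iff.2 fun w => ?_
        rw [Subgroup.mem_inf, Subgroup.mem_inf, Subgroup.mem_normalizer_iff.1 hm w]
        exact and_congr_right fun _ => ⟨fun h => hcn.conj_mem w h m, fun h => by
          have := hcn.conj_mem _ h m⁻¹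
          simpa [mul_assoc] using this⟩
      · constructor
        · intro h
          rwa [Subgroup.mem_centralizer_iff.1 h.2 v hv, mul_inv_cancel_right]
        · intro h
          have h2 := Subgroup.mem_centralizer_iff.1 h.2 v hv
          have : v * w * v⁻¹ = w := mul_left_cancel (a := v) (h2.trans (inv_mul_cancel_right _ _))
          rwa [this] at h
    exact hx1 (Subgroup.mem_bot.1 (hO ▸ FittingCores.le_pCore hCn (hSp.to_le inf_le_left) ⟨hxS, hxc⟩))
  obtain ⟨v, hv⟩ := ClassCover.exists_moved (r := r) hp3 hrp _ (Additive V) rfl ρ.range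
    ((S.subgroupOf M).map ρ) hirr (Subgroup.map_le_range _ _) (by
      rintro _ ⟨a, rfl⟩ _ ⟨b, hb, rfl⟩
      refine ⟨a * b * a⁻¹, (Subgroup.mem_normalizer_iff.1 a.2 _).1 hb, ?_⟩
      rw [map_mul, map_mul, map_inv])
    ((hSp.comap_of_injective M.subtype Subtype.val_injective).map ρ) (ρ ⟨x, hxM⟩) ⟨_, hxS, rfl⟩
    (by rw [← map_pow, show (⟨x, hxM⟩ : M) ^ p = 1 from Subtype.ext hxp, map_one]) hρx
  obtain ⟨g, hg, hxg⟩ := hyp ((Additive.toMul v : V) : G)
  obtain ⟨k, hk⟩ := isConj_iff.1 hg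
  obtain ⟨a, ha, b, hb, rfl⟩ := Subgroup.mem_sup_of_normal_right.1 (hMV.ge (Subgroup.mem_top k))
  set w : G := ((Additive.toMul v : V) : G) with hw
  have hga : g = a * w * a⁻¹ := by
    calc g = a * (b * w * b⁻¹) * a⁻¹ := by rw [← hk]; group
      _ = a * w * a⁻¹ := by rw [setLike_mul_comm hb (Additive.toMul v : V).2, mul_inv_cancel_right]
  have hgV : g ∈ V := hga ▸ hVn.conj_mem w (Additive.toMul v : V).2 a
  -- the commutator is centralised by `x`
  set L := Subgroup.closure ({x, g * x * g⁻¹} : Set G) with hL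
  have hxL : x ∈ L := Subgroup.subset_closure (Set.mem_insert _ _)
  set t := g * x * g⁻¹ * x⁻¹ with ht
  have htL : t ∈ L := mul_mem (Subgroup.subset_closure (Set.mem_insert_of_mem _ rfl)) (inv_mem hxL)
  have htV : t ∈ V := by
    rw [ht, show g * x * g⁻¹ * x⁻¹ = g * (x * g⁻¹ * x⁻¹) by group]
    exact mul_mem hgV (hVn.conj_mem _ (inv_mem hgV) x)
  have hc1 : x * t * x⁻¹ * t⁻¹ = 1 := by
    have h1 : x * t * x⁻¹ * t⁻¹ ∈ CharP.opIn p L := by
      rw [show x * t * x⁻¹ * t⁻¹ = x * (t * x⁻¹ * t⁻¹) by group]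
      exact mul_mem hxg ((Subgroup.mem_normalizer_iff.1 (CharP.le_normalizer_opIn L htL) _).1 (inv_mem hxg))
    have h2 : x * t * x⁻¹ * t⁻¹ ∈ V := mul_mem (hVn.conj_mem t htV x) (inv_mem htV)
    have := IsPGroup.disjoint_of_ne p r hrp _ _ (CharP.opIn_isPGroup L) hVp
    exact Subgroup.mem_bot.1 (this.le_bot ⟨h1, h2⟩)
  set d := g⁻¹ * (x * g * x⁻¹) with hd
  have hdV : d ∈ V := mul_mem (inv_mem hgV) (hVn.conj_mem g hgV x)
  have hdt : d = t⁻¹ := by
    rw [hd, ht, show (g * x * g⁻¹ * x⁻¹)⁻¹ = x * g * x⁻¹ * g⁻¹ by group]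
    exact setLike_mul_comm (inv_mem hgV) (hVn.conj_mem g hgV x)
  have hxd : x * d * x⁻¹ = d := by
    rw [hdt]
    conv_rhs => rw [← mul_inv_eq_one.1 hc1]
    group
  have hiter : ∀ i : ℕ, x ^ i * g * (x ^ i)⁻¹ = g * d ^ i := by
    intro i
    induction i with
    | zero => simp
    | succ i ih =>
      calc x ^ (i + 1) * g * (x ^ (i + 1))⁻¹ = x * (x ^ i * g * (x ^ i)⁻¹) * x⁻¹ := by rw [pow_succ']; group
        _ = x * g * x⁻¹ * (x * d ^ i * x⁻¹) := by rw [ih]; group
        _ = g * d * d ^ i := by rw [← conj_pow, hxd, hd]; group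
        _ = g * d ^ (i + 1) := by rw [pow_succ', mul_assoc]
  have hd1 : d = 1 := by
    have h1 := hiter p
    rw [hxp, one_mul, inv_one, mul_one, left_eq_mul] at h1
    have hcop : r.Coprime p := (Nat.coprime_primes hr hp.out).2 hrp.symm
    rw [← orderOf_eq_one_iff]
    exact Nat.eq_one_of_dvd_coprimes hcop (orderOf_dvd_of_pow_eq_one (hVe d hdV))
      (orderOf_dvd_of_pow_eq_one h1)
  have hxg' : x * g = g * x := by
    rw [hd, inv_mul_eq_one] at hd1
    exact (mul_inv_eq_iff_eq_mul.1 hd1.symm)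
  refine hv (ρ ⟨a⁻¹, inv_mem ha⟩) ⟨_, rfl⟩ ?_
  rw [← map_inv, ← map_mul, ← map_mul, hρfix]
  show a⁻¹ * x * a⁻¹⁻¹ * w = w * (a⁻¹ * x * a⁻¹⁻¹)
  calc a⁻¹ * x * a⁻¹⁻¹ * w = a⁻¹ * (x * (a * w * a⁻¹)) * a := by group
    _ = a⁻¹ * ((a * w * a⁻¹) * x) * a := by rw [← hga, hxg']
    _ = w * (a⁻¹ * x * a⁻¹⁻¹) := by group

theorem no_order_p {G : Type u} [Group G] [Finite G] [Group.IsSolvable G] (hp2 : p ≠ 2)
    (IH : ∀ (V : Subgroup G) [V.Normal], V ≠ ⊥ → ∀ x : G ⧸ V, x ^ p = 1 → Hyp p x →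
      x ∈ Cfsg.pCore p (G ⧸ V))
    (hO : Cfsg.pCore p G = ⊥) {x : G} (hxp : x ^ p = 1) (hx1 : x ≠ 1) (hyp : Hyp p x) : False := by
  haveI : Nontrivial G := ⟨⟨x, 1, hx1⟩⟩
  obtain ⟨V, r, hr, hVn, hV, -, hVc, hVe, hVp, hmin⟩ :=
    SolvBasic.exists_minimal_normal_abelian (N := (⊤ : Subgroup G)) inferInstance top_ne_bot
  haveI := hVn
  haveI := Fact.mk hr
  exact no_order_p_aux hp2 V hV hVe hVp hmin (IH V hV) hO hxp hx1 hyp

theorem mem_pCore_of_hyp (hp2 : p ≠ 2) : ∀ (n : ℕ) (G : Type u) [Group G] [Finite G] [Group.IsSolvable G],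
    Nat.card G = n → ∀ x : G, (∃ k, x ^ p ^ k = 1) → Hyp p x → x ∈ Cfsg.pCore p G := by
  intro n
  induction n using Nat.strong_induction_on with
  | _ n IH =>
  intro G _ _ _ hn x hx hyp
  classical
  have IH' : ∀ (V : Subgroup G) [V.Normal], V ≠ ⊥ → ∀ y : G ⧸ V, (∃ k, y ^ p ^ k = 1) → Hyp p y →
      y ∈ Cfsg.pCore p (G ⧸ V) := by
    intro V _ hV y hy hyp'
    refine IH _ ?_ (G ⧸ V) rfl y hy hyp'
    rw [← hn, Subgroup.card_eq_card_quotient_mul_card_subgroup V]
    exact lt_mul_of_one_lt_right Nat.card_pos ((Subgroup.one_lt_card_iff_ne_bot V).2 hV)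
  by_cases hO : Cfsg.pCore p G = ⊥
  · by_contra hxO
    have hx1 : x ≠ 1 := fun h => hxO (h ▸ one_mem _)
    have hex : ∃ k, x ^ p ^ k = 1 := hx
    obtain ⟨j, hj⟩ := Nat.exists_eq_succ_of_ne_zero (n := Nat.find hex) (fun h => hx1 (by
      have := Nat.find_spec hex
      rwa [h, pow_zero, pow_one] at this))
    refine no_order_p hp2 (fun V _ hV y hy h => IH' V hV y ⟨1, by rw [pow_one]; exact hy⟩ h) hO
      (x := x ^ p ^ j) ?_ (Nat.find_min hex (by omega)) (hyp_pow hyp _)
    rw [← pow_mul, ← pow_succ, ← Nat.succ_eq_add_one, ← hj]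
    exact Nat.find_spec hex
  · haveI := FittingCores.pCore_normal (G := G) p
    have h := IH' _ hO (QuotientGroup.mk' _ x) (by
      obtain ⟨k, hk⟩ := hx
      exact ⟨k, by rw [← map_pow, hk, map_one]⟩) (hyp_map (QuotientGroup.mk'_surjective _) hyp)
    refine FittingCores.le_pCore (N := (Cfsg.pCore p (G ⧸ Cfsg.pCore p G)).comap (QuotientGroup.mk' _))
      ((FittingCores.pCore_normal p).comap _) ?_ h
    exact (FittingCores.pCore_isPGroup p).comap_of_ker_isPGroup _ (by
      rw [QuotientGroup.ker_mk']; exact FittingCores.pCore_isPGroup p)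

/-- A `p`-subgroup, `p` odd, subnormal in its join with a suitable conjugate from each class. -/
theorem le_pCore_of_isSubnormal_join {G : Type u} [Group G] [Finite G] (hG : Group.IsSolvable G)
    (hp2 : p ≠ 2) {A : Subgroup G} (hA : IsPGroup p A)
    (h : ∀ c : G, ∃ g : G, IsConj c g ∧ (A.subgroupOf (A ⊔ MulAut.conj g • A)).IsSubnormal) :
    A ≤ Cfsg.pCore p G := by
  intro a ha
  refine mem_pCore_of_hyp hp2 _ G rfl a ?_ fun c => ?_
  · obtain ⟨k, hk⟩ := hA ⟨a, ha⟩
    exact ⟨k, congrArg Subtype.val hk⟩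
  obtain ⟨g, hg, hsn⟩ := h c
  refine ⟨g, hg, mem_opIn_of_le (K := A ⊔ MulAut.conj g • A) ?_ ?_ (Subgroup.subset_closure (Set.mem_insert _ _))⟩
  · refine (Subgroup.closure_le _).2 ?_
    rintro z (rfl | rfl)
    · exact Subgroup.mem_sup_left ha
    · exact Subgroup.mem_sup_right (Subgroup.smul_mem_pointwise_smul a (MulAut.conj g) A ha)
  · exact ⟨⟨a, Subgroup.mem_sup_left ha⟩,
      FittingCores.le_pCore_of_isSubnormal hsn (hA.comap_of_injective _ Subtype.val_injective) ha, rfl⟩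

end Cfsg.Agent.FlavellOdd
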