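import Mathlib.GroupTheory.SpecificGroups.Cyclic
import Mathlib.GroupTheory.Sylow
import Mathlib.GroupTheory.Perm.Cycle.Type
import Mathlib.Algebra.Group.Conj

/-! Frobenius' theorem on the number of solutions of `x ^ n` in a conjugacy class. -/

set_option autoImplicit false

universe u

namespace Cfsg.Agent.FrobeniusCount

variable {G : Type u} [Group G] [Finite G]

theorem card_class_mul (c : G) :
    Nat.card {y : G // IsConj c y} * Nat.card (Subgroup.centralizer ({c} : Set G)) = Nat.card G := by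
  set C := Subgroup.centralizer ({c} : Set G) with hC
  have hmem : ∀ a : G, a ∈ C ↔ a * c * a⁻¹ = c := fun a => by
    rw [hC, Subgroup.mem_centralizer_iff, mul_inv_eq_iff_eq_mul]
    exact ⟨fun h => (h c rfl).symm, fun h b hb => by rw [Set.mem_singleton_iff.1 hb]; exact h.symm⟩
  have key : ∀ a b : G, a⁻¹ * b ∈ C ↔ a * c * a⁻¹ = b * c * b⁻¹ := fun a b => by
    rw [hmem]
    constructor
    · intro h
      conv_lhs => rw [← h]
      group
    · intro h
      rw [show a⁻¹ * b * c * (a⁻¹ * b)⁻¹ = a⁻¹ * (b * c * b⁻¹) * a by group, ← h]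
      group
  let f : G ⧸ C → {y : G // IsConj c y} :=
    Quotient.lift (fun a => ⟨a * c * a⁻¹, isConj_iff.2 ⟨a, rfl⟩⟩) fun a b hab =>
      Subtype.ext ((key a b).1 (QuotientGroup.leftRel_apply.1 hab))
  have hf : Function.Bijective f := by
    refine ⟨fun a b => Quotient.inductionOn₂' a b fun a b h =>
      QuotientGroup.eq.2 ((key a b).2 (congrArg Subtype.val h)), fun ⟨y, hy⟩ => ?_⟩
    obtain ⟨a, ha⟩ := isConj_iff.1 hy
    exact ⟨(a : G ⧸ C), Subtype.ext ha⟩
  rw [← Nat.card_congr (Equiv.ofBijective f hf), ← Subgroup.index, mul_comm, Subgroup.card_mul_index]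

theorem count_eq_mul (c : G) (n : ℕ) :
    Nat.card {x : G // IsConj c (x ^ n)} =
      Nat.card {y : G // IsConj c y} * Nat.card {x : G // x ^ n = c} := by
  rw [← Nat.card_prod]
  have hσ : ∀ y : {y : G // IsConj c y}, ∃ a : G, a * c * a⁻¹ = y := fun y => isConj_iff.1 y.2
  choose σ hσ using hσ
  refine Nat.card_congr
    { toFun := fun x => (⟨x.1 ^ n, x.2⟩, ⟨(σ ⟨x.1 ^ n, x.2⟩)⁻¹ * x.1 * σ ⟨x.1 ^ n, x.2⟩, ?_⟩)
      invFun := fun z => ⟨σ z.1 * z.2.1 * (σ z.1)⁻¹, by rw [conj_pow, z.2.2, hσ]; exact z.1.2⟩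
      left_inv := fun x => Subtype.ext (by simp [mul_assoc])
      right_inv := fun z => ?_ }
  · have h : σ ⟨x.1 ^ n, x.2⟩ * c * (σ ⟨x.1 ^ n, x.2⟩)⁻¹ = x.1 ^ n := hσ _
    have hgen : ∀ a w : G, a * c * a⁻¹ = w ^ n → (a⁻¹ * w * a) ^ n = c := fun a w hw => by
      rw [show a⁻¹ * w * a = a⁻¹ * w * (a⁻¹)⁻¹ by rw [inv_inv], conj_pow, ← hw]
      group
    exact hgen _ _ h
  · have h1 : (⟨(σ z.1 * z.2.1 * (σ z.1)⁻¹) ^ n, by rw [conj_pow, z.2.2, hσ]; exact z.1.2⟩ :
        {y : G // IsConj c y}) = z.1 :=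
      Subtype.ext (conj_pow.trans ((congrArg (fun t => σ z.1 * t * (σ z.1)⁻¹) z.2.2).trans (hσ _)))
    refine Prod.ext h1 (Subtype.ext ?_)
    simp only [h1]
    group

/-- Reduction to the classes contained in a conjugation invariant set. -/
theorem dvd_count {d : ℕ} (n : ℕ) (S : Set G) (hS : ∀ a b : G, IsConj a b → a ∈ S → b ∈ S)
    (h : ∀ y ∈ S, d ∣ Nat.card {x : G // IsConj y (x ^ n)}) : d ∣ Nat.card {x : G // x ^ n ∈ S} := by
  classical
  have := Fintype.ofFinite G
  rw [Nat.card_eq_fintype_card, Fintype.card_subtype,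
    Finset.card_eq_sum_card_fiberwise (f := fun x => ConjClasses.mk (x ^ n))
      (t := (Finset.univ.filter fun x : G => x ^ n ∈ S).image fun x => ConjClasses.mk (x ^ n))
      fun x hx => Finset.mem_image_of_mem _ hx]
  refine Finset.dvd_sum fun D hD => ?_
  obtain ⟨x₀, hx₀, rfl⟩ := Finset.mem_image.1 hD
  have hx₀' : x₀ ^ n ∈ S := (Finset.mem_filter.1 hx₀).2
  have h' := h _ hx₀'
  rw [Nat.card_eq_fintype_card, Fintype.card_subtype] at h'
  refine h'.trans (dvd_of_eq (congrArg Finset.card ?_))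
  ext x
  simp only [Finset.mem_filter, Finset.mem_univ, true_and]
  exact ⟨fun hx => ⟨hS _ _ hx hx₀', ConjClasses.mk_eq_mk_iff_isConj.2 hx.symm⟩,
    fun hx => (ConjClasses.mk_eq_mk_iff_isConj.1 hx.2).symm⟩

theorem isConj_central {c y : G} (hc : c ∈ Subgroup.center G) : IsConj c y ↔ y = c := by
  refine ⟨fun h => ?_, fun h => h ▸ IsConj.refl c⟩
  obtain ⟨a, rfl⟩ := isConj_iff.1 h
  rw [Subgroup.mem_center_iff.1 hc a, mul_inv_cancel_right]

theorem count_dvd_of_prime_dvd_order {p : ℕ} [hp : Fact p.Prime] (k : ℕ) (c : G) (hc : p ∣ orderOf c) :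
    p ^ k ∣ Nat.card {x : G // x ^ p ^ k = c} := by
  classical
  have := Fintype.ofFinite G
  have hord : ∀ y : G, y ^ p ^ k = c → orderOf y = p ^ k * orderOf c := by
    intro y hy
    have h := orderOf_pow y (n := p ^ k)
    rw [hy] at h
    obtain ⟨j, hjk, hj⟩ := (Nat.dvd_prime_pow hp.out).1 (Nat.gcd_dvd_right (orderOf y) (p ^ k))
    rw [hj] at h
    have hdvd : p ^ j ∣ orderOf y := hj ▸ Nat.gcd_dvd_left _ _
    rcases hjk.lt_or_eq with hlt | rfl
    · exfalso
      obtain ⟨m, hm⟩ := hdvd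
      rw [hm, Nat.mul_div_cancel_left _ (pow_pos hp.out.pos j)] at h
      have h2 : p ^ (j + 1) ∣ Nat.gcd (orderOf y) (p ^ k) := Nat.dvd_gcd
        (by rw [hm, pow_succ]; exact Nat.mul_dvd_mul_left _ (h ▸ hc)) (pow_dvd_pow p hlt)
      rw [hj] at h2
      exact absurd (Nat.le_of_dvd (pow_pos hp.out.pos j) h2)
        (not_le.2 (Nat.pow_lt_pow_right hp.out.one_lt (by omega)))
    · rw [h, Nat.mul_div_cancel' hdvd]
  rw [Nat.card_eq_fintype_card, Fintype.card_subtype,
    Finset.card_eq_sum_card_fiberwise (f := fun x => Subgroup.zpowers x)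
      (t := (Finset.univ.filter fun x : G => x ^ p ^ k = c).image fun x => Subgroup.zpowers x)
      fun x hx => Finset.mem_image_of_mem _ hx]
  refine Finset.dvd_sum fun D hD => ?_
  obtain ⟨x, hx, rfl⟩ := Finset.mem_image.1 hD
  have hxc : x ^ p ^ k = c := (Finset.mem_filter.1 hx).2
  let C := Subgroup.zpowers x
  have hcard : Nat.card {u : C // u ^ p ^ k = 1} = p ^ k := by
    let _ : CommGroup C := IsCyclic.commGroup
    have h := IsCyclic.card_powMonoidHom_ker (G := C) (p ^ k)
    rw [Nat.card_zpowers, Nat.gcd_eq_right (hord x hxc ▸ dvd_mul_right _ _)] at h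
    exact (Nat.card_congr (Equiv.subtypeEquivRight fun _ => Iff.rfl)).trans h
  refine dvd_of_eq (Eq.trans hcard.symm ?_)
  rw [← Fintype.card_coe, ← Nat.card_eq_fintype_card]
  refine Nat.card_congr
    { toFun := fun u => ⟨x * u.1.1, ?_⟩
      invFun := fun y => ⟨⟨x⁻¹ * y.1, ?_⟩, ?_⟩
      left_inv := fun u => Subtype.ext (Subtype.ext (inv_mul_cancel_left _ _))
      right_inv := fun y => Subtype.ext (mul_inv_cancel_left _ _) }
  · have hu : ((u.1 : C) : G) ^ p ^ k = 1 := congrArg Subtype.val u.2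
    obtain ⟨i, hi⟩ := u.1.2
    have hcomm : Commute x (u.1 : G) := hi ▸ (Commute.refl x).zpow_right i
    have hy : (x * (u.1 : G)) ^ p ^ k = c := by rw [hcomm.mul_pow, hu, hxc, mul_one]
    simp only [Finset.mem_filter, Finset.mem_univ, true_and]
    exact ⟨hy, Subgroup.eq_of_le_of_card_ge
      (Subgroup.zpowers_le.2 (C.mul_mem (Subgroup.mem_zpowers x) u.1.2))
      (by rw [Nat.card_zpowers, Nat.card_zpowers, hord x hxc, hord _ hy])⟩
  · have hy := (Finset.mem_filter.1 y.2).2
    refine C.mul_mem (C.inv_mem (Subgroup.mem_zpowers x)) ?_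
    change y.1 ∈ Subgroup.zpowers x
    exact Eq.mp (congrArg (fun L : Subgroup G => y.1 ∈ L) hy) (Subgroup.mem_zpowers y.1)
  · have hy := Finset.mem_filter.1 y.2
    have hyc : y.1 ^ p ^ k = c := (Finset.mem_filter.1 hy.1).2
    obtain ⟨i, hi⟩ : y.1 ∈ Subgroup.zpowers x := Eq.mp (congrArg (fun L : Subgroup G => y.1 ∈ L) hy.2) (Subgroup.mem_zpowers y.1)
    have hcomm : Commute x y.1 := hi ▸ (Commute.refl x).zpow_right i
    refine Subtype.ext ?_
    change (x⁻¹ * y.1) ^ p ^ k = 1
    rw [hcomm.inv_left.mul_pow, inv_pow, hyc, hxc, inv_mul_cancel]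

theorem main : ∀ (g : ℕ) (G : Type u) [Group G] [Finite G], Nat.card G = g → ∀ (c : G) (n : ℕ),
    Nat.gcd (Nat.card {y : G // IsConj c y} * n) (Nat.card G) ∣
      Nat.card {x : G // IsConj c (x ^ n)} := by
  intro g
  induction g using Nat.strong_induction_on with
  | _ g IH =>
  intro G _ _ hg
  classical
  -- classes outside the centre
  have hnc : ∀ (c : G), c ∉ Subgroup.center G → ∀ n : ℕ,
      Nat.gcd (Nat.card {y : G // IsConj c y} * n) (Nat.card G) ∣
        Nat.card {x : G // IsConj c (x ^ n)} := by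
    intro c hc n
    set C := Subgroup.centralizer ({c} : Set G) with hC
    have hlt : Nat.card C < g := hg ▸ (Subgroup.card_le_card_group C).lt_of_ne fun h => hc (by
      have htop : C = ⊤ := C.eq_top_of_card_eq h
      refine Subgroup.mem_center_iff.2 fun a => ?_
      exact (Subgroup.mem_centralizer_iff.1 (show a ∈ C from htop ▸ Subgroup.mem_top a) c rfl).symm)
    have hcC : c ∈ C := Subgroup.mem_centralizer_iff.2 fun b hb => by rw [Set.mem_singleton_iff.1 hb]
    have hcen : (⟨c, hcC⟩ : C) ∈ Subgroup.center C := Subgroup.mem_center_iff.2 fun a =>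
      Subtype.ext (Subgroup.mem_centralizer_iff.1 a.2 c rfl).symm
    have h := IH _ hlt C rfl ⟨c, hcC⟩ n
    have h1 : Nat.card {y : C // IsConj (⟨c, hcC⟩ : C) y} = 1 := by
      rw [Nat.card_congr (Equiv.subtypeEquivRight fun y => isConj_central hcen), Nat.card_eq_one_iff_unique]
      exact ⟨⟨fun a b => Subtype.ext (a.2.trans b.2.symm)⟩, ⟨⟨_, rfl⟩⟩⟩
    rw [h1, one_mul, Nat.card_congr (Equiv.subtypeEquivRight fun y => isConj_central hcen)] at h
    rw [count_eq_mul, ← card_class_mul c, Nat.gcd_mul_left]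
    refine Nat.mul_dvd_mul_left _ (h.trans (dvd_of_eq (Nat.card_congr
      { toFun := fun x => ⟨(x.1 : G), congrArg Subtype.val x.2⟩
        invFun := fun x => ⟨⟨x.1, ?_⟩, Subtype.ext x.2⟩
        left_inv := fun x => rfl
        right_inv := fun x => rfl })))
    refine Subgroup.mem_centralizer_iff.2 fun b hb => ?_
    rw [Set.mem_singleton_iff.1 hb]
    have h2 := ((Commute.refl x.1).pow_left n).eq
    rwa [x.2] at h2
  have hnc' : ∀ (c : G), c ∉ Subgroup.center G → ∀ n d : ℕ, d ∣ n → d ∣ Nat.card G →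
      d ∣ Nat.card {x : G // IsConj c (x ^ n)} := fun c hc n d hn hG =>
    (Nat.dvd_gcd (dvd_mul_of_dvd_right hn _) hG).trans (hnc c hc n)
  -- central classes
  have hcen : ∀ n : ℕ, ∀ c ∈ Subgroup.center G,
      Nat.gcd n (Nat.card G) ∣ Nat.card {x : G // x ^ n = c} := by
    intro n
    induction n using Nat.strong_induction_on with
    | _ n IHn =>
    intro c hc
    rcases Nat.eq_zero_or_pos n with rfl | hn
    · rw [Nat.gcd_zero_left]
      by_cases h1 : (1 : G) = c
      · exact dvd_of_eq (Nat.card_congr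
          ⟨fun a => ⟨a, by rw [pow_zero, h1]⟩, fun a => a.1, fun a => rfl, fun a => rfl⟩)
      · have : IsEmpty {x : G // x ^ 0 = c} := ⟨fun a => h1 (by rw [← a.2, pow_zero])⟩
        exact (dvd_zero _).trans (dvd_of_eq (Nat.card_eq_zero.2 (Or.inl this)).symm)
    refine (Nat.dvd_iff_prime_pow_dvd_dvd _ _).2 fun p k hp hpk => ?_
    have := Fact.mk hp
    rcases Nat.eq_zero_or_pos k with rfl | hk
    · simp
    have hkn : p ^ k ∣ n := hpk.trans (Nat.gcd_dvd_left _ _)
    have hkG : p ^ k ∣ Nat.card G := hpk.trans (Nat.gcd_dvd_right _ _)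
    rcases (Nat.le_of_dvd hn hkn).lt_or_eq with hlt | heq
    · obtain ⟨n₂, rfl⟩ := hkn
      simp only [pow_mul]
      refine dvd_count (p ^ k) {y : G | y ^ n₂ = c} (fun a b hab ha => ?_) fun y _ => ?_
      · obtain ⟨t, rfl⟩ := isConj_iff.1 hab
        change (t * a * t⁻¹) ^ n₂ = c
        rw [conj_pow, show a ^ n₂ = c from ha, Subgroup.mem_center_iff.1 hc t, mul_inv_cancel_right]
      · by_cases hy : y ∈ Subgroup.center G
        · rw [Nat.card_congr (Equiv.subtypeEquivRight fun x => isConj_central hy)]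
          exact (Nat.dvd_gcd dvd_rfl hkG).trans (IHn _ hlt y hy)
        · exact hnc' y hy _ _ dvd_rfl hkG
    subst heq
    by_cases hpc : p ∣ orderOf c
    · exact count_dvd_of_prime_dvd_order k c hpc
    -- `c` has order prime to `p`
    have hroot : ∀ a : G, a ∈ Subgroup.center G → ¬ p ∣ orderOf a →
        Nat.card {x : G // x ^ p ^ k = a} = Nat.card {x : G // x ^ p ^ k = 1} := by
      intro a ha hpa
      obtain ⟨j, hj⟩ := exists_pow_eq_self_of_coprime (x := a) (n := p ^ k)
        ((hp.coprime_iff_not_dvd.2 hpa).pow_left k)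
      rw [← pow_mul, mul_comm, pow_mul] at hj
      have hb : ∀ x : G, Commute (a ^ j) x := fun x =>
        (show Commute a x from (Subgroup.mem_center_iff.1 ha x).symm).pow_left j
      refine Nat.card_congr
        { toFun := fun x => ⟨(a ^ j)⁻¹ * x.1, by
            rw [(hb x.1).inv_left.mul_pow, inv_pow, hj, x.2, inv_mul_cancel]⟩
          invFun := fun x => ⟨a ^ j * x.1, by rw [(hb x.1).mul_pow, hj, x.2, mul_one]⟩
          left_inv := fun x => Subtype.ext (mul_inv_cancel_left _ _)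
          right_inv := fun x => Subtype.ext (inv_mul_cancel_left _ _) }
    rw [hroot c hc hpc]
    have hsum : p ^ k ∣ Nat.card {x : G // x ^ p ^ k ∈ Subgroup.center G} := by
      have h1 := dvd_count (p ^ k) ((Subgroup.center G : Set G)ᶜ) (fun a b hab ha hb => ha (by
        rwa [(isConj_central hb).1 hab.symm])) fun y hy => hnc' y hy _ _ dvd_rfl hkG
      have h2 : Nat.card {x : G // x ^ p ^ k ∈ Subgroup.center G} +
          Nat.card {x : G // x ^ p ^ k ∈ ((Subgroup.center G : Set G)ᶜ)} = Nat.card G := by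
        rw [← Nat.card_sum]
        exact Nat.card_congr (Equiv.sumCompl fun x : G => x ^ p ^ k ∈ Subgroup.center G)
      exact (Nat.dvd_add_left h1).1 (h2 ▸ hkG)
    have := Fintype.ofFinite G
    have hfib : Nat.card {x : G // x ^ p ^ k ∈ Subgroup.center G} =
        ∑ a ∈ Finset.univ.filter (fun a : G => a ∈ Subgroup.center G),
          Nat.card {x : G // x ^ p ^ k = a} := by
      rw [Nat.card_eq_fintype_card, Fintype.card_subtype,
        Finset.card_eq_sum_card_fiberwise (f := fun x => x ^ p ^ k)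
          (t := Finset.univ.filter (fun a : G => a ∈ Subgroup.center G))
          fun x hx => by simpa using hx]
      refine Finset.sum_congr rfl fun a ha => ?_
      rw [Nat.card_eq_fintype_card, Fintype.card_subtype]
      congr 1
      ext x
      simp only [Finset.mem_filter, Finset.mem_univ, true_and] at ha ⊢
      exact ⟨fun h => h.2, fun h => ⟨h ▸ ha, h⟩⟩
    rw [hfib, ← Finset.sum_filter_add_sum_filter_not _ (fun a => p ∣ orderOf a)] at hsum
    rw [Nat.dvd_add_right (Finset.dvd_sum fun a ha =>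
      count_dvd_of_prime_dvd_order k a (Finset.mem_filter.1 ha).2)] at hsum
    rw [Finset.sum_congr rfl fun a ha => hroot a (Finset.mem_filter.1 (Finset.mem_filter.1 ha).1).2
      (Finset.mem_filter.1 ha).2, Finset.sum_const, smul_eq_mul] at hsum
    refine Nat.Coprime.dvd_of_dvd_mul_left ((hp.coprime_iff_not_dvd.2 fun hdvd => ?_).pow_left k) hsum
    -- the `p'`-part of the centre
    let A : Subgroup G :=
      { carrier := {a | a ∈ Subgroup.center G ∧ ¬ p ∣ orderOf a}
        one_mem' := ⟨Subgroup.one_mem _, by rw [orderOf_one]; exact hp.not_dvd_one⟩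
        mul_mem' := fun {a b} ha hb => ⟨Subgroup.mul_mem _ ha.1 hb.1, fun h => by
          rcases hp.dvd_mul.1 (h.trans ((Commute.orderOf_mul_dvd_mul_orderOf
            (show Commute a b from (Subgroup.mem_center_iff.1 ha.1 b).symm)))) with h' | h'
          · exact ha.2 h'
          · exact hb.2 h'⟩
        inv_mem' := fun {a} ha => ⟨Subgroup.inv_mem _ ha.1, by rw [orderOf_inv]; exact ha.2⟩ }
    have hA : p ∣ Nat.card A := by
      refine hdvd.trans (dvd_of_eq ?_)
      rw [Nat.card_eq_fintype_card, Fintype.card_subtype, Finset.filter_filter]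
      congr 1
      ext a
      simp only [Finset.mem_filter, Finset.mem_univ, true_and]
      rfl
    obtain ⟨a, ha⟩ := exists_prime_orderOf_dvd_card' p hA
    exact a.2.2 (by rw [Subgroup.orderOf_coe, ha])
  intro c n
  by_cases hc : c ∈ Subgroup.center G
  · have h1 : Nat.card {y : G // IsConj c y} = 1 := by
      rw [Nat.card_congr (Equiv.subtypeEquivRight fun y => isConj_central hc), Nat.card_eq_one_iff_unique]
      exact ⟨⟨fun a b => Subtype.ext (a.2.trans b.2.symm)⟩, ⟨⟨_, rfl⟩⟩⟩
    rw [h1, one_mul, Nat.card_congr (Equiv.subtypeEquivRight fun y => isConj_central hc)]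
    exact hcen n c hc
  · exact hnc c hc n

end Cfsg.Agent.FrobeniusCount
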