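import Mathlib.FieldTheory.Galois.NormalBasis
import Mathlib.RepresentationTheory.Basic
import Mathlib.Algebra.Module.ZMod
import Mathlib.LinearAlgebra.DirectSum.Finite
import Cfsg.Agent.Lib.Solvable.Fitting
import Cfsg.Prelude.Def_Solvable

/-!
Modules for a Frobenius group whose kernel has no fixed vector are free over the complement.
-/

set_option autoImplicit false
set_option linter.style.haveILetI false
set_option linter.unusedSectionVars false

open Module

universe u v w z

namespace Cfsg.Agent.FrobeniusFree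

open Cfsg.Agent

variable {k : Type z} [Field k] {H : Type w} [Group H] [Finite H]

/-- A representation is free: some subspace has translates spanning with the least dimension. -/
def Free {V : Type v} [AddCommGroup V] [Module k V] (σ : H →* Module.End k V) : Prop :=
  ∃ W : Submodule k V, (⨆ h, W.map (σ h)) = ⊤ ∧ Nat.card H * finrank k W ≤ finrank k V

section Extension

variable {V : Type v} [AddCommGroup V] [Module k V] [FiniteDimensional k V]

theorem free_of_subspace (σ : H →* Module.End k V) (U : Submodule k V) (hU : ∀ h, ∀ u ∈ U, σ h u ∈ U)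
    (σU : H →* Module.End k U) (σQ : H →* Module.End k (V ⧸ U))
    (hσU : ∀ h (u : U), ((σU h u : U) : V) = σ h u)
    (hσQ : ∀ h (x : V), σQ h (Submodule.Quotient.mk x) = Submodule.Quotient.mk (σ h x))
    (h₁ : Free σU) (h₂ : Free σQ) : Free σ := by
  classical
  obtain ⟨W₁, hs₁, hd₁⟩ := h₁
  obtain ⟨W₂, hs₂, hd₂⟩ := h₂
  obtain ⟨g, hg⟩ := U.mkQ.exists_rightInverse_of_surjective (Submodule.range_mkQ U)
  refine ⟨W₁.map U.subtype ⊔ W₂.map g, ?_, ?_⟩
  · set T := ⨆ h, (W₁.map U.subtype ⊔ W₂.map g).map (σ h) with hT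
    have hTmem : ∀ h, ∀ x ∈ W₁.map U.subtype ⊔ W₂.map g, σ h x ∈ T := fun h x hx =>
      le_iSup (fun h => (W₁.map U.subtype ⊔ W₂.map g).map (σ h)) h (Submodule.mem_map_of_mem hx)
    have hUT : U ≤ T := fun u hu => by
      have h1 : (⟨u, hu⟩ : U) ∈ T.comap U.subtype := by
        have hle : (⨆ h, W₁.map (σU h)) ≤ T.comap U.subtype := iSup_le fun h => by
          rintro _ ⟨w, hw, rfl⟩
          show ((σU h w : U) : V) ∈ T
          rw [hσU]
          exact hTmem h _ (Submodule.mem_sup_left ⟨w, hw, rfl⟩)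
        exact hle (hs₁ ▸ Submodule.mem_top)
      exact h1
    refine eq_top_iff.2 fun x _ => ?_
    have h2 : Submodule.Quotient.mk x ∈ T.map U.mkQ := by
      have hle : (⨆ h, W₂.map (σQ h)) ≤ T.map U.mkQ := iSup_le fun h => by
        rintro _ ⟨w, hw, rfl⟩
        refine ⟨σ h (g w), hTmem h _ (Submodule.mem_sup_right ⟨w, hw, rfl⟩), ?_⟩
        rw [Submodule.mkQ_apply, ← hσQ]
        exact congrArg (σQ h) (LinearMap.congr_fun hg w)
      exact hle (hs₂ ▸ Submodule.mem_top)
    obtain ⟨t, ht, hte⟩ := h2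
    rw [Submodule.mkQ_apply, Submodule.Quotient.eq] at hte
    rw [show x = t - (t - x) by abel]
    exact T.sub_mem ht (hUT hte)
  · have h1 := Submodule.finrank_add_le_finrank_add_finrank (W₁.map U.subtype) (W₂.map g)
    have h2 : finrank k (W₁.map U.subtype) ≤ finrank k W₁ := Submodule.finrank_map_le _ _
    have h3 : finrank k (W₂.map g) ≤ finrank k W₂ := Submodule.finrank_map_le _ _
    rw [← Submodule.finrank_quotient_add_finrank U]
    calc Nat.card H * finrank k ↥(W₁.map U.subtype ⊔ W₂.map g)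
        ≤ Nat.card H * (finrank k W₁ + finrank k W₂) := Nat.mul_le_mul_left _ (by omega)
      _ ≤ _ := by rw [mul_add]; omega

end Extension

section Algebra

variable {B : Type v} [CommRing B] [Algebra k B] [FiniteDimensional k B]

set_option maxHeartbeats 1600000 in
/-- Normal bases for algebras with a free group of automorphisms. -/
theorem exists_normal (σ : H →* (B ≃ₐ[k] B)) [Nontrivial B]
    (hid : ∀ I : Ideal B, (∀ h, ∀ b ∈ I, σ h b ∈ I) → I = ⊥ ∨ I = ⊤)
    (hfree : ∀ h, h ≠ 1 → ∀ M : Ideal B, M.IsMaximal → ∃ b, σ h b - b ∉ M) :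
    ∃ W : Submodule k B, (⨆ h, W.map (σ h).toLinearMap) = ⊤ ∧
      Nat.card H * finrank k W ≤ finrank k B := by
  classical
  have := Fintype.ofFinite H
  obtain ⟨M, hM⟩ := Ideal.exists_maximal B
  have hmul : ∀ g h b, σ (g * h) b = σ g (σ h b) := fun g h b => by rw [map_mul]; rfl
  have hone : ∀ b, σ 1 b = b := fun b => by rw [map_one]; rfl
  let S : Subgroup H :=
    { carrier := {h | ∀ b, σ h b ∈ M ↔ b ∈ M}
      one_mem' := fun b => by rw [hone]
      mul_mem' := fun {g h} hg hh b => by rw [hmul]; exact (hg _).trans (hh b)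
      inv_mem' := fun {g} hg b => by
        rw [← hg (σ g⁻¹ b), ← hmul, mul_inv_cancel, hone] }
  -- the translates of `M`
  let T : H → Ideal B := fun h => M.comap (σ h : B →+* B)
  have hTmax : ∀ h, (T h).IsMaximal := fun h =>
    Ideal.comap_isMaximal_of_surjective (σ h : B →+* B) (σ h).surjective
  have hTne : ∀ h, h ∉ S → T h ≠ M := fun h hh he => hh fun b => (SetLike.ext_iff.1 he b)
  set J : Ideal B := ⨅ h ∈ Finset.univ.filter (fun h => h ∉ S), T h with hJ
  have hJmem : ∀ b, b ∈ J ↔ ∀ h, h ∉ S → σ h b ∈ M := fun b => by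
    simp [hJ, T, Submodule.mem_iInf]
  have hJM : ¬ J ≤ M := by
    intro hle
    have hprime := hM.isPrime
    have h2 : ∏ h ∈ Finset.univ.filter (fun h => h ∉ S), T h ≤ M := by
      refine le_trans ?_ hle
      rw [hJ]
      refine le_iInf₂ fun h hh => ?_
      exact Ideal.prod_le_inf.trans (Finset.inf_le hh)
    obtain ⟨h, hh, hle'⟩ := (Ideal.IsPrime.prod_le hprime).1 h2
    exact hTne h (Finset.mem_filter.1 hh).2 ((hTmax h).eq_of_le hM.ne_top hle')
  have hJS : ∀ s ∈ S, ∀ b ∈ J, σ s b ∈ J := fun s hs b hb => (hJmem _).2 fun h hh => by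
    rw [← hmul]
    exact (hJmem b).1 hb (h * s) fun hhs => hh (by simpa using S.mul_mem hhs (S.inv_mem hs))
  have hinf : ∀ b, (∀ h, σ h b ∈ M) → b = 0 := by
    intro b hb
    have h1 : (⨅ h, T h) = ⊥ := by
      refine (hid _ fun g x hx => ?_).resolve_right fun htop => hM.ne_top ?_
      · simp only [Submodule.mem_iInf, T, Ideal.mem_comap] at hx ⊢
        intro h
        have := hx (h * g)
        rwa [show (σ (h * g) : B →+* B) x = σ h (σ g x) from hmul h g x] at this
      · have := (htop.ge.trans (iInf_le T 1) : ⊤ ≤ T 1)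
        refine eq_top_iff.2 fun x _ => ?_
        have h2 : σ 1 x ∈ M := this Submodule.mem_top
        rwa [hone] at h2
    have h2 : b ∈ ⨅ h, T h := Submodule.mem_iInf _ |>.2 fun h => hb h
    rwa [h1, Ideal.mem_bot] at h2
  have hJinf : ∀ b ∈ J, b ∈ M → b = 0 := fun b hb hbM => hinf b fun h => by
    by_cases hh : h ∈ S
    · exact (hh b).2 hbM
    · exact (hJmem b).1 hb h hh
  -- the residue field
  letI : Field (B ⧸ M) := Ideal.Quotient.field M
  let π : B →ₐ[k] B ⧸ M := Ideal.Quotient.mkₐ k M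
  have hπ : ∀ b, π b = 0 ↔ b ∈ M := fun b => Ideal.Quotient.eq_zero_iff_mem
  have hπs : ∀ x, ∃ b ∈ J, π b = x := by
    intro x
    obtain ⟨b, rfl⟩ := Ideal.Quotient.mk_surjective x
    obtain ⟨j, hj, hjM⟩ := SetLike.not_le_iff_exists.1 hJM
    have hj0 : π j ≠ 0 := fun h => hjM ((hπ j).1 h)
    obtain ⟨i, hi⟩ := Ideal.Quotient.mk_surjective ((π j)⁻¹)
    refine ⟨b * i * j, J.mul_mem_left _ hj, ?_⟩
    show π (b * i * j) = π b
    rw [map_mul, map_mul, show π i = (π j)⁻¹ from hi, mul_assoc, inv_mul_cancel₀ hj0, mul_one]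
  have hmap : ∀ s : S, M = M.map ((σ (s : H)).toRingEquiv : B →+* B) := fun s => by
    refine le_antisymm (fun b hb => ?_) (Ideal.map_le_iff_le_comap.2 fun b hb => (s.2 b).2 hb)
    have h1 : σ (s : H)⁻¹ b ∈ M := ((S.inv_mem s.2) b).2 hb
    have h2 := Ideal.mem_map_of_mem ((σ (s : H)).toRingEquiv : B →+* B) h1
    rwa [show ((σ (s : H)).toRingEquiv : B →+* B) (σ (s : H)⁻¹ b) = b from
      (hmul s (s : H)⁻¹ b).symm.trans (by rw [mul_inv_cancel, hone])] at h2
  let act : S →* (B ⧸ M ≃+* B ⧸ M) :=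
    { toFun := fun s => Ideal.quotientEquiv M M (σ (s : H)).toRingEquiv (hmap s)
      map_one' := RingEquiv.ext fun x => by
        obtain ⟨b, rfl⟩ := Ideal.Quotient.mk_surjective x
        show Ideal.Quotient.mk M (σ ((1 : S) : H) b) = _
        rw [OneMemClass.coe_one, hone]
        rfl
      map_mul' := fun s t => RingEquiv.ext fun x => by
        obtain ⟨b, rfl⟩ := Ideal.Quotient.mk_surjective x
        show Ideal.Quotient.mk M (σ ((s * t : S) : H) b) = _
        rw [Subgroup.coe_mul, hmul]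
        rfl }
  letI : MulSemiringAction S (B ⧸ M) := MulSemiringAction.compHom (B ⧸ M) act
  have hsmul : ∀ (s : S) (b : B), s • π b = π (σ (s : H) b) := fun s b => rfl
  haveI : FaithfulSMul S (B ⧸ M) := by
    refine ⟨fun {s t} hst => ?_⟩
    by_contra hne
    obtain ⟨b, hb⟩ := hfree ((s⁻¹ * t : S) : H) (fun h => hne (inv_mul_eq_one.1 (Subtype.ext h))) M hM
    apply hb
    rw [← hπ, map_sub, ← hsmul, mul_smul, ← hst, inv_smul_smul, sub_self]
  let K := FixedPoints.subfield S (B ⧸ M)
  obtain ⟨ℓ, hℓ⟩ := exists_linearIndependent_algEquiv_apply K (B ⧸ M)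
  have hbij := FixedPoints.toAlgAut_bijective S (B ⧸ M)
  have hli : LinearIndependent K fun s : S => s • ℓ := by
    have h := hℓ.comp (fun s : S => MulSemiringAction.toAlgAut S K (B ⧸ M) s) hbij.1
    exact h
  have hcard : Fintype.card S = finrank K (B ⧸ M) := (FixedPoints.finrank_eq_card S (B ⧸ M)).symm
  have hspan := hli.span_eq_top_of_card_eq_finrank hcard
  have hfixk : ∀ (c : k) (s : S), s • algebraMap k (B ⧸ M) c = algebraMap k (B ⧸ M) c := fun c s => by
    rw [show algebraMap k (B ⧸ M) c = π (algebraMap k B c) from (π.commutes c).symm, hsmul, AlgEquiv.commutes]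
  let W : Submodule k B :=
    { carrier := {b | b ∈ J ∧ ∃ x : K, π b = (x : B ⧸ M) * ℓ}
      add_mem' := fun {a b} ⟨ha, x, hx⟩ ⟨hb, y, hy⟩ => ⟨J.add_mem ha hb, x + y, by
        rw [map_add, hx, hy]; push_cast; rw [add_mul]⟩
      zero_mem' := ⟨J.zero_mem, 0, by rw [map_zero]; simp⟩
      smul_mem' := fun c a ⟨ha, x, hx⟩ => ⟨by rw [Algebra.smul_def]; exact J.mul_mem_left _ ha,
        ⟨algebraMap k (B ⧸ M) c * x, fun s => by rw [smul_mul', hfixk, x.2 s]⟩, by
          rw [map_smul, hx, Algebra.smul_def, mul_assoc]⟩ }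
  have hact : ∀ (s : S) (b : B) (x : K), π b = (x : B ⧸ M) * ℓ →
      π (σ (s : H) b) = x • (s • ℓ) := fun s b x hx => by
    rw [← hsmul, hx, smul_mul', x.2 s]
    rfl
  refine ⟨W, ?_, ?_⟩
  · set T' : Submodule k B := ⨆ h, W.map (σ h).toLinearMap with hT'
    have hWT : ∀ h, ∀ b ∈ W, σ h b ∈ T' := fun h b hb =>
      le_iSup (fun h => W.map (σ h).toLinearMap) h ⟨b, hb, rfl⟩
    have hT'σ : ∀ g, ∀ b ∈ T', σ g b ∈ T' := by
      intro g b hb
      have hle : T' ≤ T'.comap (σ g).toLinearMap := iSup_le fun h => by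
        rintro _ ⟨x, hx, rfl⟩
        show σ g (σ h x) ∈ T'
        rw [← hmul]
        exact hWT _ x hx
      exact hle hb
    have hJT : ∀ b ∈ J, b ∈ T' := by
      intro b hb
      obtain ⟨c, hc⟩ := (Submodule.mem_span_range_iff_exists_fun K).1
        (hspan.ge (Submodule.mem_top : π b ∈ ⊤))
      choose w hw hwe using fun s : S => hπs ((c s : B ⧸ M) * ℓ)
      have h1 : b - ∑ s : S, σ (s : H) (w s) = 0 := by
        refine hJinf _ (J.sub_mem hb (J.sum_mem fun s _ => hJS _ s.2 _ (hw s))) ((hπ _).1 ?_)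
        rw [map_sub, map_sum, sub_eq_zero, ← hc]
        exact Finset.sum_congr rfl fun s _ => (hact s (w s) (c s) (hwe s)).symm
      rw [sub_eq_zero.1 h1]
      exact Submodule.sum_mem _ fun s _ => hWT _ _ ⟨hw s, c s, hwe s⟩
    let I : Ideal B :=
      { carrier := {x | ∀ b : B, b * x ∈ T'}
        add_mem' := fun {x y} hx hy b => by rw [mul_add]; exact T'.add_mem (hx b) (hy b)
        zero_mem' := fun b => by rw [mul_zero]; exact T'.zero_mem
        smul_mem' := fun c x hx b => by rw [smul_eq_mul, ← mul_assoc]; exact hx _ }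
    have hI : I = ⊤ := by
      refine (hid I fun g x hx b => ?_).resolve_left fun hbot => hJM ?_
      · have h1 := hT'σ g _ (hx (σ g⁻¹ b))
        rwa [map_mul, ← hmul, mul_inv_cancel, hone] at h1
      · intro j hj
        have : j ∈ I := fun b => hJT _ (J.mul_mem_left b hj)
        rw [hbot, Ideal.mem_bot] at this
        rw [this]; exact M.zero_mem
    refine eq_top_iff.2 fun x _ => ?_
    simpa using (hI.ge Submodule.mem_top : (1 : B) ∈ I) x
  · let Ψ : (H → W) →ₗ[k] B := ∑ h : H, (σ h).toLinearMap ∘ₗ W.subtype ∘ₗ LinearMap.proj h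
    have hΨ : Function.Injective Ψ := by
      rw [← LinearMap.ker_eq_bot, LinearMap.ker_eq_bot']
      intro f hf
      have hf' : ∑ h : H, σ h (f h : B) = 0 := by simpa [Ψ, LinearMap.sum_apply] using hf
      funext g
      choose x hx using fun h => (f h).2.2
      have h1 : ∑ h : H, π (σ (g⁻¹ * h) (f h : B)) = 0 := by
        rw [← map_sum]
        simp only [hmul]
        rw [← map_sum, hf', map_zero, map_zero]
      rw [← Equiv.sum_comp (Equiv.mulLeft g)] at h1
      simp only [Equiv.coe_mulLeft, inv_mul_cancel_left] at h1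
      rw [← Finset.sum_subset (Finset.subset_univ (Finset.univ.filter fun h => h ∈ S)) (fun h _ hh =>
        (hπ _).2 ((hJmem _).1 (f (g * h)).2.1 h (by simpa using hh)))] at h1
      rw [Finset.sum_subtype (Finset.univ.filter fun h => h ∈ S) (p := fun h => h ∈ S) (by simp)] at h1
      rw [Finset.sum_congr rfl fun s _ => hact s _ (x (g * (s : H))) (hx _)] at h1
      have h2 := Fintype.linearIndependent_iff.1 hli _ h1 1
      rw [OneMemClass.coe_one, mul_one] at h2
      have h3 := hx g
      rw [h2, ZeroMemClass.coe_zero, zero_mul] at h3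
      exact Subtype.ext (hJinf _ (f g).2.1 ((hπ _).1 h3))
    calc Nat.card H * finrank k W = finrank k (H → W) := by
          rw [Module.finrank_pi_fintype, Finset.sum_const, Finset.card_univ, smul_eq_mul,
            Nat.card_eq_fintype_card]
      _ ≤ finrank k B := LinearMap.finrank_le_finrank_of_injective hΨ

end Algebra

section Abelian

variable {A : Type u} [CommGroup A] [Finite A]

theorem irreducible_free {V : Type v} [AddCommGroup V] [Module k V] [FiniteDimensional k V]
    [Nontrivial V] (τ : A →* Module.End k V) (σ : H →* Module.End k V) (θ : H →* MulAut A)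
    (hcomp : ∀ h a, σ h * τ a = τ (θ h a) * σ h) (hfpf : ∀ h, h ≠ 1 → ∀ a, θ h a = a → a = 1)
    (hA : (Nat.card A : k) ≠ 0) (hfix : ∀ x, (∀ a, τ a x = x) → x = 0)
    (hirr : ∀ U : Submodule k V, (∀ a, ∀ x ∈ U, τ a x ∈ U) → (∀ h, ∀ x ∈ U, σ h x ∈ U) →
      U = ⊥ ∨ U = ⊤) : Free σ := by
  classical
  have := Fintype.ofFinite A
  have := Fintype.ofFinite H
  have hbij : ∀ h, h ≠ 1 → Function.Bijective fun a : A => a⁻¹ * θ h a := fun h hh => by
    refine (Finite.injective_iff_bijective).1 fun a b hab => ?_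
    have h1 : θ h (b * a⁻¹) = b * a⁻¹ := by
      rw [map_mul, map_inv]
      have h2 : θ h b = b * (a⁻¹ * θ h a) := by
        rw [show a⁻¹ * θ h a = b⁻¹ * θ h b from hab, mul_inv_cancel_left]
      rw [h2]
      group
    exact (mul_inv_eq_one.1 (hfpf h hh _ h1)).symm
  have hsum : (∑ a : A, τ a) = 0 := LinearMap.ext fun x => hfix _ fun b => by
    rw [← Module.End.mul_apply, Finset.mul_sum]
    simp only [← map_mul]
    exact LinearMap.congr_fun (Equiv.sum_comp (Equiv.mulLeft b) fun a => τ a) x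
  -- a fixed vector
  obtain ⟨x₀, hx₀⟩ : ∃ x, (∑ h : H, σ h) x ≠ 0 := by
    by_contra hcon
    push Not at hcon
    have hz : (∑ h : H, σ h) = 0 := LinearMap.ext hcon
    have h1 : ∀ a : A, ∑ h : H, τ (a⁻¹ * θ h a) * σ h = 0 := fun a => by
      simp only [map_mul, mul_assoc, ← hcomp, ← Finset.mul_sum, ← Finset.sum_mul, hz]
      simp
    have h2 : (∑ a : A, ∑ h : H, τ (a⁻¹ * θ h a) * σ h) = (Fintype.card A : k) • 1 := by
      rw [Finset.sum_comm, Finset.sum_eq_single (1 : H)]
      · simp [Finset.sum_const, Nat.cast_smul_eq_nsmul]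
      · intro h _ hh
        rw [← Finset.sum_mul, (hbij h hh).sum_comp fun a => τ a, hsum, zero_mul]
      · exact fun h => absurd (Finset.mem_univ _) h
    rw [Finset.sum_eq_zero fun a _ => h1 a] at h2
    obtain ⟨x, hx⟩ := exists_ne (0 : V)
    have h3 := LinearMap.congr_fun h2.symm x
    simp only [LinearMap.smul_apply, Module.End.one_apply, LinearMap.zero_apply, smul_eq_zero] at h3
    rw [← Nat.card_eq_fintype_card] at h3
    exact h3.elim hA hx
  set v₀ := (∑ h : H, σ h) x₀ with hv₀
  have hv₀fix : ∀ g, σ g v₀ = v₀ := fun g => by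
    rw [hv₀, ← Module.End.mul_apply, Finset.mul_sum]
    simp only [← map_mul]
    exact LinearMap.congr_fun (Equiv.sum_comp (Equiv.mulLeft g) fun h => σ h) x₀
  -- the algebra generated by `A`
  let Bs : Subalgebra k (Module.End k V) := Algebra.adjoin k (Set.range τ)
  letI : CommRing Bs :=
    { (inferInstance : Ring Bs) with
      mul_comm := fun a b => Subtype.ext (by
        have hmem := Algebra.commute_of_mem_adjoin_of_forall_mem_commute (R := k) (s := Set.range τ)
          (a := (a : Module.End k V)) (b := (b : Module.End k V)) b.2 fun c hc => by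
            refine (Algebra.commute_of_mem_adjoin_of_forall_mem_commute (R := k) (s := Set.range τ)
              (a := c) (b := (a : Module.End k V)) a.2 fun d hd => ?_).symm
            obtain ⟨i, rfl⟩ := hc
            obtain ⟨j, rfl⟩ := hd
            exact Commute.map (mul_comm i j) τ
        exact hmem.eq) }
  have hτB : ∀ a, τ a ∈ Bs := fun a => Algebra.subset_adjoin ⟨a, rfl⟩
  have hσσ : ∀ g, σ g * σ g⁻¹ = 1 := fun g => by rw [← map_mul, mul_inv_cancel, map_one]
  have hσσ' : ∀ g, σ g⁻¹ * σ g = 1 := fun g => by rw [← map_mul, inv_mul_cancel, map_one]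
  have hconj : ∀ g, ∀ b ∈ Bs, σ g * b * σ g⁻¹ ∈ Bs := by
    intro g b hb
    induction hb using Algebra.adjoin_induction with
    | mem x hx =>
      obtain ⟨a, rfl⟩ := hx
      rw [hcomp, mul_assoc, hσσ, mul_one]
      exact hτB _
    | algebraMap r =>
      rw [← Algebra.commutes, mul_assoc, hσσ, mul_one]
      exact Bs.algebraMap_mem r
    | add x y _ _ hx hy => rw [mul_add, add_mul]; exact Bs.add_mem hx hy
    | mul x y _ _ hx hy =>
      rw [show σ g * (x * y) * σ g⁻¹ = σ g * x * (σ g⁻¹ * σ g) * (y * σ g⁻¹) by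
        rw [hσσ', mul_one]; simp only [mul_assoc]]
      rw [show σ g * x * (σ g⁻¹ * σ g) * (y * σ g⁻¹) = (σ g * x * σ g⁻¹) * (σ g * y * σ g⁻¹) by
        simp only [mul_assoc]]
      exact Bs.mul_mem hx hy
  let cj : H → (Bs →ₗ[k] Bs) := fun g =>
    { toFun := fun b => ⟨σ g * b * σ g⁻¹, hconj g b b.2⟩
      map_add' := fun a b => Subtype.ext (by push_cast; rw [mul_add, add_mul])
      map_smul' := fun r a => Subtype.ext (by simp) }
  have hcjmul : ∀ g a b, cj g (a * b) = cj g a * cj g b := fun g a b => Subtype.ext (by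
    show σ g * ((a : Module.End k V) * b) * σ g⁻¹ = σ g * a * σ g⁻¹ * (σ g * b * σ g⁻¹)
    rw [show σ g * (a : Module.End k V) * σ g⁻¹ * (σ g * b * σ g⁻¹) =
      σ g * a * (σ g⁻¹ * σ g) * (b * σ g⁻¹) by simp only [mul_assoc], hσσ', mul_one]
    simp only [mul_assoc])
  have hcjcomp : ∀ g h b, cj g (cj h b) = cj (g * h) b := fun g h b => Subtype.ext (by
    show σ g * (σ h * b * σ h⁻¹) * σ g⁻¹ = σ (g * h) * b * σ (g * h)⁻¹
    rw [mul_inv_rev, map_mul, map_mul]
    simp only [mul_assoc])
  have hcjone : ∀ b, cj 1 b = b := fun b => Subtype.ext (by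
    show σ 1 * b * σ 1⁻¹ = (b : Module.End k V)
    rw [inv_one, map_one, one_mul, mul_one])
  let e : H → (Bs ≃ₐ[k] Bs) := fun g =>
    AlgEquiv.ofLinearEquiv
      (LinearEquiv.ofLinear (cj g) (cj g⁻¹)
        (LinearMap.ext fun b => by simp [hcjcomp, hcjone])
        (LinearMap.ext fun b => by simp [hcjcomp, hcjone]))
      (Subtype.ext (by show σ g * 1 * σ g⁻¹ = 1; rw [mul_one, hσσ])) (hcjmul g)
  let E : H →* (Bs ≃ₐ[k] Bs) :=
    { toFun := e
      map_one' := AlgEquiv.ext hcjone
      map_mul' := fun g h => AlgEquiv.ext fun b => (hcjcomp g h b).symm }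
  let φ : Bs →ₗ[k] V := (LinearMap.applyₗ v₀).comp Bs.val.toLinearMap
  have hφ : ∀ b : Bs, φ b = (b : Module.End k V) v₀ := fun b => rfl
  have hφσ : ∀ g b, φ (E g b) = σ g (φ b) := fun g b => by
    show (σ g * (b : Module.End k V) * σ g⁻¹) v₀ = σ g ((b : Module.End k V) v₀)
    rw [Module.End.mul_apply, Module.End.mul_apply, hv₀fix]
  have hφτ : ∀ a b, τ a (φ b) = φ (⟨τ a, hτB a⟩ * b) := fun a b => rfl
  have himage : ∀ I : Ideal Bs, (∀ g, ∀ b ∈ I, E g b ∈ I) →
      (I.restrictScalars k).map φ = ⊥ ∨ (I.restrictScalars k).map φ = ⊤ := by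
    intro I hI
    refine hirr _ ?_ ?_
    · rintro a _ ⟨b, hb, rfl⟩
      exact ⟨_, I.mul_mem_left ⟨τ a, hτB a⟩ hb, (hφτ a b).symm⟩
    · rintro g _ ⟨b, hb, rfl⟩
      exact ⟨E g b, hI g b hb, hφσ g b⟩
  have hsurj : LinearMap.range φ = ⊤ := by
    rw [← Submodule.map_top, ← Submodule.restrictScalars_top k Bs Bs]
    refine (himage ⊤ fun g b _ => Submodule.mem_top).resolve_left fun h => hx₀ ?_
    have h1 : φ 1 ∈ (⊥ : Submodule k V) := h ▸ Submodule.mem_map_of_mem (Submodule.mem_top)
    simpa [hφ] using h1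
  have hinj : Function.Injective φ := by
    rw [← LinearMap.ker_eq_bot, LinearMap.ker_eq_bot']
    intro b hb
    refine Subtype.ext (LinearMap.ext fun x => ?_)
    obtain ⟨c, rfl⟩ : x ∈ LinearMap.range φ := hsurj ▸ Submodule.mem_top
    rw [hφ, ← Module.End.mul_apply, show (b : Module.End k V) * c = c * b from
      congrArg Subtype.val (mul_comm b c), Module.End.mul_apply, ← hφ, hb, map_zero]
    rfl
  haveI : Nontrivial Bs := ⟨⟨0, 1, fun h => by
    obtain ⟨x, hx⟩ := exists_ne (0 : V)
    exact hx (LinearMap.congr_fun (congrArg Subtype.val h) x).symm⟩⟩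
  haveI : FiniteDimensional k Bs := FiniteDimensional.of_injective φ hinj
  obtain ⟨W, hW1, hW2⟩ := exists_normal E
    (fun I hI => by
      rcases himage I hI with h | h
      · left
        refine (Submodule.eq_bot_iff _).2 fun b hb => hinj ?_
        rw [map_zero]
        exact (Submodule.mem_bot k).1 (h ▸ Submodule.mem_map_of_mem hb)
      · right
        refine eq_top_iff.2 fun b _ => ?_
        obtain ⟨c, hc, hce⟩ := h.ge (Submodule.mem_top : φ b ∈ ⊤)
        exact hinj hce ▸ hc)
    (fun g hg M hM => by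
      by_contra hcon
      push Not at hcon
      have hc : ∀ c : A, (⟨τ c, hτB c⟩ : Bs) - 1 ∈ M := fun c => by
        obtain ⟨a, rfl⟩ := (hbij g hg).2 c
        have h1 := M.mul_mem_left ⟨τ a⁻¹, hτB a⁻¹⟩ (hcon ⟨τ a, hτB a⟩)
        have h2 : (⟨τ a⁻¹, hτB a⁻¹⟩ : Bs) * (E g ⟨τ a, hτB a⟩ - ⟨τ a, hτB a⟩) =
            ⟨τ (a⁻¹ * θ g a), hτB _⟩ - 1 := Subtype.ext (by
          show τ a⁻¹ * (σ g * τ a * σ g⁻¹ - τ a) = τ (a⁻¹ * θ g a) - 1
          rw [hcomp, mul_assoc (τ (θ g a)), hσσ, mul_one, mul_sub, ← map_mul, ← map_mul, inv_mul_cancel,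
            map_one])
        rwa [h2] at h1
      have h3 : (∑ c : A, ((⟨τ c, hτB c⟩ : Bs) - 1)) ∈ M := M.sum_mem fun c _ => hc c
      have h4 : (∑ c : A, ((⟨τ c, hτB c⟩ : Bs) - 1)) = -(algebraMap k Bs (Nat.card A : k)) := by
        refine Subtype.ext ?_
        simp [Finset.sum_sub_distrib, hsum, Nat.card_eq_fintype_card]
      rw [h4, Ideal.neg_mem_iff] at h3
      exact hM.ne_top (Ideal.eq_top_of_isUnit_mem _ h3 ((Ne.isUnit hA).map _)))
  refine ⟨W.map φ, ?_, ?_⟩
  · rw [← hsurj, ← Submodule.map_top φ, ← hW1, Submodule.map_iSup]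
    refine iSup_congr fun g => ?_
    rw [← Submodule.map_comp, ← Submodule.map_comp]
    exact congrArg (fun f => W.map f) (LinearMap.ext fun b => (hφσ g b).symm)
  · calc Nat.card H * finrank k (W.map φ) ≤ Nat.card H * finrank k W :=
          Nat.mul_le_mul_left _ (Submodule.finrank_map_le _ _)
      _ ≤ finrank k Bs := hW2
      _ ≤ finrank k V := LinearMap.finrank_le_finrank_of_injective hinj

/-- Free action for an abelian kernel. -/
theorem abelian_free : ∀ (n : ℕ) (V : Type v) [AddCommGroup V] [Module k V] [FiniteDimensional k V],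
    finrank k V = n → ∀ (τ : A →* Module.End k V) (σ : H →* Module.End k V) (θ : H →* MulAut A),
    (∀ h a, σ h * τ a = τ (θ h a) * σ h) → (∀ h, h ≠ 1 → ∀ a, θ h a = a → a = 1) →
    (Nat.card A : k) ≠ 0 → (∀ x, (∀ a, τ a x = x) → x = 0) → Free σ := by
  intro n
  induction n using Nat.strong_induction_on with
  | _ n IH =>
  intro V _ _ _ hn τ σ θ hcomp hfpf hA hfix
  rcases subsingleton_or_nontrivial V with hV | hV
  · exact ⟨⊥, Subsingleton.elim _ _, by simp⟩
  by_cases hirr : ∀ U : Submodule k V, (∀ a, ∀ x ∈ U, τ a x ∈ U) → (∀ h, ∀ x ∈ U, σ h x ∈ U) →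
      U = ⊥ ∨ U = ⊤
  · exact irreducible_free τ σ θ hcomp hfpf hA hfix hirr
  push Not at hirr
  obtain ⟨U, hτU, hσU, hU0, hU1⟩ := hirr
  let τ₁ : A →* Module.End k U :=
    { toFun := fun a => (τ a).restrict (hτU a)
      map_one' := LinearMap.ext fun x => Subtype.ext (by simp)
      map_mul' := fun a b => LinearMap.ext fun x => Subtype.ext (by simp) }
  let σ₁ : H →* Module.End k U :=
    { toFun := fun a => (σ a).restrict (hσU a)
      map_one' := LinearMap.ext fun x => Subtype.ext (by simp)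
      map_mul' := fun a b => LinearMap.ext fun x => Subtype.ext (by simp) }
  let τ₂ : A →* Module.End k (V ⧸ U) :=
    { toFun := fun a => U.mapQ U (τ a) (fun x hx => hτU a x hx)
      map_one' := Submodule.linearMap_qext _ (LinearMap.ext fun x => by simp)
      map_mul' := fun a b => Submodule.linearMap_qext _ (LinearMap.ext fun x => by simp) }
  let σ₂ : H →* Module.End k (V ⧸ U) :=
    { toFun := fun a => U.mapQ U (σ a) (fun x hx => hσU a x hx)
      map_one' := Submodule.linearMap_qext _ (LinearMap.ext fun x => by simp)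
      map_mul' := fun a b => Submodule.linearMap_qext _ (LinearMap.ext fun x => by simp) }
  have hlt : finrank k U < n := hn ▸ Submodule.finrank_lt hU1
  have hlt2 : finrank k (V ⧸ U) < n := by
    have h1 := Submodule.finrank_quotient_add_finrank U
    have h2 : finrank k U ≠ 0 := fun h => hU0 (Submodule.finrank_eq_zero.1 h)
    omega
  refine free_of_subspace σ U hσU σ₁ σ₂ (fun _ _ => rfl) (fun _ _ => rfl)
    (IH _ hlt U rfl τ₁ σ₁ θ
      (fun h a => LinearMap.ext fun x => Subtype.ext (LinearMap.congr_fun (hcomp h a) (x : V)))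
      hfpf hA (fun x hx => Subtype.ext (hfix _ fun a => congrArg Subtype.val (hx a))))
    (IH _ hlt2 (V ⧸ U) rfl τ₂ σ₂ θ
      (fun h a => Submodule.linearMap_qext _ (LinearMap.ext fun x =>
        congrArg Submodule.Quotient.mk (LinearMap.congr_fun (hcomp h a) x)))
      hfpf hA ?_)
  intro y hy
  obtain ⟨x, rfl⟩ := Submodule.Quotient.mk_surjective U y
  have := Fintype.ofFinite A
  have h1 : ∀ a, τ a x - x ∈ U := fun a => (Submodule.Quotient.eq U).1 (hy a)
  have h2 : (∑ a : A, τ a x) = 0 := hfix _ fun b => by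
    rw [map_sum]
    simp only [← Module.End.mul_apply, ← map_mul]
    exact Equiv.sum_comp (Equiv.mulLeft b) fun a => τ a x
  have h3 : (∑ a : A, (τ a x - x)) ∈ U := U.sum_mem fun a _ => h1 a
  rw [Finset.sum_sub_distrib, h2, zero_sub, Finset.sum_const, Finset.card_univ,
    ← Nat.cast_smul_eq_nsmul k, ← Nat.card_eq_fintype_card, Submodule.neg_mem_iff,
    Submodule.smul_mem_iff _ hA] at h3
  exact (Submodule.Quotient.mk_eq_zero U).2 h3

end Abelian

section Solvable

/-- Free action for a solvable kernel of invertible order. -/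
theorem solvable_free : ∀ (n : ℕ) (G : Type u) [Group G] [Finite G] (j : H →* G) (N : Subgroup G)
    (V : Type v) [AddCommGroup V] [Module k V] [FiniteDimensional k V]
    (ρ : G →* Module.End k V), Nat.card N + finrank k V = n → N.Normal → Group.IsSolvable N →
    (Nat.card N : k) ≠ 0 → (∀ h, h ≠ 1 → ∀ x ∈ N, j h * x * (j h)⁻¹ = x → x = 1) →
    (∀ w, (∀ x ∈ N, ρ x w = w) → w = 0) → Free (ρ.comp j) := by
  intro n
  induction n using Nat.strong_induction_on with
  | _ n IH =>
  intro G _ _ j N V _ _ _ ρ hn hNn hNs hNk hfpf hfix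
  classical
  by_cases hN : N = ⊥
  · have hV : ∀ w : V, w = 0 := fun w => hfix w fun x hx => by
      rw [hN, Subgroup.mem_bot] at hx
      rw [hx, map_one]; rfl
    haveI : Subsingleton V := ⟨fun a b => (hV a).trans (hV b).symm⟩
    exact ⟨⊥, Subsingleton.elim _ _, by simp⟩
  haveI : Nontrivial N := (Subgroup.nontrivial_iff_ne_bot N).2 hN
  obtain ⟨A', hA'c, hA'1, hA'ab⟩ : ∃ A : Subgroup N, A.Characteristic ∧ A ≠ ⊥ ∧ ⁅A, A⁆ = ⊥ := by
    have hex : ∃ m, derivedSeries N m = ⊥ := (Group.isSolvable_def N).1 inferInstance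
    obtain ⟨m, hm⟩ := Nat.exists_eq_succ_of_ne_zero (n := Nat.find hex) (fun h => by
      have := Nat.find_spec hex
      rw [h, derivedSeries_zero] at this
      exact top_ne_bot this)
    refine ⟨derivedSeries N m, inferInstance, Nat.find_min hex (by omega), ?_⟩
    have := Nat.find_spec hex
    rwa [hm, derivedSeries_succ] at this
  set A : Subgroup G := A'.map N.subtype with hA
  haveI hAn : A.Normal := FittingCores.normal_map_of_characteristic hNn hA'c
  have hAN : A ≤ N := Subgroup.map_subtype_le _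
  have hA1 : A ≠ ⊥ := fun h => hA'1 ((Subgroup.map_eq_bot_iff_of_injective _ N.subtype_injective).1 h)
  have hAc : ∀ a ∈ A, ∀ b ∈ A, a * b = b * a := by
    rintro _ ⟨a, ha, rfl⟩ _ ⟨b, hb, rfl⟩
    have h := Subgroup.commutator_mem_commutator ha hb
    rw [hA'ab, Subgroup.mem_bot, commutatorElement_eq_one_iff_mul_comm] at h
    rw [← map_mul, h, map_mul]
  have hAk : (Nat.card A : k) ≠ 0 := fun h => hNk (by
    obtain ⟨d, hd⟩ := Subgroup.card_dvd_of_le hAN
    rw [hd, Nat.cast_mul, h, zero_mul])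
  let U : Submodule k V :=
    { carrier := {w | ∀ a ∈ A, ρ a w = w}
      add_mem' := fun {x y} hx hy a ha => by rw [map_add, hx a ha, hy a ha]
      zero_mem' := fun a _ => map_zero _
      smul_mem' := fun c x hx a ha => by rw [map_smul, hx a ha] }
  have hρU : ∀ g, ∀ w ∈ U, ρ g w ∈ U := fun g w hw a ha => by
    have h1 := hw (g⁻¹ * a * g) (by simpa using hAn.conj_mem a ha g⁻¹)
    calc ρ a (ρ g w) = ρ g (ρ (g⁻¹ * a * g) w) := by
          rw [← Module.End.mul_apply, ← Module.End.mul_apply, ← map_mul, ← map_mul]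
          congr 2; group
      _ = ρ g w := by rw [h1]
  by_cases hU1 : U = ⊤
  · -- pass to the quotient
    have hker : A ≤ ρ.ker := fun a ha => LinearMap.ext fun w => (hU1.ge Submodule.mem_top : w ∈ U) a ha
    set π := QuotientGroup.mk' A with hπ
    have hcard : Nat.card (N.map π) ∣ Nat.card N := Subgroup.card_map_dvd _ _
    have hlt : Nat.card (N.map π) < Nat.card N := by
      refine lt_of_le_of_ne (Nat.le_of_dvd Nat.card_pos hcard) fun he => hA1 ?_
      have h1 : Function.Injective (π.subgroupMap N) :=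
        ((Nat.bijective_iff_surjective_and_card _).2 ⟨π.subgroupMap_surjective N, he.symm⟩).1
      refine (Subgroup.eq_bot_iff_forall A).2 fun a ha => congrArg Subtype.val
        (h1 (a₁ := ⟨a, hAN ha⟩) (a₂ := 1) (Subtype.ext ?_))
      show π a = π 1
      rw [map_one]
      exact (QuotientGroup.eq_one_iff a).2 ha
    refine IH _ (by omega) (G ⧸ A) (π.comp j) (N.map π) V (QuotientGroup.lift A ρ hker) rfl
      (hNn.map π (QuotientGroup.mk'_surjective A)) ?_ ?_ ?_ ?_
    · exact Group.isSolvable_of_surjective (π.subgroupMap_surjective N)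
    · intro h
      obtain ⟨d, hd⟩ := hcard
      exact hNk (by rw [hd, Nat.cast_mul, h, zero_mul])
    · rintro h hh _ ⟨x, hx, rfl⟩ he
      set t := j h with ht
      have hmem : x⁻¹ * (t * x * t⁻¹) ∈ A := QuotientGroup.eq.1 (by
        have h2 : π (t * x * t⁻¹) = π x := by rw [map_mul, map_mul, map_inv]; exact he
        exact h2.symm)
      have hcA : ∀ c ∈ A, c * (t * c * t⁻¹)⁻¹ ∈ A := fun c hc =>
        mul_mem hc (inv_mem (hAn.conj_mem c hc t))
      let δ : A → A := fun c => ⟨(c : G) * (t * c * t⁻¹)⁻¹, hcA c c.2⟩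
      have hδ : Function.Injective δ := fun c d hcd => by
        have h1 : (c : G) * (t * c * t⁻¹)⁻¹ = (d : G) * (t * d * t⁻¹)⁻¹ := congrArg Subtype.val hcd
        have h2 : t * ((d : G)⁻¹ * c) * t⁻¹ = (d : G)⁻¹ * c := by
          calc t * ((d : G)⁻¹ * c) * t⁻¹ = (t * d * t⁻¹)⁻¹ * (t * c * t⁻¹) := by group
            _ = (d : G)⁻¹ * ((d : G) * (t * d * t⁻¹)⁻¹) * (t * c * t⁻¹) := by group
            _ = _ := by rw [← h1]; group
        exact Subtype.ext (inv_mul_eq_one.1 (hfpf h hh _ (mul_mem (inv_mem (hAN d.2)) (hAN c.2)) h2)).symm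
      obtain ⟨c, hc⟩ := (Finite.injective_iff_surjective.1 hδ) ⟨_, hmem⟩
      have hc' : (c : G) * (t * c * t⁻¹)⁻¹ = x⁻¹ * (t * x * t⁻¹) := congrArg Subtype.val hc
      have h3 : t * (x * c) * t⁻¹ = x * c := by
        calc t * (x * c) * t⁻¹ = x * (x⁻¹ * (t * x * t⁻¹)) * (t * c * t⁻¹) := by group
          _ = _ := by rw [← hc']; group
      have h4 := hfpf h hh _ (mul_mem hx (hAN c.2)) h3
      rw [mul_eq_one_iff_eq_inv] at h4
      exact (QuotientGroup.eq_one_iff x).2 (h4 ▸ inv_mem c.2)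
    · exact fun w hw => hfix w fun x hx => hw (π x) (Subgroup.mem_map_of_mem π hx)
  by_cases hU0 : U = ⊥
  · letI : CommGroup A :=
      { (inferInstance : Group A) with mul_comm := fun a b => Subtype.ext (hAc _ a.2 _ b.2) }
    refine abelian_free (finrank k V) V rfl (ρ.comp A.subtype) (ρ.comp j)
      ((MulAut.conjNormal (H := A)).comp j) (fun h a => ?_) (fun h hh a he => ?_) hAk
      (fun w hw => (Submodule.mem_bot k).1 (hU0 ▸ fun a ha => hw ⟨a, ha⟩))
    · show ρ (j h) * ρ a = ρ (j h * a * (j h)⁻¹) * ρ (j h)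
      rw [← map_mul, ← map_mul, inv_mul_cancel_right]
    · exact Subtype.ext (hfpf h hh a (hAN a.2) (congrArg Subtype.val he))
  let ρ₁ : G →* Module.End k U :=
    { toFun := fun a => (ρ a).restrict (hρU a)
      map_one' := LinearMap.ext fun x => Subtype.ext (by simp)
      map_mul' := fun a b => LinearMap.ext fun x => Subtype.ext (by simp) }
  let ρ₂ : G →* Module.End k (V ⧸ U) :=
    { toFun := fun a => U.mapQ U (ρ a) (fun x hx => hρU a x hx)
      map_one' := Submodule.linearMap_qext _ (LinearMap.ext fun x => by simp)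
      map_mul' := fun a b => Submodule.linearMap_qext _ (LinearMap.ext fun x => by simp) }
  have hlt : finrank k U < finrank k V := Submodule.finrank_lt hU1
  have hlt2 : finrank k (V ⧸ U) < finrank k V := by
    have h1 := Submodule.finrank_quotient_add_finrank U
    have h2 : finrank k U ≠ 0 := fun h => hU0 (Submodule.finrank_eq_zero.1 h)
    omega
  refine free_of_subspace (ρ.comp j) U (fun h => hρU (j h)) (ρ₁.comp j) (ρ₂.comp j)
    (fun _ _ => rfl) (fun _ _ => rfl)
    (IH _ (by omega) G j N U ρ₁ rfl hNn hNs hNk hfpf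
      (fun x hx => Subtype.ext (hfix _ fun a ha => congrArg Subtype.val (hx a ha))))
    (IH _ (by omega) G j N (V ⧸ U) ρ₂ rfl hNn hNs hNk hfpf ?_)
  intro y hy
  obtain ⟨x, rfl⟩ := Submodule.Quotient.mk_surjective U y
  have := Fintype.ofFinite N
  have h1 : ∀ a : N, ρ a x - x ∈ U := fun a => (Submodule.Quotient.eq U).1 (hy a a.2)
  have h2 : (∑ a : N, ρ a x) = 0 := hfix _ fun b hb => by
    rw [map_sum]
    simp only [← Module.End.mul_apply, ← map_mul]
    exact Equiv.sum_comp (Equiv.mulLeft (⟨b, hb⟩ : N)) fun a : N => ρ a x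
  have h3 : (∑ a : N, (ρ a x - x)) ∈ U := U.sum_mem fun a _ => h1 a
  rw [Finset.sum_sub_distrib, h2, zero_sub, Finset.sum_const, Finset.card_univ,
    ← Nat.cast_smul_eq_nsmul k, ← Nat.card_eq_fintype_card, Submodule.neg_mem_iff,
    Submodule.smul_mem_iff _ hNk] at h3
  exact (Submodule.Quotient.mk_eq_zero U).2 h3

end Solvable

/-- The free module structure for a Frobenius group with nilpotent kernel. -/
theorem frobenius_free {G : Type u} [Group G] [Finite G] {V : Type v} [AddCommGroup V] [Module k V]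
    [FiniteDimensional k V] (ρ : G →* Module.End k V) (N : Subgroup G) [hNn : N.Normal]
    (hnil : Group.IsNilpotent N) (H₀ : Subgroup G)
    (hfpf : ∀ h ∈ H₀, h ≠ 1 → ∀ x ∈ N, h * x * h⁻¹ = x → x = 1)
    (hfix : ∀ w, (∀ x ∈ N, ρ x w = w) → w = 0) : Free (ρ.comp H₀.subtype) := by
  classical
  haveI := hnil
  have hfpf' : ∀ N' : Subgroup G, N' ≤ N → ∀ h : H₀, h ≠ 1 → ∀ x ∈ N',
      H₀.subtype h * x * (H₀.subtype h)⁻¹ = x → x = 1 := fun N' hle h hh x hx he =>
    hfpf h h.2 (fun e => hh (Subtype.ext e)) x (hle hx) he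
  by_cases hNk : (Nat.card N : k) ≠ 0
  · exact solvable_free _ G H₀.subtype N V ρ rfl hNn inferInstance hNk (hfpf' N le_rfl) hfix
  push Not at hNk
  obtain ⟨p, hp⟩ := CharP.exists k
  have hpd : p ∣ Nat.card N := (CharP.cast_eq_zero_iff k p _).1 hNk
  have hpp : p.Prime := (CharP.char_is_prime_or_zero k p).resolve_right fun h0 => by
    subst h0
    exact Nat.card_pos.ne' (zero_dvd_iff.1 hpd)
  haveI := Fact.mk hpp
  set N₀ : Subgroup N := Cfsg.pPrimeCore p N with hN₀
  set N' : Subgroup G := N₀.map N.subtype with hN'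
  haveI hN'n : N'.Normal :=
    FittingCores.normal_map_of_characteristic hNn (FittingCores.pPrimeCore_characteristic p)
  have hN'k : (Nat.card N' : k) ≠ 0 := fun h => by
    rw [hN', Subgroup.card_map_of_injective N.subtype_injective] at h
    exact (hpp.coprime_iff_not_dvd.1 (FittingCores.pPrimeCore_coprime (G := N) p).symm)
      ((CharP.cast_eq_zero_iff k p _).1 h)
  have hN'nil : Group.IsSolvable N' := by
    haveI : Group.IsSolvable N₀ := inferInstance
    exact Group.isSolvable_of_surjective (N.subtype.subgroupMap_surjective N₀)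
  refine solvable_free _ G H₀.subtype N' V ρ rfl hN'n hN'nil hN'k
    (hfpf' N' (Subgroup.map_subtype_le _)) fun w₀ hw₀ => ?_
  by_contra hw0
  haveI hN₀n : N₀.Normal := FittingCores.pPrimeCore_normal p
  have hQ : IsPGroup p (N ⧸ N₀) := by
    intro z
    obtain ⟨x, rfl⟩ := QuotientGroup.mk'_surjective N₀ z
    have h1 : (⊤ : Subgroup N) ≤ Cfsg.pCore p N ⊔ N₀ :=
      (FittingCores.le_fitting (N := (⊤ : Subgroup N)) inferInstance inferInstance).trans
        (FittingCores.fitting_le_pCore_sup_pPrimeCore hpp)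
    obtain ⟨a, ha, b, hb, rfl⟩ := Subgroup.mem_sup_of_normal_right.1 (h1 (Subgroup.mem_top x))
    obtain ⟨m, hm⟩ := FittingCores.pCore_isPGroup (G := N) p ⟨a, ha⟩
    refine ⟨m, ?_⟩
    rw [map_mul, show QuotientGroup.mk' N₀ b = 1 from (QuotientGroup.eq_one_iff b).2 hb, mul_one, ← map_pow,
      show a ^ p ^ m = 1 from congrArg Subtype.val hm, map_one]
  -- the finite space spanned by the orbit
  have hpk : (p : k) = 0 := (CharP.cast_eq_zero_iff k p p).2 dvd_rfl
  haveI : Module (ZMod p) V := AddCommGroup.zmodModule fun v => by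
    rw [← Nat.cast_smul_eq_nsmul k, hpk, zero_smul]
  set X : Submodule (ZMod p) V := Submodule.span (ZMod p) (Set.range fun x : N => ρ (x : G) w₀) with hX
  haveI : Module.Finite (ZMod p) ↥X := by rw [hX]; exact Module.Finite.span_of_finite _ (Set.finite_range _)
  haveI : Finite X := Module.finite_of_finite (ZMod p)
  let L : G → (V →ₗ[ZMod p] V) := fun g => (ρ g).toAddMonoidHom.toZModLinearMap p
  have hL : ∀ g v, L g v = ρ g v := fun g v => rfl
  have hXinv : ∀ x : N, X ≤ X.comap (L (x : G)) := fun x => Submodule.span_le.2 (by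
    rintro _ ⟨y, rfl⟩
    refine Submodule.subset_span ⟨x * y, ?_⟩
    show ρ ((x : G) * (y : G)) w₀ = ρ (x : G) (ρ (y : G) w₀)
    rw [map_mul, Module.End.mul_apply])
  have hXfix : ∀ x ∈ N₀, X ≤ LinearMap.eqLocus (L ((x : N) : G)) LinearMap.id := fun x hx =>
    Submodule.span_le.2 (by
      rintro _ ⟨y, rfl⟩
      show ρ (x : G) (ρ (y : G) w₀) = ρ (y : G) w₀
      have h1 := hw₀ ((y⁻¹ * x * y : N) : G)
        (Subgroup.mem_map_of_mem _ (by simpa using hN₀n.conj_mem x hx y⁻¹))
      calc ρ (x : G) (ρ (y : G) w₀) = ρ (y : G) (ρ ((y⁻¹ * x * y : N) : G) w₀) := by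
            rw [← Module.End.mul_apply, ← Module.End.mul_apply, ← map_mul, ← map_mul]
            congr 2
            push_cast
            group
        _ = _ := by rw [h1])
  let act : N →* Equiv.Perm X :=
    { toFun := fun x =>
        { toFun := fun v => ⟨ρ (x : G) v, hXinv x v.2⟩
          invFun := fun v => ⟨ρ ((x⁻¹ : N) : G) v, hXinv x⁻¹ v.2⟩
          left_inv := fun v => Subtype.ext (by
            show ρ ((x⁻¹ : N) : G) (ρ (x : G) v) = v
            rw [← Module.End.mul_apply, ← map_mul, ← Subgroup.coe_mul, inv_mul_cancel]; simp)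
          right_inv := fun v => Subtype.ext (by
            show ρ (x : G) (ρ ((x⁻¹ : N) : G) v) = v
            rw [← Module.End.mul_apply, ← map_mul, ← Subgroup.coe_mul, mul_inv_cancel]; simp) }
      map_one' := Equiv.ext fun v => Subtype.ext (by simp)
      map_mul' := fun a b => Equiv.ext fun v => Subtype.ext (by simp) }
  letI : MulAction (N ⧸ N₀) X := MulAction.compHom X
    (QuotientGroup.lift N₀ act fun x hx => Equiv.ext fun v => Subtype.ext (hXfix x hx v.2))
  have hmod := hQ.card_modEq_card_fixedPoints X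
  have hpX : p ∣ Nat.card X := by
    let w : X := ⟨w₀, Submodule.subset_span ⟨1, by simp⟩⟩
    have h1 : addOrderOf w = p := addOrderOf_eq_prime
      (Subtype.ext (by
        show p • w₀ = 0
        rw [← Nat.cast_smul_eq_nsmul k, hpk, zero_smul]))
      fun h => hw0 (congrArg Subtype.val h)
    exact (dvd_of_eq h1.symm).trans (addOrderOf_dvd_natCard w)
  have hfp : p ∣ Nat.card (MulAction.fixedPoints (N ⧸ N₀) X) :=
    Nat.modEq_zero_iff_dvd.1 (hmod.symm.trans (Nat.modEq_zero_iff_dvd.2 hpX))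
  have h0 : (0 : X) ∈ MulAction.fixedPoints (N ⧸ N₀) X := fun g => by
    induction g using QuotientGroup.induction_on with | H x => exact Subtype.ext (map_zero _)
  obtain ⟨u, hu, hu0⟩ : ∃ u ∈ MulAction.fixedPoints (N ⧸ N₀) X, u ≠ 0 := by
    by_contra h
    push Not at h
    have : MulAction.fixedPoints (N ⧸ N₀) X = {0} :=
      Set.eq_singleton_iff_unique_mem.2 ⟨h0, h⟩
    rw [this, Nat.card_coe_set_eq, Set.ncard_singleton, Nat.dvd_one] at hfp
    exact hpp.one_lt.ne' hfp
  exact hu0 (Subtype.ext (hfix _ fun x hx => congrArg Subtype.val (hu (QuotientGroup.mk (⟨x, hx⟩ : N)))))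

/-- A free representation gives an internal direct sum of translates. -/
theorem isInternal_of_free {V : Type v} [AddCommGroup V] [Module k V] [FiniteDimensional k V]
    [DecidableEq H] (σ : H →* Module.End k V) (W : Submodule k V) (hsup : (⨆ h, W.map (σ h)) = ⊤)
    (hdim : Nat.card H * finrank k W ≤ finrank k V) :
    DirectSum.IsInternal fun h => W.map (σ h) := by
  have := Fintype.ofFinite H
  let Φ : DirectSum H (fun h => ↥(W.map (σ h))) →ₗ[k] V := DirectSum.coeLinearMap fun h => W.map (σ h)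
  have hsurj : LinearMap.range Φ = ⊤ := by
    rw [DirectSum.range_coeLinearMap]
    exact hsup
  have hle : finrank k (DirectSum H (fun h => ↥(W.map (σ h)))) ≤ finrank k V := by
    rw [Module.finrank_directSum]
    refine le_trans ?_ hdim
    rw [Nat.card_eq_fintype_card, ← Finset.card_univ, ← smul_eq_mul, ← Finset.sum_const]
    exact Finset.sum_le_sum fun h _ => Submodule.finrank_map_le _ _
  have hinj : Function.Injective Φ := by
    rw [← LinearMap.ker_eq_bot, ← Submodule.finrank_eq_zero]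
    have h := LinearMap.finrank_range_add_finrank_ker Φ
    rw [hsurj, finrank_top] at h
    omega
  exact ⟨hinj, LinearMap.range_eq_top.1 hsurj⟩

open scoped Pointwise in
/-- The complement of a Frobenius group acts fixed point freely on the kernel. -/
theorem fpf_of_kernel {A : Type u} [Group A] {Hc : Subgroup A} (hHc : Cfsg.IsFrobeniusComplement Hc)
    {N : Subgroup A} (hker : Cfsg.frobeniusKernel Hc = (N : Set A)) :
    ∀ h ∈ Hc, h ≠ 1 → ∀ x ∈ N, h * x * h⁻¹ = x → x = 1 := by
  intro h hh h1 x hx he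
  have hxH : x ∈ Hc := by
    by_contra hxn
    have h2 : h ∈ Hc ⊓ (MulAut.conj x • Hc) := by
      refine ⟨hh, ?_⟩
      refine ⟨h, hh, ?_⟩
      show x * h * x⁻¹ = h
      calc x * h * x⁻¹ = h * (h⁻¹ * (x * h) * x⁻¹) := by group
        _ = h * (h⁻¹ * ((h * x * h⁻¹) * h) * x⁻¹) := by rw [he]
        _ = h := by group
    rw [hHc.2.2 x hxn, Subgroup.mem_bot] at h2
    exact h1 h2
  have h3 : x ∈ Cfsg.frobeniusKernel Hc := hker.symm ▸ hx
  exact h3.resolve_right fun h4 => h4 1 (by rwa [map_one, one_smul])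

end Cfsg.Agent.FrobeniusFree
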