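import Cfsg.Agent.Lib.Solvable.PSeries
import Cfsg.Agent.Lib.Solvable.Coprime
import Cfsg.Agent.Lib.Solvable.NilpotentFrattini
import Cfsg.Agent.Lib.Transfer.PGroup

/-! The standard reduction: `O_p(G)` modulo its Frattini subgroup as a faithful module. -/

set_option autoImplicit false
open scoped Pointwise commutatorElement

universe u

namespace Cfsg.Agent.HHReduce

variable {G : Type u} [Group G] [Finite G] {p : ℕ} [hp : Fact p.Prime]

/-- `Φ(O_p(G))` as a subgroup of `G`. -/
def Phi (p : ℕ) (G : Type u) [Group G] : Subgroup G :=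
  (frattini (Cfsg.pCore p G)).map (Cfsg.pCore p G).subtype

instance Phi_normal : (Phi p G).Normal :=
  FittingCores.normal_map_of_characteristic (FittingCores.pCore_normal p) inferInstance

/-- The image of `O_p(G)` in `G/Φ(O_p(G))`. -/
def V (p : ℕ) (G : Type u) [Group G] [Finite G] [Fact p.Prime] : Subgroup (G ⧸ Phi p G) :=
  (Cfsg.pCore p G).map (QuotientGroup.mk' (Phi p G))

lemma Phi_le : Phi p G ≤ Cfsg.pCore p G := Subgroup.map_subtype_le _

instance V_normal : (V p G).Normal :=
  (FittingCores.pCore_normal p).map _ (QuotientGroup.mk'_surjective _)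

lemma comap_V : (V p G).comap (QuotientGroup.mk' (Phi p G)) = Cfsg.pCore p G := by
  rw [V, Subgroup.comap_map_eq, QuotientGroup.ker_mk', sup_eq_left.2 Phi_le]

lemma V_isElementaryAbelian : Cfsg.IsElementaryAbelian p (V p G) := by
  have hR := FittingCores.pCore_isPGroup (G := G) p
  have : Group.IsNilpotent (Cfsg.pCore p G) := hR.isNilpotent
  refine ⟨.of_setLike_mul_comm ?_, ?_⟩
  · rintro _ ⟨x, hx, rfl⟩ _ ⟨y, hy, rfl⟩
    rw [← commutatorElement_eq_one_iff_mul_comm, ← map_commutatorElement]
    refine (QuotientGroup.eq_one_iff _).2 ?_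
    exact Subgroup.mem_map_of_mem (Cfsg.pCore p G).subtype
      (SolvStruct.commutator_le_frattini _ (Subgroup.commutator_mem_commutator
        (Subgroup.mem_top (⟨x, hx⟩ : Cfsg.pCore p G)) (Subgroup.mem_top ⟨y, hy⟩)))
  · rintro _ ⟨x, hx, rfl⟩
    rw [← map_pow]
    refine (QuotientGroup.eq_one_iff _).2 ?_
    exact Subgroup.mem_map_of_mem (Cfsg.pCore p G).subtype
      (PGroupBasics.pow_mem_frattini hR ⟨x, hx⟩)

/-- Hall–Higman: the centralizer of `O_p/Φ(O_p)` is `O_p`, when `O_{p'} = 1`. -/
theorem centralizer_V_le (hsol : Cfsg.IsPSolvable p G) (hO : Cfsg.pPrimeCore p G = ⊥) :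
    Subgroup.centralizer (V p G : Set (G ⧸ Phi p G)) ≤ V p G := by
  set f := QuotientGroup.mk' (Phi p G) with hf
  set R := Cfsg.pCore p G with hR
  set K := (Subgroup.centralizer (V p G : Set (G ⧸ Phi p G))).comap f with hK
  have hKn : K.Normal := Subgroup.Normal.comap inferInstance f
  have hRp := FittingCores.pCore_isPGroup (G := G) p
  suffices hKp : IsPGroup p K by
    intro x hx
    obtain ⟨g, rfl⟩ := QuotientGroup.mk'_surjective (Phi p G) x
    exact Subgroup.mem_map_of_mem f (FittingCores.le_pCore hKn hKp hx)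
  refine IsPGroup.iff_card.2 ⟨_, Nat.eq_prime_pow_of_unique_prime_dvd Nat.card_pos.ne'
    fun {q} hq hqd => ?_⟩
  by_contra hqp
  have := Fact.mk hq
  obtain ⟨Q⟩ : Nonempty (Sylow q K) := inferInstance
  have hcop : (Nat.card ((Q : Subgroup K).map K.subtype)).Coprime (Nat.card (frattini R)) := by
    obtain ⟨b, hb⟩ := (Q.isPGroup'.map K.subtype).exists_card_eq
    obtain ⟨a, ha⟩ := (hRp.to_subgroup (frattini R)).exists_card_eq
    rw [hb, ha]
    exact Nat.coprime_pow_primes b a hq hp.out hqp
  have hQR : (Q : Subgroup K).map K.subtype ≤ Subgroup.centralizer (R : Set G) := by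
    have hRn : R.Normal := FittingCores.pCore_normal p
    refine CoprimeAct.le_centralizer_of_frattini
      (fun x _ => by rw [Subgroup.normalizer_eq_top]; exact Subgroup.mem_top _) hcop
      (fun a ha k hk => ?_)
    change a * k * a⁻¹ * k⁻¹ ∈ Phi p G
    rw [← QuotientGroup.eq_one_iff]
    have hc := Subgroup.mem_centralizer_iff.1 (Subgroup.map_subtype_le _ ha : a ∈ K) (f k)
      (Subgroup.mem_map_of_mem f hk)
    change f (a * k * a⁻¹ * k⁻¹) = 1
    rw [map_mul, map_mul, map_mul, map_inv, map_inv, ← hc]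
    group
  have hQ1 : ((Q : Subgroup K).map K.subtype) = ⊥ := by
    refine eq_bot_iff.2 fun x hx => ?_
    have hxR := PSolvable.centralizer_pCore_le hsol hO (hQR hx)
    exact Subgroup.mem_bot.2 (PBasic.eq_one_of_isPGroup_of_coprime (p := p) hRp hxR
      (Nat.Coprime.coprime_dvd_left (Subgroup.orderOf_dvd_natCard _ hx) (by
        obtain ⟨b, hb⟩ := (Q.isPGroup'.map K.subtype).exists_card_eq
        rw [hb]
        exact ((Nat.coprime_primes hq hp.out).2 hqp).pow_left b)))
  refine Q.not_dvd_index ?_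
  rw [show (Q : Subgroup K) = ⊥ from (Subgroup.map_eq_bot_iff_of_injective _ K.subtype_injective).1 hQ1,
    Subgroup.index_bot]
  exact hqd

theorem centralizer_V (hsol : Cfsg.IsPSolvable p G) (hO : Cfsg.pPrimeCore p G = ⊥) :
    Subgroup.centralizer (V p G : Set (G ⧸ Phi p G)) = V p G := by
  refine le_antisymm (centralizer_V_le hsol hO) ?_
  intro x hx
  refine Subgroup.mem_centralizer_iff.2 fun y hy => ?_
  have := (V_isElementaryAbelian (p := p) (G := G)).1
  exact setLike_mul_comm hy hx

theorem le_V_of_isPGroup {N : Subgroup (G ⧸ Phi p G)} [hN : N.Normal] (hNp : IsPGroup p N) :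
    N ≤ V p G := by
  set f := QuotientGroup.mk' (Phi p G) with hf
  have hK : IsPGroup p (N.comap f) :=
    hNp.comap_of_ker_isPGroup f (by
      rw [hf, QuotientGroup.ker_mk']
      exact (FittingCores.pCore_isPGroup p).to_le Phi_le)
  intro x hx
  obtain ⟨g, rfl⟩ := QuotientGroup.mk'_surjective (Phi p G) x
  exact Subgroup.mem_map_of_mem f (FittingCores.le_pCore (hN.comap f) hK hx)

theorem V_isPGroup : IsPGroup p (V p G) :=
  (FittingCores.pCore_isPGroup p).map _

end Cfsg.Agent.HHReduce
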