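import Cfsg.Agent.Lib.Solvable.HHThmB
import Cfsg.Agent.Lib.Solvable.HHReduce
import Cfsg.Agent.Lib.Solvable.PLengthBasics
import Cfsg.Agent.Lib.Solvable.Carter
import Cfsg.Prelude.Def_LocalEven
import Mathlib.Algebra.Module.ZMod

/-! Consequences of theorem B for the `p`-length. -/

set_option autoImplicit false
open scoped Pointwise commutatorElement

open Module

universe u

namespace Cfsg.Agent.HHApply

variable {p : ℕ} [hp : Fact p.Prime]

/-- Automorphisms of a group of exponent `p` as linear maps. -/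
def autLin (W : Type*) [CommGroup W] [Module (ZMod p) (Additive W)] :
    MulAut W →* Module.End (ZMod p) (Additive W) where
  toFun α := (MonoidHom.toAdditive α.toMonoidHom).toZModLinearMap p
  map_one' := rfl
  map_mul' _ _ := rfl

/-- The excluded configuration of theorem B. -/
def Exc (p : ℕ) (G : Type*) [Group G] : Prop :=
  ∃ n₀ q m : ℕ, 1 ≤ n₀ ∧ q.Prime ∧ 1 ≤ m ∧ p ^ n₀ - 1 = q ^ m ∧ ∀ Q : Sylow q G, ¬ IsMulCommutative Q

lemma Exc.of_surjective {G H : Type*} [Group G] [Finite G] [Group H] (f : G →* H)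
    (hf : Function.Surjective f) (h : Exc p H) : Exc p G := by
  obtain ⟨n₀, q, m, h1, hq, h3, h4, h5⟩ := h
  have := Fact.mk hq
  refine ⟨n₀, q, m, h1, hq, h3, h4, fun Q hQ => h5 (Q.mapSurjective hf) (.of_setLike_mul_comm ?_)⟩
  rintro _ ⟨a, ha, rfl⟩ _ ⟨b, hb, rfl⟩
  have := hQ
  rw [← map_mul, ← map_mul, setLike_mul_comm ha hb]

variable {G : Type u} [Group G] [Finite G]

noncomputable instance VCommGroup : CommGroup (HHReduce.V p G) :=
  { (inferInstance : Group (HHReduce.V p G)) with
    mul_comm := fun a b => by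
      have := (HHReduce.V_isElementaryAbelian (p := p) (G := G)).1
      exact mul_comm' a b }

noncomputable instance VModule : Module (ZMod p) (Additive (HHReduce.V p G)) :=
  AddCommGroup.zmodModule fun v => by
    change Additive.ofMul ((Additive.toMul v) ^ p) = 0
    rw [show (Additive.toMul v) ^ p = 1 from
      Subtype.ext ((HHReduce.V_isElementaryAbelian (p := p) (G := G)).2 _ (Additive.toMul v).2)]
    rfl

/-- The faithful linear representation of `G/O_p(G)` on `O_p(G)/Φ`. -/
theorem exists_rep (hsol : Cfsg.IsPSolvable p G) (hO : Cfsg.pPrimeCore p G = ⊥) :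
    ∃ (_ : (Cfsg.pCore p G).Normal)
      (ρ : G ⧸ Cfsg.pCore p G →* Module.End (ZMod p) (Additive (HHReduce.V p G))),
      Function.Injective ρ ∧ ∀ (x : G) (v : HHReduce.V p G),
        ((Additive.toMul (ρ (QuotientGroup.mk x) (Additive.ofMul v)) : HHReduce.V p G) :
          G ⧸ HHReduce.Phi p G) = (x : G ⧸ HHReduce.Phi p G) * v * (x : G ⧸ HHReduce.Phi p G)⁻¹ := by
  have hn : (Cfsg.pCore p G).Normal := FittingCores.pCore_normal p
  let ψ : G →* Module.End (ZMod p) (Additive (HHReduce.V p G)) :=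
    (autLin (HHReduce.V p G)).comp
      ((MulAut.conjNormal (H := HHReduce.V p G)).comp (QuotientGroup.mk' (HHReduce.Phi p G)))
  have hψ : ∀ (x : G) (v : HHReduce.V p G),
      ((Additive.toMul (ψ x (Additive.ofMul v)) : HHReduce.V p G) : G ⧸ HHReduce.Phi p G) =
        (x : G ⧸ HHReduce.Phi p G) * v * (x : G ⧸ HHReduce.Phi p G)⁻¹ := fun x v =>
    MulAut.conjNormal_apply _ v
  have hker : ψ.ker = Cfsg.pCore p G := by
    ext x
    have hiff : (x : G ⧸ HHReduce.Phi p G) ∈ HHReduce.V p G ↔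
        ∀ w ∈ HHReduce.V p G, w * (x : G ⧸ HHReduce.Phi p G) = (x : G ⧸ HHReduce.Phi p G) * w := by
      refine ⟨fun h w hw => ?_, fun h => HHReduce.centralizer_V_le hsol hO (Subgroup.mem_centralizer_iff.2 h)⟩
      have := (HHReduce.V_isElementaryAbelian (p := p) (G := G)).1
      exact setLike_mul_comm hw h
    rw [MonoidHom.mem_ker, ← HHReduce.comap_V (p := p) (G := G), Subgroup.mem_comap,
      QuotientGroup.mk'_apply, hiff]
    constructor
    · intro h w hw
      have := hψ x ⟨w, hw⟩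
      rw [h] at this
      exact mul_inv_eq_iff_eq_mul.1 (this.symm.trans rfl) |>.symm
    · intro h
      refine LinearMap.ext fun v => ?_
      refine Additive.toMul.injective (Subtype.ext ?_)
      refine (hψ x (Additive.toMul v)).trans ?_
      rw [← h _ (Additive.toMul v).2, mul_inv_cancel_right]
      rfl
  refine ⟨hn, QuotientGroup.lift _ ψ hker.ge, ?_, hψ⟩
  rw [injective_iff_map_eq_one]
  intro y hy
  obtain ⟨x, rfl⟩ := QuotientGroup.mk'_surjective _ y
  exact (QuotientGroup.eq_one_iff x).2 (hker.le hy)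

/-- If theorem B gives a block of full size, some element of `G/Φ` has too large order. -/
theorem exists_norm_ne (hsol : Cfsg.IsPSolvable p G) (hO : Cfsg.pPrimeCore p G = ⊥) (hexc : ¬ Exc p G)
    (x : G) (k : ℕ) (hk : 1 ≤ k)
    (hx : orderOf (QuotientGroup.mk x : G ⧸ Cfsg.pCore p G) = p ^ k) :
    ∃ v ∈ HHReduce.V p G, (v * (x : G ⧸ HHReduce.Phi p G)) ^ p ^ k ≠ (x : G ⧸ HHReduce.Phi p G) ^ p ^ k := by
  obtain ⟨hn, ρ, hρ, hρc⟩ := exists_rep hsol hO
  rcases HHThmB.exists_bound ρ hρ (PSolvable.quotient _ hsol) (PBasic.pCore_quotient_pCore p G)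
    (QuotientGroup.mk x) k hk hx with h | ⟨n₀, q, m, h1, -, hq, h3, h4, h5, -⟩
  swap
  · exact absurd (Exc.of_surjective _ (QuotientGroup.mk'_surjective _) ⟨n₀, q, m, h1, hq, h3, h4, h5⟩) hexc
  rw [HHLinear.sub_one_pow_pred (K := ZMod p)] at h
  by_contra hcon
  push Not at hcon
  apply h
  refine LinearMap.ext fun w => ?_
  set xb : G ⧸ HHReduce.Phi p G := (x : G ⧸ HHReduce.Phi p G) with hxb
  set T := ρ (QuotientGroup.mk x) with hT
  let emb : Additive (HHReduce.V p G) → G ⧸ HHReduce.Phi p G := fun w =>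
    ((Additive.toMul w : HHReduce.V p G) : G ⧸ HHReduce.Phi p G)
  have emb_add : ∀ a b, emb (a + b) = emb a * emb b := fun a b => rfl
  have hTe : ∀ a, emb (T a) = xb * emb a * xb⁻¹ := fun a => hρc x (Additive.toMul a)
  have key : ∀ i : ℕ, (emb w * xb) ^ i = emb ((∑ j ∈ Finset.range i, T ^ j) w) * xb ^ i := by
    intro i
    induction i with
    | zero => simp; rfl
    | succ i ih =>
      rw [Finset.sum_range_succ', pow_zero, LinearMap.add_apply, Module.End.one_apply, add_comm _ w,
        emb_add, show (∑ j ∈ Finset.range i, T ^ (j + 1)) w = T ((∑ j ∈ Finset.range i, T ^ j) w) by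
          rw [← Module.End.mul_apply, Finset.mul_sum]; simp [pow_succ'], hTe, pow_succ' (emb w * xb), ih,
        pow_succ' xb]
      simp [mul_assoc]
  have := (key (p ^ k)).symm.trans (hcon (emb w) (Additive.toMul w).2)
  have h1 : emb ((∑ j ∈ Finset.range (p ^ k), T ^ j) w) = 1 := mul_eq_right.1 this
  exact Additive.toMul.injective (Subtype.ext h1)

/-- The exponent of a Sylow subgroup of `G/O_p(G)` drops. -/
theorem exponent_drop (hsol : Cfsg.IsPSolvable p G) (hO : Cfsg.pPrimeCore p G = ⊥) (hexc : ¬ Exc p G)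
    (e : ℕ) (hexp : ∀ (P : Sylow p G), ∀ x ∈ (P : Subgroup G), x ^ p ^ (e + 1) = 1)
    (x : G) (hx : IsPGroup p (Subgroup.zpowers x)) : x ^ p ^ e ∈ Cfsg.pCore p G := by
  have hn : (Cfsg.pCore p G).Normal := FittingCores.pCore_normal p
  obtain ⟨P, hP⟩ := hx.exists_le_sylow
  have hxP : x ∈ (P : Subgroup G) := hP (Subgroup.mem_zpowers x)
  set f := QuotientGroup.mk' (Cfsg.pCore p G) with hf
  by_contra hcon
  have ho : orderOf (f x) = p ^ (e + 1) := by
    refine orderOf_eq_prime_pow ?_ ?_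
    · rw [← map_pow]; exact fun h => hcon ((QuotientGroup.eq_one_iff _).1 h)
    · rw [← map_pow, hexp P x hxP, map_one]
  obtain ⟨v, hv, hne⟩ := exists_norm_ne hsol hO hexc x (e + 1) (by omega) ho
  obtain ⟨r, hr, rfl⟩ := hv
  apply hne
  have hrP : r * x ∈ (P : Subgroup G) :=
    (P : Subgroup G).mul_mem (FittingCores.pCore_le_sylow P hr) hxP
  rw [QuotientGroup.mk'_apply, ← QuotientGroup.mk_mul, ← QuotientGroup.mk_pow, ← QuotientGroup.mk_pow,
    hexp P _ hrP, hexp P x hxP]

/-- Without exceptional configurations the `p`-length is at most `e`. -/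
theorem pLengthLE_exponent : ∀ (e : ℕ) {G : Type u} [Group G] [Finite G], Cfsg.IsPSolvable p G →
    ¬ Exc p G → (∀ (P : Sylow p G), ∀ x ∈ (P : Subgroup G), x ^ p ^ e = 1) → Cfsg.PLengthLE p e G
  | 0, G, _, _, _, _, hexp => by
    rw [PSeries.pLengthLE_zero_iff]
    obtain ⟨P⟩ : Nonempty (Sylow p G) := inferInstance
    refine ((hp.out.coprime_iff_not_dvd).2 fun hd => P.not_dvd_index ?_).symm
    rwa [show (P : Subgroup G) = ⊥ from (Subgroup.eq_bot_iff_forall _).2 fun x hx => by
      simpa using hexp P x hx, Subgroup.index_bot]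
  | e + 1, G, _, _, hsol, hexc, hexp => by
    have hn := FittingCores.pPrimeCore_normal (G := G) p
    set f := QuotientGroup.mk' (Cfsg.pPrimeCore p G) with hf
    have hfs : Function.Surjective f := QuotientGroup.mk'_surjective _
    refine PSeries.pLengthLE_of_ker_coprime f ?_ ?_
    · rw [QuotientGroup.ker_mk']; exact FittingCores.pPrimeCore_coprime p
    set H := G ⧸ Cfsg.pPrimeCore p G
    have hsolH : Cfsg.IsPSolvable p H := PSolvable.quotient _ hsol
    have hOH : Cfsg.pPrimeCore p H = ⊥ := PBasic.pPrimeCore_quotient_pPrimeCore p G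
    have hexcH : ¬ Exc p H := fun h => hexc (h.of_surjective f hfs)
    have hexpH : ∀ (P : Sylow p H), ∀ x ∈ (P : Subgroup H), x ^ p ^ (e + 1) = 1 := by
      intro P x hx
      obtain ⟨Q, rfl⟩ := Sylow.mapSurjective_surjective hfs p P
      obtain ⟨y, hy, rfl⟩ := hx
      rw [← map_pow, hexp Q y hy, map_one]
    rw [PSeries.pLengthLE_succ_iff]
    have hU : PSeries.U p H 2 = Cfsg.pCore p H := by
      refine le_antisymm ?_ ?_
      · refine FittingCores.le_pCore (PSeries.U_normal p H 2) ?_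
        obtain ⟨m, hm⟩ := (PSeries.step_U (p := p) (G := H) 1).2 (by decide)
        rw [PSeries.U_one (p := p) (G := H), hOH, Subgroup.relIndex_bot_left] at hm
        exact IsPGroup.of_card hm
      · have := FittingCores.pCore_normal (G := H) p
        refine PSeries.le_succ_odd (n := 1) (by decide) ?_
        obtain ⟨m, hm⟩ := (FittingCores.pCore_isPGroup (G := H) p).exists_card_eq
        exact ⟨m, by rw [PSeries.U_one (p := p) (G := H), hOH, Subgroup.relIndex_bot_left, hm]⟩
    refine pLengthLE_exponent e (PSolvable.quotient _ hsolH)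
      (fun h => hexcH (h.of_surjective _ (QuotientGroup.mk'_surjective _))) ?_
    intro P y hy
    obtain ⟨Q, rfl⟩ := Sylow.mapSurjective_surjective (QuotientGroup.mk'_surjective (PSeries.U p H 2)) p P
    obtain ⟨x, hx, rfl⟩ := hy
    rw [← map_pow]
    refine (QuotientGroup.eq_one_iff _).2 ?_
    rw [hU]
    exact exponent_drop hsolH hOH hexcH e hexpH x (Q.isPGroup'.to_le (Subgroup.zpowers_le.2 hx))

lemma involves_of_surjective {X : Type*} [Group X] {K : Subgroup G} (ψ : K →* X)
    (hψ : Function.Surjective ψ) : Cfsg.Involves X G := by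
  have hn : ((ψ.ker.map K.subtype).subgroupOf K).Normal := by
    rw [Subgroup.subgroupOf, Subgroup.comap_map_eq_self_of_injective K.subtype_injective]
    infer_instance
  exact ⟨K, ψ.ker.map K.subtype, hn, ⟨(QuotientGroup.quotientMulEquivOfEq (by
    rw [Subgroup.subgroupOf, Subgroup.comap_map_eq_self_of_injective K.subtype_injective])).trans
    (QuotientGroup.quotientKerEquivOfSurjective ψ hψ)⟩⟩

/-- `p` not Fermat and no `C_p ≀ C_p` in a Sylow subgroup: `p`-length at most one. -/
theorem pLengthLE_one_of_no_wreath {G : Type u} [Group G] [Finite G] (hsol : Cfsg.IsPSolvable p G)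
    (hexc : ¬ Exc p G) (P : Sylow p G)
    (hwr : ∀ (W : Type) [Group W] [Finite W], (∃ (B : Subgroup W) (t : W), B.Normal ∧ IsMulCommutative B ∧
      (∀ b ∈ B, b ^ p = 1) ∧ Nat.card B = p ^ p ∧ orderOf t = p ∧ t ∉ B ∧ Nat.card W = p ^ (p + 1) ∧
      Nat.card ↥(B ⊓ Subgroup.centralizer ({t} : Set W)) = p) → ¬ Cfsg.Involves W ↥(P : Subgroup G)) :
    Cfsg.PLengthLE p 1 G := by
  classical
  have hn := FittingCores.pPrimeCore_normal (G := G) p
  set f := QuotientGroup.mk' (Cfsg.pPrimeCore p G) with hf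
  have hfs : Function.Surjective f := QuotientGroup.mk'_surjective _
  refine PSeries.pLengthLE_of_ker_coprime f ?_ ?_
  · rw [QuotientGroup.ker_mk']; exact FittingCores.pPrimeCore_coprime p
  set H := G ⧸ Cfsg.pPrimeCore p G
  have hsolH : Cfsg.IsPSolvable p H := PSolvable.quotient _ hsol
  have hOH : Cfsg.pPrimeCore p H = ⊥ := PBasic.pPrimeCore_quotient_pPrimeCore p G
  have hexcH : ¬ Exc p H := fun h => hexc (h.of_surjective f hfs)
  set R := Cfsg.pCore p H with hR
  have hRn : R.Normal := FittingCores.pCore_normal p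
  rw [PSeries.pLengthLE_iff]
  suffices hcop : ¬ p ∣ R.index by
    refine top_le_iff.1 ?_
    have hR2 : R ≤ PSeries.U p H 2 := by
      refine PSeries.le_succ_odd (n := 1) (by decide) ?_
      obtain ⟨m, hm⟩ := (FittingCores.pCore_isPGroup (G := H) p).exists_card_eq
      exact ⟨m, by rw [PSeries.U_one (p := p) (G := H), hOH, Subgroup.relIndex_bot_left, hm]⟩
    refine PSeries.le_succ_even (n := 2) ⟨1, rfl⟩ ?_
    rw [Subgroup.relIndex_top_right]
    exact ((hp.out.coprime_iff_not_dvd).2 fun h => hcop (h.trans (Subgroup.index_dvd_of_le hR2))).symm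
  intro hdvd
  -- an element of order `p` modulo `R` in the Sylow subgroup
  set P' := P.mapSurjective hfs with hP'
  set g := QuotientGroup.mk' R with hg
  have hgs : Function.Surjective g := QuotientGroup.mk'_surjective R
  have hd : p ∣ Nat.card ((P'.mapSurjective hgs : Sylow p (H ⧸ R)) : Subgroup (H ⧸ R)) :=
    Sylow.dvd_card_of_dvd_card _ (by rw [← Subgroup.index_eq_card]; exact hdvd)
  obtain ⟨⟨xbar, hxbar⟩, hxo⟩ := exists_prime_orderOf_dvd_card' p hd
  rw [Subgroup.orderOf_mk] at hxo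
  obtain ⟨x, hxP, rfl⟩ := hxbar
  have hgp : g x ^ p = 1 := orderOf_dvd_iff_pow_eq_one.1 (by rw [hxo])
  obtain ⟨hn', ρ, hρ, hρc⟩ := exists_rep hsolH hOH
  rcases HHThmB.exists_bound ρ hρ (PSolvable.quotient _ hsolH) (PBasic.pCore_quotient_pCore p H)
    (g x) 1 le_rfl (by rw [pow_one]; exact hxo) with h | ⟨n₀, q, m, h1, -, hq, h3, h4, h5, -⟩
  swap
  · exact hexcH (Exc.of_surjective _ (QuotientGroup.mk'_surjective _) ⟨n₀, q, m, h1, hq, h3, h4, h5⟩)
  rw [pow_one] at h
  set ν := ρ (g x) - 1 with hν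
  obtain ⟨v₀, hv₀⟩ : ∃ v₀, (ν ^ (p - 1)) v₀ ≠ 0 := by
    by_contra hcon
    push Not at hcon
    exact h (LinearMap.ext hcon)
  have hνp : ν ^ p = 0 := by
    have h1 : (ρ (g x)) ^ p = 1 := by rw [← map_pow, hgp, map_one]
    have hpoly : ((Polynomial.X : Polynomial (ZMod p)) - 1) ^ p = Polynomial.X ^ p - 1 := by
      rw [sub_pow_char, one_pow]
    simpa [hν, h1] using congrArg (Polynomial.aeval (ρ (g x))) hpoly
  have hνge : ∀ i, p ≤ i → ν ^ i = 0 := fun i hi => by
    rw [← Nat.sub_add_cancel hi, pow_add, hνp, mul_zero]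
  have hpos := hp.out.pos
  -- the free submodule
  set b : Fin p → Additive (HHReduce.V p H) := fun i => (ν ^ (i : ℕ)) v₀ with hb
  have hbind : LinearIndependent (ZMod p) b := by
    rw [Fintype.linearIndependent_iff]
    intro c hc
    by_contra hne
    push Not at hne
    obtain ⟨i, hi⟩ := hne
    obtain ⟨i₀, hi₀, hmin⟩ := WellFounded.has_min (wellFounded_lt (α := Fin p)) {i | c i ≠ 0} ⟨i, hi⟩
    apply hi₀
    have h2 := congrArg (ν ^ (p - 1 - (i₀ : ℕ))) hc
    rw [map_sum, map_zero, Finset.sum_eq_single i₀ (fun j _ hj => ?_) (by simp), map_smul, hb] at h2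
    · simp only at h2
      rw [← Module.End.mul_apply, ← pow_add, Nat.sub_add_cancel (by omega)] at h2
      exact (smul_eq_zero.1 h2).resolve_right hv₀
    · rcases lt_or_gt_of_ne hj with hlt | hgt
      · rw [show c j = 0 from not_not.1 fun h' => hmin j h' hlt, zero_smul, map_zero]
      · rw [map_smul, hb]
        simp only
        rw [← Module.End.mul_apply, ← pow_add, hνge _ (by have : (i₀ : ℕ) < (j : ℕ) := hgt; omega)]
        simp
  set M := Submodule.span (ZMod p) (Set.range b) with hM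
  have hMcard : Nat.card M = p ^ p := by
    rw [Module.natCard_eq_pow_finrank (K := ZMod p), finrank_span_eq_card hbind, Nat.card_zmod,
      Fintype.card_fin]
  set top := (ν ^ (p - 1)) v₀ with htop
  have htopM : top ∈ M := Submodule.subset_span ⟨⟨p - 1, by omega⟩, rfl⟩
  have hνtop : ν top = 0 := by
    rw [htop, ← Module.End.mul_apply, ← pow_succ', hνge _ (by omega)]; rfl
  have hMν : ∀ w ∈ M, ν w ∈ M := by
    intro w hw
    induction hw using Submodule.span_induction with
    | mem w hw =>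
      obtain ⟨i, rfl⟩ := hw
      change ν ((ν ^ (i : ℕ)) v₀) ∈ M
      rw [← Module.End.mul_apply, ← pow_succ']
      by_cases hi : (i : ℕ) + 1 < p
      · exact Submodule.subset_span ⟨⟨_, hi⟩, rfl⟩
      · rw [hνge _ (by omega)]; exact Submodule.zero_mem _
    | zero => simp
    | add a c _ _ ha hc => rw [map_add]; exact Submodule.add_mem _ ha hc
    | smul r a _ ha => rw [map_smul]; exact Submodule.smul_mem _ r ha
  have hfixM : ∀ w ∈ M, ν w = 0 → w ∈ Submodule.span (ZMod p) {top} := by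
    intro w hw hνw
    obtain ⟨c, rfl⟩ := (Submodule.mem_span_range_iff_exists_fun _).1 hw
    rw [map_sum] at hνw
    obtain ⟨p', hp'⟩ : ∃ p', p = p' + 1 := ⟨p - 1, by omega⟩
    refine Submodule.sum_mem _ fun i _ => ?_
    by_cases hi : (i : ℕ) = p - 1
    · rw [hb]; simp only; rw [hi]; exact Submodule.smul_mem _ _ (Submodule.mem_span_singleton_self _)
    · suffices hc : c i = 0 by rw [hc, zero_smul]; exact Submodule.zero_mem _
      have hlt : (i : ℕ) + 1 < p := by omega
      let c' : Fin p → ZMod p := fun j =>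
        if hj : (j : ℕ) = 0 then 0 else c ⟨(j : ℕ) - 1, by omega⟩
      have hc' : ∑ j, c' j • b j = 0 := by
        rw [← hνw]
        subst hp'
        rw [Fin.sum_univ_succ, Fin.sum_univ_castSucc]
        have h1 : c' 0 = 0 := by simp [c']
        have h2 : ν (c (Fin.last p') • b (Fin.last p')) = 0 := by
          rw [map_smul, hb]
          simp only [Fin.val_last]
          rw [← Module.End.mul_apply, ← pow_succ', hνge _ le_rfl]
          simp
        rw [h1, zero_smul, zero_add, h2, add_zero]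
        refine Finset.sum_congr rfl fun j _ => ?_
        rw [map_smul, hb]
        simp only [Fin.val_succ, Fin.val_castSucc, c']
        rw [dif_neg (by omega), ← Module.End.mul_apply, ← pow_succ']
        rfl
      have := Fintype.linearIndependent_iff.1 hbind c' hc' ⟨(i : ℕ) + 1, hlt⟩
      simpa [c'] using this
  -- move into the group `H/Φ`
  set xb : H ⧸ HHReduce.Phi p H := (x : H ⧸ HHReduce.Phi p H) with hxb
  let emb : Additive (HHReduce.V p H) → H ⧸ HHReduce.Phi p H := fun w =>
    ((Additive.toMul w : HHReduce.V p H) : H ⧸ HHReduce.Phi p H)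
  have emb_add : ∀ a c, emb (a + c) = emb a * emb c := fun a c => rfl
  have emb_inj : Function.Injective emb := fun a c hac => Additive.toMul.injective (Subtype.ext hac)
  have hTe : ∀ a, emb (ρ (g x) a) = xb * emb a * xb⁻¹ := fun a => hρc x (Additive.toMul a)
  have hνe : ∀ a, emb (ν a) = xb * emb a * xb⁻¹ * (emb a)⁻¹ := fun a => by
    rw [hν, LinearMap.sub_apply, Module.End.one_apply, ← hTe, sub_eq_add_neg, emb_add]
    rfl
  have hc₀ : xb ^ p ∈ HHReduce.V p H := by
    refine ⟨x ^ p, ?_, map_pow _ _ _⟩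
    rw [SetLike.mem_coe, ← hR, ← QuotientGroup.eq_one_iff, QuotientGroup.mk_pow]
    exact hgp
  set c₀ : Additive (HHReduce.V p H) := Additive.ofMul ⟨xb ^ p, hc₀⟩ with hc₀def
  have hνc₀ : ν c₀ = 0 := emb_inj (by
    rw [hνe]
    change xb * xb ^ p * xb⁻¹ * (xb ^ p)⁻¹ = 1
    rw [← pow_succ', pow_succ, mul_inv_cancel_right, mul_inv_cancel])
  have hkey : ∀ (w : Additive (HHReduce.V p H)) (i : ℕ),
      (emb w * xb) ^ i = emb ((∑ j ∈ Finset.range i, (ρ (g x)) ^ j) w) * xb ^ i := by
    intro w i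
    induction i with
    | zero => simp; rfl
    | succ i ih =>
      rw [Finset.sum_range_succ', pow_zero, LinearMap.add_apply, Module.End.one_apply, add_comm _ w,
        emb_add, show (∑ j ∈ Finset.range i, (ρ (g x)) ^ (j + 1)) w =
          (ρ (g x)) ((∑ j ∈ Finset.range i, (ρ (g x)) ^ j) w) by
          rw [← Module.End.mul_apply, Finset.mul_sum]; simp [pow_succ'], hTe, pow_succ' (emb w * xb), ih,
        pow_succ' xb]
      simp [mul_assoc]
  obtain ⟨w₁, hw₁⟩ : ∃ w₁, ∀ a ∈ M, emb a = (emb w₁ * xb) ^ p ^ 1 → a = 0 := by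
    by_cases hcM : c₀ ∈ M
    · obtain ⟨r, hr⟩ := Submodule.mem_span_singleton.1 (hfixM c₀ hcM hνc₀)
      refine ⟨-(r • v₀), fun a _ ha => emb_inj ?_⟩
      rw [ha, hkey, ← HHLinear.sub_one_pow_pred (K := ZMod p), pow_one, ← hν, map_neg, map_smul, ← htop, hr]
      change emb (-c₀) * emb c₀ = _
      rw [← emb_add, neg_add_cancel]
    · refine ⟨0, fun a haM ha => ?_⟩
      exfalso
      refine hcM ?_
      have h0 : a = c₀ := emb_inj (by
        rw [ha, pow_one, hkey, map_zero]
        exact one_mul _)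
      exact h0 ▸ haM
  set x₁ := emb w₁ * xb with hx₁
  rw [pow_one] at hw₁
  -- subgroups of `H/Φ`
  let MG : Subgroup (H ⧸ HHReduce.Phi p H) :=
    { carrier := emb '' (M : Set _)
      one_mem' := ⟨0, M.zero_mem, rfl⟩
      mul_mem' := by
        rintro _ _ ⟨a, ha, rfl⟩ ⟨c, hc, rfl⟩
        exact ⟨a + c, M.add_mem ha hc, rfl⟩
      inv_mem' := by
        rintro _ ⟨a, ha, rfl⟩
        exact ⟨-a, M.neg_mem ha, rfl⟩ }
  have hcommV : ∀ a ∈ HHReduce.V p H, ∀ c ∈ HHReduce.V p H, a * c = c * a := fun a ha c hc => by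
    have := (HHReduce.V_isElementaryAbelian (p := p) (G := H)).1
    exact setLike_mul_comm ha hc
  have hembV : ∀ a, emb a ∈ HHReduce.V p H := fun a => (Additive.toMul a).2
  have hconj₁ : ∀ a, x₁ * emb a * x₁⁻¹ = emb (ρ (g x) a) := fun a => by
    rw [hTe, hx₁, mul_inv_rev]
    calc emb w₁ * xb * emb a * (xb⁻¹ * (emb w₁)⁻¹) = emb w₁ * (xb * emb a * xb⁻¹) * (emb w₁)⁻¹ := by
          simp [mul_assoc]
      _ = _ := by rw [hcommV _ (hembV w₁) _ (by rw [← hTe]; exact hembV _), mul_inv_cancel_right]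
  set K := MG ⊔ Subgroup.zpowers x₁ with hK
  have hMGK : MG ≤ K := le_sup_left
  have hx₁K : x₁ ∈ K := Subgroup.mem_sup_right (Subgroup.mem_zpowers x₁)
  have hx₁MG : x₁ ∈ Subgroup.normalizer (MG : Set (H ⧸ HHReduce.Phi p H)) := by
    refine Carter.le_normalizer_of_conj_mem ?_
    rintro _ ⟨a, ha, rfl⟩
    refine ⟨ρ (g x) a, ?_, (hconj₁ a).symm⟩
    have : ρ (g x) a = ν a + a := by rw [hν, LinearMap.sub_apply, Module.End.one_apply, sub_add_cancel]
    rw [SetLike.mem_coe, this]
    exact M.add_mem (hMν a ha) ha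
  set c₁ := x₁ ^ p with hc₁
  have hc₁V : c₁ ∈ HHReduce.V p H := by
    rw [hc₁, hx₁, hkey]
    exact (HHReduce.V p H).mul_mem (hembV _) hc₀
  let C : Subgroup K := Subgroup.zpowers ⟨c₁, K.pow_mem hx₁K p⟩
  have hc₁K : ∀ k ∈ K, c₁ * k = k * c₁ := by
    have : K ≤ Subgroup.centralizer ({c₁} : Set _) := sup_le (by
      rintro _ ⟨a, -, rfl⟩
      exact Subgroup.mem_centralizer_iff.2 fun z hz => by
        rw [Set.mem_singleton_iff.1 hz]; exact hcommV _ hc₁V _ (hembV a))
      (Subgroup.zpowers_le.2 (Subgroup.mem_centralizer_iff.2 fun z hz => by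
        rw [Set.mem_singleton_iff.1 hz]; exact ((Commute.refl x₁).pow_left p).eq))
    exact fun k hk => Subgroup.mem_centralizer_iff.1 (this hk) c₁ rfl
  have hCn : C.Normal := ⟨fun c hc k => by
    have : k * c * k⁻¹ = c := by
      obtain ⟨i, rfl⟩ := hc
      have h1 : Commute k (⟨c₁, K.pow_mem hx₁K p⟩ : K) := Subtype.ext (hc₁K k k.2).symm
      rw [(h1.zpow_right i).eq, mul_inv_cancel_right]
    rw [this]; exact hc⟩
  set W := K ⧸ C with hW
  set π := QuotientGroup.mk' C with hπ
  let j : MG →* W := π.comp (Subgroup.inclusion hMGK)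
  have hjinj : Function.Injective j := by
    rw [injective_iff_map_eq_one]
    rintro ⟨_, a, ha, rfl⟩ hm
    obtain ⟨i, hi⟩ := (QuotientGroup.eq_one_iff _).1 hm
    have hi' : c₁ ^ i = emb a := congrArg Subtype.val hi
    refine Subtype.ext ?_
    change emb a = 1
    by_cases hip : (p : ℤ) ∣ i
    · obtain ⟨t, rfl⟩ := hip
      rw [← hi', zpow_mul, zpow_natCast, (HHReduce.V_isElementaryAbelian (p := p) (G := H)).2 _ hc₁V, one_zpow]
    · -- `c₁` itself lies in `MG`, so is trivial
      obtain ⟨s, t, hst⟩ := (Nat.prime_iff_prime_int.1 hp.out).coprime_iff_not_dvd.2 hip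
      have hc₁MG : c₁ ∈ MG := by
        have : c₁ = (c₁ ^ i) ^ t := by
          conv_lhs => rw [← zpow_one c₁, ← hst, zpow_add, mul_comm s, zpow_mul, zpow_natCast,
            (HHReduce.V_isElementaryAbelian (p := p) (G := H)).2 _ hc₁V, one_zpow, one_mul, mul_comm,
            zpow_mul]
        rw [this, hi']
        exact MG.zpow_mem ⟨a, ha, rfl⟩ t
      obtain ⟨a', ha', ha''⟩ := hc₁MG
      have := hw₁ a' ha' ha''
      rw [← hi', ← ha'', this]
      exact one_zpow i
  set B := j.range with hB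
  set t := π ⟨x₁, hx₁K⟩ with ht
  have hBcard : Nat.card B = p ^ p := by
    rw [hB, MonoidHom.range_eq_map, Subgroup.card_map_of_injective hjinj, Subgroup.card_top, ← hMcard]
    exact (Nat.card_congr (Equiv.Set.image emb (M : Set _) emb_inj)).symm
  have hx₁V : x₁ ∉ HHReduce.V p H := fun hmem => by
    have : x ∈ R := by
      rw [hR, ← HHReduce.comap_V (p := p) (G := H), Subgroup.mem_comap]
      have := (HHReduce.V p H).mul_mem ((HHReduce.V p H).inv_mem (hembV w₁)) hmem
      rwa [hx₁, inv_mul_cancel_left] at this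
    rw [show g x = 1 from (QuotientGroup.eq_one_iff x).2 this, orderOf_one] at hxo
    exact hp.out.ne_one hxo.symm
  have htB : t ∉ B := by
    rintro ⟨⟨_, a, ha, rfl⟩, hm⟩
    obtain ⟨i, hi⟩ := QuotientGroup.eq.1 hm
    have hi' : c₁ ^ i = (emb a)⁻¹ * x₁ := congrArg Subtype.val hi
    refine hx₁V ?_
    rw [← mul_inv_cancel_left (emb a) x₁, ← hi']
    exact (HHReduce.V p H).mul_mem (hembV a) ((HHReduce.V p H).zpow_mem hc₁V i)
  have htp : t ^ p = 1 := by
    rw [ht, ← map_pow]
    exact (QuotientGroup.eq_one_iff _).2 (Subgroup.mem_zpowers _)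
  have hto : orderOf t = p := orderOf_eq_prime htp fun h => htB (h ▸ B.one_mem)
  have hBn : B.Normal := by
    have : (MG.subgroupOf K).Normal := Subgroup.normal_subgroupOf_of_le_normalizer
      (sup_le Subgroup.le_normalizer (Subgroup.zpowers_le.2 hx₁MG))
    have hBeq : B = (MG.subgroupOf K).map π := by
      ext z
      constructor
      · rintro ⟨m, rfl⟩
        exact ⟨Subgroup.inclusion hMGK m, m.2, rfl⟩
      · rintro ⟨k, hk, rfl⟩
        exact ⟨⟨(k : _), hk⟩, rfl⟩
    rw [hBeq]
    exact this.map π (QuotientGroup.mk'_surjective C)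
  have hBc : IsMulCommutative B := .of_setLike_mul_comm (by
    rintro _ ⟨⟨_, a, ha, rfl⟩, rfl⟩ _ ⟨⟨_, a', ha', rfl⟩, rfl⟩
    rw [← map_mul, ← map_mul]
    exact congrArg j (Subtype.ext (hcommV _ (hembV a) _ (hembV a'))))
  have hBe : ∀ z ∈ B, z ^ p = 1 := by
    rintro _ ⟨⟨_, a, ha, rfl⟩, rfl⟩
    rw [← map_pow, ← map_one j]
    exact congrArg j (Subtype.ext ((HHReduce.V_isElementaryAbelian (p := p) (G := H)).2 _ (hembV a)))
  have htop' : B ⊔ Subgroup.zpowers t = ⊤ := by
    rw [eq_top_iff]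
    intro z _
    obtain ⟨⟨k, hk⟩, rfl⟩ := QuotientGroup.mk'_surjective C z
    obtain ⟨m, hm, _, ⟨i, rfl⟩, rfl⟩ := (SolvBasic.mem_sup_iff_of_le_normalizer
      (Subgroup.zpowers_le.2 hx₁MG)).1 hk
    have : (⟨m * x₁ ^ i, hk⟩ : K) = Subgroup.inclusion hMGK ⟨m, hm⟩ * (⟨x₁, hx₁K⟩ : K) ^ i :=
      Subtype.ext (by simp)
    rw [this, map_mul, map_zpow]
    exact Subgroup.mul_mem_sup ⟨⟨m, hm⟩, rfl⟩ ⟨i, rfl⟩
  have hinf : B ⊓ Subgroup.zpowers t = ⊥ := by
    refine (Subgroup.eq_bot_iff_forall _).2 fun z hz => ?_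
    obtain ⟨hzB, i, rfl⟩ := hz
    by_contra hz1
    apply htB
    have hip : ¬ (p : ℤ) ∣ i := fun hd => hz1 (by
      obtain ⟨s, rfl⟩ := hd
      change t ^ ((p : ℤ) * s) = 1
      rw [zpow_mul, zpow_natCast, htp, one_zpow])
    obtain ⟨s, r, hsr⟩ := (Nat.prime_iff_prime_int.1 hp.out).coprime_iff_not_dvd.2 hip
    have : t = (t ^ i) ^ r := by
      conv_lhs => rw [← zpow_one t, ← hsr, zpow_add, mul_comm s, zpow_mul, zpow_natCast,
        htp, one_zpow, one_mul, mul_comm, zpow_mul]
    rw [this]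
    exact B.zpow_mem hzB r
  have hWcard : Nat.card W = p ^ (p + 1) := by
    rw [← Subgroup.card_top (G := W), ← htop', SolvBasic.card_sup_of_inf_eq_bot
      (fun _ _ => by rw [Subgroup.normalizer_eq_top]; exact Subgroup.mem_top _) hinf, hBcard,
      Nat.card_zpowers, hto, ← pow_succ]
  have hfix : Nat.card ↥(B ⊓ Subgroup.centralizer ({t} : Set W)) = p := by
    let jt : Multiplicative (ZMod p) →* W :=
      { toFun := fun r => j ⟨emb (Multiplicative.toAdd r • top), _, M.smul_mem _ htopM, rfl⟩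
        map_one' := by
          rw [← map_one j]
          exact congrArg j (Subtype.ext (by simp; rfl))
        map_mul' := fun r s => by
          rw [← map_mul]
          exact congrArg j (Subtype.ext ((congrArg emb (by rw [toAdd_mul, add_smul])).trans (emb_add _ _))) }
    have hjt : Function.Injective jt := fun r s hrs => by
      have h0 : emb (Multiplicative.toAdd r • top) = emb (Multiplicative.toAdd s • top) :=
        congrArg (fun z : MG => (z : H ⧸ HHReduce.Phi p H)) (hjinj hrs)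
      have h1 := emb_inj h0
      exact Multiplicative.toAdd.injective (smul_left_injective (ZMod p) hv₀ h1)
    have hrange : jt.range = B ⊓ Subgroup.centralizer ({t} : Set W) := by
      apply le_antisymm
      · rintro _ ⟨r, rfl⟩
        refine ⟨⟨_, rfl⟩, Subgroup.mem_centralizer_iff.2 fun z hz => ?_⟩
        rw [Set.mem_singleton_iff.1 hz]
        change π _ * π _ = π _ * π _
        rw [← map_mul, ← map_mul]
        refine congrArg π (Subtype.ext ?_)
        have h1 : ρ (g x) (Multiplicative.toAdd r • top) = Multiplicative.toAdd r • top := by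
          rw [← sub_eq_zero]
          change ν (Multiplicative.toAdd r • top) = 0
          rw [map_smul, hνtop, smul_zero]
        have h2 := hconj₁ (Multiplicative.toAdd r • top)
        rw [h1] at h2
        exact mul_inv_eq_iff_eq_mul.1 h2
      · rintro z ⟨⟨⟨_, a, ha, rfl⟩, rfl⟩, hz⟩
        have h1 := Subgroup.mem_centralizer_iff.1 hz t rfl
        have h2 : j ⟨emb (ν a), ν a, hMν a ha, rfl⟩ = 1 := by
          have e : (Subgroup.inclusion hMGK ⟨emb (ν a), ν a, hMν a ha, rfl⟩ : K) =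
              (⟨x₁, hx₁K⟩ : K) * Subgroup.inclusion hMGK ⟨emb a, a, ha, rfl⟩ *
                (⟨x₁, hx₁K⟩ : K)⁻¹ * (Subgroup.inclusion hMGK ⟨emb a, a, ha, rfl⟩)⁻¹ := Subtype.ext (by
            change emb (ν a) = x₁ * emb a * x₁⁻¹ * (emb a)⁻¹
            rw [hconj₁, hνe, hTe])
          change π _ = 1
          rw [e, map_mul, map_mul, map_mul, map_inv, map_inv]
          change t * _ * t⁻¹ * _ = 1
          rw [mul_inv_eq_one, mul_inv_eq_iff_eq_mul]
          exact h1
        have h0 : emb (ν a) = emb 0 := congrArg (fun z : MG => (z : H ⧸ HHReduce.Phi p H)) ((map_eq_one_iff j hjinj).1 h2)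
        have h3 : ν a = 0 := emb_inj h0
        obtain ⟨r, hr⟩ := Submodule.mem_span_singleton.1 (hfixM a ha h3)
        exact ⟨Multiplicative.ofAdd r, congrArg j (Subtype.ext (congrArg emb hr))⟩
    rw [← hrange, MonoidHom.range_eq_map, Subgroup.card_map_of_injective hjt, Subgroup.card_top,
      show Nat.card (Multiplicative (ZMod p)) = p from (Nat.card_congr Multiplicative.toAdd).trans (Nat.card_zmod p)]
  -- transfer to `Type` and pull back to `P`
  let E : W ≃* Shrink.{0} W := ((equivShrink.{0} W).symm.mulEquiv).symm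
  have : Finite (Shrink.{0} W) := Finite.of_equiv _ (equivShrink.{0} W)
  refine hwr (Shrink.{0} W) ⟨B.map E.toMonoidHom, E t, hBn.map _ E.surjective,
    .of_setLike_mul_comm (by
      rintro _ ⟨a, ha, rfl⟩ _ ⟨c, hc, rfl⟩
      rw [← map_mul, ← map_mul, setLike_mul_comm ha hc]), ?_, ?_, ?_, ?_, ?_, ?_⟩ ?_
  · rintro _ ⟨a, ha, rfl⟩
    rw [← map_pow, hBe a ha, map_one]
  · rw [Subgroup.card_map_of_injective E.injective, hBcard]
  · rw [E.orderOf_eq, hto]
  · rintro ⟨a, ha, hat⟩
    exact htB (E.injective hat ▸ ha)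
  · rw [← Nat.card_congr E.toEquiv, hWcard]
  · have : B.map E.toMonoidHom ⊓ Subgroup.centralizer ({E t} : Set (Shrink.{0} W)) =
        (B ⊓ Subgroup.centralizer ({t} : Set W)).map E.toMonoidHom := by
      ext z
      obtain ⟨z', rfl⟩ := E.surjective z
      simp [Subgroup.mem_inf, Subgroup.mem_map, Subgroup.mem_centralizer_iff, ← map_mul]
    rw [this, Subgroup.card_map_of_injective E.injective, hfix]
  · -- `K` lies in the image of `P`
    set h := (QuotientGroup.mk' (HHReduce.Phi p H)).comp f with hh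
    have hKP : K ≤ (P : Subgroup G).map h := by
      have hVP : HHReduce.V p H ≤ (P : Subgroup G).map h := by
        rw [hh, ← Subgroup.map_map]
        exact Subgroup.map_mono (FittingCores.pCore_le_sylow P')
      refine sup_le ?_ (Subgroup.zpowers_le.2 ?_)
      · rintro _ ⟨a, -, rfl⟩; exact hVP (hembV a)
      · refine Subgroup.mul_mem _ (hVP (hembV w₁)) ?_
        rw [hh, ← Subgroup.map_map]
        exact Subgroup.mem_map_of_mem _ hxP
    set hP := (h.comp (P : Subgroup G).subtype).codRestrict ((P : Subgroup G).map h)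
      (fun a => Subgroup.mem_map_of_mem h a.2) with hhP
    let K₀ : Subgroup (P : Subgroup G) := (K.subgroupOf ((P : Subgroup G).map h)).comap hP
    let k₀ : K₀ →* K :=
      (h.comp ((P : Subgroup G).subtype.comp K₀.subtype)).codRestrict K (fun a => a.2)
    refine involves_of_surjective (E.toMonoidHom.comp (π.comp k₀))
      (E.surjective.comp ((QuotientGroup.mk'_surjective C).comp ?_))
    rintro ⟨k, hk⟩
    obtain ⟨a, ha, rfl⟩ := hKP hk
    exact ⟨⟨⟨a, ha⟩, hk⟩, rfl⟩

end Cfsg.Agent.HHApply
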