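import Cfsg.Agent.Lib.Solvable.HHLinear

/-! The theorem B of Hall and Higman for a `q`-group extended by a cyclic `p`-group, over an
algebraically closed field. -/

set_option autoImplicit false
open scoped commutatorElement

open Module

namespace Cfsg.Agent.HHCore

variable {K : Type*} [Field K] {V : Type*} [AddCommGroup V] [Module K V] {p : ℕ} [hp : Fact p.Prime]
  [CharP K p] {Q : Type*} [Group Q] [Finite Q]

lemma conj_pow_apply {A : Type*} [Monoid A] (τ : Q →* A) (X : A) (θ : MulAut Q)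
    (h : ∀ t, X * τ t = τ (θ t) * X) (i : ℕ) : ∀ t, X ^ i * τ t = τ ((θ ^ i) t) * X ^ i := by
  induction i with
  | zero => simp
  | succ i ih =>
    intro t
    rw [pow_succ', mul_assoc, ih, ← mul_assoc, h, mul_assoc, ← MulAut.mul_apply, ← pow_succ']

lemma period (n : ℕ) (θ : MulAut Q) (hθ : θ ^ p ^ n = 1) (S : Subgroup Q)
    (hS : ∀ t ∈ S, θ t ∈ S) (f : Q → K) :
    ∃ k ≤ n, (∀ t ∈ S, f ((θ ^ p ^ k) t) = f t) ∧
      ∀ i < p ^ k, ∀ j < p ^ k, (∀ t ∈ S, f ((θ ^ i) t) = f ((θ ^ j) t)) → i = j := by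
  classical
  let F : (S → K) → (S → K) := fun g s => g ⟨θ s, hS s s.2⟩
  let g₀ : S → K := fun s => f s
  have hpow : ∀ i : ℕ, ∀ t ∈ S, (θ ^ i) t ∈ S := by
    intro i
    induction i with
    | zero => simp
    | succ i ih => intro t ht; rw [pow_succ', MulAut.mul_apply]; exact hS _ (ih t ht)
  have hit : ∀ (i : ℕ) (s : S), F^[i] g₀ s = f ((θ ^ i) (s : Q)) := by
    intro i
    induction i with
    | zero => intro s; simp [g₀]
    | succ i ih =>
      intro s
      rw [Function.iterate_succ_apply', pow_succ, MulAut.mul_apply]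
      exact ih _
  have hper : Function.IsPeriodicPt F (p ^ n) g₀ := by
    funext s
    rw [hit, hθ]
    rfl
  obtain ⟨k, hkn, hk⟩ := (Nat.dvd_prime_pow hp.out).1 hper.minimalPeriod_dvd
  refine ⟨k, hkn, fun t ht => ?_, fun i hi j hj h => ?_⟩
  · have := congrFun (Function.iterate_minimalPeriod (f := F) (x := g₀)) ⟨t, ht⟩
    rw [hk, hit] at this
    exact this
  · refine (Function.iterate_eq_iterate_iff_of_lt_minimalPeriod (hk ▸ hi) (hk ▸ hj)).1 ?_
    funext s
    rw [hit, hit]
    exact h s s.2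

theorem amplify_eigen (τ : Q →* Module.End K V) (X : Module.End K V) (θ : MulAut Q)
    (hconj : ∀ t, X * τ t = τ (θ t) * X) (n : ℕ) (hθ : θ ^ p ^ n = 1) (hX : X ^ p ^ n = 1)
    (S : Subgroup Q) (hS : ∀ t ∈ S, θ t ∈ S) (f : Q → K) (k : ℕ) (hkn : k ≤ n)
    (hper : ∀ t ∈ S, f ((θ ^ p ^ k) t) = f t)
    (hinj : ∀ i < p ^ k, ∀ j < p ^ k, (∀ t ∈ S, f ((θ ^ i) t) = f ((θ ^ j) t)) → i = j)
    (m : ℕ) (v : V) (hv : ∀ t ∈ S, τ t v = f t • v) (hm : ((X ^ p ^ k - 1) ^ m) v ≠ 0) :
    ((X - 1) ^ (p ^ k * m + (p ^ k - 1))) v ≠ 0 := by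
  classical
  set P := p ^ k with hP
  set N := p ^ n with hN
  have hPN : P ≤ N := Nat.pow_le_pow_right hp.out.pos hkn
  have hpow : ∀ i : ℕ, ∀ t ∈ S, (θ ^ i) t ∈ S := by
    intro i
    induction i with
    | zero => simp
    | succ i ih => intro t ht; rw [pow_succ', MulAut.mul_apply]; exact hS _ (ih t ht)
  let Us : Submodule K V :=
    { carrier := {w | ∀ t ∈ S, τ t w = f t • w}
      add_mem' := fun {a b} ha hb t ht => by rw [map_add, ha t ht, hb t ht, smul_add]
      zero_mem' := fun t _ => by simp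
      smul_mem' := fun c w hw t ht => by rw [map_smul, hw t ht, smul_comm] }
  have hmove : ∀ (i : ℕ), i ≤ N → ∀ w ∈ Us, ∀ u ∈ S,
      τ u ((X ^ i) w) = f ((θ ^ (N - i)) u) • (X ^ i) w := by
    intro i hi w hw u hu
    have hu' : (θ ^ i) ((θ ^ (N - i)) u) = u := by
      rw [← MulAut.mul_apply, ← pow_add, Nat.add_sub_cancel' hi, hθ, MulAut.one_apply]
    conv_lhs => rw [← hu', ← Module.End.mul_apply, ← conj_pow_apply τ X θ hconj i, Module.End.mul_apply,
      hw _ (hpow _ u hu), map_smul]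
  refine HHLinear.sub_one_pow_amplify X k m Us (fun w hw u hu => ?_) (fun w hw hw0 hsum => ?_) v hv hm
  · rw [hmove P hPN w hw u hu]
    congr 1
    rw [← hper _ (hpow (N - P) u hu), ← MulAut.mul_apply, ← pow_add,
      Nat.add_sub_cancel' hPN, hθ, MulAut.one_apply]
  · have hne : ∀ i : Fin P, (X ^ (i : ℕ)) w ≠ 0 := by
      intro i h
      apply hw0
      have := congrArg (X ^ (N - (i : ℕ))) h
      rwa [← Module.End.mul_apply, ← pow_add, Nat.sub_add_cancel (i.2.le.trans hPN), hX,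
        Module.End.one_apply, map_zero] at this
    have hind : LinearIndependent K fun i : Fin P => (X ^ (i : ℕ)) w := by
      refine HHLinear.linearIndependent_of_eigen (fun u : S => τ u) _ hne
        (fun i u => f ((θ ^ (N - (i : ℕ))) u)) (fun i u => hmove _ (i.2.le.trans hPN) w hw u u.2) ?_
      intro i j hij
      refine Fin.ext (hinj i i.2 j j.2 fun t ht => ?_).symm.symm
      have h := congrFun hij ⟨(θ ^ ((i : ℕ) + (j : ℕ))) t, hpow _ t ht⟩
      simp only at h
      rw [← MulAut.mul_apply, ← MulAut.mul_apply, ← pow_add, ← pow_add] at h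
      have e1 : N - (i : ℕ) + ((i : ℕ) + (j : ℕ)) = (j : ℕ) + N := by have := i.2; omega
      have e2 : N - (j : ℕ) + ((i : ℕ) + (j : ℕ)) = (i : ℕ) + N := by have := j.2; omega
      rw [e1, e2, pow_add, pow_add, hθ, mul_one, mul_one] at h
      exact h.symm
    have h := Fintype.linearIndependent_iff.1 hind (fun _ => 1) (by
      simp only [one_smul]
      rw [Fin.sum_univ_eq_sum_range (fun i => (X ^ i) w) P]
      exact hsum) ⟨0, pow_pos hp.out.pos k⟩
    exact one_ne_zero h

section Inner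

variable [FiniteDimensional K V] [IsAlgClosed K] {W : Type*} [AddCommGroup W] [Module K W]
  [FiniteDimensional K W] [Nontrivial W]

open Classical in
/-- The irreducible case. -/
theorem inner {q e : ℕ} [hq : Fact q.Prime] (hQ : Nat.card Q = q ^ e) (τ : Q →* Module.End K V)
    (X : Module.End K V) (θ : MulAut Q) (n : ℕ) (hn : 1 ≤ n)
    (hθ : θ ^ p ^ n = 1) (hX : X ^ p ^ n = 1) (hconj : ∀ t, X * τ t = τ (θ t) * X)
    (ρ : Q →* Module.End K W)
    (hirr : ∀ U : Submodule K W, (∀ t, ∀ v ∈ U, ρ t v ∈ U) → U = ⊥ ∨ U = ⊤)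
    (ι : W →ₗ[K] V) (hι : ι ≠ 0) (hint : ∀ t, τ t ∘ₗ ι = ι ∘ₗ ρ t)
    (S : Subgroup Q) (μ : Q → K) (hμ : ∀ s ∈ S, ρ s = μ s • 1) (hscal : ∀ (t : Q) (c : K), ρ t = c • 1 → t ∈ S)
    (hcomm : ∀ u t : Q, ⁅u, t⁆ ∈ S) (hSθ : ∀ s ∈ S, θ s ∈ S) (hμθ : ∀ s ∈ S, μ (θ s) = μ s)
    (hfree : ∀ t, t ∉ S → ∀ i, 0 < i → i < p ^ n → ((θ ^ i) t) * t⁻¹ ∉ S) (hS : S ≠ ⊤) :
    ∃ v : V, (∀ s ∈ S, τ s v = μ s • v) ∧ (((X - 1) ^ (p ^ n - 1)) v ≠ 0 ∨
      ∃ m, 1 ≤ m ∧ p ^ n - 1 = q ^ m ∧ ((X - 1) ^ (p ^ n - 2)) v ≠ 0) := by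
  set N := p ^ n with hN
  have hN2 : 2 ≤ N := le_trans hp.out.two_le (Nat.le_self_pow (by omega) p)
  obtain ⟨hspan, hschur⟩ := HHLinear.span_eq_top_and_schur ρ hirr
  have hSn : S.Normal := ⟨fun s hs g => by
    rw [show g * s * g⁻¹ = ⁅g, s⁆ * s by rw [commutatorElement_def]; group]
    exact S.mul_mem (hcomm g s) hs⟩
  have hρinv : ∀ t, ρ t⁻¹ * ρ t = 1 := fun t => by rw [← map_mul, inv_mul_cancel, map_one]
  have hρne : ∀ t, ρ t ≠ 0 := fun t h => by
    have := hρinv t
    rw [h, mul_zero] at this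
    exact zero_ne_one this
  -- the basis
  let B : Q ⧸ S → Module.End K W := fun i => ρ i.out
  have hrep : ∀ t : Q, ∃ c : K, ρ t = c • B (QuotientGroup.mk t) := by
    intro t
    obtain ⟨s, hs⟩ := QuotientGroup.mk_out_eq_mul S t
    have hs' : ρ t = ρ ((QuotientGroup.mk t : Q ⧸ S).out) * ρ (s : Q)⁻¹ := by
      rw [← map_mul, hs, mul_inv_cancel_right]
    refine ⟨μ (s : Q)⁻¹, ?_⟩
    rw [hs', hμ _ (S.inv_mem s.2), mul_smul_comm, mul_one]
  have hind : LinearIndependent K B := by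
    refine HHLinear.linearIndependent_of_eigen
      (fun u : Q => LinearMap.mulLeft K (ρ u) * LinearMap.mulRight K (ρ u⁻¹)) B (fun i => hρne _)
      (fun i u => μ ⁅u, i.out⁆) (fun i u => ?_) ?_
    · change ρ u * (B i * ρ u⁻¹) = _
      rw [← map_mul, ← map_mul, show u * (i.out * u⁻¹) = ⁅u, i.out⁆ * i.out by
        rw [commutatorElement_def]; group, map_mul, hμ _ (hcomm _ _), smul_mul_assoc, one_mul]
    · intro i j hij
      rw [← i.out_eq', ← j.out_eq']
      refine QuotientGroup.eq.2 ?_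
      suffices h : ∀ u, Commute (ρ (i.out⁻¹ * j.out)) (ρ u) by
        obtain ⟨c, hc⟩ := hschur _ h
        exact hscal _ c hc
      intro u
      have h1 : μ ⁅u, i.out⁆ = μ ⁅u, j.out⁆ := congrFun hij u
      have e1 : ∀ t : Q, ρ u * ρ t = μ ⁅u, t⁆ • (ρ t * ρ u) := fun t => by
        rw [← map_mul, ← map_mul, show u * t = ⁅u, t⁆ * (t * u) by
          rw [commutatorElement_def]; group, map_mul, hμ _ (hcomm _ _), smul_mul_assoc, one_mul]
      have hc0 : μ ⁅u, i.out⁆ ≠ 0 := fun h0 => by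
        have := hμ _ (hcomm u i.out)
        rw [h0, zero_smul] at this
        exact hρne _ this
      have e2 : ρ i.out * (ρ u * ρ (i.out⁻¹ * j.out)) = ρ i.out * (ρ (i.out⁻¹ * j.out) * ρ u) := by
        refine smul_right_injective _ hc0 ?_
        change μ ⁅u, i.out⁆ • (ρ i.out * (ρ u * ρ (i.out⁻¹ * j.out))) =
          μ ⁅u, i.out⁆ • (ρ i.out * (ρ (i.out⁻¹ * j.out) * ρ u))
        rw [← mul_assoc, ← smul_mul_assoc, ← e1, mul_assoc, ← map_mul (ρ) i.out, mul_inv_cancel_left,
          e1, ← h1, ← mul_assoc (ρ i.out), ← map_mul (ρ) i.out, mul_inv_cancel_left]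
      have := congrArg (fun F => ρ i.out⁻¹ * F) e2
      simp only [← mul_assoc, hρinv, one_mul] at this
      exact this.symm
  have hBspan : ⊤ ≤ Submodule.span K (Set.range B) := by
    rw [← hspan, Submodule.span_le]
    rintro _ ⟨t, rfl⟩
    obtain ⟨c, hc⟩ := hrep t
    rw [hc]
    exact Submodule.smul_mem _ c (Submodule.subset_span ⟨_, rfl⟩)
  have : Fintype (Q ⧸ S) := Fintype.ofFinite _
  let b : Basis (Q ⧸ S) K (Module.End K W) := Basis.mk hind hBspan
  have hb : ∀ i, b i = B i := fun i => Basis.mk_apply _ _ i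
  -- the automorphism induced by `θ`
  let C₀ : Module.End K (Module.End K W) := b.constr K fun i => ρ (θ i.out)
  have hC₀ : ∀ t, C₀ (ρ t) = ρ (θ t) := by
    intro t
    obtain ⟨s, hs⟩ := QuotientGroup.mk_out_eq_mul S t
    set i : Q ⧸ S := QuotientGroup.mk t with hi
    have ht : t = i.out * (s : Q)⁻¹ := by rw [hs, mul_inv_cancel_right]
    have hθt : θ t = θ i.out * θ (s : Q)⁻¹ := by rw [← map_mul, ← ht]
    have hb' : C₀ (B i) = ρ (θ i.out) := by rw [← hb, Basis.constr_basis]
    rw [hθt, map_mul, hμ _ (hSθ _ (S.inv_mem s.2)), hμθ _ (S.inv_mem s.2), mul_smul_comm, mul_one,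
      ← hb', ← map_smul]
    congr 1
    conv_lhs => rw [ht, map_mul, hμ _ (S.inv_mem s.2), mul_smul_comm, mul_one]
  have hCmul : ∀ F G, C₀ (F * G) = C₀ F * C₀ G := by
    intro F G
    have hF : F ∈ Submodule.span K (Set.range ρ) := hspan ▸ Submodule.mem_top
    induction hF using Submodule.span_induction with
    | mem x hx =>
      obtain ⟨t, rfl⟩ := hx
      have hG : G ∈ Submodule.span K (Set.range ρ) := hspan ▸ Submodule.mem_top
      induction hG using Submodule.span_induction with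
      | mem y hy => obtain ⟨u, rfl⟩ := hy; rw [← map_mul, hC₀, hC₀, hC₀, map_mul, map_mul]
      | zero => simp
      | add y z _ _ hy hz => rw [mul_add, map_add, map_add, hy, hz, mul_add]
      | smul c y _ hy => rw [mul_smul_comm, map_smul, map_smul, hy, mul_smul_comm]
    | zero => simp
    | add y z _ _ hy hz => rw [add_mul, map_add, map_add, hy, hz, add_mul]
    | smul c y _ hy => rw [smul_mul_assoc, map_smul, map_smul, hy, smul_mul_assoc]
  have hC1 : C₀ 1 = 1 := by rw [← map_one ρ, hC₀, map_one]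
  have hCpow : ∀ (k : ℕ) (t : Q), (C₀ ^ k) (ρ t) = ρ ((θ ^ k) t) := by
    intro k
    induction k with
    | zero => simp
    | succ k ih =>
      intro t
      rw [pow_succ', Module.End.mul_apply, ih, hC₀, ← MulAut.mul_apply, ← pow_succ']
  have hCN : C₀ ^ N = 1 := b.ext fun i => by
    rw [hb, hCpow, hθ]; rfl
  have hCbij : Function.Bijective C₀ := by
    have h1 : N - 1 + 1 = N := by omega
    refine Function.bijective_iff_has_inverse.2 ⟨(C₀ ^ (N - 1) : Module.End K _), fun F => ?_, fun F => ?_⟩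
    · rw [← Module.End.mul_apply, ← pow_succ, h1, hCN, Module.End.one_apply]
    · rw [← Module.End.mul_apply, ← pow_succ', h1, hCN, Module.End.one_apply]
  obtain ⟨T, hT⟩ := (AlgEquiv.ofBijective (AlgHom.ofLinearMap C₀ hC1 hCmul) hCbij).eq_linearEquivConjAlgEquiv
  set g₀ : Module.End K W := T.toLinearMap with hg₀
  set g₀' : Module.End K W := T.symm.toLinearMap with hg₀'
  have h01 : g₀ * g₀' = 1 := LinearMap.ext fun w => T.apply_symm_apply w
  have h10 : g₀' * g₀ = 1 := LinearMap.ext fun w => T.symm_apply_apply w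
  have hconjC : ∀ F, C₀ F = g₀ * F * g₀' := by
    intro F
    have := congrArg (fun Φ : Module.End K W ≃ₐ[K] Module.End K W => Φ F) hT
    refine this.trans ?_
    refine LinearMap.ext fun w => ?_
    simp [LinearEquiv.conjAlgEquiv_apply, g₀, g₀']
  -- normalise
  have hCk : ∀ (k : ℕ) F, (C₀ ^ k) F = g₀ ^ k * F * g₀' ^ k := by
    intro k
    induction k with
    | zero => simp
    | succ k ih => intro F; rw [pow_succ', Module.End.mul_apply, ih, hconjC, pow_succ', pow_succ g₀']; simp [mul_assoc]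
  have hcomm01 : Commute g₀ g₀' := by rw [Commute, SemiconjBy, h01, h10]
  obtain ⟨c, hc⟩ := hschur (g₀ ^ N) fun t => by
    have h := hCk N (ρ t)
    rw [hCN, Module.End.one_apply] at h
    change g₀ ^ N * ρ t = ρ t * g₀ ^ N
    conv_rhs => rw [h, mul_assoc, ← hcomm01.symm.mul_pow, h10, one_pow, mul_one]
  have hc0 : c ≠ 0 := by
    rintro rfl
    have h := congrArg (fun F => F * g₀' ^ N) hc
    simp only [← hcomm01.mul_pow, h01, one_pow, zero_smul, zero_mul] at h
    exact one_ne_zero h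
  obtain ⟨r, hr⟩ := IsAlgClosed.exists_pow_nat_eq c (show 0 < N by omega)
  have hr0 : r ≠ 0 := by rintro rfl; rw [zero_pow (by omega)] at hr; exact hc0 hr.symm
  set g : Module.End K W := r⁻¹ • g₀ with hg
  set g' : Module.End K W := r • g₀' with hg'
  have hgg' : g * g' = 1 := by rw [hg, hg', smul_mul_smul_comm, h01, inv_mul_cancel₀ hr0, one_smul]
  have hg'g : g' * g = 1 := by rw [hg, hg', smul_mul_smul_comm, h10, mul_inv_cancel₀ hr0, one_smul]
  have hgN : g ^ N = 1 := by
    rw [hg, smul_pow, hc, inv_pow, hr, smul_smul, inv_mul_cancel₀ hc0, one_smul]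
  have hCg : ∀ F, C₀ F = g * F * g' := fun F => by
    rw [hconjC, hg, hg', smul_mul_assoc, smul_mul_smul_comm, inv_mul_cancel₀ hr0, one_smul]
  have hgρ : ∀ t, g * ρ t = ρ (θ t) * g := fun t => by
    rw [← hC₀, hCg, mul_assoc _ g' g, hg'g, mul_one]
  -- the permutation of the basis
  let σf : Q ⧸ S →* Q ⧸ S := QuotientGroup.map S S θ.toMonoidHom (fun s hs => hSθ s hs)
  have hσk : ∀ (k : ℕ) (t : Q), (σf^[k]) (QuotientGroup.mk t) = QuotientGroup.mk ((θ ^ k) t) := by
    intro k
    induction k with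
    | zero => simp
    | succ k ih =>
      intro t
      rw [Function.iterate_succ_apply', ih, pow_succ']
      rfl
  have hσN : ∀ i, (σf^[N]) i = i := fun i => by rw [← i.out_eq', hσk, hθ]; rfl
  have hσinj : Function.Injective σf := fun i j hij => by
    have h := congrArg (σf^[N - 1]) hij
    rw [← Function.iterate_succ_apply, ← Function.iterate_succ_apply,
      show (N - 1).succ = N by omega, hσN, hσN] at h
    exact h
  let σ : Equiv.Perm (Q ⧸ S) := Equiv.ofBijective σf (Finite.injective_iff_bijective.1 hσinj)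
  have hσpow : ∀ (k : ℕ) i, (σ ^ k) i = (σf^[k]) i := fun k i => by
    rw [Equiv.Perm.coe_pow]; rfl
  have hσN' : σ ^ N = 1 := Equiv.ext fun i => (hσpow N i).trans (hσN i)
  have hfree' : ∀ i : Q ⧸ S, i ≠ 1 → ∀ k l, k < N → l < N → (σ ^ k) i = (σ ^ l) i → k = l := by
    intro i hi
    suffices h : ∀ k l, l ≤ k → k < N → (σ ^ k) i = (σ ^ l) i → k = l by
      intro k l hk hl he
      rcases le_total l k with hle | hle
      · exact h k l hle hk he
      · exact (h l k hle hl he.symm).symm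
    intro k l hle hk he
    by_contra hne
    have h : (σ ^ (k - l)) i = i := by
      refine (σ ^ l).injective ?_
      rw [← Equiv.Perm.mul_apply, ← pow_add, Nat.add_sub_cancel' hle, he]
    rw [hσpow, ← i.out_eq', hσk] at h
    refine hfree i.out (fun hm => hi ?_) (k - l) (by omega) (by omega) ?_
    · rw [← i.out_eq']; exact (QuotientGroup.eq_one_iff _).2 hm
    · rw [← QuotientGroup.eq_one_iff, QuotientGroup.mk_mul, QuotientGroup.mk_inv, h, mul_inv_cancel]
  -- projections
  let pr : Set (Q ⧸ S) → Module.End K (Module.End K W) := fun D =>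
    b.constr K fun i => if i ∈ D then b i else 0
  have hpr : ∀ D i, pr D (b i) = if i ∈ D then b i else 0 := fun D i => Basis.constr_basis _ _ _ _
  have hC0b : ∀ i, ∃ d : K, C₀ (b i) = d • b (σ i) := fun i => by
    rw [hb, hC₀]
    obtain ⟨d, hd⟩ := hrep (θ i.out)
    refine ⟨d, ?_⟩
    rw [hd, hb]
    congr 2
    conv_rhs => rw [← i.out_eq']
    rfl
  have hCpr : ∀ D, C₀ * pr D = pr (σ '' D) * C₀ := fun D => b.ext fun i => by
    obtain ⟨d, hd⟩ := hC0b i
    rw [Module.End.mul_apply, Module.End.mul_apply, hpr, hd, map_smul, hpr]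
    by_cases hi : i ∈ D
    · rw [if_pos hi, if_pos (Set.mem_image_of_mem σ hi), hd]
    · rw [if_neg hi, if_neg (fun h => hi ((Equiv.injective σ).mem_set_image.1 h)), map_zero, smul_zero]
  have hfix : ∀ Z : Module.End K W, Commute Z g → ∃ (α : K) (T : Module.End K W),
      Z = α • 1 + ∑ i ∈ Finset.range N, g ^ i * T * g' ^ i := by
    intro Z hZ
    have hCZ : C₀ Z = Z := by rw [hCg, ← hZ.eq, mul_assoc, hgg', mul_one]
    let rep : Q ⧸ S → Q ⧸ S := fun i => (Quotient.mk (Equiv.Perm.SameCycle.setoid σ) i).out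
    let D : Set (Q ⧸ S) := {i | i ≠ 1 ∧ rep i = i}
    have hCgk : ∀ (k : ℕ) F, g ^ k * F * g' ^ k = (C₀ ^ k) F := by
      intro k
      induction k with
      | zero => simp
      | succ k ih => intro F; rw [pow_succ' C₀, Module.End.mul_apply, ← ih, hCg, pow_succ' g, pow_succ g']; simp [mul_assoc]
    have hk : ∀ k : ℕ, (C₀ ^ k) (pr D Z) = pr ((σ ^ k : Equiv.Perm (Q ⧸ S)) '' D) Z := by
      intro k
      induction k with
      | zero => simp
      | succ k ih =>
        rw [pow_succ', Module.End.mul_apply, ih, ← Module.End.mul_apply, hCpr, Module.End.mul_apply,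
          hCZ, ← Set.image_comp, pow_succ' σ]
        rfl
    have h1 : B 1 ∈ (K ∙ (1 : Module.End K W)) := by
      have h : (1 : Q ⧸ S).out ∈ S := by rw [← QuotientGroup.eq_one_iff]; exact (1 : Q ⧸ S).out_eq'
      change ρ _ ∈ _
      rw [hμ _ h]
      exact Submodule.smul_mem _ _ (Submodule.mem_span_singleton_self _)
    have hsum : Z - ∑ k ∈ Finset.range N, (C₀ ^ k) (pr D Z) ∈ (K ∙ (1 : Module.End K W)) := by
      simp_rw [hk]
      rw [← LinearMap.sum_apply]
      have key : (1 : Module.End K (Module.End K W)) -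
          ∑ k ∈ Finset.range N, pr ((σ ^ k : Equiv.Perm (Q ⧸ S)) '' D) =
          pr {1} := b.ext fun i => by
        rw [LinearMap.sub_apply, LinearMap.sum_apply, Module.End.one_apply, hpr]
        simp_rw [hpr]
        by_cases hi : i = 1
        · subst hi
          rw [Finset.sum_eq_zero fun k _ => if_neg ?_, sub_zero, if_pos (Set.mem_singleton _)]
          rintro ⟨j, ⟨hj1, -⟩, hj⟩
          apply hj1
          refine (σ ^ k).injective (hj.trans ?_)
          rw [hσpow]
          exact (Function.iterate_fixed (map_one σf) k).symm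
        · rw [if_neg (show i ∉ ({1} : Set (Q ⧸ S)) from hi)]
          have hsc : Equiv.Perm.SameCycle σ (rep i) i := by
            have h := Quotient.out_eq (Quotient.mk (Equiv.Perm.SameCycle.setoid σ) i)
            exact Quotient.exact h
          obtain ⟨z, hz⟩ := hsc.exists_nat_pow_eq
          have hz' : (σ ^ (z % N)) (rep i) = i := by
            rw [← Nat.mod_add_div z N, pow_add, pow_mul, hσN', one_pow, mul_one] at hz
            exact hz
          have hr1 : rep i ≠ 1 := fun h => hi (by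
            rw [← hz', h, hσpow]; exact Function.iterate_fixed (map_one σf) _)
          have hrD : rep i ∈ D := ⟨hr1, by
            change (Quotient.mk _ (rep i)).out = rep i
            rw [Quotient.out_eq]⟩
          rw [Finset.sum_eq_single (z % N) (fun k hk hne => if_neg ?_)
            (fun h => absurd (Finset.mem_range.2 (Nat.mod_lt _ (by omega))) h),
            if_pos ⟨rep i, hrD, hz'⟩, sub_self]
          rintro ⟨j, ⟨-, hj2⟩, hj⟩
          have hjr : j = rep i := by
            rw [← hj2]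
            refine congrArg Quotient.out (Quotient.sound ?_)
            rw [← hj]
            exact Equiv.Perm.sameCycle_pow_right.2 (Equiv.Perm.SameCycle.refl _ _)
          rw [hjr] at hj
          exact hne (hfree' _ hr1 k _ (Finset.mem_range.1 hk) (Nat.mod_lt _ (by omega))
            (hj.trans hz'.symm))
      have := congrArg (fun F : Module.End K (Module.End K W) => F Z) key
      simp only [LinearMap.sub_apply, Module.End.one_apply] at this
      rw [this]
      have hr : ∀ F, pr {1} F ∈ (K ∙ (1 : Module.End K W)) := by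
        intro F
        rw [← b.sum_repr F, map_sum]
        refine Submodule.sum_mem _ fun i _ => ?_
        rw [map_smul, hpr]
        refine Submodule.smul_mem _ _ ?_
        split_ifs with h
        · rw [hb, show i = 1 from h]; exact h1
        · exact Submodule.zero_mem _
      exact hr Z
    obtain ⟨α, hα⟩ := Submodule.mem_span_singleton.1 hsum
    refine ⟨α, pr D Z, ?_⟩
    simp_rw [hCgk]
    rw [hα, sub_add_cancel]
  obtain ⟨i₀, hi₀⟩ : ∃ i : Q ⧸ S, i ≠ 1 := by
    by_contra h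
    push Not at h
    exact hS (eq_top_iff.2 fun t _ => (QuotientGroup.eq_one_iff t).1 (h _))
  have hg1 : g ≠ 1 := by
    intro h1
    have hg'1 : g' = 1 := by
      calc g' = g * g' := by rw [h1, one_mul]
        _ = 1 := hgg'
    obtain ⟨d, hd⟩ := hC0b i₀
    rw [hCg, h1, hg'1, one_mul, mul_one] at hd
    have hσi : σ i₀ = i₀ := by
      by_contra hne
      have := congrArg (fun F => b.repr F i₀) hd
      simp [b.repr_self, Finsupp.single_eq_of_ne (Ne.symm hne)] at this
    have := hfree' i₀ hi₀ 1 0 (by omega) (by omega) (by rw [pow_one, pow_zero]; exact hσi)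
    exact absurd this one_ne_zero
  -- an equivariant embedding
  let U : Submodule K (W →ₗ[K] V) :=
    { carrier := {f | ∀ t, τ t ∘ₗ f = f ∘ₗ ρ t}
      add_mem' := fun {a b} ha hb t => by rw [LinearMap.comp_add, LinearMap.add_comp, ha t, hb t]
      zero_mem' := fun t => by simp
      smul_mem' := fun c f hf t => by rw [LinearMap.comp_smul, LinearMap.smul_comp, hf t] }
  let Φ : Module.End K (W →ₗ[K] V) :=
    (LinearMap.llcomp K W V V X) * (LinearMap.lcomp K V g')
  have hΦ : ∀ f, Φ f = X ∘ₗ f ∘ₗ g' := fun f => rfl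
  have hΦk : ∀ (k : ℕ) f, (Φ ^ k) f = (X ^ k) ∘ₗ f ∘ₗ (g' ^ k) := by
    intro k
    induction k with
    | zero => simp [Module.End.one_eq_id]
    | succ k ih =>
      intro f
      rw [pow_succ', Module.End.mul_apply, ih, hΦ, pow_succ' X, pow_succ g']
      rfl
  have hg'N : g' ^ N = 1 := by
    have hc' : Commute g' g := by rw [Commute, SemiconjBy, hg'g, hgg']
    have := congrArg (fun F => g' ^ N * F) hgN
    simp only [← hc'.mul_pow, hg'g, one_pow, mul_one] at this
    exact this.symm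
  have hΦN : Φ ^ N = 1 := LinearMap.ext fun f => by
    rw [hΦk, hX, hg'N]; rfl
  have hΦU : ∀ f ∈ U, Φ f ∈ U := by
    intro f hf t
    obtain ⟨t', rfl⟩ := θ.surjective t
    refine LinearMap.ext fun w => ?_
    have h1 : τ (θ t') (X (f (g' w))) = X (τ t' (f (g' w))) :=
      (congrArg (fun F : Module.End K V => F (f (g' w))) (hconj t')).symm
    have h2 : g' * ρ (θ t') = ρ t' * g' := by
      calc g' * ρ (θ t') = g' * (ρ (θ t') * g) * g' := by rw [mul_assoc, mul_assoc, hgg', mul_one]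
        _ = _ := by rw [← hgρ, ← mul_assoc g', hg'g, one_mul]
    change τ (θ t') (X (f (g' w))) = X (f (g' (ρ (θ t') w)))
    rw [h1, show g' (ρ (θ t') w) = ρ t' (g' w) from congrArg (fun F : Module.End K W => F w) h2]
    exact congrArg X (congrArg (fun F : W →ₗ[K] V => F (g' w)) (hf t'))
  obtain ⟨f, hfU, hf0, hΦf⟩ := HHLinear.exists_fixed Φ n hΦN U hΦU (v := ι) hint hι
  have hXf : ∀ w, X (f w) = f (g w) := fun w => by
    have := congrArg (fun F : W →ₗ[K] V => F (g w)) hΦf
    rw [hΦ] at this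
    simp only [LinearMap.comp_apply] at this
    rwa [← Module.End.mul_apply, hg'g, Module.End.one_apply] at this
  have hfinj : ∀ w, f w = 0 → w = 0 := by
    intro w hw
    rcases hirr (LinearMap.ker f) (fun t v hv => by
      rw [LinearMap.mem_ker] at hv ⊢
      have := congrArg (fun F : W →ₗ[K] V => F v) (hfU t)
      simp only [LinearMap.comp_apply] at this
      rw [← this, hv, map_zero]) with h | h
    · exact (Submodule.mem_bot K).1 (h ▸ hw)
    · exact absurd (LinearMap.ker_eq_top.1 h) hf0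
  have hXk : ∀ (k : ℕ) w, ((X - 1) ^ k) (f w) = f (((g - 1) ^ k) w) := by
    intro k
    induction k with
    | zero => simp
    | succ k ih =>
      intro w
      rw [pow_succ', Module.End.mul_apply, ih, LinearMap.sub_apply, Module.End.one_apply, hXf,
        ← map_sub, pow_succ', Module.End.mul_apply]
      rfl
  have hev : ∀ w, ∀ s ∈ S, τ s (f w) = μ s • f w := fun w s hs => by
    have := congrArg (fun F : W →ₗ[K] V => F w) (hfU s)
    simp only [LinearMap.comp_apply] at this
    rw [this, hμ s hs, LinearMap.smul_apply, Module.End.one_apply, map_smul]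
  by_cases hfull : (g - 1) ^ (N - 1) = 0
  · obtain ⟨hdim, hne⟩ := HHLinear.single_block g g' hgg' hg'g n hgN hg1 hfix hfull
    obtain ⟨w, hw⟩ : ∃ w, ((g - 1) ^ (N - 2)) w ≠ 0 := by
      by_contra h
      push Not at h
      exact hne (LinearMap.ext h)
    refine ⟨f w, hev w, Or.inr ?_⟩
    have hcard : finrank K W * finrank K W = Nat.card (Q ⧸ S) := by
      rw [← Module.finrank_linearMap (R := K) (S := K) (M := W) (N := W), finrank_eq_card_basis b,
        Nat.card_eq_fintype_card]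
    obtain ⟨d, -, hd⟩ := (Nat.dvd_prime_pow hq.out).1
      (show finrank K W ∣ q ^ e from hQ ▸ (Dvd.intro _ hcard).trans (Subgroup.card_quotient_dvd_card S))
    refine ⟨d, Nat.pos_of_ne_zero fun h0 => ?_, by rw [← hd]; omega, fun h => hw (hfinj _ ?_)⟩
    · rw [hd, h0] at hcard
      have : Subsingleton (Q ⧸ S) := (Nat.card_eq_one_iff_unique.1 (by simpa using hcard.symm)).1
      exact hi₀ (Subsingleton.elim _ _)
    · rw [← hXk]; exact h
  · obtain ⟨w, hw⟩ : ∃ w, ((g - 1) ^ (N - 1)) w ≠ 0 := by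
      by_contra h
      push Not at h
      exact hfull (LinearMap.ext h)
    exact ⟨f w, hev w, Or.inl fun h => hw (hfinj _ (by rw [← hXk]; exact h))⟩

end Inner

section Main

variable [FiniteDimensional K V] [IsAlgClosed K]

open Classical in
/-- Theorem B for `Q⟨x⟩`. -/
theorem core {q e : ℕ} [hq : Fact q.Prime] (hqp : q ≠ p) (hQ : Nat.card Q = q ^ e)
    (τ : Q →* Module.End K V) (hτ : Function.Injective τ) (X : Module.End K V) (θ : MulAut Q)
    (n : ℕ) (hn : 1 ≤ n) (hθ : θ ^ p ^ n = 1) (hX : X ^ p ^ n = 1)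
    (hconj : ∀ t, X * τ t = τ (θ t) * X) (hy : ∃ t, (θ ^ p ^ (n - 1)) t ≠ t)
    (hmin : (∀ a b : Q, a * b = b * a) ∨ ((∀ z ∈ Subgroup.center Q, (θ ^ p ^ (n - 1)) z = z) ∧
      (∀ u t : Q, ⁅u, t⁆ ∈ Subgroup.center Q) ∧
      ∀ t, (θ ^ p ^ (n - 1)) t * t⁻¹ ∈ Subgroup.center Q → t ∈ Subgroup.center Q)) :
    (X - 1) ^ (p ^ n - 1) ≠ 0 ∨ ∃ n₀ m, 1 ≤ n₀ ∧ n₀ ≤ n ∧ 1 ≤ m ∧ p ^ n₀ - 1 = q ^ m ∧
      ¬ (∀ a b : Q, a * b = b * a) ∧ (X - 1) ^ (p ^ (n - n₀) * (p ^ n₀ - 1) - 1) ≠ 0 := by
  set y := θ ^ p ^ (n - 1) with hydef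
  have hQK : (Nat.card Q : K) ≠ 0 := by
    rw [Ne, CharP.cast_eq_zero_iff K p, hQ]
    intro h
    exact hqp ((Nat.prime_dvd_prime_iff_eq hp.out hq.out).1 (hp.out.dvd_of_dvd_pow h)).symm
  have hne : ∀ (v : V) (k : ℕ), ((X - 1) ^ k) v ≠ 0 → (X - 1) ^ k ≠ 0 :=
    fun v k h h0 => h (by rw [h0]; rfl)
  -- an irreducible constituent in a complement of an invariant proper subspace
  have hW : ∀ F : Submodule K V, F ≠ ⊤ → (∀ t, ∀ v ∈ F, τ t v ∈ F) →
      ∃ (W : Submodule K V) (hWi : ∀ t, ∀ v ∈ W, τ t v ∈ W), Nontrivial W ∧ Disjoint F W ∧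
        ∀ U : Submodule K W, (∀ t, ∀ v ∈ U, (τ t).restrict (hWi t) v ∈ U) → U = ⊥ ∨ U = ⊤ := by
    intro F hF hFi
    obtain ⟨U, hU, hUi⟩ := HHLinear.exists_complement τ hQK F hFi
    have hU0 : U ≠ ⊥ := fun h => hF (by have := hU.sup_eq_top; rwa [h, sup_bot_eq] at this)
    obtain ⟨W, hWU, hW0, hWi, hmin'⟩ := HHLinear.exists_irreducible τ U hU0 hUi
    refine ⟨W, hWi, Submodule.nontrivial_iff_ne_bot.2 hW0, hU.disjoint.mono_right hWU, fun U' hU' => ?_⟩
    rcases hmin' (U'.map W.subtype) (Submodule.map_subtype_le _ _) (by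
      rintro t _ ⟨v, hv, rfl⟩
      exact ⟨_, hU' t v hv, rfl⟩) with h | h
    · exact Or.inl (Submodule.map_injective_of_injective W.injective_subtype (by rw [h, Submodule.map_bot]))
    · exact Or.inr (Submodule.map_injective_of_injective W.injective_subtype
        (by rw [h, Submodule.map_subtype_top]))
  by_cases hab : ∀ a b : Q, a * b = b * a
  · left
    let F : Submodule K V :=
      { carrier := {v | ∀ t, τ (y t) v = τ t v}
        add_mem' := fun {a b} ha hb t => by rw [map_add, map_add, ha t, hb t]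
        zero_mem' := fun t => by simp
        smul_mem' := fun c v hv t => by rw [map_smul, map_smul, hv t] }
    have hF : F ≠ ⊤ := by
      intro h
      obtain ⟨t, ht⟩ := hy
      exact ht (hτ (LinearMap.ext fun v => (show v ∈ F from h ▸ Submodule.mem_top) t))
    have hFi : ∀ t, ∀ v ∈ F, τ t v ∈ F := by
      intro s v hv t
      rw [← Module.End.mul_apply, ← Module.End.mul_apply, ← map_mul, ← map_mul, hab _ s, hab t s,
        map_mul, map_mul, Module.End.mul_apply, Module.End.mul_apply, hv t]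
    obtain ⟨W, hWi, hWn, hdis, hirr⟩ := hW F hF hFi
    let ρ : Q →* Module.End K W :=
      { toFun := fun t => (τ t).restrict (hWi t)
        map_one' := LinearMap.ext fun w => Subtype.ext (by simp)
        map_mul' := fun a b => LinearMap.ext fun w => Subtype.ext (by simp) }
    obtain ⟨-, hschur⟩ := HHLinear.span_eq_top_and_schur ρ hirr
    have hsc : ∀ t, ∃ c : K, ρ t = c • 1 := fun t => hschur _ fun u => by
      rw [Commute, SemiconjBy, ← map_mul, ← map_mul, hab]
    choose μ hμ using hsc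
    obtain ⟨w, hw⟩ := exists_ne (0 : W)
    have hev : ∀ t, τ t (w : V) = μ t • (w : V) := fun t =>
      congrArg Subtype.val (congrArg (fun F : Module.End K W => F w) (hμ t))
    obtain ⟨k, hkn, hper, hinj⟩ := period n θ hθ ⊤ (fun t _ => trivial) μ
    rcases hkn.lt_or_eq with hlt | rfl
    · exfalso
      have hwF : (w : V) ∈ F := fun t => by
        have hyt : μ (y t) = μ t := by
          obtain ⟨d, hd⟩ := pow_dvd_pow p (show k ≤ n - 1 by omega)
          rw [hydef, hd]
          clear hd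
          induction d with
          | zero => simp
          | succ d ih => rw [Nat.mul_succ, pow_add, MulAut.mul_apply, ← ih, ← MulAut.mul_apply,
              ← pow_add, add_comm, pow_add, MulAut.mul_apply]; exact hper _ trivial
        rw [hev, hev, hyt]
      have := Submodule.disjoint_def.1 hdis _ hwF w.2
      exact hw (Subtype.ext this)
    · refine hne (w : V) _ ?_
      have h := amplify_eigen τ X θ hconj k hθ hX ⊤ (fun t _ => trivial) μ k le_rfl hper hinj 0 (w : V)
        (fun t _ => hev t) (by simpa using hw)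
      simpa using h
  obtain ⟨hZy, hQZ, hfpf⟩ := hmin.resolve_left hab
  set Z := Subgroup.center Q with hZ
  obtain ⟨a, b, hab'⟩ : ∃ a b : Q, a * b ≠ b * a := by
    by_contra h; push Not at h; exact hab h
  set z := ⁅a, b⁆ with hz
  have hz1 : z ≠ 1 := fun h => hab' (commutatorElement_eq_one_iff_mul_comm.1 h)
  let F : Submodule K V :=
    { carrier := {v | τ z v = v}
      add_mem' := fun {x y} hx hy => by
        change τ z (x + y) = x + y
        rw [map_add, hx, hy]
      zero_mem' := by simp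
      smul_mem' := fun c v hv => by
        change τ z (c • v) = c • v
        rw [map_smul, hv] }
  have hF : F ≠ ⊤ := fun h => hz1 (hτ (by
    rw [map_one]
    exact LinearMap.ext fun v => (show v ∈ F from h ▸ Submodule.mem_top)))
  have hFi : ∀ t, ∀ v ∈ F, τ t v ∈ F := fun t v hv => by
    change τ z (τ t v) = τ t v
    rw [← Module.End.mul_apply, ← map_mul, (Subgroup.mem_center_iff.1 (hQZ a b) t).symm, map_mul,
      Module.End.mul_apply, hv]
  obtain ⟨W, hWi, hWn, hdis, hirr⟩ := hW F hF hFi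
  let ρ : Q →* Module.End K W :=
    { toFun := fun t => (τ t).restrict (hWi t)
      map_one' := LinearMap.ext fun w => Subtype.ext (by simp)
      map_mul' := fun a b => LinearMap.ext fun w => Subtype.ext (by simp) }
  obtain ⟨-, hschur⟩ := HHLinear.span_eq_top_and_schur ρ hirr
  obtain ⟨w₀, hw₀⟩ := exists_ne (0 : W)
  let μ : Q → K := fun t => if h : ∃ c : K, ρ t = c • 1 then h.choose else 0
  have hμ : ∀ t, (∃ c : K, ρ t = c • 1) → ρ t = μ t • 1 := fun t h => by
    simp only [μ, dif_pos h]; exact h.choose_spec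
  have hZscal : ∀ t ∈ Z, ∃ c : K, ρ t = c • 1 := fun t ht => hschur _ fun u => by
    rw [Commute, SemiconjBy, ← map_mul, ← map_mul, Subgroup.mem_center_iff.1 ht u]
  have hZθ : ∀ t ∈ Z, θ t ∈ Z := fun t ht => Subgroup.mem_center_iff.2 fun u => by
    obtain ⟨u', rfl⟩ := θ.surjective u
    rw [← map_mul, ← map_mul, Subgroup.mem_center_iff.1 ht u']
  have hev : ∀ (w : W) t, (∃ c : K, ρ t = c • 1) → τ t (w : V) = μ t • (w : V) := fun w t h =>
    congrArg Subtype.val (congrArg (fun F : Module.End K W => F w) (hμ t h))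
  have huniq : ∀ t (c : K), ρ t = c • 1 → μ t = c := fun t c h => by
    have h' := congrArg (fun F : Module.End K W => F w₀) ((hμ t ⟨c, h⟩).symm.trans h)
    simp only [LinearMap.smul_apply, Module.End.one_apply] at h'
    exact smul_left_injective K hw₀ h'
  -- first step: the centre
  obtain ⟨k, hkn, hper, hinj⟩ := period n θ hθ Z hZθ μ
  have hkn' : k < n := by
    refine hkn.lt_of_ne fun hk => ?_
    have := hinj (p ^ (n - 1)) (hk ▸ Nat.pow_lt_pow_right hp.out.one_lt (by omega)) 0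
      (pow_pos hp.out.pos k) fun t ht => by
        rw [← hydef, hZy t ht]; simp
    exact absurd this (pow_pos hp.out.pos _).ne'
  set n₁ := n - k with hn₁
  set θ₁ := θ ^ p ^ k with hθ₁
  set X₁ := X ^ p ^ k with hX₁
  have hpk : p ^ k * p ^ n₁ = p ^ n := by rw [← pow_add, hn₁, Nat.add_sub_cancel' hkn]
  have hθ₁N : θ₁ ^ p ^ n₁ = 1 := by rw [hθ₁, ← pow_mul, hpk, hθ]
  have hX₁N : X₁ ^ p ^ n₁ = 1 := by rw [hX₁, ← pow_mul, hpk, hX]
  have hconj₁ : ∀ t, X₁ * τ t = τ (θ₁ t) * X₁ := conj_pow_apply τ X θ hconj _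
  -- the scalars
  have hSchar : ∀ t : Q, (∃ c : K, ρ t = c • 1) ↔ ∀ u : Q, μ ⁅u, t⁆ = 1 := by
    intro t
    refine ⟨fun ⟨c, hc⟩ u => huniq _ _ ?_, fun h => hschur _ fun u => ?_⟩
    · rw [commutatorElement_def, map_mul, map_mul, map_mul, hc, mul_smul_comm, mul_one, smul_mul_assoc,
        ← map_mul, mul_inv_cancel, map_one, smul_mul_assoc, one_mul, one_smul]
      have h2 : ρ t * ρ t⁻¹ = 1 := by rw [← map_mul, mul_inv_cancel, map_one]
      rw [hc, smul_mul_assoc, one_mul] at h2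
      exact h2
    · have h1 := hμ _ (hZscal _ (hQZ u t))
      rw [h u, one_smul] at h1
      rw [Commute, SemiconjBy, ← map_mul, ← map_mul]
      conv_rhs => rw [show u * t = ⁅u, t⁆ * (t * u) by
        rw [commutatorElement_def]; group, map_mul, h1, one_mul]
  let S : Subgroup Q :=
    { carrier := {t | ∃ c : K, ρ t = c • 1}
      one_mem' := ⟨1, by rw [map_one, one_smul]⟩
      mul_mem' := fun {x y} ⟨c, hc⟩ ⟨d, hd⟩ =>
        ⟨c * d, by rw [map_mul, hc, hd, smul_mul_smul_comm, one_mul]⟩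
      inv_mem' := fun {x} ⟨c, hc⟩ => ⟨c⁻¹, by
        have h2 : ρ x⁻¹ * ρ x = 1 := by rw [← map_mul, inv_mul_cancel, map_one]
        rw [hc, mul_smul_comm, mul_one] at h2
        have hc0 : c ≠ 0 := by
          rintro rfl
          rw [zero_smul] at h2
          exact zero_ne_one h2
        rw [← h2, smul_smul, inv_mul_cancel₀ hc0, one_smul]⟩ }
  have hZS : Z ≤ S := fun t ht => hZscal t ht
  have hθ₁Z : ∀ t ∈ Z, θ₁ t ∈ Z := by
    rw [hθ₁]
    intro t ht
    generalize p ^ k = i
    induction i with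
    | zero => simpa using ht
    | succ i ih => rw [pow_succ', MulAut.mul_apply]; exact hZθ _ ih
  have hS₁ : ∀ t ∈ S, θ₁ t ∈ S := fun t ht => by
    refine (hSchar _).2 fun u => ?_
    obtain ⟨u', rfl⟩ := θ₁.surjective u
    rw [← map_commutatorElement, hθ₁, hper _ (hQZ _ _)]
    exact (hSchar t).1 ht u'
  obtain ⟨k₂, hk₂n, hper₂, hinj₂⟩ := period n₁ θ₁ hθ₁N S hS₁ μ
  rcases hk₂n.lt_or_eq with hlt | rfl
  swap
  · left
    have h := amplify_eigen τ X₁ θ₁ hconj₁ n₁ hθ₁N hX₁N S hS₁ μ n₁ le_rfl hper₂ hinj₂ 0 (w₀ : V)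
      (fun t ht => hev w₀ t ht) (by simpa using hw₀)
    have h' := amplify_eigen τ X θ hconj n hθ hX Z hZθ μ k hkn hper hinj _ (w₀ : V)
      (fun t ht => hev w₀ t (hZscal t ht)) h
    refine hne (w₀ : V) (p ^ n - 1) (fun h0 => h' ?_)
    convert h0 using 3
    rw [← hpk]
    have h1 : 1 ≤ p ^ k := Nat.one_le_pow _ _ hp.out.pos
    have h2 : 1 ≤ p ^ n₁ := Nat.one_le_pow _ _ hp.out.pos
    obtain ⟨A, hA⟩ := Nat.exists_eq_add_of_le h1
    obtain ⟨B, hB⟩ := Nat.exists_eq_add_of_le h2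
    rw [hA, hB]
    simp only [Nat.mul_zero, Nat.add_sub_cancel_left, Nat.zero_add]
    ring_nf
    omega
  set n₀ := n₁ - k₂ with hn₀
  set θ₂ := θ₁ ^ p ^ k₂ with hθ₂
  set X₂ := X₁ ^ p ^ k₂ with hX₂
  have hpk₂ : p ^ k₂ * p ^ n₀ = p ^ n₁ := by rw [← pow_add, hn₀, Nat.add_sub_cancel' hk₂n]
  have hθ₂N : θ₂ ^ p ^ n₀ = 1 := by rw [hθ₂, ← pow_mul, hpk₂, hθ₁N]
  have hX₂N : X₂ ^ p ^ n₀ = 1 := by rw [hX₂, ← pow_mul, hpk₂, hX₁N]
  have hy₂ : θ₂ ^ p ^ (n₀ - 1) = y := by
    rw [hθ₂, hθ₁, ← pow_mul, ← pow_mul, ← pow_add, ← pow_add, hydef]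
    congr 2
    omega
  have hS₂ : ∀ t ∈ S, θ₂ t ∈ S := by
    rw [hθ₂]
    intro t ht
    generalize p ^ k₂ = i
    induction i with
    | zero => simpa using ht
    | succ i ih => rw [pow_succ', MulAut.mul_apply]; exact hS₁ _ ih
  -- `y` has no fixed point on `Q / S`
  have hS₂pow : ∀ (i : ℕ), ∀ t ∈ S, (θ₂ ^ i) t ∈ S := by
    intro i
    induction i with
    | zero => simp
    | succ i ih => intro t ht; rw [pow_succ', MulAut.mul_apply]; exact hS₂ _ (ih t ht)
  have hyS : ∀ t, y t * t⁻¹ ∈ S → t ∈ S := by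
    intro t ht
    have hycl : ∀ s ∈ S, y s * s⁻¹ ∈ S := fun s hs =>
      S.mul_mem (hy₂ ▸ hS₂pow _ s hs) (S.inv_mem hs)
    let M := {c : Q ⧸ Z // ∃ s ∈ S, QuotientGroup.mk s = c}
    have hcommQ : ∀ c d : Q ⧸ Z, c * d = d * c := by
      intro c d
      rw [← c.out_eq', ← d.out_eq']
      exact commutatorElement_eq_one_iff_mul_comm.1 ((map_commutatorElement (QuotientGroup.mk' Z) _ _).symm.trans
        ((QuotientGroup.eq_one_iff _).2 (hQZ _ _)))
    have hZy' : ∀ t, t ∈ Z → y t ∈ Z := fun t ht => by rw [hZy t ht]; exact ht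
    let yb : Q ⧸ Z →* Q ⧸ Z := QuotientGroup.map Z Z y.toMonoidHom (fun t ht => hZy' t ht)
    let δ : Q ⧸ Z →* Q ⧸ Z :=
      { toFun := fun c => yb c * c⁻¹
        map_one' := by simp
        map_mul' := fun c d => by
          rw [map_mul, mul_inv_rev, mul_assoc, mul_assoc]
          congr 1
          rw [hcommQ d⁻¹ c⁻¹, ← mul_assoc, hcommQ (yb d) c⁻¹, mul_assoc] }
    have hδ : ∀ s : Q, δ (QuotientGroup.mk s) = QuotientGroup.mk (y s * s⁻¹) := fun s => rfl
    have hδinj : Function.Injective δ := by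
      rw [injective_iff_map_eq_one]
      intro c hc
      rw [← c.out_eq', hδ] at hc
      rw [← c.out_eq']
      exact (QuotientGroup.eq_one_iff _).2 (hfpf _ ((QuotientGroup.eq_one_iff _).1 hc))
    let δM : M → M := fun c => ⟨δ c.1, by
      obtain ⟨s, hs, hsc⟩ := c.2
      exact ⟨_, hycl s hs, by rw [← hδ, hsc]⟩⟩
    obtain ⟨⟨c, s, hs, hsc⟩, hc⟩ := (Finite.injective_iff_surjective (f := δM)).1
      (fun c d h => Subtype.ext (hδinj (congrArg Subtype.val h))) ⟨_, _, ht, rfl⟩
    have heq : (QuotientGroup.mk s : Q ⧸ Z) = QuotientGroup.mk t := by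
      refine hδinj ?_
      rw [hsc]
      exact (congrArg Subtype.val hc).trans (hδ t).symm
    have hmem := QuotientGroup.eq.1 heq
    rw [← mul_inv_cancel_left s t]
    exact S.mul_mem hs (hZS hmem)
  have hn₀1 : 1 ≤ n₀ := by omega
  have hfree : ∀ t, t ∉ S → ∀ i, 0 < i → i < p ^ n₀ → (θ₂ ^ i) t * t⁻¹ ∉ S := by
    intro t ht i hi0 hiN hmem
    have hSn : S.Normal := ⟨fun s hs g => by
      rw [show g * s * g⁻¹ = ⁅g, s⁆ * s by rw [commutatorElement_def]; group]
      exact S.mul_mem (hZS (hQZ g s)) hs⟩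
    let σf : Q ⧸ S →* Q ⧸ S := QuotientGroup.map S S θ₂.toMonoidHom (fun s hs => hS₂ s hs)
    have hσk : ∀ (j : ℕ) (t : Q), (σf^[j]) (QuotientGroup.mk t) = QuotientGroup.mk ((θ₂ ^ j) t) := by
      intro j
      induction j with
      | zero => simp
      | succ j ih => intro t; rw [Function.iterate_succ_apply', ih, pow_succ']; rfl
    have hper' : ∀ j, (θ₂ ^ j) t * t⁻¹ ∈ S ↔ Function.IsPeriodicPt σf j (QuotientGroup.mk t) := by
      intro j
      rw [Function.IsPeriodicPt, Function.IsFixedPt, hσk, ← mul_inv_eq_one,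
        ← QuotientGroup.mk_inv, ← QuotientGroup.mk_mul, QuotientGroup.eq_one_iff]
    have hN : Function.IsPeriodicPt σf (p ^ n₀) (QuotientGroup.mk t) :=
      (hper' _).1 (by rw [hθ₂N, MulAut.one_apply, mul_inv_cancel]; exact S.one_mem)
    obtain ⟨v, hv, hvp⟩ := (Nat.dvd_prime_pow hp.out).1 hN.minimalPeriod_dvd
    have hi : p ^ v ∣ i := hvp ▸ ((hper' i).1 hmem).minimalPeriod_dvd
    have hvn : v ≤ n₀ - 1 := by
      by_contra hcon
      have : v = n₀ := by omega
      rw [this] at hi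
      exact absurd (Nat.le_of_dvd hi0 hi) (by omega)
    have := (hper' (p ^ (n₀ - 1))).2
      (Function.isPeriodicPt_iff_minimalPeriod_dvd.2 (hvp ▸ pow_dvd_pow p hvn))
    rw [hy₂] at this
    exact ht (hyS t this)
  have hST : S ≠ ⊤ := by
    intro h
    have hall : ∀ u, ∃ c : K, ρ u = c • 1 := fun u => show u ∈ S from h ▸ Subgroup.mem_top u
    have hz' : ρ z = 1 := by
      rw [hμ _ (hall z), (hSchar b).1 (hall b) a, one_smul]
    have hfix : (w₀ : V) ∈ F :=
      congrArg Subtype.val (congrArg (fun F : Module.End K W => F w₀) hz')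
    exact hw₀ (Subtype.ext (Submodule.disjoint_def.1 hdis _ hfix w₀.2))
  obtain ⟨v, hv, hvb⟩ := inner hQ τ X₂ θ₂ n₀ hn₀1 hθ₂N hX₂N (conj_pow_apply τ X₁ θ₁ hconj₁ _) ρ hirr
    W.subtype (fun h => hw₀ (Subtype.ext (by
      simpa using congrArg (fun F : W →ₗ[K] V => F w₀) h))) (fun t => rfl)
    S μ (fun s hs => hμ s hs) (fun t c hc => ⟨c, hc⟩) (fun u t => hZS (hQZ u t)) hS₂
    (fun s hs => hper₂ s hs) hfree hST
  have hup : ∀ m, ((X₂ - 1) ^ m) v ≠ 0 →
      (X - 1) ^ (p ^ (k + k₂) * (m + 1) - 1) ≠ 0 := by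
    intro m hm
    have h := amplify_eigen τ X₁ θ₁ hconj₁ n₁ hθ₁N hX₁N S hS₁ μ k₂ hk₂n hper₂ hinj₂ m v hv hm
    have h' := amplify_eigen τ X θ hconj n hθ hX Z hZθ μ k hkn hper hinj _ v
      (fun t ht => hv t (hZS ht)) h
    refine hne v _ (fun h0 => h' ?_)
    convert h0 using 3
    obtain ⟨A, hA⟩ := Nat.exists_eq_add_of_le (Nat.one_le_pow k p hp.out.pos)
    obtain ⟨B, hB⟩ := Nat.exists_eq_add_of_le (Nat.one_le_pow k₂ p hp.out.pos)
    rw [pow_add, hA, hB]
    simp only [Nat.add_sub_cancel_left]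
    ring_nf
    omega
  have h2 : 2 ≤ p ^ n₀ := le_trans hp.out.two_le (Nat.le_self_pow (by omega) p)
  rcases hvb with hb | ⟨m, hm1, hmq, hb⟩
  · left
    have := hup _ hb
    rwa [Nat.sub_add_cancel (by omega), ← pow_add, show k + k₂ + n₀ = n by omega] at this
  · right
    refine ⟨n₀, m, hn₀1, by omega, hm1, hmq, hab, ?_⟩
    have := hup _ hb
    rwa [show p ^ n₀ - 2 + 1 = p ^ n₀ - 1 by omega, show k + k₂ = n - n₀ by omega] at this

end Main

end Cfsg.Agent.HHCore
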