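import Cfsg.Agent.Lib.Solvable.HHCore

/-! The critical case behind the theorem B of Hall and Higman. -/

set_option autoImplicit false
open scoped commutatorElement

open Module

namespace Cfsg.Agent.HHCritical

variable {G : Type*} [Group G] [Finite G] {p q : ℕ} [hp : Fact p.Prime] [hq : Fact q.Prime]
  {K : Type*} [Field K] [CharP K p] {V : Type*} [AddCommGroup V] [Module K V]

lemma eq_one_of_scalar [Nontrivial V] (ρ : G →* Module.End K V) (hρ : Function.Injective ρ) {g : G}
    {c : K} (hg : ρ g = c • 1) {n : ℕ} (hgn : g ^ p ^ n = 1) : g = 1 := by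
  apply hρ
  rw [map_one, hg]
  have h1 : (c • (1 : Module.End K V)) ^ p ^ n = 1 := by rw [← hg, ← map_pow, hgn, map_one]
  rw [smul_pow, one_pow] at h1
  have hc : c ^ p ^ n = 1 := by
    obtain ⟨v, hv⟩ := exists_ne (0 : V)
    have := congrArg (fun F : Module.End K V => F v) h1
    simp only [LinearMap.smul_apply, Module.End.one_apply] at this
    exact smul_left_injective K hv (this.trans (one_smul K v).symm)
  have hc1 : c = 1 := by
    have h := sub_pow_char_pow (p := p) (n := n) c 1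
    rw [one_pow, hc, sub_self] at h
    exact sub_eq_zero.1 (eq_zero_of_pow_eq_zero h)
  rw [hc1, one_smul]

theorem main [IsAlgClosed K] [FiniteDimensional K V] [Nontrivial V] (Q : Subgroup G) [Q.Normal]
    (hQ : IsPGroup q Q) (hpq : p ≠ q) (x : G) (n : ℕ) (hn : 1 ≤ n) (hx : orderOf x = p ^ n)
    (hgen : Q ⊔ Subgroup.zpowers x = ⊤)
    (hC : ∀ y ∈ Subgroup.zpowers x, y ≠ 1 →
      Subgroup.centralizer ({y} : Set G) = Subgroup.zpowers x ⊔ Subgroup.center G)
    (ρ : G →* Module.End K V) (hρ : Function.Injective ρ)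
    (hirr : ∀ W : Submodule K V, (∀ t : Q, ∀ v ∈ W, ρ (t : G) v ∈ W) → W = ⊥ ∨ W = ⊤) :
    (ρ x - 1) ^ (p ^ n - 1) ≠ 0 ∨ ∃ m, 1 ≤ m ∧ p ^ n - 1 = q ^ m ∧ ¬ IsMulCommutative Q ∧
      (ρ x - 1) ^ (p ^ n - 2) ≠ 0 := by
  classical
  set N := p ^ n with hN
  set Z := Subgroup.center G with hZ
  have hxN : x ^ N = 1 := hx ▸ pow_orderOf_eq_one x
  obtain ⟨-, hschur⟩ := HHLinear.span_eq_top_and_schur (ρ.comp Q.subtype) hirr
  have hQcop : ∀ g ∈ Q, (orderOf g).Coprime N := fun g hg => by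
    obtain ⟨k, hk⟩ := hQ ⟨g, hg⟩
    have : orderOf g ∣ q ^ k := orderOf_dvd_of_pow_eq_one (by simpa [Subtype.ext_iff] using hk)
    exact Nat.Coprime.coprime_dvd_left this (Nat.coprime_pow_primes k n hq.out hp.out (Ne.symm hpq))
  have hscal : ∀ g : G, (∀ t ∈ Q, g * t = t * g) → ∃ c : K, ρ g = c • 1 := fun g hg =>
    hschur (ρ g) fun t => by
      change ρ g * ρ (t : G) = ρ (t : G) * ρ g
      rw [← map_mul, ← map_mul, hg _ t.2]
  -- powers of `x` different from `1` fix only central elements of `Q`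
  have hfix : ∀ y ∈ Subgroup.zpowers x, y ≠ 1 → ∀ t ∈ Q, y * t = t * y → t ∈ Z := by
    intro y hy hy1 t ht hcomm
    have hmem : t ∈ Subgroup.zpowers x ⊔ Z := by
      rw [← hC y hy hy1]
      exact Subgroup.mem_centralizer_iff.2 fun z hz => by rw [Set.mem_singleton_iff.1 hz, hcomm]
    obtain ⟨a, ha, z, hz, rfl⟩ := Subgroup.mem_sup_of_normal_right.1 hmem
    have hpow : (a * z) ^ N ∈ Z := by
      rw [Commute.mul_pow (Subgroup.mem_center_iff.1 hz a)]
      obtain ⟨i, rfl⟩ := ha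
      rw [← zpow_natCast, ← zpow_mul, mul_comm, zpow_mul, zpow_natCast, hxN, one_zpow, one_mul]
      exact Z.pow_mem hz N
    obtain ⟨k, hk⟩ := exists_pow_eq_self_of_coprime (hQcop _ ht).symm
    rw [← hk]
    exact Z.pow_mem hpow k
  have hfpf : ∀ y ∈ Subgroup.zpowers x, y ≠ 1 → ∀ t ∈ Q, y * t * y⁻¹ * t⁻¹ ∈ Z → t ∈ Z := by
    intro y hy hy1 t ht hc
    set z := y * t * y⁻¹ * t⁻¹ with hz
    have hzQ : z ∈ Q := Q.mul_mem (Subgroup.Normal.conj_mem inferInstance t ht y) (Q.inv_mem ht)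
    have hyz : Commute y z := (Subgroup.mem_center_iff.1 hc y)
    have hstep : ∀ k : ℕ, y ^ k * t * (y ^ k)⁻¹ = z ^ k * t := by
      intro k
      induction k with
      | zero => simp
      | succ k ih =>
        rw [pow_succ', mul_inv_rev, show y * y ^ k * t * ((y ^ k)⁻¹ * y⁻¹) =
          y * (y ^ k * t * (y ^ k)⁻¹) * y⁻¹ by group, ih, ← mul_assoc, (hyz.pow_right k).eq,
          pow_succ z k, hz]
        group
    have hyN : y ^ N = 1 := by
      obtain ⟨i, rfl⟩ := hy
      rw [← zpow_natCast, ← zpow_mul, mul_comm, zpow_mul, zpow_natCast, hxN, one_zpow]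
    have h := hstep N
    rw [hyN, one_mul, inv_one, mul_one] at h
    have hz1 : z ^ N = 1 := mul_right_cancel (h.symm.trans (one_mul t).symm)
    have : z = 1 := orderOf_eq_one_iff.1 (Nat.Coprime.eq_one_of_dvd (hQcop z hzQ) (orderOf_dvd_of_pow_eq_one hz1))
    refine hfix y hy hy1 t ht ?_
    rw [hz, mul_inv_eq_one, mul_inv_eq_iff_eq_mul] at this
    exact this
  -- a noncentral normal subgroup of class two
  set π := QuotientGroup.mk' Z with hπ
  set D := Q ⊓ (Subgroup.centralizer (Q.map π : Set (G ⧸ Z))).comap π with hD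
  have hQπn : (Q.map π).Normal := Subgroup.Normal.map inferInstance π (QuotientGroup.mk'_surjective Z)
  have hDn : D.Normal := inferInstance
  have hDQ : D ≤ Q := inf_le_left
  have hDcomm : ∀ u ∈ D, ∀ t ∈ D, ⁅u, t⁆ ∈ Z := by
    intro u hu t ht
    rw [← QuotientGroup.eq_one_iff]
    change π _ = 1
    rw [map_commutatorElement]
    exact commutatorElement_eq_one_iff_mul_comm.2
      (Subgroup.mem_centralizer_iff.1 hu.2 (π t) (Subgroup.mem_map_of_mem π (hDQ ht))).symm
  have hx1 : x ≠ 1 := by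
    rintro rfl
    rw [orderOf_one] at hx
    exact absurd hx (Nat.one_lt_pow (by omega) hp.out.one_lt).ne
  have hQZ : ¬ Q ≤ Z := by
    intro h
    obtain ⟨c, hc⟩ := hscal x fun t ht => Subgroup.mem_center_iff.1 (h ht) x
    exact hx1 (eq_one_of_scalar ρ hρ hc hxN)
  have hDZ : ¬ D ≤ Z := by
    intro h
    apply hQZ
    have hnil : IsPGroup q (Q.map π) := hQ.map π
    by_contra hne
    have : Nontrivial (Q.map π) := (Subgroup.nontrivial_iff_ne_bot _).2 (by
      rwa [Ne, Subgroup.map_eq_bot_iff, hπ, QuotientGroup.ker_mk'])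
    have := hnil.center_nontrivial
    obtain ⟨⟨c, hc⟩, hc1⟩ := exists_ne (1 : Subgroup.center (Q.map π))
    obtain ⟨t, ht, htc⟩ := Subgroup.mem_map.1 c.2
    refine hc1 (Subtype.ext (Subtype.ext ?_))
    change (c : G ⧸ Z) = 1
    rw [← htc]
    refine (QuotientGroup.eq_one_iff t).2 (h ⟨ht, Subgroup.mem_centralizer_iff.2 fun w hw => ?_⟩)
    rw [htc]
    exact congrArg Subtype.val (Subgroup.mem_center_iff.1 hc ⟨w, hw⟩)
  obtain ⟨e, he⟩ := (hQ.to_le hDQ).exists_card_eq
  -- the automorphism induced on a normal subgroup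
  have hθpow : ∀ (H : Subgroup G) [H.Normal] (i : ℕ) (t : H),
      ((((MulAut.conjNormal x : MulAut H) ^ i) t : H) : G) = x ^ i * t * (x ^ i)⁻¹ := fun H _ i t => by
    rw [← map_pow, MulAut.conjNormal_apply]
  have hθN : ∀ (H : Subgroup G) [H.Normal], (MulAut.conjNormal x : MulAut H) ^ N = 1 := fun H _ => by
    rw [← map_pow, hxN, map_one]
  have hconj : ∀ (H : Subgroup G) [H.Normal] (t : H),
      ρ x * ρ (t : G) = ρ (((MulAut.conjNormal x : MulAut H) t : H) : G) * ρ x := fun H _ t => by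
    rw [← map_mul, ← map_mul, MulAut.conjNormal_apply, inv_mul_cancel_right]
  have hXN : ρ x ^ N = 1 := by rw [← map_pow, hxN, map_one]
  have hxpow : ∀ i, 0 < i → i < N → x ^ i ≠ 1 := fun i hi hiN h => by
    have := Nat.le_of_dvd hi (orderOf_dvd_of_pow_eq_one h)
    omega
  have hNpred : p ^ (n - 1) < N := Nat.pow_lt_pow_right hp.out.one_lt (by omega)
  set E := D ⊓ Subgroup.centralizer (D : Set G) with hE
  have hEn : E.Normal := inferInstance
  by_cases hEZ : E ≤ Z
  swap
  · -- an abelian normal subgroup on which `x` acts without fixed points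
    obtain ⟨e', he'⟩ := (hQ.to_le ((inf_le_left : E ≤ D).trans hDQ)).exists_card_eq
    obtain ⟨t, ht, htZ⟩ := SetLike.not_le_iff_exists.1 hEZ
    have hab : ∀ a b : E, a * b = b * a := fun a b =>
      Subtype.ext (Subgroup.mem_centralizer_iff.1 b.2.2 (a : G) a.2.1)
    rcases HHCore.core (Ne.symm hpq) he' (ρ.comp E.subtype) (hρ.comp E.subtype_injective) (ρ x)
      (MulAut.conjNormal x : MulAut E) n hn (hθN E) hXN (hconj E) ⟨⟨t, ht⟩, fun h => htZ (by
        refine hfix _ (Subgroup.pow_mem _ (Subgroup.mem_zpowers x) _)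
          (hxpow _ (pow_pos hp.out.pos _) hNpred) t (hDQ ht.1) ?_
        have h' := congrArg Subtype.val h
        rw [hθpow, mul_inv_eq_iff_eq_mul] at h'
        exact h')⟩ (Or.inl hab) with h | ⟨n₀, m, -, -, -, -, hnab, -⟩
    · exact Or.inl h
    · exact absurd hab hnab
  -- otherwise `D` has centre in `Z`
  obtain ⟨t₀, ht₀, ht₀Z⟩ := SetLike.not_le_iff_exists.1 hDZ
  set τ : D →* Module.End K V := ρ.comp D.subtype with hτ
  obtain ⟨W, -, hW0, hWi, hWmin⟩ := HHLinear.exists_irreducible τ ⊤ top_ne_bot fun _ _ _ => trivial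
  have : Nontrivial W := Submodule.nontrivial_iff_ne_bot.2 hW0
  let σ : D →* Module.End K W :=
    { toFun := fun t => (τ t).restrict (hWi t)
      map_one' := LinearMap.ext fun w => Subtype.ext (by simp)
      map_mul' := fun a b => LinearMap.ext fun w => Subtype.ext (by simp) }
  have hirrW : ∀ U : Submodule K W, (∀ t, ∀ v ∈ U, σ t v ∈ U) → U = ⊥ ∨ U = ⊤ := fun U hU => by
    rcases hWmin (U.map W.subtype) (Submodule.map_subtype_le _ _) (by
      rintro t _ ⟨v, hv, rfl⟩
      exact ⟨_, hU t v hv, rfl⟩) with h | h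
    · exact Or.inl (Submodule.map_injective_of_injective W.injective_subtype (by rw [h, Submodule.map_bot]))
    · exact Or.inr (Submodule.map_injective_of_injective W.injective_subtype
        (by rw [h, Submodule.map_subtype_top]))
  choose μ hμ using fun s : {g : G // g ∈ Z} =>
    hscal s.1 fun t _ => (Subgroup.mem_center_iff.1 s.2 t).symm
  let μ' : D → K := fun t => if h : (t : G) ∈ Z then μ ⟨t, h⟩ else 0
  have hσZ : ∀ s : D, (s : G) ∈ Z → σ s = μ' s • 1 := fun s hs => LinearMap.ext fun w => Subtype.ext (by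
    simp only [μ', dif_pos hs]
    exact congrArg (fun F : Module.End K V => F w) (hμ ⟨s, hs⟩))
  obtain ⟨w₀, hw₀⟩ := exists_ne (0 : W)
  have hscal' : ∀ (t : D) (c : K), σ t = c • 1 → t ∈ Z.subgroupOf D := fun t c hc => by
    refine hEZ ⟨t.2, Subgroup.mem_centralizer_iff.2 fun u hu => ?_⟩
    -- `⁅u, t⁆` is trivial on `W`, hence on `V`
    have hz := hDcomm u hu _ t.2
    have h1 : σ ⁅(⟨u, hu⟩ : D), t⁆ = 1 := by
      rw [commutatorElement_def, map_mul, map_mul, map_mul, hc]
      have hcc : σ t * σ t⁻¹ = 1 := by rw [← map_mul, mul_inv_cancel, map_one]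
      rw [hc] at hcc
      rw [mul_smul_comm, mul_one, smul_mul_assoc, ← map_mul, mul_inv_cancel, map_one]
      exact hcc
    have h2 := hσZ ⁅(⟨u, hu⟩ : D), t⁆ hz
    rw [h1] at h2
    have h3 : (1 : K) = μ' ⁅(⟨u, hu⟩ : D), t⁆ := by
      have := congrArg (fun F : Module.End K W => F w₀) h2
      simp only [LinearMap.smul_apply, Module.End.one_apply] at this
      exact smul_left_injective K hw₀ ((one_smul K w₀).trans this)
    rw [← commutatorElement_eq_one_iff_mul_comm]
    apply hρ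
    have hμ1 := hμ ⟨⁅u, (t : G)⁆, hz⟩
    simp only [μ'] at h3
    rw [dif_pos (show ((⁅(⟨u, hu⟩ : D), t⁆ : D) : G) ∈ Z from hz)] at h3
    rw [map_one]
    refine hμ1.trans ?_
    rw [show μ ⟨⁅u, (t : G)⁆, hz⟩ = 1 from h3.symm, one_smul]
  have hfree' : ∀ t : D, t ∉ Z.subgroupOf D → ∀ i, 0 < i → i < N →
      (((MulAut.conjNormal x : MulAut D) ^ i) t) * t⁻¹ ∉ Z.subgroupOf D := fun t ht i hi0 hiN hmem => ht (by
    rw [Subgroup.mem_subgroupOf, Subgroup.coe_mul, Subgroup.coe_inv, hθpow] at hmem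
    exact hfpf _ (Subgroup.pow_mem _ (Subgroup.mem_zpowers x) i) (hxpow i hi0 hiN) _ (hDQ t.2) hmem)
  obtain ⟨v, -, hv⟩ := HHCore.inner (p := p) (q := q) he τ (ρ x) (MulAut.conjNormal x : MulAut D) n hn
    (hθN D) hXN (hconj D) σ hirrW W.subtype (fun h => hw₀ (Subtype.ext (by
      simpa using congrArg (fun F : W →ₗ[K] V => F w₀) h))) (fun t => rfl)
    (Z.subgroupOf D) μ' (fun s hs => hσZ s hs) hscal' (fun u t => hDcomm _ u.2 _ t.2)
    (fun s hs => by
      rw [Subgroup.mem_subgroupOf, MulAut.conjNormal_apply,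
        show x * (s : G) * x⁻¹ = s from by
          have h : x * (s : G) = s * x := Subgroup.mem_center_iff.1 hs x
          rw [h, mul_inv_cancel_right]]
      exact hs)
    (fun s hs => congrArg μ' (Subtype.ext (by
      have h : x * (s : G) = s * x := Subgroup.mem_center_iff.1 hs x
      rw [MulAut.conjNormal_apply, h, mul_inv_cancel_right])))
    hfree'
    (fun h => ht₀Z ((Subgroup.subgroupOf_eq_top.1 h) ht₀))
  rcases hv with hv | ⟨m, hm1, hm, hv⟩
  · exact Or.inl fun h0 => hv (by rw [h0]; rfl)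
  · refine Or.inr ⟨m, hm1, hm, fun hab => ht₀Z (hEZ ⟨ht₀, ?_⟩), fun h0 => hv (by rw [h0]; rfl)⟩
    have := hab
    exact Subgroup.mem_centralizer_iff.2 fun u hu => setLike_mul_comm (hDQ hu) (hDQ ht₀)
end Cfsg.Agent.HHCritical
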