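import Cfsg.Agent.Lib.Solvable.HHExponent

/-!
The bound on the `p`-length by the derived length of a Sylow subgroup, `p` odd.
-/

set_option autoImplicit false
set_option linter.style.haveILetI false
set_option linter.unusedSectionVars false

open Module
open scoped commutatorElement

universe u

namespace Cfsg.Agent.HHDerived

open Cfsg.Agent

section Basic

variable {R : Type*} [Ring R] {T : Type*} [Group T] [Finite T] (ψ : T →* R)

/-- The three-fold identity makes the derived group act with products zero. -/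
theorem derived_mul_eq_zero
    (hId : ∀ c ∈ commutator T, ∀ a b : T, (ψ c - 1) * (ψ a - 1) * (ψ b - 1) = 0) :
    ∀ c ∈ commutator T, ∀ d ∈ commutator T, (ψ c - 1) * (ψ d - 1) = 0 := by
  intro c hc d hd
  rw [commutator_def] at hd
  induction hd using Subgroup.closure_induction with
  | mem d hd =>
    obtain ⟨a, -, b, -, rfl⟩ := hd
    have hone : (1 : R) = ψ b * ψ a * (ψ a⁻¹ * ψ b⁻¹) := by
      rw [← map_mul, ← map_mul, ← map_mul, show b * a * (a⁻¹ * b⁻¹) = 1 by group, map_one]
    have e : ψ ⁅a, b⁆ - 1 =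
        ((ψ a - 1) * (ψ b - 1) - (ψ b - 1) * (ψ a - 1)) * (ψ a⁻¹ * ψ b⁻¹) := by
      rw [commutatorElement_def, map_mul, map_mul, map_mul]
      calc ψ a * ψ b * ψ a⁻¹ * ψ b⁻¹ - 1
          = ψ a * ψ b * (ψ a⁻¹ * ψ b⁻¹) - ψ b * ψ a * (ψ a⁻¹ * ψ b⁻¹) := by rw [← hone, mul_assoc (ψ a * ψ b)]
        _ = _ := by rw [← sub_mul]; congr 1; noncomm_ring
    have h1 := hId c hc a b
    have h2 := hId c hc b a
    rw [mul_assoc] at h1 h2
    rw [e, ← mul_assoc, mul_sub, h1, h2, sub_zero, zero_mul]
  | one => simp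
  | mul a b _ _ iha ihb =>
    have e : ψ (a * b) - 1 = (ψ a - 1) + (ψ b - 1) + (ψ a - 1) * (ψ b - 1) := by
      rw [map_mul]; noncomm_ring
    rw [e, mul_add, mul_add, ← mul_assoc, iha, ihb]
    simp
  | inv a _ iha =>
    have e : ψ a⁻¹ - 1 = -((ψ a - 1) * ψ a⁻¹) := by
      rw [sub_mul, ← map_mul, mul_inv_cancel, map_one, one_mul, neg_sub]
    rw [e, mul_neg, ← mul_assoc, iha, zero_mul, neg_zero]

end Basic

section Three

variable {M : Type u} [AddCommGroup M] [Module (ZMod 3) M] [Finite M]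

local instance : Fact (Nat.Prime 3) := ⟨Nat.prime_three⟩

theorem three_eq_zero : (3 : Module.End (ZMod 3) M) = 0 := by
  refine LinearMap.ext fun v => ?_
  rw [show (3 : Module.End (ZMod 3) M) = ((3 : ℕ) : Module.End (ZMod 3) M) by norm_num,
    Module.End.natCast_apply, LinearMap.zero_apply, ← Nat.cast_smul_eq_nsmul (ZMod 3), ZMod.natCast_self,
    zero_smul]

theorem three_eq_zero' : (1 + 1 + 1 : Module.End (ZMod 3) M) = 0 := by
  rw [← three_eq_zero (M := M)]
  norm_num

theorem cube_eq {R : Type*} [Ring R] (x : R) :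
    x ^ 3 = (x - 1) * (x - 1) * (x + (1 + 1)) + (1 + 1 + 1) * x - (1 + 1 + 1) + 1 := by
  noncomm_ring

/-- A quadratic unit commutes with the units it conjugates into commuting ones. -/
theorem units_commute (x : (Module.End (ZMod 3) M)ˣ) (hx : ((x : Module.End (ZMod 3) M) - 1) ^ 2 = 0)
    (B : Subgroup (Module.End (ZMod 3) M)ˣ) (hB : (Nat.card B).Coprime 3) (hBc : IsMulCommutative B)
    (hBx : ∀ b ∈ B, x * b * x⁻¹ ∈ B) : ∀ b ∈ B, Commute x b := by
  haveI : Finite (Module.End (ZMod 3) M) := Finite.of_injective (fun f => (f : M → M)) DFunLike.coe_injective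
  haveI : Finite (Module.End (ZMod 3) M)ˣ := Finite.of_injective Units.val Units.val_injective
  haveI : Module.Finite (ZMod 3) M := Module.Finite.of_finite
  have h3 : x ^ 3 = 1 := Units.ext (by
    rw [Units.val_pow_eq_pow_val, Units.val_one]
    rw [cube_eq (x : Module.End (ZMod 3) M), ← sq, hx, three_eq_zero']
    simp)
  intro b hb
  have := HHExponent.centralizes_abelian (p := 3) (Units.coeHom (Module.End (ZMod 3) M)) Units.val_injective
    x 0 (by simpa using h3) (by simpa using hx) B hB hBc hBx b hb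
  simpa using this

variable {C : Type u} [Group C] [Finite C] {T : Type u} [Group T] [Finite T]
  (φ : C →* Module.End (ZMod 3) M) (ψ : T →* Module.End (ZMod 3) M) (α : T →* MulAut C)

/-- The moved elements give anticommuting triples. -/
theorem not_commute_of_moved (hC : IsPGroup 2 C)
    (hcomp : ∀ t c, ψ t * φ c = φ (α t c) * ψ t) {y : T} (hy : (ψ y - 1) ^ 2 = 0) {q : C}
    (hq : φ (α y q) ≠ φ q) : ¬ Commute (φ q) (φ (α y q)) := by
  intro hcom
  apply hq
  set f := φ.toHomUnits with hf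
  set g := ψ.toHomUnits with hg
  have hfg : ∀ t c, g t * f c * (g t)⁻¹ = f (α t c) := fun t c => by
    rw [mul_inv_eq_iff_eq_mul]
    exact Units.ext (hcomp t c)
  have hcom' : Commute (f q) (f (α y q)) := Units.ext hcom.eq
  set q₁ := α y q with hq₁
  set q₂ := α y q₁ with hq₂
  have h3 : g y ^ 3 = 1 := Units.ext (by
    rw [Units.val_pow_eq_pow_val, Units.val_one]
    show ψ y ^ 3 = 1
    rw [cube_eq (ψ y), ← sq, hy, three_eq_zero']
    simp)
  have hback : f (α y q₂) = f q := by
    rw [hq₂, hq₁, ← hfg, ← hfg, ← hfg]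
    calc g y * (g y * (g y * f q * (g y)⁻¹) * (g y)⁻¹) * (g y)⁻¹
        = g y ^ 3 * f q * (g y ^ 3)⁻¹ := by rw [pow_succ, pow_two]; group
      _ = f q := by rw [h3]; group
  have hconj : ∀ {a b : C}, Commute (f a) (f b) → Commute (f (α y a)) (f (α y b)) := fun {a b} h => by
    rw [← hfg, ← hfg]
    show (g y * f a * (g y)⁻¹) * (g y * f b * (g y)⁻¹) = _
    calc (g y * f a * (g y)⁻¹) * (g y * f b * (g y)⁻¹) = g y * (f a * f b) * (g y)⁻¹ := by group
      _ = _ := by rw [h.eq]; group
  have h12 := hconj hcom'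
  have h20 : Commute (f q₂) (f q) := by
    have := hconj h12
    rwa [← hq₂, hback] at this
  set B := Subgroup.closure ({f q, f q₁, f q₂} : Set (Module.End (ZMod 3) M)ˣ) with hB
  haveI : IsMulCommutative B := Subgroup.isMulCommutative_closure (by
    rintro a (rfl | rfl | rfl) b (rfl | rfl | rfl)
    · rfl
    · exact hcom'.eq
    · exact h20.eq.symm
    · exact hcom'.eq.symm
    · rfl
    · exact h12.eq
    · exact h20.eq
    · exact h12.eq.symm
    · rfl)
  have hBr : B ≤ f.range := (Subgroup.closure_le _).2 (by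
    rintro a (rfl | rfl | rfl) <;> exact ⟨_, rfl⟩)
  haveI : Finite (Module.End (ZMod 3) M) := Finite.of_injective (fun f => (f : M → M)) DFunLike.coe_injective
  haveI : Finite (Module.End (ZMod 3) M)ˣ := Finite.of_injective Units.val Units.val_injective
  have hBcop : (Nat.card B).Coprime 3 := by
    obtain ⟨k, hk⟩ := IsPGroup.iff_card.1 ((hC.of_surjective _ f.rangeRestrict_surjective).to_le hBr)
    rw [hk]
    exact Nat.Coprime.pow_left k (by norm_num)
  have hinv : ∀ b ∈ B, g y * b * (g y)⁻¹ ∈ B := by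
    intro b hb
    induction hb using Subgroup.closure_induction with
    | mem a ha =>
      rcases ha with rfl | rfl | rfl
      · rw [hfg]; exact Subgroup.subset_closure (Or.inr (Or.inl rfl))
      · rw [hfg]; exact Subgroup.subset_closure (Or.inr (Or.inr rfl))
      · rw [hfg, hback]; exact Subgroup.subset_closure (Or.inl rfl)
    | one => simp
    | mul a b _ _ iha ihb =>
      rw [show g y * (a * b) * (g y)⁻¹ = (g y * a * (g y)⁻¹) * (g y * b * (g y)⁻¹) by group]
      exact mul_mem iha ihb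
    | inv a _ iha =>
      rw [show g y * a⁻¹ * (g y)⁻¹ = (g y * a * (g y)⁻¹)⁻¹ by group]
      exact inv_mem iha
  have h := units_commute (g y) hy B hBcop inferInstance hinv (f q) (Subgroup.subset_closure (Or.inl rfl))
  have h' : f q₁ = f q := by rw [hq₁, ← hfg, h.eq, mul_inv_cancel_right]
  exact congrArg Units.val h'

/-- The case of scalar commutators. -/
theorem scalar_case (hC : IsPGroup 2 C) (hT : IsPGroup 3 T)
    (hcomp : ∀ t c, ψ t * φ c = φ (α t c) * ψ t) (hs : ∀ u v : C, φ ⁅u, v⁆ = 1 ∨ φ ⁅u, v⁆ = -1)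
    (hId : ∀ c ∈ commutator T, ∀ a b : T, (ψ c - 1) * (ψ a - 1) * (ψ b - 1) = 0)
    {y : T} (hy : y ∈ commutator T) (q₀ : C) : φ (α y q₀) = φ q₀ := by
  classical
  by_contra hmoved
  have hmul := derived_mul_eq_zero ψ hId
  have hquad : ∀ c ∈ commutator T, (ψ c - 1) ^ 2 = 0 := fun c hc => by rw [sq]; exact hmul c hc c hc
  have h10 : (1 : Module.End (ZMod 3) M) ≠ 0 := fun h => hmoved (by
    rw [← one_mul (φ (α y q₀)), h, zero_mul, ← one_mul (φ q₀), h, zero_mul])
  have h11 : (-1 : Module.End (ZMod 3) M) ≠ 1 := fun h => h10 (by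
    have e : (1 : Module.End (ZMod 3) M) = (1 + 1 + 1) + (-1 - 1) := by abel
    rw [e, h, three_eq_zero']; simp)
  set f := φ.toHomUnits with hf
  -- the sign pairing
  set e : C → C → Module.End (ZMod 3) M := fun u v => φ ⁅u, v⁆ with he
  have he_self : ∀ u, e u u = 1 := fun u => by simp only [he]; rw [commutatorElement_self, map_one]
  have hsymm : ∀ u v, e v u = e u v := fun u v => by
    have h1 : e v u * e u v = 1 := by
      simp only [he]; rw [← map_mul, ← commutatorElement_inv u v, inv_mul_cancel, map_one]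
    rcases hs u v with h | h <;> simp only [he] at h1 ⊢ <;> rw [h] at h1 ⊢
    · rwa [mul_one] at h1
    · rwa [mul_neg, mul_one, neg_eq_iff_eq_neg] at h1
  have hmulL : ∀ a b v, e (a * b) v = e a v * e b v := fun a b v => by
    simp only [he]
    have e1 : ⁅a * b, v⁆ = a * ⁅b, v⁆ * a⁻¹ * ⁅a, v⁆ := by simp only [commutatorElement_def]; group
    rw [e1, map_mul, map_mul, map_mul]
    have hone : φ a * φ a⁻¹ = 1 := by rw [← map_mul, mul_inv_cancel, map_one]
    rcases hs b v with h | h <;> rcases hs a v with h' | h' <;> rw [h, h'] <;> simp [hone]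
  have hmulR : ∀ u a b, e u (a * b) = e u a * e u b := fun u a b => by
    rw [hsymm (a * b) u, hmulL, hsymm u a, hsymm u b]
  have he_one : ∀ v, e 1 v = 1 := fun v => by simp only [he]; rw [commutatorElement_one_left, map_one]
  have hsq : ∀ u v, e u v * e u v = 1 := fun u v => by
    simp only [he]
    rcases hs u v with h | h <;> rw [h] <;> simp
  have hinvL : ∀ a v, e a⁻¹ v = e a v := fun a v => by
    have h1 : e a⁻¹ v * e a v = 1 := by rw [← hmulL, inv_mul_cancel, he_one]
    calc e a⁻¹ v = e a⁻¹ v * (e a v * e a v) := by rw [hsq, mul_one]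
      _ = e a v := by rw [← mul_assoc, h1, one_mul]
  have hinvR : ∀ u a, e u a⁻¹ = e u a := fun u a => by rw [hsymm a⁻¹ u, hinvL, hsymm u a]
  have hone_of : ∀ a, φ a = 1 → ∀ v, e a v = 1 := fun a ha v => by
    simp only [he]
    have hfa : f a = 1 := Units.ext ha
    have : f ⁅a, v⁆ = 1 := by rw [map_commutatorElement, hfa, commutatorElement_one_left]
    exact congrArg Units.val this
  have hcongr : ∀ a a' v, φ a = φ a' → e a v = e a' v := fun a a' v h => by
    have h1 : φ (a' ⁻¹ * a) = 1 := by rw [map_mul, h, ← map_mul, inv_mul_cancel, map_one]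
    calc e a v = e (a' * (a'⁻¹ * a)) v := by rw [mul_inv_cancel_left]
      _ = e a' v := by rw [hmulL, hone_of _ h1, mul_one]
  have hψinv : ∀ t, ψ t * ψ t⁻¹ = 1 := fun t => by rw [← map_mul, mul_inv_cancel, map_one]
  have hinvt : ∀ t u v, e (α t u) (α t v) = e u v := fun t u v => by
    have h1 := hcomp t ⁅u, v⁆
    rw [map_commutatorElement (α t)] at h1
    simp only [he]
    have hc : ψ t * φ ⁅u, v⁆ = φ ⁅u, v⁆ * ψ t := by rcases hs u v with h | h <;> rw [h] <;> simp
    rw [hc] at h1
    have h2 := congrArg (· * ψ t⁻¹) h1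
    simp only [mul_assoc, hψinv, mul_one] at h2
    exact h2.symm
  have htrans : ∀ t u u', φ u = φ u' → φ (α t u) = φ (α t u') := fun t u u' h => by
    have h1 : φ (α t u) * ψ t = φ (α t u') * ψ t := by rw [← hcomp, ← hcomp, h]
    have h2 := congrArg (· * ψ t⁻¹) h1
    simpa only [mul_assoc, hψinv, mul_one] using h2
  have hψ3 : ∀ c ∈ commutator T, ψ (c ^ 3) = 1 := fun c hc => by
    rw [map_pow]
    rw [cube_eq (ψ c), ← sq, hquad c hc, three_eq_zero']
    simp
  have hback : ∀ c ∈ commutator T, ∀ u, φ (α c (α c (α c u))) = φ u := fun c hc u => by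
    have h := hcomp (c ^ 3) u
    rw [hψ3 c hc, one_mul, mul_one, pow_succ, pow_two, map_mul, map_mul, MulAut.mul_apply, MulAut.mul_apply] at h
    exact h.symm
  have hcom_of : ∀ u v, e u v = 1 → Commute (φ u) (φ v) := fun u v h => by
    have h1 : φ u * φ v = φ ⁅u, v⁆ * (φ v * φ u) := by
      rw [← map_mul, ← map_mul, ← map_mul]; congr 1; rw [commutatorElement_def]; group
    simp only [he] at h
    rw [h, one_mul] at h1
    exact h1
  have hanti : ∀ u v, e u v = -1 → φ u * φ v = -(φ v * φ u) := fun u v h => by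
    have h1 : φ u * φ v = φ ⁅u, v⁆ * (φ v * φ u) := by
      rw [← map_mul, ← map_mul, ← map_mul]; congr 1; rw [commutatorElement_def]; group
    simp only [he] at h
    rw [h, neg_one_mul] at h1
    exact h1
  -- moved elements anticommute with their images
  have hneg : ∀ c ∈ commutator T, ∀ u, φ (α c u) ≠ φ u → e u (α c u) = -1 := fun c hc u hu =>
    (hs u (α c u)).resolve_left fun h =>
      not_commute_of_moved φ ψ α hC hcomp (hquad c hc) hu (hcom_of _ _ h)
  -- the sum over a triple
  have hsum : ∀ c ∈ commutator T, ∀ u,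
      φ u + φ (α c u) + φ (α c (α c u)) = (ψ c - 1) * φ u * (ψ c - 1) := fun c hc u => by
    set n := ψ c - 1 with hn
    have hn2 : n * n = 0 := hmul c hc c hc
    have hY : ψ c = 1 + n := by rw [hn]; noncomm_ring
    have hYi : ψ c * (1 - n) = 1 := by rw [hY, add_mul, one_mul, mul_sub, mul_one, hn2]; abel
    have hB : ∀ w, φ (α c w) = (1 + n) * φ w * (1 - n) := fun w => by
      rw [← hY, hcomp, mul_assoc, hYi, mul_one]
    rw [hB (α c u), hB u]
    set A := φ u
    have e1 : A + (1 + n) * A * (1 - n) + (1 + n) * ((1 + n) * A * (1 - n)) * (1 - n) =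
        3 * A + 3 * (n * A) - 3 * (A * n) - 6 * (n * A * n) + n * A * n + n * n * A * (1 - n) * (1 - n) +
          (1 + 2 * n) * A * (n * n) := by noncomm_ring
    rw [e1, show (6 : Module.End (ZMod 3) M) = 3 * 2 by norm_num, three_eq_zero, hn2]
    simp
  -- two independent triples are impossible
  have two : ∀ c ∈ commutator T, ∀ c' ∈ commutator T, ∀ u u', e u (α c u) = -1 → e u (α c (α c u)) = -1 →
      e u' (α c' u') = -1 → e u' (α c' (α c' u')) = -1 → e u u' = 1 → e u (α c' u') = 1 →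
      e u (α c' (α c' u')) = 1 → False := by
    intro c hc c' hc' u u' h1 h2 h1' h2' k0 k1 k2
    have hA2 : ∀ a b d, e a b = -1 → e a d = -1 →
        φ a * (φ a + φ b + φ d) + (φ a + φ b + φ d) * φ a = 2 * (φ a * φ a) := fun a b d hb hd => by
      have hb' := hanti a b hb
      have hd' := hanti a d hd
      rw [mul_add, mul_add, add_mul, add_mul, hb', hd']
      noncomm_ring
    have hss : (φ u + φ (α c u) + φ (α c (α c u))) * (φ u' + φ (α c' u') + φ (α c' (α c' u'))) = 0 := by
      rw [hsum c hc, hsum c' hc']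
      simp only [mul_assoc]
      rw [← mul_assoc (ψ c - 1) (ψ c' - 1), hmul c hc c' hc', zero_mul, mul_zero, mul_zero]
    set s := φ u + φ (α c u) + φ (α c (α c u))
    set s' := φ u' + φ (α c' u') + φ (α c' (α c' u'))
    have hus : Commute (φ u) s' :=
      (((hcom_of _ _ k0).add_right (hcom_of _ _ k1)).add_right (hcom_of _ _ k2))
    have h4 : 2 * (φ u * φ u) * s' = 0 := by
      rw [← hA2 u _ _ h1 h2, add_mul, mul_assoc, hss, mul_zero, mul_assoc, hus.eq, ← mul_assoc, hss, zero_mul,
        add_zero]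
    have hcan : ∀ z : Module.End (ZMod 3) M, ∀ a : C, 2 * (φ a * φ a) * z = 0 → z = 0 := fun z a hz => by
      have h5 : (-1 : Module.End (ZMod 3) M) * (φ a * φ a) * z = 0 := by
        have e1 : (-1 : Module.End (ZMod 3) M) = 2 := by
          rw [← sub_eq_zero, ← three_eq_zero' (M := M), ← one_add_one_eq_two]
          have h3' := three_eq_zero' (M := M)
          calc (-1 : Module.End (ZMod 3) M) - (1 + 1) = -(1 + 1 + 1) := by abel
            _ = 1 + 1 + 1 := by rw [h3', neg_zero]
        rw [e1, hz]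
      rw [neg_one_mul, neg_mul, neg_eq_zero] at h5
      have h6 := congrArg (φ (a⁻¹ * a⁻¹) * ·) h5
      simp only [mul_zero, ← mul_assoc] at h6
      rw [← map_mul, ← map_mul, show a⁻¹ * a⁻¹ * a * a = 1 by group, map_one, one_mul] at h6
      exact h6
    have hs0 : s' = 0 := hcan s' u h4
    have h7 := hA2 u' _ _ h1' h2'
    rw [show φ u' + φ (α c' u') + φ (α c' (α c' u')) = 0 from hs0, mul_zero, zero_mul, add_zero] at h7
    have h8 := hcan 1 u' (by rw [mul_one]; exact h7.symm)
    exact h10 h8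
  -- the basic triple
  set q := q₀ * (α y q₀)⁻¹ with hq
  set q₁ := α y q with hq₁
  have e01 : e q₀ (α y q₀) = -1 := hneg y hy q₀ hmoved
  have e02 : e q₀ (α y (α y q₀)) = -1 := by
    rw [← hinvt y, hsymm, hcongr _ q₀ _ (hback y hy q₀)]
    exact e01
  have hqq1 : e q q₁ = -1 := by
    rw [hq₁, hq, map_mul, map_inv, hmulL, hmulR, hmulR, hinvR, hinvR, hinvL, hinvL, he_self, e01, e02,
      show e (α y q₀) (α y (α y q₀)) = -1 by rw [hinvt, e01]]
    simp
  have hq₂ : φ (q * q₁ * α y q₁) = 1 := by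
    have e1 : q * q₁ * α y q₁ = q₀ * (α y (α y (α y q₀)))⁻¹ := by
      rw [hq₁, hq, map_mul, map_inv, map_mul, map_inv]; group
    have hu : f (α y (α y (α y q₀))) = f q₀ := Units.ext (hback y hy q₀)
    have : f (q₀ * (α y (α y (α y q₀)))⁻¹) = 1 := by rw [map_mul, map_inv, hu, mul_inv_cancel]
    rw [e1]; exact congrArg Units.val this
  have hq₂' : ∀ w, e w (α y q₁) = e w q * e w q₁ := fun w => by
    have h1 : e w (q * q₁ * α y q₁) = 1 := by rw [hsymm]; exact hone_of _ hq₂ w
    rw [hmulR, hmulR] at h1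
    calc e w (α y q₁) = (e w q * e w q₁) * (e w q * e w q₁) * e w (α y q₁) := by
          rw [← hmulR, hsq, one_mul]
      _ = e w q * e w q₁ := by rw [mul_assoc, h1, mul_one]
  have hq0' : e q (α y q₁) = -1 := by rw [hq₂', he_self, hqq1, one_mul]
  -- the fixed elements
  let O : Subgroup C :=
    { carrier := {o | e o q = 1 ∧ e o q₁ = 1}
      one_mem' := ⟨he_one _, he_one _⟩
      mul_mem' := fun {a b} ha hb => ⟨by rw [hmulL, ha.1, hb.1, one_mul], by rw [hmulL, ha.2, hb.2, one_mul]⟩
      inv_mem' := fun {a} ha => ⟨by rw [hinvL, ha.1], by rw [hinvL, ha.2]⟩ }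
  have hfixO : ∀ w, φ (α y w) = φ w → w ∈ O := by
    intro w hw
    have h1 : e w (α y q₀) = e w q₀ := by rw [← hcongr _ _ _ hw, hinvt]
    have hwq : e w q = 1 := by rw [hq, hmulR, hinvR, h1, hsq]
    exact ⟨hwq, by rw [hq₁, ← hcongr _ _ _ hw, hinvt]; exact hwq⟩
  have hyO : ∀ o ∈ O, α y o ∈ O := fun o ho => ⟨by
      rw [hsymm, ← hcongr _ q _ (hback y hy q), hinvt, ← hq₁, hsymm, hq₂', ho.1, ho.2, one_mul], by
      rw [hq₁, hinvt]; exact ho.1⟩
  have pairO : ∀ c ∈ commutator T, ∀ o, o ∈ O → α c o ∈ O → α c (α c o) ∈ O → φ (α c o) = φ o := by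
    intro c hc o h0 h1 h2
    by_contra hne
    have k1 := hneg c hc o hne
    have k2 : e o (α c (α c o)) = -1 := by
      rw [← hinvt c, hsymm, hcongr _ o _ (hback c hc o)]
      exact k1
    exact two y hy c hc q o hqq1 hq0' k1 k2 (by rw [hsymm]; exact h0.1) (by rw [hsymm]; exact h1.1)
      (by rw [hsymm]; exact h2.1)
  have hfix : ∀ o ∈ O, φ (α y o) = φ o := fun o ho => pairO y hy o ho (hyO o ho) (hyO _ (hyO o ho))
  have hderO : ∀ c ∈ commutator T, ∀ o ∈ O, α c o ∈ O := by
    intro c hc o ho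
    refine hfixO _ ?_
    have hcy : ψ y * ψ c = ψ c * ψ y := by
      have h1 : ψ y * ψ c = ψ y + ψ c - 1 := by
        have := hmul y hy c hc
        rw [← sub_eq_zero]; rw [← this]; noncomm_ring
      have h2 : ψ c * ψ y = ψ y + ψ c - 1 := by
        have := hmul c hc y hy
        rw [← sub_eq_zero]; rw [← this]; noncomm_ring
      rw [h1, h2]
    have h3 : φ (α y (α c o)) * (ψ y * ψ c) = φ (α c (α y o)) * (ψ y * ψ c) := by
      conv_lhs => rw [← mul_assoc, ← hcomp, mul_assoc, ← hcomp, ← mul_assoc, hcy]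
      rw [hcy, ← mul_assoc, ← hcomp, mul_assoc, mul_assoc, ← hcomp]
    have h4 := congrArg (· * (ψ c⁻¹ * ψ y⁻¹)) h3
    have h5 : ψ y * ψ c * (ψ c⁻¹ * ψ y⁻¹) = 1 := by
      rw [← map_mul, ← map_mul, ← map_mul, show y * c * (c⁻¹ * y⁻¹) = 1 by group, map_one]
    simp only [mul_assoc] at h4 h5
    rw [h5, mul_one, mul_one] at h4
    rw [h4]
    exact htrans c _ _ (hfix o ho)
  have hallO : ∀ c ∈ commutator T, ∀ o ∈ O, φ (α c o) = φ o := fun c hc o ho =>
    pairO c hc o ho (hderO c hc o ho) (hderO c hc _ (hderO c hc o ho))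
  have htO : ∀ t : T, ∀ o ∈ O, α t o ∈ O := by
    intro t o ho
    refine hfixO _ ?_
    have hc : t⁻¹ * y * t ∈ commutator T := by
      simpa using (inferInstance : (commutator T).Normal).conj_mem y hy t⁻¹
    have h1 := htrans t _ _ (hallO _ hc o ho)
    rw [← MulAut.mul_apply, ← map_mul, show t * (t⁻¹ * y * t) = y * t by group, map_mul,
      MulAut.mul_apply] at h1
    exact h1
  -- the action on the quotient by `O`
  haveI hOn : O.Normal := ⟨fun o ho g => by
    have h : g * o * g⁻¹ = ⁅g, o⁆ * o := by rw [commutatorElement_def, inv_mul_cancel_right]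
    rw [h]
    refine mul_mem ⟨?_, ?_⟩ ho
    · rw [commutatorElement_def, hmulL, hmulL, hmulL, hinvL, hinvL, ho.1, mul_one, mul_one, hsq]
    · rw [commutatorElement_def, hmulL, hmulL, hmulL, hinvL, hinvL, ho.2, mul_one, mul_one, hsq]⟩
  have hmap : ∀ φ' : T, O.map (α φ').toMonoidHom = O := fun t => by
    refine le_antisymm ?_ fun o ho => ?_
    · rintro _ ⟨o, ho, rfl⟩
      exact htO t o ho
    · refine ⟨α t⁻¹ o, htO t⁻¹ o ho, ?_⟩
      show α t (α t⁻¹ o) = o
      rw [← MulAut.mul_apply, ← map_mul, mul_inv_cancel, map_one, MulAut.one_apply]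
  let β : T →* MulAut (C ⧸ O) :=
    { toFun := fun t => QuotientGroup.congr O O (α t) (hmap t)
      map_one' := MulEquiv.ext fun z => by
        induction z using QuotientGroup.induction_on with | H z =>
          show ((α 1 z : C) : C ⧸ O) = _
          rw [map_one]; rfl
      map_mul' := fun s t => MulEquiv.ext fun z => by
        induction z using QuotientGroup.induction_on with | H z =>
          show ((α (s * t) z : C) : C ⧸ O) = _
          rw [map_mul]; rfl }
  have hcard4 : Nat.card (C ⧸ O) ≤ 4 := by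
    let key : C ⧸ O → Bool × Bool := fun z =>
      (decide (e z.out q = 1), decide (e z.out q₁ = 1))
    have hinj : Function.Injective key := by
      intro z w h
      simp only [key, Prod.mk.injEq, decide_eq_decide] at h
      have hsame : ∀ a b v, (e a v = 1 ↔ e b v = 1) → e a v = e b v := fun a b v hab => by
        rcases hs a v with h1 | h1
        · rw [show e a v = 1 from h1, hab.1 h1]
        · rcases hs b v with h2 | h2
          · rw [show e b v = 1 from h2, hab.2 h2]
          · rw [show e a v = -1 from h1, show e b v = -1 from h2]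
      rw [← QuotientGroup.out_eq' z, ← QuotientGroup.out_eq' w, QuotientGroup.eq]
      constructor
      · rw [hmulL, hinvL, hsame _ _ q h.1, hsq]
      · rw [hmulL, hinvL, hsame _ _ q₁ h.2, hsq]
    exact (Nat.card_le_card_of_injective key hinj).trans (by simp)
  let toPerm : MulAut (C ⧸ O) →* Equiv.Perm {z : C ⧸ O // z ≠ 1} :=
    { toFun := fun θ => θ.toEquiv.subtypeEquiv fun z => by simp
      map_one' := rfl
      map_mul' := fun _ _ => rfl }
  have htoPerm : Function.Injective toPerm := fun θ η h => MulEquiv.ext fun z => by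
    by_cases hz : z = 1
    · rw [hz, map_one, map_one]
    · exact congrArg Subtype.val (Equiv.ext_iff.1 h ⟨z, hz⟩)
  have hrange : ∀ a b : (toPerm.comp β).range, a * b = b * a := by
    set P := (toPerm.comp β).range
    obtain ⟨k, hk⟩ := IsPGroup.iff_card.1 (hT.of_surjective _ (toPerm.comp β).rangeRestrict_surjective)
    have hn : Nat.card {z : C ⧸ O // z ≠ 1} ≤ 3 := by
      classical
      have := Fintype.ofFinite (C ⧸ O)
      rw [Nat.card_eq_fintype_card, Fintype.card_subtype_compl, Fintype.card_subtype_eq]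
      rw [Nat.card_eq_fintype_card] at hcard4
      omega
    have hd : 3 ^ k ∣ (3 : ℕ).factorial := by
      rw [← hk]
      refine (Subgroup.card_subgroup_dvd_card P).trans ?_
      rw [Nat.card_perm]
      exact Nat.factorial_dvd_factorial hn
    have hk1 : k ≤ 1 := by
      by_contra h
      have h9 : 3 ^ 2 ∣ (3 : ℕ).factorial := (pow_dvd_pow 3 (by omega)).trans hd
      norm_num [Nat.factorial] at h9
    haveI : IsCyclic P := by
      interval_cases k
      · rw [pow_zero] at hk
        haveI := (Nat.card_eq_one_iff_unique.1 hk).1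
        exact isCyclic_of_subsingleton
      · rw [pow_one] at hk
        exact isCyclic_of_prime_card (p := 3) hk
    letI : CommGroup P := IsCyclic.commGroup
    exact mul_comm
  have hker : commutator T ≤ (toPerm.comp β).ker := by
    rw [commutator_def, Subgroup.commutator_le]
    intro a _ b _
    rw [MonoidHom.mem_ker, map_commutatorElement, commutatorElement_eq_one_iff_mul_comm]
    exact congrArg Subtype.val (hrange ⟨_, a, rfl⟩ ⟨_, b, rfl⟩)
  have hfin : β y = 1 := htoPerm (by rw [map_one]; exact hker hy)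
  have hmem : q⁻¹ * α y q ∈ O := QuotientGroup.eq.1 (DFunLike.congr_fun hfin (q : C ⧸ O)).symm
  have h9 : e (q⁻¹ * q₁) q = 1 := hmem.1
  rw [hmulL, hinvL, he_self, one_mul, hsymm, hqq1] at h9
  exact h11 h9

/-- Three eigenvectors with separated signs summing to zero vanish. -/
theorem eq_zero_of_separated {ι : Type*} (ε : ι → Module.End (ZMod 3) M) (c₀ c₁ c₂ : ι → ZMod 3)
    (h₀ : ∀ i, c₀ i = 1 ∨ c₀ i = -1) (h₁ : ∀ i, c₁ i = 1 ∨ c₁ i = -1) (h₂ : ∀ i, c₂ i = 1 ∨ c₂ i = -1)
    (h01 : c₀ ≠ c₁) (h02 : c₀ ≠ c₂) {a₀ a₁ a₂ : M} (e₀ : ∀ i, ε i a₀ = c₀ i • a₀)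
    (e₁ : ∀ i, ε i a₁ = c₁ i • a₁) (e₂ : ∀ i, ε i a₂ = c₂ i • a₂) (hsum : a₀ + a₁ + a₂ = 0) :
    a₀ = 0 := by
  have hd : ∀ a b : ZMod 3, (a = 1 ∨ a = -1) → (b = 1 ∨ b = -1) → a ≠ b → b = -a := by decide
  have hs : ∀ a : ZMod 3, (a = 1 ∨ a = -1) → a * a = 1 := by decide
  have h2inv : ∀ a : M, a + a = 0 → a = 0 := fun a ha => by
    have h3 : a + a + a = 0 := by
      have := LinearMap.congr_fun (three_eq_zero' (M := M)) a
      simpa using this
    rwa [ha, zero_add] at h3
  obtain ⟨i, hi⟩ := Function.ne_iff.1 h01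
  obtain ⟨j, hj⟩ := Function.ne_iff.1 h02
  have k1 := congrArg (ε i) hsum
  rw [map_add, map_add, map_zero, e₀, e₁, e₂, hd _ _ (h₀ i) (h₁ i) hi] at k1
  have k1' := congrArg (c₀ i • ·) k1
  simp only [smul_add, smul_neg, smul_smul, mul_neg, hs _ (h₀ i), one_smul, neg_smul, smul_zero] at k1'
  by_cases hc : c₂ i = c₀ i
  · rw [hc, hs _ (h₀ i), one_smul] at k1'
    have k2 := congrArg (ε j) (show a₀ + a₂ = 0 from h2inv _ (by
      calc (a₀ + a₂) + (a₀ + a₂) = (a₀ + a₁ + a₂) + (a₀ + -a₁ + a₂) := by abel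
        _ = 0 := by rw [hsum, k1', add_zero]))
    rw [map_add, map_zero, e₀, e₂, hd _ _ (h₀ j) (h₂ j) hj] at k2
    have k2' := congrArg (c₀ j • ·) k2
    simp only [smul_add, smul_neg, smul_smul, mul_neg, hs _ (h₀ j), one_smul, neg_smul, smul_zero] at k2'
    have k3 : a₀ + a₂ = 0 := h2inv _ (by
      calc (a₀ + a₂) + (a₀ + a₂) = (a₀ + a₁ + a₂) + (a₀ + -a₁ + a₂) := by abel
        _ = 0 := by rw [hsum, k1', add_zero])
    exact h2inv _ (by
      calc a₀ + a₀ = (a₀ + a₂) + (a₀ + -a₂) := by abel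
        _ = 0 := by rw [k3, k2', add_zero])
  · rw [hd _ _ (h₀ i) (h₂ i) (Ne.symm hc), mul_neg, hs _ (h₀ i), neg_smul, one_smul] at k1'
    exact h2inv _ (by
      calc a₀ + a₀ = (a₀ + a₁ + a₂) + (a₀ + -a₁ + -a₂) := by abel
        _ = 0 := by rw [hsum, k1', add_zero])

/-- A derived element fixes every element of a class two group, up to the representation. -/
theorem class_two_case (hC : IsPGroup 2 C) (hc2 : ∀ u v : C, ⁅u, v⁆ ∈ Subgroup.center C)
    (hsqc : ∀ u : C, u * u ∈ Subgroup.center C) (hT : IsPGroup 3 T)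
    (hcomp : ∀ t c, ψ t * φ c = φ (α t c) * ψ t)
    (hId : ∀ c ∈ commutator T, ∀ a b : T, (ψ c - 1) * (ψ a - 1) * (ψ b - 1) = 0)
    {y : T} (hy : y ∈ commutator T) (q : C) : φ (α y q) = φ q := by
  classical
  by_contra hq
  have hmul := derived_mul_eq_zero ψ hId
  have hquad : (ψ y - 1) ^ 2 = 0 := by rw [sq]; exact hmul y hy y hy
  set ε : C × C → Module.End (ZMod 3) M := fun i => φ ⁅i.1, i.2⁆ with hε
  have hεc : ∀ i u, Commute (ε i) (φ u) := fun i u => by
    show φ _ * φ _ = φ _ * φ _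
    rw [← map_mul, ← map_mul, (Subgroup.mem_center_iff.1 (hc2 i.1 i.2) u).symm]
  have hεε : ∀ i j, Commute (ε i) (ε j) := fun i j => hεc i _
  have hεsq : ∀ i, ε i * ε i = 1 := fun i => by
    show φ _ * φ _ = 1
    rw [← map_mul, show ⁅i.1, i.2⁆ * ⁅i.1, i.2⁆ = ⁅i.1 * i.1, i.2⁆ by
      rw [show ⁅i.1 * i.1, i.2⁆ = i.1 * ⁅i.1, i.2⁆ * i.1⁻¹ * ⁅i.1, i.2⁆ by
        simp only [commutatorElement_def]; group,
        Subgroup.mem_center_iff.1 (hc2 i.1 i.2) i.1, mul_inv_cancel_right],
      commutatorElement_eq_one_iff_commute.2 (Subgroup.mem_center_iff.1 (hsqc i.1) i.2).symm, map_one]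
  have hεy : ∀ u v, φ (α y ⁅u, v⁆) = φ ⁅u, v⁆ := fun u v => by
    by_contra hne
    refine not_commute_of_moved φ ψ α hC hcomp hquad hne ?_
    show φ _ * φ _ = φ _ * φ _
    rw [← map_mul, ← map_mul, (Subgroup.mem_center_iff.1 (hc2 u v) _).symm]
  set i₀ : C × C := (q, α y q) with hi₀
  have hε0 : ε i₀ ≠ 1 := fun h => not_commute_of_moved φ ψ α hC hcomp hquad hq (by
    show φ _ * φ _ = φ _ * φ _
    have e : φ (q * α y q) = ε i₀ * φ (α y q * q) := by
      show φ _ = φ ⁅q, α y q⁆ * φ _
      rw [← map_mul, commutatorElement_def]; congr 1; group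
    rw [← map_mul, ← map_mul, e, h, one_mul])
  haveI : Finite (Submodule (ZMod 3) M) := Finite.of_injective _ SetLike.coe_injective
  set M₀ : Submodule (ZMod 3) M := LinearMap.ker (ε i₀ + 1) with hM₀
  have hM₀ne : M₀ ≠ ⊥ := fun h => hε0 (by
    rw [← sub_eq_zero]
    refine LinearMap.ext fun v => ?_
    have : (ε i₀ - 1) v ∈ M₀ := by
      rw [hM₀, LinearMap.mem_ker, ← Module.End.mul_apply, add_mul, mul_sub, mul_one, one_mul, hεsq]
      simp
    rw [h, Submodule.mem_bot] at this
    rw [this]; rfl)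
  obtain ⟨W, -, hW⟩ := Finite.exists_le_minimal (a := M₀)
    (p := fun W : Submodule (ZMod 3) M => W ≤ M₀ ∧ W ≠ ⊥ ∧ ∀ i, ∀ w ∈ W, ε i w ∈ W)
    ⟨le_rfl, hM₀ne, fun i w hw => by
      rw [hM₀, LinearMap.mem_ker] at hw ⊢
      rw [← Module.End.mul_apply, ((hεε i₀ i).add_left (Commute.one_left _)).eq, Module.End.mul_apply, hw,
        map_zero]⟩
  obtain ⟨⟨hWM, hWne, hWinv⟩, hWmin⟩ := hW
  set χ : C → C → ZMod 3 := fun u v => if (∀ w ∈ W, ε (u, v) w = w) then 1 else -1 with hχ
  have hχpm : ∀ u v, χ u v = 1 ∨ χ u v = -1 := fun u v => by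
    simp only [hχ]; split <;> simp
  have hχW : ∀ u v, ∀ w ∈ W, ε (u, v) w = χ u v • w := by
    intro u v w hw
    simp only [hχ]
    split_ifs with h
    · rw [one_smul, h w hw]
    · push Not at h
      obtain ⟨w₀, hw₀, hne⟩ := h
      set W' : Submodule (ZMod 3) M := W ⊓ LinearMap.ker (ε (u, v) - 1) with hW'
      have hbot : W' = ⊥ := by
        by_contra hne'
        have hle := hWmin ⟨inf_le_left.trans hWM, hne', fun i w hw => ⟨hWinv i w hw.1, by
          have h2 : (ε (u, v) - 1) w = 0 := hw.2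
          show (ε (u, v) - 1) (ε i w) = 0
          rw [← Module.End.mul_apply, ((hεε (u, v) i).sub_left (Commute.one_left _)).eq,
            Module.End.mul_apply, h2, map_zero]⟩⟩ (inf_le_left : W' ≤ W)
        have := (hle hw₀).2
        exact hne (sub_eq_zero.1 (show (ε (u, v) - 1) w₀ = 0 from this))
      have hmem : ε (u, v) w + w ∈ W' := ⟨W.add_mem (hWinv _ w hw) hw, by
        show (ε (u, v) - 1) (ε (u, v) w + w) = 0
        rw [map_add, LinearMap.sub_apply, LinearMap.sub_apply, Module.End.one_apply, Module.End.one_apply,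
          ← Module.End.mul_apply, hεsq, Module.End.one_apply]
        abel⟩
      rw [hbot, Submodule.mem_bot] at hmem
      rw [neg_smul, one_smul, eq_neg_iff_add_eq_zero]
      exact hmem
  let Mχ : Submodule (ZMod 3) M :=
    { carrier := {w | ∀ u v, ε (u, v) w = χ u v • w}
      add_mem' := fun {a b} ha hb u v => by rw [map_add, ha, hb, smul_add]
      zero_mem' := fun u v => by rw [map_zero, smul_zero]
      smul_mem' := fun r a ha u v => by rw [map_smul, ha, smul_comm] }
  have hφM : ∀ c, ∀ w ∈ Mχ, φ c w ∈ Mχ := fun c w hw u v => by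
    rw [← Module.End.mul_apply, (hεc (u, v) c).eq, Module.End.mul_apply, hw, map_smul]
  have hconjψ : ∀ (s : T) u v, ε (u, v) * ψ s = ψ s * ε (α s⁻¹ u, α s⁻¹ v) := fun s u v => by
    show φ ⁅u, v⁆ * ψ s = ψ s * φ ⁅α s⁻¹ u, α s⁻¹ v⁆
    rw [hcomp, ← map_commutatorElement, ← MulAut.mul_apply, ← map_mul, mul_inv_cancel, map_one,
      MulAut.one_apply]
  have hyM : ∀ u v, Commute (ε (u, v)) (ψ y) := fun u v => by
    show φ _ * ψ y = ψ y * φ _
    rw [hcomp, hεy]
  -- it suffices that `q` is fixed on the component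
  suffices hfin : ∀ w ∈ Mχ, φ (α y q) w = φ q w by
    obtain ⟨w, hw, hw0⟩ := (Submodule.ne_bot_iff W).1 hWne
    have hwχ : w ∈ Mχ := fun u v => hχW u v w hw
    have hχ0 : χ q (α y q) = -1 := by
      rcases hχpm q (α y q) with h | h
      · exfalso
        apply hw0
        have h1 := hwχ q (α y q)
        rw [h, one_smul] at h1
        have h2 : ε i₀ w + w = 0 := by
          have := hWM hw
          rwa [hM₀, LinearMap.mem_ker, LinearMap.add_apply, Module.End.one_apply] at this
        rw [h1] at h2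
        have h3 : w + w + w = 0 := by
          have := LinearMap.congr_fun (three_eq_zero' (M := M)) w
          simpa using this
        rwa [h2, zero_add] at h3
      · exact h
    apply hw0
    set A := φ q
    set B := φ (α y q)
    have h1 : A (B w) = A (A w) := by rw [hfin w hwχ]
    have h2 : B (A w) = A (A w) := hfin _ (hφM q w hwχ)
    have h3 : A (B w) = -(B (A w)) := by
      have e : φ (q * α y q) = ε i₀ * φ (α y q * q) := by
        show φ _ = φ ⁅q, α y q⁆ * φ _
        rw [← map_mul, commutatorElement_def]; congr 1; group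
      rw [map_mul, map_mul] at e
      have h4 := LinearMap.congr_fun e w
      simp only [Module.End.mul_apply] at h4
      rw [h4, hφM _ _ (hφM q w hwχ) q (α y q), hχ0, neg_smul, one_smul]
    rw [h1, h2] at h3
    have h5 : A (A w) = 0 := by
      have h6 : A (A w) + A (A w) = 0 := add_eq_zero_iff_eq_neg.2 h3
      have h7 : A (A w) + A (A w) + A (A w) = 0 := by
        have := LinearMap.congr_fun (three_eq_zero' (M := M)) (A (A w))
        simpa using this
      rwa [h6, zero_add] at h7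
    have h8 := congrArg (φ (q⁻¹ * q⁻¹)) h5
    rw [← Module.End.mul_apply, ← Module.End.mul_apply, ← map_mul, ← map_mul,
      show q⁻¹ * q⁻¹ * q * q = 1 by group, map_one, Module.End.one_apply, map_zero] at h8
    exact h8
  by_cases hst : ∀ t : T, ∀ u v, χ (α t u) (α t v) = χ u v
  · -- the component is invariant
    have hψM : ∀ t, ∀ w ∈ Mχ, ψ t w ∈ Mχ := fun t w hw u v => by
      rw [← Module.End.mul_apply, hconjψ, Module.End.mul_apply, hw, map_smul, hst]
    let φ' : C →* Module.End (ZMod 3) Mχ :=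
      { toFun := fun c => (φ c).restrict (hφM c)
        map_one' := LinearMap.ext fun w => Subtype.ext (by simp)
        map_mul' := fun a b => LinearMap.ext fun w => Subtype.ext (by simp) }
    let ψ' : T →* Module.End (ZMod 3) Mχ :=
      { toFun := fun t => (ψ t).restrict (hψM t)
        map_one' := LinearMap.ext fun w => Subtype.ext (by simp)
        map_mul' := fun a b => LinearMap.ext fun w => Subtype.ext (by simp) }
    have h := scalar_case φ' ψ' α hC hT (fun t c => LinearMap.ext fun w => Subtype.ext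
        (LinearMap.congr_fun (hcomp t c) (w : M)))
      (fun u v => by
        rcases hχpm u v with h | h
        · left; refine LinearMap.ext fun w => Subtype.ext ?_
          show ε (u, v) (w : M) = _
          rw [w.2 u v, h, one_smul]; rfl
        · right; refine LinearMap.ext fun w => Subtype.ext ?_
          show ε (u, v) (w : M) = _
          rw [w.2 u v, h, neg_smul, one_smul]; rfl)
      (fun c hc a b => LinearMap.ext fun w => Subtype.ext
        (LinearMap.congr_fun (hId c hc a b) (w : M))) hy q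
    exact fun w hw => congrArg Subtype.val (LinearMap.congr_fun h ⟨w, hw⟩)
  · push Not at hst
    obtain ⟨t, u₀, v₀, ht⟩ := hst
    -- `y` is trivial on the component
    set c : ℕ → C × C → ZMod 3 := fun k i => χ (α (t ^ k) i.1) (α (t ^ k) i.2) with hc
    have hc01 : c 0 ≠ c 1 := fun h => ht (by simpa [hc] using (congrFun h (u₀, v₀)).symm)
    have hc02 : c 0 ≠ c 2 := by
      intro h
      apply hc01
      have hper : ∀ j, c (2 * j) = c 0 := by
        intro j
        induction j with
        | zero => rfl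
        | succ j ih =>
          funext i
          have h1 := congrFun h (α (t ^ (2 * j)) i.1, α (t ^ (2 * j)) i.2)
          simp only [hc, pow_zero, map_one, MulAut.one_apply] at h1
          have h2 := congrFun ih i
          simp only [hc, pow_zero, map_one, MulAut.one_apply] at h2 ⊢
          rw [show 2 * (j + 1) = 2 + 2 * j by ring, pow_add, map_mul, MulAut.mul_apply, MulAut.mul_apply,
            ← h1, h2]
      obtain ⟨k, hk⟩ := IsPGroup.iff_orderOf.1 hT t
      obtain ⟨j, hj⟩ : Odd (3 ^ k) := Odd.pow (by decide)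
      funext i
      have h1 := congrFun (hper (j + 1)) i
      simp only [hc, pow_zero, map_one, MulAut.one_apply] at h1 ⊢
      rw [show 2 * (j + 1) = 3 ^ k + 1 by omega, pow_add, ← hk, pow_orderOf_eq_one, one_mul] at h1
      exact h1.symm
    have hc12 : c 1 ≠ c 2 := fun h => hc01 (funext fun i => by
      have h1 := congrFun h (α t⁻¹ i.1, α t⁻¹ i.2)
      simp only [hc, ← MulAut.mul_apply, ← map_mul, pow_one, pow_two, mul_inv_cancel, map_one,
        mul_inv_cancel_right] at h1
      simpa [hc] using h1)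
    have hnull : ∀ w ∈ Mχ, (ψ y - 1) w = 0 := by
      intro w hw
      have heig : ∀ k : ℕ, ∀ i : C × C, ε i ((ψ y - 1) (ψ ((t ^ k)⁻¹) w)) =
          c k i • (ψ y - 1) (ψ ((t ^ k)⁻¹) w) := fun k i => by
        rw [← Module.End.mul_apply, ((hyM i.1 i.2).sub_right (Commute.one_right _)).eq,
          Module.End.mul_apply, ← Module.End.mul_apply (ε i), hconjψ, Module.End.mul_apply, inv_inv, hw,
          map_smul, map_smul]
      have h0 := LinearMap.congr_fun (hId y hy t t) (ψ ((t ^ 2)⁻¹) w)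
      have e1 : ψ t (ψ ((t ^ 2)⁻¹) w) = ψ ((t ^ 1)⁻¹) w := by
        rw [← Module.End.mul_apply, ← map_mul]; congr 2; group
      have e0 : ψ t (ψ ((t ^ 1)⁻¹) w) = w := by
        rw [← Module.End.mul_apply, ← map_mul, pow_one, mul_inv_cancel, map_one, Module.End.one_apply]
      simp only [Module.End.mul_apply, LinearMap.sub_apply (ψ t), Module.End.one_apply, map_sub, e1, e0,
        LinearMap.zero_apply] at h0
      have hz := heig 0
      simp only [pow_zero, inv_one, map_one, Module.End.one_apply] at hz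
      refine eq_zero_of_separated ε (c 0) (c 1) (c 2) (fun i => hχpm _ _) (fun i => hχpm _ _)
        (fun i => hχpm _ _) hc01 hc02 hz
        (a₁ := -((ψ y - 1) (ψ ((t ^ 1)⁻¹) w)) + -((ψ y - 1) (ψ ((t ^ 1)⁻¹) w)))
        (fun i => by rw [map_add, map_neg, heig, smul_add, smul_neg]) (heig 2) ?_
      rw [← h0]
      simp only [LinearMap.sub_apply, Module.End.one_apply, map_sub]
      abel
    intro w hw
    have h1 : ψ y w = w := by
      have := hnull w hw
      rwa [LinearMap.sub_apply, Module.End.one_apply, sub_eq_zero] at this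
    have h2 : ψ y (φ q w) = φ q w := by
      have := hnull _ (hφM q w hw)
      rwa [LinearMap.sub_apply, Module.End.one_apply, sub_eq_zero] at this
    calc φ (α y q) w = (φ (α y q) * ψ y) w := by rw [Module.End.mul_apply, h1]
      _ = (ψ y * φ q) w := by rw [hcomp]
      _ = φ q w := by rw [Module.End.mul_apply, h2]

end Three

variable {p : ℕ} [hp : Fact p.Prime]

/-- A quadratic element of order three centralises the invariant subgroups of odd prime power order. -/
theorem centralizes_odd {H : Type u} [Group H] [Finite H] {V : Type u} [AddCommGroup V]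
    [Module (ZMod p) V] [FiniteDimensional (ZMod p) V] (ρ : H →* Module.End (ZMod p) V)
    (hρ : Function.Injective ρ) (hp3 : p = 3) (x : H) (hx : orderOf x = p) (hdeg : (ρ x - 1) ^ 2 = 0)
    {r : ℕ} [Fact r.Prime] (hr2 : r ≠ 2) (hrp : r ≠ p) (B : Subgroup H) (hB : IsPGroup r B)
    (hBx : ∀ b ∈ B, x * b * x⁻¹ ∈ B) : ∀ b ∈ B, Commute x b := by
  classical
  by_contra hcon
  push Not at hcon
  obtain ⟨b₀, hb₀, hne⟩ := hcon
  set A := Subgroup.zpowers x with hA
  have hAB : A ≤ Subgroup.normalizer (B : Set H) :=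
    Subgroup.zpowers_le.2 (Carter.le_normalizer_of_conj_mem hBx)
  set K := B ⊔ A with hK
  set B₁ := B.subgroupOf K with hB₁
  have hBK : B ≤ K := le_sup_left
  have hxK : x ∈ K := Subgroup.mem_sup_right (Subgroup.mem_zpowers x)
  haveI : B₁.Normal := Subgroup.normal_subgroupOf_of_le_normalizer (sup_le Subgroup.le_normalizer hAB)
  have hB₁r : IsPGroup r B₁ := hB.of_equiv (Subgroup.subgroupOfEquivOfLe hBK).symm
  have hxp : x ^ p = 1 := hx ▸ pow_orderOf_eq_one x
  have hidx : IsPGroup p (K ⧸ B₁) := by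
    intro z
    obtain ⟨⟨k, hk⟩, rfl⟩ := QuotientGroup.mk'_surjective B₁ z
    refine ⟨1, ?_⟩
    obtain ⟨b, hb, a, ⟨i, rfl⟩, he⟩ := (SolvBasic.mem_sup_iff_of_le_normalizer hAB).1 hk
    have : (⟨k, hk⟩ : K) = (⟨b, hBK hb⟩ : K) * (⟨x, hxK⟩ : K) ^ i := Subtype.ext (by simpa using he)
    rw [this, map_mul, QuotientGroup.mk'_apply B₁ ⟨b, hBK hb⟩,
      (QuotientGroup.eq_one_iff _).2 (show (⟨b, hBK hb⟩ : K) ∈ B₁ from hb), one_mul, pow_one, ← map_pow,
      ← zpow_natCast, ← zpow_mul, mul_comm, zpow_mul, zpow_natCast,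
      show (⟨x, hxK⟩ : K) ^ p = 1 from Subtype.ext hxp, one_zpow, map_one]
  have hcopB : (Nat.card B₁).Coprime p := by
    obtain ⟨k, hk⟩ := IsPGroup.iff_card.1 hB₁r
    rw [hk]
    exact ((Nat.coprime_primes Fact.out hp.out).2 hrp).pow_left k
  have hsolK : Cfsg.IsPSolvable p K := PSolvable.of_quotient B₁ (Or.inr hcopB) (PSolvable.of_isPGroup hidx)
  have hcore : Cfsg.pCore p K = ⊥ := by
    haveI := FittingCores.pCore_normal (G := K) p
    by_contra hne'
    have hN := FittingCores.pCore_isPGroup (G := K) p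
    have hcom : ∀ z ∈ Cfsg.pCore p K, ∀ b ∈ B₁, Commute z b := by
      intro z hz b hb
      rw [← commutatorElement_eq_one_iff_commute]
      have h1 : ⁅z, b⁆ ∈ Cfsg.pCore p K := by
        rw [commutatorElement_def, mul_assoc, mul_assoc, ← mul_assoc b]
        exact mul_mem hz ((inferInstance : (Cfsg.pCore p K).Normal).conj_mem _ (inv_mem hz) b)
      have h2 : ⁅z, b⁆ ∈ B₁ := by
        rw [commutatorElement_def]
        exact mul_mem ((inferInstance : B₁.Normal).conj_mem _ hb z) (inv_mem hb)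
      obtain ⟨k, hk⟩ := IsPGroup.iff_orderOf.1 hN ⟨_, h1⟩
      rw [Subgroup.orderOf_mk] at hk
      exact orderOf_eq_one_iff.1 (Nat.eq_one_of_dvd_coprimes (hcopB.pow_right k)
        (Subgroup.orderOf_dvd_natCard B₁ h2) hk.dvd)
    obtain ⟨⟨z, hz⟩, hz1⟩ := Subgroup.ne_bot_iff_exists_ne_one.1 hne'
    obtain ⟨b, hb, a, ⟨i, rfl⟩, he⟩ := (SolvBasic.mem_sup_iff_of_le_normalizer hAB).1 (z : K).2
    replace he : (z : H) = b * x ^ i := he
    have hzc : ∀ b' ∈ B, Commute (z : H) b' := fun b' hb' =>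
      congrArg Subtype.val (hcom z hz ⟨b', hBK hb'⟩ hb').eq
    -- `x ^ i` acts on `B` as an inner automorphism, so trivially
    have hconj : ∀ b' ∈ B, x ^ i * b' * (x ^ i)⁻¹ = b⁻¹ * b' * b := fun b' hb' => by
      have h1 := (hzc b' hb').eq
      rw [he] at h1
      calc x ^ i * b' * (x ^ i)⁻¹ = b⁻¹ * (b * x ^ i * b') * (x ^ i)⁻¹ := by group
        _ = _ := by rw [h1]; group
    have hxib : x ^ i * b * (x ^ i)⁻¹ = b := by rw [hconj b hb]; group
    have hiter : ∀ n : ℕ, ∀ b' ∈ B, (x ^ i) ^ n * b' * ((x ^ i) ^ n)⁻¹ = (b ^ n)⁻¹ * b' * b ^ n := by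
      intro n
      induction n with
      | zero => simp
      | succ n ih =>
        intro b' hb'
        have h1 : b⁻¹ * b' * b ∈ B := mul_mem (mul_mem (inv_mem hb) hb') hb
        calc (x ^ i) ^ (n + 1) * b' * ((x ^ i) ^ (n + 1))⁻¹
            = (x ^ i) ^ n * (x ^ i * b' * (x ^ i)⁻¹) * ((x ^ i) ^ n)⁻¹ := by rw [pow_succ]; group
          _ = (b ^ (n + 1))⁻¹ * b' * b ^ (n + 1) := by
            rw [hconj b' hb', ih _ h1, pow_succ']; group
    obtain ⟨k, hk⟩ := IsPGroup.iff_orderOf.1 hB ⟨b, hb⟩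
    rw [Subgroup.orderOf_mk] at hk
    obtain ⟨m, hm⟩ := exists_pow_eq_self_of_coprime (x := b) (n := p)
      (hk ▸ ((Nat.coprime_primes hp.out Fact.out).2 hrp.symm).pow_right k)
    have hbp : ∀ b' ∈ B, Commute (b ^ p) b' := fun b' hb' => by
      have h1 := hiter p b' hb'
      have hxip : (x ^ i) ^ p = 1 := by
        rw [← zpow_natCast, ← zpow_mul, mul_comm, zpow_mul, zpow_natCast, hxp, one_zpow]
      rw [hxip, one_mul, inv_one, mul_one] at h1
      show b ^ p * b' = b' * b ^ p
      conv_lhs => rw [h1]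
      group
    have hxi : ∀ b' ∈ B, Commute (x ^ i) b' := fun b' hb' => by
      have h1 := hconj b' hb'
      have h2 : Commute b b' := hm ▸ (hbp b' hb').pow_left m
      rw [h2.inv_left.eq, inv_mul_cancel_right] at h1
      exact mul_inv_eq_iff_eq_mul.1 h1
    apply hne
    by_cases hi : (p : ℤ) ∣ i
    · exfalso
      obtain ⟨j, rfl⟩ := hi
      rw [zpow_mul, zpow_natCast, hxp, one_zpow, mul_one] at he
      obtain ⟨l, hl⟩ := IsPGroup.iff_orderOf.1 hN ⟨z, hz⟩
      rw [Subgroup.orderOf_mk, ← Subgroup.orderOf_coe, he] at hl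
      exact hz1 (Subtype.ext (Subtype.ext (he.trans (orderOf_eq_one_iff.1 (Nat.eq_one_of_dvd_coprimes
        (((Nat.coprime_primes (Fact.out (p := r.Prime)) hp.out).2 hrp).pow k l) hk.dvd hl.dvd)))))
    · obtain ⟨s, t, hst⟩ := (Nat.prime_iff_prime_int.1 hp.out).coprime_iff_not_dvd.2 hi
      have h2 : x = (x ^ p) ^ s * (x ^ i) ^ t := by
        rw [← zpow_natCast, ← zpow_mul, ← zpow_mul, ← zpow_add, mul_comm (p : ℤ), mul_comm i, hst, zpow_one]
      rw [h2, hxp, one_zpow, one_mul]
      exact (hxi b₀ hb₀).zpow_left t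
  haveI : Module.Finite (ZMod p) V := inferInstance
  rcases HHThmB.exists_bound (ρ.comp K.subtype) (hρ.comp K.subtype_injective) hsolK hcore ⟨x, hxK⟩
      1 le_rfl (by rw [Subgroup.orderOf_mk, hx, pow_one]) with h | ⟨n₀, q, m, h1, h1', hq, h3, h4, hQ, -⟩
  · refine h ?_
    rw [show p ^ 1 - 1 = 2 by subst hp3; rfl]
    exact hdeg
  · have := Fact.mk hq
    rw [show n₀ = 1 by omega, pow_one, hp3] at h4
    have hq2 : q = 2 := ((Nat.prime_dvd_prime_iff_eq hq Nat.prime_two).1
      (show q ∣ 3 - 1 from h4 ▸ dvd_pow_self q (by omega)))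
    subst hq2
    obtain ⟨Q⟩ : Nonempty (Sylow 2 K) := inferInstance
    refine hQ Q (.of_setLike_mul_comm fun a ha b hb => ?_)
    have h1 : ∀ z ∈ (Q : Subgroup K), z = 1 := fun z hz => by
      obtain ⟨k, hk⟩ := IsPGroup.iff_orderOf.1 Q.isPGroup' ⟨z, hz⟩
      obtain ⟨l, hl⟩ := IsPGroup.iff_orderOf.1 hidx (z : K ⧸ B₁)
      rw [Subgroup.orderOf_mk] at hk
      have hzB : z ∈ B₁ := (QuotientGroup.eq_one_iff z).1 (orderOf_eq_one_iff.1 (Nat.eq_one_of_dvd_coprimes
        (((Nat.coprime_primes hq hp.out).2 (by omega)).pow k l)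
        (hk ▸ orderOf_map_dvd (QuotientGroup.mk' B₁) z) hl.dvd))
      obtain ⟨l', hl'⟩ := IsPGroup.iff_orderOf.1 hB₁r ⟨z, hzB⟩
      rw [Subgroup.orderOf_mk] at hl'
      exact orderOf_eq_one_iff.1 (Nat.eq_one_of_dvd_coprimes
        (((Nat.coprime_primes hq Fact.out).2 (Ne.symm hr2)).pow k l') hk.dvd hl'.dvd)
    rw [h1 a ha, h1 b hb]

/-- With three-fold identities the derived group of a `p`-subgroup is trivial. -/
theorem derived_trivial {H : Type u} [Group H] [Finite H] {V : Type u} [AddCommGroup V]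
    [Module (ZMod p) V] [Finite V] (ρ : H →* Module.End (ZMod p) V) (hρ : Function.Injective ρ)
    (hp2 : p ≠ 2) (hsol : Cfsg.IsPSolvable p H) (hO : Cfsg.pCore p H = ⊥) (T : Subgroup H)
    (hT : IsPGroup p T)
    (hId : ∀ c ∈ commutator T, ∀ a b : T, (ρ c - 1) * (ρ a - 1) * (ρ b - 1) = 0) :
    commutator T = ⊥ := by
  classical
  haveI : Module.Finite (ZMod p) V := Module.Finite.of_finite
  rw [eq_bot_iff]
  intro y hy
  rw [Subgroup.mem_bot]
  by_contra hy1
  have hmul := derived_mul_eq_zero (ρ.comp T.subtype) hId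
  set n := ρ (y : H) - 1 with hn
  have hn2 : n * n = 0 := hmul y hy y hy
  have hnk : ∀ k, 2 ≤ k → n ^ k = 0 := fun k hk => by
    rw [← Nat.sub_add_cancel hk, pow_add, pow_two, hn2, mul_zero]
  have hyp : (y : H) ^ p = 1 := hρ (by
    rw [map_pow, map_one]
    have hpoly : ((Polynomial.X : Polynomial (ZMod p)) - 1) ^ p = Polynomial.X ^ p - 1 := by
      rw [sub_pow_char, one_pow]
    have h1 : ρ (y : H) ^ p - 1 = n ^ p := by
      simpa [hn] using (congrArg (Polynomial.aeval (ρ (y : H))) hpoly).symm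
    rw [hnk p hp.out.two_le, sub_eq_zero] at h1
    exact h1)
  have hord : orderOf (y : H) = p := orderOf_eq_prime hyp fun h => hy1 (Subtype.ext h)
  have hp3 : p = 3 := by
    rcases HHThmB.exists_bound ρ hρ hsol hO (y : H) 1 le_rfl (by rw [pow_one, hord]) with
      h | ⟨n₀, q, m, h1, h2, -, -, -, -, h7⟩
    · exact absurd (hnk _ (by have := hp.out.two_le; rw [pow_one]; omega)) h
    · by_contra hne
      refine h7 (hnk _ ?_)
      rw [show n₀ = 1 by omega, Nat.sub_self, pow_zero, one_mul, pow_one]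
      have := hp.out.two_le
      have h5 : p ≠ 4 := fun h => by rw [h] at hp; exact absurd hp.out (by norm_num)
      omega
  subst hp3
  set R := Cfsg.pPrimeCore 3 H with hR
  haveI := FittingCores.pPrimeCore_normal (G := H) 3
  have hRp := FittingCores.pPrimeCore_coprime (G := H) 3
  have hTn : T ≤ Subgroup.normalizer (R : Set H) := fun t _ => by
    rw [Subgroup.normalizer_eq_top]; exact Subgroup.mem_top _
  have hTcop : (Nat.card T).Coprime (Nat.card R) := by
    obtain ⟨k, hk⟩ := IsPGroup.iff_card.1 hT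
    rw [hk]
    exact hRp.symm.pow_left k
  haveI := hT.isNilpotent
  have hTs : Group.IsSolvable T := inferInstance
  have hyR : (y : H) ∈ Subgroup.centralizer (R : Set H) := by
    have htop : ((Subgroup.centralizer ({(y : H)} : Set H)).subgroupOf R) = ⊤ := by
      refine FittingCores.eq_top_of_forall_sylow_le fun r hr => ?_
      have := Fact.mk hr
      obtain ⟨Q', hQ'⟩ := CoprimeAct.exists_invariant_sylow hTn hTcop (Or.inl hTs) r
      refine ⟨Q', fun t ht => Subgroup.mem_subgroupOf.2 (Subgroup.mem_centralizer_iff.2 fun z hz => ?_)⟩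
      rw [Set.mem_singleton_iff.1 hz]
      set Q : Subgroup H := (Q' : Subgroup R).map R.subtype with hQ
      have hQr : IsPGroup r Q := Q'.isPGroup'.map _
      have htQ : (t : H) ∈ Q := Subgroup.mem_map_of_mem _ ht
      by_cases ht1 : (t : H) = 1
      · rw [ht1, mul_one, one_mul]
      have hrp : r ≠ 3 := by
        rintro rfl
        obtain ⟨k, hk, hk'⟩ : ∃ k, 0 < k ∧ Nat.card Q = 3 ^ k := by
          have : Nontrivial Q := ⟨⟨⟨(t : H), htQ⟩, 1, fun h => ht1 (congrArg Subtype.val h)⟩⟩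
          exact hQr.nontrivial_iff_card.1 this
        exact hr.not_dvd_one (hRp ▸ Nat.dvd_gcd ((hk' ▸ dvd_pow_self 3 hk.ne').trans
          (Subgroup.card_dvd_of_le (Subgroup.map_subtype_le _))) dvd_rfl)
      let α : T →* MulAut Q := (Subgroup.normalizerMonoidHom Q).comp (Subgroup.inclusion hQ')
      by_cases hr2 : r = 2
      · subst hr2
        obtain ⟨C, hC⟩ := Critical.exists_critical hQr
        haveI := hC.char
        have hCinv : ∀ φ : MulAut Q, ∀ u ∈ C, φ u ∈ C := fun φ u hu =>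
          Subgroup.characteristic_iff_le_comap.1 hC.char φ hu
        have hcen : ∀ u : Q, u ∈ C ⊓ Subgroup.centralizer (C : Set Q) → ∀ hu : u ∈ C,
            (⟨u, hu⟩ : C) ∈ Subgroup.center C := fun u h hu => Subgroup.mem_center_iff.2 fun w =>
          Subtype.ext (Subgroup.mem_centralizer_iff.1 h.2 (w : Q) w.2)
        have h := class_two_case (ρ.comp (Q.subtype.comp C.subtype)) (ρ.comp T.subtype)
          ((OddOrder.RankTwoAut.restrictAut C hCinv).comp α) (hQr.to_subgroup C)
          (fun u v => hcen _ (hC.comm (Subgroup.commutator_mem_commutator (Subgroup.mem_top (u : Q)) v.2)) _)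
          (fun u => hcen _ (by simpa [pow_two] using hC.pow (u : Q) u.2) _) hT
          (fun s c => by
            show ρ (s : H) * ρ ((c : Q) : H) = ρ ((s : H) * ((c : Q) : H) * (s : H)⁻¹) * ρ (s : H)
            rw [← map_mul, ← map_mul, inv_mul_cancel_right])
          hId hy
        have hone : α y = 1 := by
          refine hC.mulAut_eq_one' hQr ?_ fun u hu => Subtype.ext (hρ (h ⟨u, hu⟩))
          obtain ⟨k, hk⟩ := IsPGroup.iff_orderOf.1 hT y
          exact (((show Nat.Coprime 3 2 by norm_num).pow_left k).coprime_dvd_left (hk ▸ orderOf_map_dvd α y))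
        have h2 := congrArg (fun φ : MulAut Q => ((φ ⟨t, htQ⟩ : Q) : H)) hone
        exact mul_inv_eq_iff_eq_mul.1 (show (y : H) * (t : H) * (y : H)⁻¹ = t from h2)
      · exact centralizes_odd ρ hρ rfl (y : H) hord (by rw [pow_two]; exact hn2) hr2 hrp Q hQr
          (fun b hb => (α y ⟨b, hb⟩).2) (t : H) htQ
    exact Subgroup.mem_centralizer_iff.2 fun t ht => (Subgroup.mem_centralizer_iff.1
      ((Subgroup.subgroupOf_eq_top.1 htop) ht) (y : H) rfl).symm
  exact hy1 (Subtype.ext (orderOf_eq_one_iff.1 (Nat.eq_one_of_dvd_coprimes hRp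
    (Subgroup.orderOf_dvd_natCard R (HHThmB.centralizer_pPrimeCore_le hsol hO hyR)) hord.dvd)))

variable {G : Type u} [Group G] [Finite G]

/-- A derived term with abelian commutator has its commutator in `O_p(G)`. -/
theorem derived_le (hp2 : p ≠ 2) (hsol : Cfsg.IsPSolvable p G) (hO : Cfsg.pPrimeCore p G = ⊥)
    (P : Sylow p G) (D : Subgroup G) (hDP : D ≤ (P : Subgroup G))
    (hDn : (P : Subgroup G) ≤ Subgroup.normalizer (D : Set G))
    (hD2 : ∀ a ∈ ⁅D, D⁆, ∀ b ∈ ⁅D, D⁆, a * b = b * a) : ⁅D, D⁆ ≤ Cfsg.pCore p G := by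
  classical
  obtain ⟨hn, ρ, hρ, hρc⟩ := HHApply.exists_rep hsol hO
  set g₁ := QuotientGroup.mk' (Cfsg.pCore p G) with hg₁
  set H := G ⧸ Cfsg.pCore p G with hH
  let emb : Additive (HHReduce.V p G) → G ⧸ HHReduce.Phi p G := fun w =>
    ((Additive.toMul w : HHReduce.V p G) : G ⧸ HHReduce.Phi p G)
  set π := QuotientGroup.mk' (HHReduce.Phi p G) with hπ
  have hn' : ∀ (a : G) w, emb ((ρ (g₁ a) - 1) w) = ⁅π a, emb w⁆ := fun a w => by
    rw [LinearMap.sub_apply, Module.End.one_apply, sub_eq_add_neg, commutatorElement_def]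
    show emb (ρ (g₁ a) w) * (emb w)⁻¹ = _
    rw [show emb (ρ (g₁ a) w) = _ from hρc a (Additive.toMul w)]
    rfl
  set T := D.map g₁ with hT
  have hTp : IsPGroup p T := (P.isPGroup'.to_le hDP).map g₁
  have hlift : ∀ c ∈ commutator T, ∃ c₀ ∈ ⁅D, D⁆, g₁ c₀ = (c : H) := fun c hc => by
    have : (c : H) ∈ (commutator T).map T.subtype := ⟨c, hc, rfl⟩
    rw [Subgroup.map_subtype_commutator, show (⁅T, T⁆ : Subgroup H) = Subgroup.map g₁ ⁅D, D⁆ from (Subgroup.map_commutator D D g₁).symm] at this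
    exact this
  have hId : ∀ c ∈ commutator T, ∀ a b : T, (ρ c - 1) * (ρ a - 1) * (ρ b - 1) = 0 := by
    rintro c hc ⟨_, a, ha, rfl⟩ ⟨_, b, hb, rfl⟩
    obtain ⟨c₀, hc₀, hce⟩ := hlift c hc
    refine LinearMap.ext fun w => ?_
    apply Additive.toMul.injective
    refine Subtype.ext ?_
    show emb (((ρ c - 1) * (ρ (g₁ a) - 1) * (ρ (g₁ b) - 1)) w) = emb 0
    rw [Module.End.mul_apply, Module.End.mul_apply, ← hce, hn', hn', hn']
    obtain ⟨r, hr, hre⟩ := (Additive.toMul w : HHReduce.V p G).2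
    have hrP : r ∈ (P : Subgroup G) := FittingCores.pCore_le_sylow P hr
    have h1 : ⁅b, r⁆ ∈ D := by
      rw [commutatorElement_def, mul_assoc, mul_assoc, ← mul_assoc r]
      exact mul_mem hb ((Subgroup.mem_normalizer_iff.1 (hDn hrP) b⁻¹).1 (inv_mem hb))
    have h2 : ⁅a, ⁅b, r⁆⁆ ∈ ⁅D, D⁆ := Subgroup.commutator_mem_commutator ha h1
    show ⁅π c₀, ⁅π a, ⁅π b, emb w⁆⁆⁆ = 1
    rw [show emb w = π r from hre.symm, ← map_commutatorElement, ← map_commutatorElement,
      ← map_commutatorElement, commutatorElement_eq_one_iff_mul_comm.2 (hD2 _ hc₀ _ h2), map_one]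
  haveI : Finite (Additive (HHReduce.V p G)) := inferInstanceAs (Finite (HHReduce.V p G))
  have h := derived_trivial ρ hρ hp2 (PSolvable.quotient _ hsol) (PBasic.pCore_quotient_pCore p G) T hTp hId
  intro x hx
  have h2 : g₁ x ∈ (commutator T).map T.subtype := by
    rw [Subgroup.map_subtype_commutator, show (⁅T, T⁆ : Subgroup H) = Subgroup.map g₁ ⁅D, D⁆ from (Subgroup.map_commutator D D g₁).symm]
    exact ⟨x, hx, rfl⟩
  rw [h, Subgroup.map_bot, Subgroup.mem_bot] at h2
  exact (QuotientGroup.eq_one_iff x).1 h2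

/-- The `p`-length is at most the derived length of a Sylow subgroup. -/
theorem pLengthLE_derived (hp2 : p ≠ 2) : ∀ (d : ℕ) {G : Type u} [Group G] [Finite G],
    Cfsg.IsPSolvable p G → (∀ P : Sylow p G, derivedSeries ↥(P : Subgroup G) d = ⊥) →
    Cfsg.PLengthLE p d G
  | 0, G, _, _, _, hd => by
    rw [PSeries.pLengthLE_zero_iff]
    obtain ⟨P⟩ : Nonempty (Sylow p G) := inferInstance
    refine ((hp.out.coprime_iff_not_dvd).2 fun h => P.not_dvd_index ?_).symm
    rwa [show (P : Subgroup G) = ⊥ from (Subgroup.eq_bot_iff_forall _).2 fun x hx => by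
      have h1 : (⟨x, hx⟩ : (P : Subgroup G)) ∈ (⊥ : Subgroup (P : Subgroup G)) := by
        rw [← hd P, derivedSeries_zero]; exact Subgroup.mem_top _
      exact congrArg Subtype.val (Subgroup.mem_bot.1 h1), Subgroup.index_bot]
  | d + 1, G, _, _, hsol, hd => by
    have hn := FittingCores.pPrimeCore_normal (G := G) p
    set f := QuotientGroup.mk' (Cfsg.pPrimeCore p G) with hf
    have hfs : Function.Surjective f := QuotientGroup.mk'_surjective _
    refine PSeries.pLengthLE_of_ker_coprime f ?_ ?_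
    · rw [QuotientGroup.ker_mk']; exact FittingCores.pPrimeCore_coprime p
    set H := G ⧸ Cfsg.pPrimeCore p G
    have hsolH : Cfsg.IsPSolvable p H := PSolvable.quotient _ hsol
    have hOH : Cfsg.pPrimeCore p H = ⊥ := PBasic.pPrimeCore_quotient_pPrimeCore p G
    have hdH : ∀ Q : Sylow p H, derivedSeries ↥(Q : Subgroup H) (d + 1) = ⊥ := by
      intro Q
      obtain ⟨P, rfl⟩ := Sylow.mapSurjective_surjective hfs p Q
      rw [Sylow.coe_mapSurjective hfs,
        ← map_derivedSeries_eq (f.subgroupMap_surjective (P : Subgroup G)), hd P, Subgroup.map_bot]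
    rw [PSeries.pLengthLE_succ_iff]
    refine pLengthLE_derived hp2 d (PSolvable.quotient _ hsolH) ?_
    intro Q
    obtain ⟨P, rfl⟩ := Sylow.mapSurjective_surjective (QuotientGroup.mk'_surjective (PSeries.U p H 2)) p Q
    have hle : ∀ z ∈ derivedSeries ↥(P : Subgroup H) d, (z : H) ∈ PSeries.U p H 2 := by
      rcases Nat.eq_zero_or_pos d with rfl | hd0
      · intro z _
        refine PLengthBasics.sylow_center_le_U_two hsolH P (Subgroup.mem_center_iff.2 fun w => ?_)
        have h1 := hdH P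
        rw [derivedSeries_succ, derivedSeries_zero, ← le_bot_iff, Subgroup.commutator_le] at h1
        exact commutatorElement_eq_one_iff_mul_comm.1
          (Subgroup.mem_bot.1 (h1 w (Subgroup.mem_top _) z (Subgroup.mem_top _)))
      · obtain ⟨k, rfl⟩ := Nat.exists_eq_add_of_le hd0
        intro z hz
        set D : Subgroup H := (derivedSeries ↥(P : Subgroup H) k).map (P : Subgroup H).subtype with hD
        have hDD : ⁅D, D⁆ = (derivedSeries ↥(P : Subgroup H) (k + 1)).map (P : Subgroup H).subtype := by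
          rw [derivedSeries_succ, hD, Subgroup.map_commutator]
        have hle2 : ⁅D, D⁆ ≤ Cfsg.pCore p H := by
          refine derived_le hp2 hsolH hOH P D (Subgroup.map_subtype_le _) ?_ ?_
          · refine fun x hx => Carter.le_normalizer_of_conj_mem ?_
            rintro _ ⟨u, hu, rfl⟩
            exact ⟨⟨x, hx⟩ * u * ⟨x, hx⟩⁻¹, (derivedSeries_normal _ k).conj_mem u hu _, rfl⟩
          · rw [hDD]
            rintro _ ⟨u, hu, rfl⟩ _ ⟨v, hv, rfl⟩
            have h1 : ⁅u, v⁆ ∈ derivedSeries ↥(P : Subgroup H) (1 + k + 1) := by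
              rw [derivedSeries_succ]
              exact Subgroup.commutator_mem_commutator (by rwa [add_comm 1 k]) (by rwa [add_comm 1 k])
            rw [hdH P, Subgroup.mem_bot] at h1
            rw [← map_mul, commutatorElement_eq_one_iff_mul_comm.1 h1, map_mul]
        rw [PSeries.U_two]
        have hz' : (z : H) ∈ ⁅D, D⁆ := by
          rw [hDD, add_comm k 1]; exact ⟨z, hz, rfl⟩
        have : Cfsg.pCore p H ≤ Cfsg.pPrimePCore p H := by
          rw [← PSeries.U_two]
          refine PSeries.le_succ_odd (hX := FittingCores.pCore_normal p) (n := 1) (by decide) ?_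
          obtain ⟨m, hm⟩ := (FittingCores.pCore_isPGroup (G := H) p).exists_card_eq
          exact ⟨m, by rw [PSeries.U_one (p := p) (G := H), hOH, Subgroup.relIndex_bot_left, hm]⟩
        exact this (hle2 hz')
    set g := QuotientGroup.mk' (PSeries.U p H 2)
    rw [Sylow.coe_mapSurjective (QuotientGroup.mk'_surjective _),
      ← map_derivedSeries_eq (g.subgroupMap_surjective (P : Subgroup H)), Subgroup.map_eq_bot_iff]
    intro z hz
    exact Subtype.ext ((QuotientGroup.eq_one_iff (N := PSeries.U p H 2) (z : H)).2 (hle z hz))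

end Cfsg.Agent.HHDerived
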