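/-
A group with a subgroup of prime-power index which is cyclic by cyclic-of-two-power order is solvable.
-/
import Cfsg.Agent.Lib.Char.Burnside
import Mathlib.GroupTheory.Transfer
import Mathlib.GroupTheory.Nilpotent

set_option autoImplicit false

namespace Cfsg.Agent.MetaIndex

universe u

/-- Cyclic normal subgroup with cyclic quotient of two-power order. -/
def Meta (A : Type u) [Group A] : Prop :=
  ∃ (B : Subgroup A) (_ : B.Normal), IsCyclic B ∧ IsCyclic (A ⧸ B) ∧ IsPGroup 2 (A ⧸ B)

theorem Meta.of_injective {A A' : Type u} [Group A] [Group A'] (f : A' →* A) (hf : Function.Injective f)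
    (h : Meta A) : Meta A' := by
  obtain ⟨B, hB, hBc, hQc, hQp⟩ := h
  let g : A' ⧸ B.comap f →* A ⧸ B := QuotientGroup.map _ _ f le_rfl
  have hg : Function.Injective g := (injective_iff_map_eq_one g).2 fun x => by
    induction x using QuotientGroup.induction_on with | H a => ?_
    intro hx
    exact (QuotientGroup.eq_one_iff a).2 ((QuotientGroup.eq_one_iff (f a)).1 hx)
  refine ⟨B.comap f, inferInstance, ?_, isCyclic_of_injective g hg, hQp.of_injective g hg⟩
  refine isCyclic_of_injective ((f.comp (B.comap f).subtype).codRestrict B fun x => x.2) fun a b hab =>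
    Subtype.ext (hf (congrArg Subtype.val hab))

theorem Meta.of_surjective {A A' : Type u} [Group A] [Group A'] (f : A →* A') (hf : Function.Surjective f)
    (h : Meta A) : Meta A' := by
  obtain ⟨B, hB, hBc, hQc, hQp⟩ := h
  haveI : (B.map f).Normal := Subgroup.Normal.map hB f hf
  let g : A ⧸ B →* A' ⧸ B.map f := QuotientGroup.map _ _ f (Subgroup.le_comap_map f B)
  have hg : Function.Surjective g := fun x => by
    induction x using QuotientGroup.induction_on with | H a => ?_
    obtain ⟨b, rfl⟩ := hf a
    exact ⟨QuotientGroup.mk b, rfl⟩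
  exact ⟨B.map f, inferInstance, isCyclic_of_surjective _ (f.subgroupMap_surjective B),
    isCyclic_of_surjective g hg, hQp.of_surjective g hg⟩

theorem relIndex_dvd_index {G : Type u} [Group G] [Finite G] (A N : Subgroup G) [N.Normal] :
    A.relIndex N ∣ A.index := by
  obtain ⟨k, hk⟩ := Subgroup.relIndex_dvd_index_of_normal (H := N) (K := A)
  refine ⟨k, ?_⟩
  have h0 : N.relIndex A ≠ 0 := fun h => Subgroup.index_ne_zero_of_finite (Subgroup.index_eq_zero_of_relIndex_eq_zero h)
  have h1 : A.relIndex N * N.index = (A ⊓ N).index := by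
    rw [← Subgroup.inf_relIndex_right A N, Subgroup.relIndex_mul_index inf_le_right]
  have h2 : N.relIndex A * A.index = (A ⊓ N).index := by
    rw [← Subgroup.inf_relIndex_right N A, inf_comm N A, Subgroup.relIndex_mul_index inf_le_left]
  rw [hk, ← mul_assoc, mul_comm (A.relIndex N), mul_assoc] at h1
  exact (Nat.eq_of_mul_eq_mul_left (Nat.pos_of_ne_zero h0) (h2.trans h1.symm))

theorem simple_case {G : Type u} [Group G] [Finite G] [IsSimpleGroup G] (A : Subgroup G) {p : ℕ}
    (hp : p.Prime) {s : ℕ} (hA : A.index = p ^ s) (hM : Meta ↥A) : Group.IsSolvable G := by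
  haveI : Fact p.Prime := ⟨hp⟩
  by_contra hns
  have hclass : ∀ g : G, g ≠ 1 → ∀ {q k : ℕ}, q.Prime →
      (Subgroup.centralizer ({g} : Set G)).index ∣ q ^ k → False := by
    intro g hg q k hq hdvd
    obtain ⟨j, -, hj⟩ := (Nat.dvd_prime_pow hq).1 hdvd
    haveI : Fact (Nat.card G).Prime := ⟨Cfsg.Agent.Char.prime_card_of_class_prime_pow hq g hg hj⟩
    haveI : IsCyclic G := isCyclic_of_prime_card (p := Nat.card G) rfl
    letI : CommGroup G := IsCyclic.commGroup
    exact hns inferInstance
  have hcen : ∀ z : ↥A, z ∈ Subgroup.center ↥A → z = 1 := by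
    intro z hz
    by_contra hz1
    refine hclass (z : G) (fun h => hz1 (Subtype.ext h)) (k := s) hp ?_
    rw [← hA]
    refine Subgroup.index_dvd_of_le fun a ha => Subgroup.mem_centralizer_iff.2 fun h hh => ?_
    rw [Set.mem_singleton_iff.1 hh]
    exact congrArg Subtype.val (Subgroup.mem_center_iff.1 hz ⟨a, ha⟩).symm
  obtain ⟨B, hBn, hBc, hQc, hQp⟩ := hM
  rcases subsingleton_or_nontrivial ↥A with hsub | hnt
  · have hA1 : A = ⊥ := Subgroup.eq_bot_iff_forall A |>.2 fun x hx =>
      congrArg Subtype.val (Subsingleton.elim (⟨x, hx⟩ : A) 1)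
    rw [hA1, Subgroup.index_bot] at hA
    haveI : Group.IsNilpotent G := (IsPGroup.of_card hA).isNilpotent
    exact hns inferInstance
  have hnc : ¬ IsMulCommutative ↥A := fun h => by
    obtain ⟨a, ha⟩ := exists_ne (1 : ↥A)
    exact ha (hcen a (Subgroup.mem_center_iff.2 fun b => (mul_comm' b a)))
  obtain ⟨r, hr⟩ := hQp.exists_card_eq
  obtain ⟨⟨b, hbB⟩, hgen⟩ := hBc.exists_generator
  rcases hp.eq_two_or_odd' with rfl | hodd
  · -- index of B is a power of two
    have hb1 : b ≠ 1 := by
      rintro rfl
      have hB0 : B = ⊥ := Subgroup.eq_bot_iff_forall B |>.2 fun x hx => by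
        obtain ⟨n, hn⟩ := Subgroup.mem_zpowers_iff.1 (hgen ⟨x, hx⟩)
        simpa using (congrArg Subtype.val hn).symm
      subst hB0
      haveI := hQc
      haveI : IsCyclic ↥A := isCyclic_of_surjective _ (QuotientGroup.quotientBot (G := ↥A)).surjective
      exact hnc inferInstance
    refine hclass (b : G) (fun h => hb1 (Subtype.ext h)) (k := r + s) Nat.prime_two ?_
    have : (B.map A.subtype).index = 2 ^ (r + s) := by
      rw [Subgroup.index_map_subtype, hA, pow_add, Subgroup.index, hr]
    rw [← this]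
    refine Subgroup.index_dvd_of_le ?_
    rintro _ ⟨x, hx, rfl⟩
    refine Subgroup.mem_centralizer_iff.2 fun h hh => ?_
    rw [Set.mem_singleton_iff.1 hh]
    have hc : (⟨b, hbB⟩ : B) * ⟨x, hx⟩ = ⟨x, hx⟩ * ⟨b, hbB⟩ := by
      haveI := hBc
      exact mul_comm' _ _
    exact congrArg (fun k : B => ((k : ↥A) : G)) hc
  -- p odd
  haveI : Fact (Nat.Prime 2) := ⟨Nat.prime_two⟩
  have hBodd : ¬ 2 ∣ Nat.card B := by
    intro h
    obtain ⟨t, ht⟩ := exists_prime_orderOf_dvd_card' 2 h
    haveI := hBc
    have hz := hcen (t : ↥A) (Subgroup.mem_center_iff.2 fun a => ?_)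
    · rw [show t = 1 from Subtype.ext hz, orderOf_one] at ht
      omega
    let c : B →* B :=
      (((MulAut.conj a).toMonoidHom.comp B.subtype).codRestrict B fun x => hBn.conj_mem _ x.2 a)
    obtain ⟨m, hm⟩ := MonoidHom.map_cyclic c
    have h' := hm t
    rw [← zpow_mod_orderOf, ht] at h'
    rcases Int.emod_two_eq m with e | e <;> simp only [Nat.cast_ofNat, e, zpow_zero, zpow_one] at h'
    · have h1 : a * (t : ↥A) * a⁻¹ = 1 := congrArg Subtype.val h'
      rw [conj_eq_one_iff] at h1
      rw [show t = 1 from Subtype.ext h1, orderOf_one] at ht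
      omega
    · exact mul_inv_eq_iff_eq_mul.1 (congrArg Subtype.val h' : a * (t : ↥A) * a⁻¹ = t)
  have hr0 : r ≠ 0 := by
    rintro rfl
    haveI : Subsingleton (↥A ⧸ B) := (Nat.card_eq_one_iff_unique.1 (by simpa using hr)).1
    have hBtop : B = ⊤ := QuotientGroup.subgroup_eq_top_of_subsingleton B inferInstance
    haveI := hBc
    subst hBtop
    haveI : IsCyclic ↥A := isCyclic_of_surjective _ (Subgroup.topEquiv (G := ↥A)).surjective
    exact hnc inferInstance
  have hcardA : Nat.card ↥A = 2 ^ r * Nat.card B := by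
    rw [Subgroup.card_eq_card_quotient_mul_card_subgroup B, hr]
  have hBc' : (2 ^ r).Coprime (Nat.card B) :=
    Nat.Coprime.pow_left r (Nat.prime_two.coprime_iff_not_dvd.2 hBodd)
  let Q : Sylow 2 ↥A := default
  have hQcard : Nat.card Q = 2 ^ r := by
    rw [Sylow.card_eq_multiplicity, hcardA, Nat.factorization_mul (by positivity) Nat.card_pos.ne',
      Finsupp.add_apply, Nat.prime_two.factorization_pow, Finsupp.single_eq_same,
      Nat.factorization_eq_zero_of_not_dvd hBodd, add_zero]
  have hcardP : Nat.card ((Q : Subgroup ↥A).map A.subtype : Subgroup G) = 2 ^ (Nat.card G).factorization 2 := by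
    rw [Nat.card_congr ((Q : Subgroup ↥A).equivMapOfInjective A.subtype A.subtype_injective).symm.toEquiv,
      hQcard, ← A.card_mul_index, hA, hcardA,
      Nat.factorization_mul (mul_ne_zero (by positivity) Nat.card_pos.ne') (pow_ne_zero _ hp.ne_zero),
      Finsupp.add_apply, Nat.factorization_mul (by positivity) Nat.card_pos.ne',
      Finsupp.add_apply, Nat.prime_two.factorization_pow, Finsupp.single_eq_same,
      Nat.factorization_eq_zero_of_not_dvd hBodd,
      Nat.factorization_eq_zero_of_not_dvd fun h => by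
        have := Nat.prime_two.dvd_of_dvd_pow h
        rw [Nat.prime_dvd_prime_iff_eq Nat.prime_two hp] at this
        exact absurd hodd (this ▸ by decide), add_zero, add_zero]
  let P : Sylow 2 G := Sylow.ofCard _ hcardP
  have hPc : IsCyclic ↥((Q : Subgroup ↥A).map A.subtype) := by
    haveI := hQc
    have hinj : Function.Injective ((QuotientGroup.mk' B).comp (Q : Subgroup ↥A).subtype) := by
      refine (injective_iff_map_eq_one _).2 fun x hx => ?_
      have hxB : (x : ↥A) ∈ B := (QuotientGroup.eq_one_iff _).1 hx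
      have h1 : orderOf (x : ↥A) ∣ 2 ^ r := by
        rw [Subgroup.orderOf_coe, ← hQcard]; exact orderOf_dvd_natCard x
      have h2 : orderOf (x : ↥A) ∣ Nat.card B := by
        exact (Subgroup.orderOf_coe (⟨_, hxB⟩ : B)).symm ▸ orderOf_dvd_natCard _
      exact Subtype.ext (orderOf_eq_one_iff.1 (Nat.eq_one_of_dvd_coprimes hBc' h1 h2))
    haveI := isCyclic_of_injective _ hinj
    exact isCyclic_of_surjective _
      ((Q : Subgroup ↥A).equivMapOfInjective A.subtype A.subtype_injective).surjective
  have h2G : 2 ∣ Nat.card G :=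
    (dvd_pow_self 2 hr0).trans ((dvd_mul_right _ _).trans (hcardA ▸ A.card_subgroup_dvd_card))
  have hmin : (Nat.card G).minFac = 2 := (Nat.minFac_eq_two_iff _).2 h2G
  have hcomp := IsCyclic.isComplement' hmin (P := P) hPc
  have hmul := hcomp.card_mul
  rcases IsSimpleGroup.eq_bot_or_eq_top_of_normal
    (MonoidHom.transferSylow P (hPc.normalizer_le_centralizer hmin)).ker inferInstance with h | h
  · rw [h, Subgroup.card_bot, one_mul] at hmul
    haveI : Group.IsNilpotent G := (IsPGroup.of_card (p := 2) (hmul.symm.trans hcardP)).isNilpotent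
    exact hns inferInstance
  · rw [h, Subgroup.card_top] at hmul
    have hP1 : Nat.card ↥((Q : Subgroup ↥A).map A.subtype) = 1 :=
      Nat.eq_of_mul_eq_mul_left Nat.card_pos (hmul.trans (mul_one _).symm)
    rw [Nat.card_congr ((Q : Subgroup ↥A).equivMapOfInjective A.subtype A.subtype_injective).symm.toEquiv,
      hQcard] at hP1
    exact hr0 (by simpa using hP1)

theorem isSolvable : ∀ (n : ℕ) {G : Type u} [Group G] [Finite G], Nat.card G = n → ∀ (A : Subgroup G) {p s : ℕ},
    p.Prime → A.index = p ^ s → Meta ↥A → Group.IsSolvable G := by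
  intro n
  induction n using Nat.strong_induction_on with | _ n ih => ?_
  intro G _ _ hn A p s hp hA hM
  by_cases htriv : Subsingleton G
  · infer_instance
  haveI : Nontrivial G := not_subsingleton_iff_nontrivial.1 htriv
  by_cases hs : ∀ H : Subgroup G, H.Normal → H = ⊥ ∨ H = ⊤
  · haveI : IsSimpleGroup G := ⟨hs⟩
    exact simple_case A hp hA hM
  push Not at hs
  obtain ⟨N, hN, hN0, hN1⟩ := hs
  have hlt : Nat.card N < n := by
    rw [← hn]
    exact lt_of_le_of_ne (Subgroup.card_le_card_group N) fun h => hN1 (Subgroup.card_eq_iff_eq_top N |>.1 h)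
  have hlt' : Nat.card (G ⧸ N) < n := by
    rw [← hn, Subgroup.card_eq_card_quotient_mul_card_subgroup N]
    exact lt_mul_of_one_lt_right Nat.card_pos (N.one_lt_card_iff_ne_bot.2 hN0)
  haveI : Group.IsSolvable ↥N := by
    obtain ⟨j, -, hj⟩ := (Nat.dvd_prime_pow hp).1 (hA ▸ relIndex_dvd_index A N)
    refine ih _ hlt rfl (A.subgroupOf N) hp (s := j) hj ?_
    exact hM.of_injective ((N.subtype.comp (A.subgroupOf N).subtype).codRestrict A fun x => x.2)
      fun a b hab => by
        have := congrArg Subtype.val hab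
        exact Subtype.ext (Subtype.ext this)
  haveI : Group.IsSolvable (G ⧸ N) := by
    obtain ⟨j, -, hj⟩ := (Nat.dvd_prime_pow hp).1 (hA ▸
      Subgroup.index_map_dvd (H := A) (f := QuotientGroup.mk' N) (QuotientGroup.mk'_surjective N))
    exact ih _ hlt' rfl _ hp hj (hM.of_surjective _ ((QuotientGroup.mk' N).subgroupMap_surjective A))
  exact Group.isSolvable_of_ker_le_range N.subtype (QuotientGroup.mk' N) (by simp)

end Cfsg.Agent.MetaIndex
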