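import Cfsg.Agent.Lib.Solvable.KegelWielandt
import Cfsg.Agent.Lib.Solvable.Carter

/-! In a product of two nilpotent subgroups one factor lies in a proper normal subgroup. -/

set_option autoImplicit false
open scoped Pointwise commutatorElement

universe u

namespace Cfsg.Agent.ProperFactor

open Cfsg.Agent.SolvBasic

lemma exists_normal_ge {G : Type u} [Group G] [Finite G] [Group.IsNilpotent G] {A : Subgroup G}
    (hA : A ≠ ⊤) : ∃ N : Subgroup G, N.Normal ∧ N ≠ ⊤ ∧ A ≤ N := by
  obtain h | ⟨M, hM, hAM⟩ := eq_top_or_exists_le_coatom A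
  · exact absurd h hA
  · exact ⟨M, ((Group.isNilpotent_of_finite_tfae (G := G)).out 0 2 rfl rfl).1 inferInstance M hM,
      hM.1, hAM⟩

theorem exists_proper_normal_aux : ∀ n : ℕ, ∀ {G : Type u} [Group G] [Finite G] (A B : Subgroup G),
    Nat.card G = n → Group.IsNilpotent A → Group.IsNilpotent B →
    (∀ g : G, ∃ a ∈ A, ∃ b ∈ B, g = a * b) → (A ≠ ⊤ ∨ B ≠ ⊤) →
      ∃ N : Subgroup G, N.Normal ∧ N ≠ ⊤ ∧ (A ≤ N ∨ B ≤ N) := by
  intro n
  induction n using Nat.strong_induction_on with
  | _ n ih =>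
    intro G _ _ A B hn hA hB hAB hprop
    have hnil : ∀ X : Subgroup G, Group.IsNilpotent X → X = ⊤ → Group.IsNilpotent G := by
      intro X hX hXt
      have := hX
      exact Group.nilpotent_of_surjective X.subtype fun g => ⟨⟨g, hXt ▸ Subgroup.mem_top g⟩, rfl⟩
    by_cases hAt : A = ⊤
    · have := hnil A hA hAt
      obtain ⟨N, h1, h2, h3⟩ := exists_normal_ge (hprop.resolve_left (not_not_intro hAt))
      exact ⟨N, h1, h2, Or.inr h3⟩
    by_cases hBt : B = ⊤
    · have := hnil B hB hBt
      obtain ⟨N, h1, h2, h3⟩ := exists_normal_ge hAt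
      exact ⟨N, h1, h2, Or.inl h3⟩
    have := Cfsg.Agent.KegelWielandt.product_solvable hA hB hAB
    have : Nontrivial G := by
      rcases subsingleton_or_nontrivial G with hs | hn'
      · exact absurd (Subsingleton.elim A ⊤) hAt
      · exact hn'
    obtain ⟨N, p, hp, hNn, hN0, -, hNc, -, -, hmin⟩ :=
      exists_minimal_normal_abelian (G := G) (N := ⊤) inferInstance top_ne_bot
    set f := QuotientGroup.mk' N with hf
    have hfs := QuotientGroup.mk'_surjective N
    by_cases hq : A.map f ≠ ⊤ ∨ B.map f ≠ ⊤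
    · have hlt : Nat.card (G ⧸ N) < n := by
        rw [← hn, N.card_eq_card_quotient_mul_card_subgroup]
        exact lt_mul_of_one_lt_right Nat.card_pos (Subgroup.one_lt_card_iff_ne_bot N |>.2 hN0)
      have := hA
      have := hB
      obtain ⟨R, hR, hRt, hor⟩ := ih _ hlt (A.map f) (B.map f) rfl
        (Group.nilpotent_of_surjective _ (f.subgroupMap_surjective A))
        (Group.nilpotent_of_surjective _ (f.subgroupMap_surjective B)) (fun y => by
          obtain ⟨g, rfl⟩ := hfs y
          obtain ⟨a, ha, b, hb, rfl⟩ := hAB g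
          exact ⟨_, Subgroup.mem_map_of_mem f ha, _, Subgroup.mem_map_of_mem f hb, map_mul f a b⟩) hq
      refine ⟨R.comap f, hR.comap f, fun h => hRt ?_,
        hor.imp Subgroup.map_le_iff_le_comap.1 Subgroup.map_le_iff_le_comap.1⟩
      rw [← Subgroup.map_comap_eq_self_of_surjective hfs R, h,
        Subgroup.map_top_of_surjective f hfs]
    push Not at hq
    have hsup : ∀ X : Subgroup G, X.map f = ⊤ → N ⊔ X = ⊤ := fun X hX => by
      have h := congrArg (Subgroup.comap f) hX
      rwa [Subgroup.comap_map_eq, QuotientGroup.ker_mk', Subgroup.comap_top, sup_comm] at h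
    have key : ∀ X : Subgroup G, Group.IsNilpotent X → X ≠ ⊤ → N ⊔ X = ⊤ →
        X.Normal ∨ Cfsg.IsCarterSubgroup X := by
      intro X hX hXt hNX
      have hXN : X ≤ Subgroup.normalizer (N : Set G) := by
        rw [Subgroup.normalizer_eq_top]; exact le_top
      have hdec : ∀ g : G, ∃ m ∈ N, ∃ x ∈ X, g = m * x := fun g =>
        (mem_sup_iff_of_le_normalizer hXN).1 (hNX ▸ Subgroup.mem_top g)
      set D := N ⊓ Subgroup.normalizer (X : Set G) with hD
      have hDn : D.Normal := by
        refine ⟨fun d hd g => ?_⟩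
        obtain ⟨m, hm, x, hx, rfl⟩ := hdec g
        have h1 : x * d * x⁻¹ ∈ D := Subgroup.mem_inf.2 ⟨hNn.conj_mem _ hd.1 x,
          mul_mem (mul_mem (Subgroup.le_normalizer hx) hd.2) (inv_mem (Subgroup.le_normalizer hx))⟩
        have h2 : m * (x * d * x⁻¹) = x * d * x⁻¹ * m := setLike_mul_comm (s := N) hm h1.1
        rw [show m * x * d * (m * x)⁻¹ = m * (x * d * x⁻¹) * m⁻¹ by group, h2, mul_inv_cancel_right]
        exact h1
      rcases hmin D hDn inf_le_left with h | h
      · refine Or.inr ⟨hX, le_antisymm (fun g hg => ?_) Subgroup.le_normalizer⟩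
        obtain ⟨m, hm, x, hx, rfl⟩ := hdec g
        have h1 : m ∈ D := Subgroup.mem_inf.2 ⟨hm, by
          simpa using mul_mem hg (inv_mem (Subgroup.le_normalizer hx))⟩
        rw [h, Subgroup.mem_bot] at h1
        rw [h1, one_mul]; exact hx
      · refine Or.inl (Subgroup.normalizer_eq_top_iff.1 (top_le_iff.1 (hNX ▸ sup_le ?_
          Subgroup.le_normalizer)))
        exact h.ge.trans inf_le_right
    rcases key A hA hAt (hsup A hq.1) with hAn | hAc
    · exact ⟨A, hAn, hAt, Or.inl le_rfl⟩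
    rcases key B hB hBt (hsup B hq.2) with hBn | hBc
    · exact ⟨B, hBn, hBt, Or.inr le_rfl⟩
    obtain ⟨g, rfl⟩ := Cfsg.Agent.Carter.carter_conj hAc hBc
    exfalso
    obtain ⟨a, ha, b, hb, e⟩ := hAB g⁻¹
    rw [mem_conjSmul] at hb
    have hgA : g ∈ A := by
      have h1 : a * g * (g⁻¹ * b * g) = 1 := by
        calc a * g * (g⁻¹ * b * g) = a * b * g := by group
          _ = 1 := by rw [← e, inv_mul_cancel]
      have h2 : g = a⁻¹ * (g⁻¹ * b * g)⁻¹ := by
        calc g = a⁻¹ * (a * g * (g⁻¹ * b * g)) * (g⁻¹ * b * g)⁻¹ := by group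
          _ = _ := by rw [h1, mul_one]
      rw [h2]; exact A.mul_mem (A.inv_mem ha) (A.inv_mem hb)
    refine hAt (top_le_iff.1 fun x _ => ?_)
    obtain ⟨a', ha', b', hb', rfl⟩ := hAB x
    rw [Subgroup.conj_smul_eq_self_of_mem hgA] at hb'
    exact A.mul_mem ha' hb'

end Cfsg.Agent.ProperFactor
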