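import Cfsg.Agent.Lib.Solvable.HHApply
import Cfsg.Agent.Lib.Components.Fitting
import Cfsg.Agent.Lib.CN.Basic
import Cfsg.Prelude.Def_SolvableStructure

/-!
`p`-solvable groups whose Sylow `p`-subgroup is the normal Sylow subgroup of a minimal
non-nilpotent group have `p`-length one.
-/

set_option autoImplicit false
set_option linter.style.haveILetI false
set_option linter.unusedSectionVars false

open scoped commutatorElement

open Module

universe u v

namespace Cfsg.Agent.SchmidtSylow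

open Cfsg.Agent

variable {p : ℕ} [hp : Fact p.Prime]

/-- The properties of a nonabelian normal Sylow subgroup of a minimal non-nilpotent group that
are used. -/
structure Good (p : ℕ) (P : Type*) [Group P] : Prop where
  comm_mem : ∀ a b : P, ⁅a, b⁆ ∈ Subgroup.center P
  pow_mem : ∀ a : P, a ^ p ∈ Subgroup.center P
  surj : ∀ u : P, u ∉ Subgroup.center P → ∀ a b : P, ∃ g : P, ⁅u, g⁆ = ⁅a, b⁆
  small : 5 ≤ p ∨ p ^ 2 < (Subgroup.center P).index ∨
    (p = 2 ∧ ∀ u : P, u ∉ Subgroup.center P → ∀ a b : P,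
      ∃ z ∈ Subgroup.center P, ∃ i : ℕ, ⁅a, b⁆ = ((u * z) ^ 2) ^ i)

section Structure

variable {P : Type u} [Group P] [Finite P]

/-- The structure of a group with an automorphism of prime order centralising every invariant
proper subgroup. -/
theorem good_of_aut (hP : IsPGroup p P) (θ : MulAut P) {q : ℕ} (hq : q.Prime) (hqp : q ≠ p)
    (hθq : θ ^ q = 1) (hθ : θ ≠ 1)
    (hinv : ∀ H : Subgroup P, (∀ h ∈ H, θ h ∈ H) → H = ⊤ ∨ ∀ h ∈ H, θ h = h)
    (hab : Subgroup.center P ≠ ⊤) : Good p P := by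
  classical
  have := hP.isNilpotent
  haveI : Nontrivial P := by
    by_contra h
    rw [not_nontrivial_iff_subsingleton] at h
    exact hθ (MulEquiv.ext fun x => Subsingleton.elim _ _)
  set C : Subgroup P := θ.toMonoidHom.eqLocus (MonoidHom.id P) with hC
  have hmemC : ∀ x, x ∈ C ↔ θ x = x := fun x => Iff.rfl
  have hCtop : C ≠ ⊤ := fun h => hθ (MulEquiv.ext fun x => (hmemC x).1 (h ▸ Subgroup.mem_top x))
  have hPhi : frattini P ≤ C := by
    rcases hinv (frattini P) (fun h hh => Subgroup.characteristic_iff_le_comap.1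
      (inferInstance : (frattini P).Characteristic) θ hh) with h | h
    · exfalso
      exact top_ne_bot (frattini_nongenerating (K := (⊥ : Subgroup P)) (by rw [h, bot_sup_eq])).symm
    · exact fun x hx => (hmemC x).2 (h x hx)
  have hcomC : ∀ a b : P, ⁅a, b⁆ ∈ C := fun a b => hPhi (SolvStruct.commutator_le_frattini _
    (Subgroup.commutator_mem_commutator (Subgroup.mem_top a) (Subgroup.mem_top b)))
  have hCn : ∀ c ∈ C, ∀ g : P, g * c * g⁻¹ ∈ C := fun c hc g => by
    rw [show g * c * g⁻¹ = ⁅g, c⁆ * c by rw [commutatorElement_def, inv_mul_cancel_right]]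
    exact mul_mem (hcomC g c) hc
  -- an element moved inside `C` is fixed
  have hfix : ∀ g : P, g⁻¹ * θ g ∈ C → θ g = g := by
    intro g hg
    set s := g⁻¹ * θ g with hs
    have hpow : ∀ n : ℕ, (θ ^ n) g = g * s ^ n := by
      intro n
      induction n with
      | zero => simp
      | succ n ih =>
        rw [pow_succ', MulAut.mul_apply, ih, map_mul, map_pow, (hmemC s).1 hg, pow_succ' s, ← mul_assoc,
          hs, mul_inv_cancel_left]
    have h1 : s ^ q = 1 := by
      have h2 := hpow q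
      rw [hθq, MulAut.one_apply] at h2
      exact mul_left_cancel (a := g) (h2.symm.trans (mul_one g).symm)
    obtain ⟨k, hk⟩ := IsPGroup.iff_orderOf.1 hP s
    have h3 : orderOf s = 1 := Nat.eq_one_of_dvd_coprimes
      ((Nat.coprime_pow_primes k 1 hp.out hq hqp.symm)) hk.dvd (by rw [pow_one]; exact orderOf_dvd_of_pow_eq_one h1)
    have h4 : s = 1 := orderOf_eq_one_iff.1 h3
    exact (inv_mul_eq_one.1 h4).symm
  -- the fixed subgroup is the centre
  set S : Subgroup P := Subgroup.closure (Set.range fun g : P => g⁻¹ * θ g) with hS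
  have hStop : S = ⊤ := by
    refine (hinv S fun h hh => ?_).resolve_right fun hfx => hθ (MulEquiv.ext fun x =>
      hfix x ((hmemC _).2 (hfx _ (Subgroup.subset_closure ⟨x, rfl⟩))))
    have hle : S ≤ S.comap θ.toMonoidHom := (Subgroup.closure_le _).2 (by
      rintro _ ⟨g, rfl⟩
      refine Subgroup.subset_closure ⟨θ g, ?_⟩
      show (θ g)⁻¹ * θ (θ g) = θ (g⁻¹ * θ g)
      rw [map_mul, map_inv])
    exact hle hh
  have hCZ : C ≤ Subgroup.center P := by
    intro c hc
    have hle : S ≤ Subgroup.centralizer ({c} : Set P) := (Subgroup.closure_le _).2 (by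
      rintro _ ⟨g, rfl⟩
      rw [SetLike.mem_coe, Subgroup.mem_centralizer_singleton_iff]
      have h1 : θ (g * c * g⁻¹) = g * c * g⁻¹ := (hmemC _).1 (hCn c hc g)
      rw [map_mul, map_mul, map_inv, (hmemC c).1 hc, mul_inv_eq_iff_eq_mul] at h1
      show g⁻¹ * θ g * c = c * (g⁻¹ * θ g)
      rw [mul_assoc, h1]
      group)
    rw [hStop] at hle
    exact Subgroup.mem_center_iff.2 fun g =>
      Subgroup.mem_centralizer_singleton_iff.1 (hle (Subgroup.mem_top g))
  have hZC : Subgroup.center P ≤ C := by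
    rcases hinv (Subgroup.center P) (fun h hh => Subgroup.characteristic_iff_le_comap.1
      inferInstance θ hh) with h | h
    · exact absurd h hab
    · exact fun x hx => (hmemC x).2 (h x hx)
  have hcom : ∀ a b : P, ⁅a, b⁆ ∈ Subgroup.center P := fun a b => hCZ (hcomC a b)
  have hfixcom : ∀ a b : P, θ ⁅a, b⁆ = ⁅a, b⁆ := fun a b => (hmemC _).1 (hcomC a b)
  have hc_mul : ∀ a g h : P, ⁅a, g * h⁆ = ⁅a, g⁆ * ⁅a, h⁆ := fun a g h => by
    have h1 : ⁅a, g * h⁆ = ⁅a, g⁆ * (g * ⁅a, h⁆ * g⁻¹) := by simp only [commutatorElement_def]; group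
    rw [h1, Subgroup.mem_center_iff.1 (hcom a h) g, mul_inv_cancel_right]
  have hmul_c : ∀ a b g : P, ⁅a * b, g⁆ = ⁅a, g⁆ * ⁅b, g⁆ := fun a b g => by
    have h1 : ⁅a * b, g⁆ = (a * ⁅b, g⁆ * a⁻¹) * ⁅a, g⁆ := by simp only [commutatorElement_def]; group
    rw [h1, Subgroup.mem_center_iff.1 (hcom b g) a, mul_inv_cancel_right,
      Subgroup.mem_center_iff.1 (hcom b g) ⁅a, g⁆]
  refine ⟨hcom, fun a => hCZ (hPhi (PGroupBasics.pow_mem_frattini hP a)), ?_, ?_⟩
  · intro u hu a b
    let A : Subgroup P :=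
      { carrier := {c | ∃ g, ⁅u, g⁆ = c}
        one_mem' := ⟨1, commutatorElement_one_right u⟩
        mul_mem' := by
          rintro _ _ ⟨g, rfl⟩ ⟨h, rfl⟩
          exact ⟨g * h, hc_mul u g h⟩
        inv_mem' := by
          rintro _ ⟨g, rfl⟩
          refine ⟨g⁻¹, eq_inv_of_mul_eq_one_left ?_⟩
          rw [← hc_mul, inv_mul_cancel, commutatorElement_one_right] }
    let Rad : Subgroup P :=
      { carrier := {x | ∀ g, ⁅x, g⁆ ∈ A}
        one_mem' := fun g => by rw [commutatorElement_one_left]; exact one_mem A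
        mul_mem' := fun {x y} hx hy g => by rw [hmul_c]; exact mul_mem (hx g) (hy g)
        inv_mem' := fun {x} hx g => by
          rw [show ⁅x⁻¹, g⁆ = ⁅x, g⁆⁻¹ from eq_inv_of_mul_eq_one_left (by
            rw [← hmul_c, inv_mul_cancel, commutatorElement_one_left])]
          exact inv_mem (hx g) }
    have hRad : Rad = ⊤ := by
      refine (hinv Rad fun x hx g => ?_).resolve_right fun hfx => hu (hCZ ((hmemC u).2
        (hfx u fun g => ⟨g, rfl⟩)))
      have h1 : ⁅θ x, g⁆ = θ ⁅x, θ.symm g⁆ := by rw [map_commutatorElement, MulEquiv.apply_symm_apply]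
      rw [h1, hfixcom]
      exact hx _
    exact (hRad ▸ Subgroup.mem_top a : a ∈ Rad) b
  · by_contra hcon
    push Not at hcon
    obtain ⟨hp5, hidx, hp2c⟩ := hcon
    set Z := Subgroup.center P with hZ
    -- orbits on the quotient
    have hmapZ : Z.map θ.toMonoidHom = Z := by
      refine le_antisymm ?_ fun z hz => ⟨z, hz, (hmemC z).1 (hZC hz)⟩
      rintro _ ⟨z, hz, rfl⟩
      show θ z ∈ Z
      rw [(hmemC z).1 (hZC hz)]
      exact hz
    set θb : MulAut (P ⧸ Z) := QuotientGroup.congr Z Z θ hmapZ with hθb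
    have hθbq : θb ^ q = 1 := by
      have key : ∀ n : ℕ, ∀ x : P, (θb ^ n) (x : P ⧸ Z) = (((θ ^ n) x : P) : P ⧸ Z) := by
        intro n
        induction n with
        | zero => intro x; rfl
        | succ n ih => intro x; rw [pow_succ', pow_succ', MulAut.mul_apply, ih, MulAut.mul_apply]; rfl
      refine MulEquiv.ext fun z => ?_
      induction z using QuotientGroup.induction_on with | H z => rw [key, hθq]; rfl
    haveI := Fact.mk hq
    have hB : IsPGroup q (Subgroup.zpowers θb) := by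
      intro g
      obtain ⟨i, hi⟩ := Subgroup.mem_zpowers_iff.1 g.2
      refine ⟨1, Subtype.ext ?_⟩
      rw [pow_one, Subgroup.coe_pow, Subgroup.coe_one, ← hi, ← zpow_natCast, ← zpow_mul, mul_comm,
        zpow_mul, zpow_natCast, hθbq, one_zpow]
    have hmod := hB.card_modEq_card_fixedPoints (P ⧸ Z)
    have hfp : MulAction.fixedPoints (Subgroup.zpowers θb) (P ⧸ Z) = {1} := by
      ext z
      simp only [MulAction.mem_fixedPoints, Set.mem_singleton_iff]
      constructor
      · intro h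
        induction z using QuotientGroup.induction_on with | H z =>
          have h1 : θb (z : P ⧸ Z) = (z : P ⧸ Z) := h ⟨θb, Subgroup.mem_zpowers _⟩
          have h2 : θ z = z := hfix z (hZC (QuotientGroup.eq.1 h1.symm))
          exact (QuotientGroup.eq_one_iff z).2 (hCZ ((hmemC z).2 h2))
      · rintro rfl g
        exact map_one (g : MulAut (P ⧸ Z))
    rw [hfp, Nat.card_coe_set_eq, Set.ncard_singleton, ← Subgroup.index_eq_card] at hmod
    obtain ⟨k, hk⟩ := (hP.to_quotient Z).exists_card_eq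
    rw [← Subgroup.index_eq_card] at hk
    have hk2 : k = 2 := by
      have hk' : k ≤ 2 := by
        by_contra h
        exact absurd hidx (not_le.2 (hk ▸ Nat.pow_lt_pow_right hp.out.one_lt (by omega)))
      interval_cases k
      · exact absurd (Subgroup.index_eq_one.1 (hk.trans (pow_zero p))) hab
      · exfalso
        rw [pow_one, Subgroup.index_eq_card] at hk
        haveI : IsCyclic (P ⧸ Z) := isCyclic_of_prime_card hk
        refine hab (eq_top_iff.2 fun x _ => Subgroup.mem_center_iff.2 fun g => ?_)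
        exact commutative_of_cyclic_center_quotient (QuotientGroup.mk' Z)
          (by rw [QuotientGroup.ker_mk']) g x
      · rfl
    subst hk2
    rw [hk] at hmod
    have hdvd : q ∣ p ^ 2 - 1 := (Nat.modEq_iff_dvd' (Nat.one_le_pow _ _ hp.out.pos)).1 hmod.symm
    -- for an element outside the centre, its image is not in its own cyclic group
    by_cases hq2 : q = 2
    · subst hq2
      obtain ⟨u, hu⟩ : ∃ u, u ∉ Z := by
        by_contra h
        push Not at h
        exact hab (eq_top_iff.2 fun x _ => h x)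
      have hθθ : θ (θ u) = u := by
        rw [← MulAut.mul_apply, ← pow_two, hθq, MulAut.one_apply]
      have hw : u * θ u ∈ Z := by
        refine hCZ ((hmemC _).2 (hfix _ ?_))
        have h1 : (u * θ u)⁻¹ * θ (u * θ u) = ⁅(θ u)⁻¹, u⁻¹⁆ := by
          rw [map_mul, hθθ, commutatorElement_def]; group
        rw [h1]
        exact hcomC _ _
      set H := Subgroup.zpowers u ⊔ Z with hH
      have hle : H ≤ H.comap θ.toMonoidHom := sup_le (Subgroup.zpowers_le.2 (by
          show θ u ∈ H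
          rw [show θ u = u⁻¹ * (u * θ u) by group]
          exact mul_mem (inv_mem (Subgroup.mem_sup_left (Subgroup.mem_zpowers u)))
            (Subgroup.mem_sup_right hw)))
        fun z hz => by
          show θ z ∈ H
          rw [(hmemC z).1 (hZC hz)]
          exact Subgroup.mem_sup_right hz
      rcases hinv H (fun h hh => hle hh) with h | h
      · have hHc : H ≤ Subgroup.centralizer ({u} : Set P) := sup_le
          (Subgroup.zpowers_le.2 (Subgroup.mem_centralizer_singleton_iff.2 rfl))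
          fun z hz => Subgroup.mem_centralizer_singleton_iff.2 (Subgroup.mem_center_iff.1 hz u).symm
        rw [h] at hHc
        exact hu (Subgroup.mem_center_iff.2 fun g =>
          Subgroup.mem_centralizer_singleton_iff.1 (hHc (Subgroup.mem_top g)))
      · exact hu (hCZ ((hmemC u).2 (h u (Subgroup.mem_sup_left (Subgroup.mem_zpowers u)))))
    have hp3 : p = 2 := by
      have hp23 : p = 2 ∨ p = 3 := by
        have := hp.out.two_le
        interval_cases p
        · exact Or.inl rfl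
        · exact Or.inr rfl
        · exact absurd hp.out (by norm_num)
      refine hp23.resolve_right fun h3 => hq2 ?_
      subst h3
      exact (Nat.prime_dvd_prime_iff_eq hq Nat.prime_two).1
        (hq.dvd_of_dvd_pow (n := 3) (by simpa using hdvd))
    subst hp3
    have hq3 : q = 3 := (Nat.prime_dvd_prime_iff_eq hq Nat.prime_three).1 (by simpa using hdvd)
    subst hq3
    -- the quaternion case
    obtain ⟨u, hu, hsum⟩ : ∃ u, u ∉ Z ∧ u * θ u * θ (θ u) = 1 := by
      obtain ⟨g, hg⟩ : ∃ g, θ g ≠ g := by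
        by_contra h
        push Not at h
        exact hθ (MulEquiv.ext h)
      refine ⟨g⁻¹ * θ g, fun h => hg (hfix g (hZC h)), ?_⟩
      rw [map_mul, map_mul, map_inv, map_inv,
        show θ (θ (θ g)) = g by
          rw [← MulAut.mul_apply, ← MulAut.mul_apply, ← pow_three', hθq, MulAut.one_apply]]
      group
    have hsq : ∀ a : P, a * a ∈ Z := fun a =>
      hCZ (hPhi (by simpa [pow_two] using PGroupBasics.pow_mem_frattini hP a))
    set v := θ u with hv
    set s := u * u with hs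
    set c := ⁅u, v⁆ with hc
    have hsv : v * v = s := by
      have := (hmemC s).1 (hZC (hsq u))
      rwa [hs, map_mul, ← hv] at this
    have hw : θ v = (u * v)⁻¹ := eq_inv_of_mul_eq_one_right hsum
    have hwv : θ v * θ v = s := by
      have := (hmemC s).1 (hZC (hsq u))
      rw [← map_mul, hsv]
      exact this
    have hcc : c * c = 1 := by
      rw [hc, ← hmul_c, ← hs, commutatorElement_eq_one_iff_mul_comm]
      exact (Subgroup.mem_center_iff.1 (hsq u) v).symm
    have hcinv : c⁻¹ = c := inv_eq_of_mul_eq_one_right hcc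
    have hsc : s * s * s = c := by
      have e : (u * v) * (u * v) = c⁻¹ * (s * s) := by
        have h1 : v * u = c⁻¹ * (u * v) := by rw [hc, commutatorElement_def]; group
        calc (u * v) * (u * v) = u * (v * u) * v := by group
          _ = u * c⁻¹ * (u * v * v) := by rw [h1]; group
          _ = c⁻¹ * u * (u * v * v) := by rw [Subgroup.mem_center_iff.1 (inv_mem (hcom u v)) u]
          _ = c⁻¹ * ((u * u) * (v * v)) := by group
          _ = _ := by rw [hsv]
      have e2 : s⁻¹ = c⁻¹ * (s * s) := by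
        rw [← e, show (u * v) * (u * v) = ((u * v)⁻¹ * (u * v)⁻¹)⁻¹ by group, ← hw, hwv]
      calc s * s * s = c * (c⁻¹ * (s * s)) * s := by group
        _ = c * s⁻¹ * s := by rw [e2]
        _ = c := by group
    have hP8 : ∀ x : P, ∃ z ∈ Z, x = z ∨ x = u * z ∨ x = v * z ∨ x = θ v * z := by
      have huv : u⁻¹ * v ∉ Z := fun h => hu (hCZ ((hmemC u).2 (hfix u (hZC h))))
      have hvZ : v ∉ Z := fun h => by
        have h1 := hmapZ.ge h
        obtain ⟨z, hz, hzv⟩ := h1
        exact hu (θ.injective (show θ z = θ u from hzv) ▸ hz)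
      have hθvZ : θ v ∉ Z := fun h => by
        obtain ⟨z, hz, hzv⟩ := hmapZ.ge h
        exact hvZ (θ.injective (show θ z = θ v from hzv) ▸ hz)
      have hneq : ∀ a : P, a ∉ Z → (a : P ⧸ Z) ≠ 1 := fun a ha h => ha ((QuotientGroup.eq_one_iff a).1 h)
      have h01 : (u : P ⧸ Z) ≠ v := fun h => huv (QuotientGroup.eq.1 h)
      have h12 : (v : P ⧸ Z) ≠ (θ v : P) := fun h => hvZ (hCZ ((hmemC v).2 (hfix v (hZC (QuotientGroup.eq.1 h)))))
      have h02 : (u : P ⧸ Z) ≠ (θ v : P) := by
        intro h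
        apply hvZ
        rw [hw, QuotientGroup.eq] at h
        have e : v = u⁻¹ * (u⁻¹ * (u * v)⁻¹)⁻¹ * u * (u * u)⁻¹ := by group
        rw [e, mul_assoc u⁻¹, ← Subgroup.mem_center_iff.1 (inv_mem h) u, inv_mul_cancel_left]
        exact mul_mem (inv_mem h) (inv_mem (hsq u))
      haveI : Finite (P ⧸ Z) := inferInstance
      have hcard : Nat.card (P ⧸ Z) = 4 := by rw [← Subgroup.index_eq_card, hk]; rfl
      have := Fintype.ofFinite (P ⧸ Z)
      rw [Nat.card_eq_fintype_card] at hcard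
      have huniv : ({1, (u : P ⧸ Z), (v : P ⧸ Z), ((θ v : P) : P ⧸ Z)} : Finset (P ⧸ Z)) = Finset.univ := by
        refine Finset.eq_univ_of_card _ ?_
        rw [hcard]
        simp [Finset.card_insert_of_notMem, (hneq u hu).symm, (hneq v hvZ).symm, (hneq _ hθvZ).symm,
          h01, h02, h12]
      intro x
      have hx := huniv.ge (Finset.mem_univ (x : P ⧸ Z))
      simp only [Finset.mem_insert, Finset.mem_singleton] at hx
      rcases hx with h | h | h | h
      · exact ⟨x, (QuotientGroup.eq_one_iff x).1 h, Or.inl rfl⟩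
      · exact ⟨u⁻¹ * x, QuotientGroup.eq.1 h.symm, Or.inr (Or.inl (by group))⟩
      · exact ⟨v⁻¹ * x, QuotientGroup.eq.1 h.symm, Or.inr (Or.inr (Or.inl (by group)))⟩
      · exact ⟨(θ v)⁻¹ * x, QuotientGroup.eq.1 h.symm, Or.inr (Or.inr (Or.inr (by group)))⟩
    -- every commutator is a power of `c`
    have hcpow : ∀ a b : P, ∃ i : ℕ, ⁅a, b⁆ = c ^ i := by
      have hz0 : ∀ z ∈ Z, ∀ g, ⁅g, z⁆ = (1 : P) := fun z hz g =>
        commutatorElement_eq_one_iff_mul_comm.2 (Subgroup.mem_center_iff.1 hz g)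
      have hA : ∀ g : P, ⁅u, g⁆ = 1 ∨ ⁅u, g⁆ = c := by
        intro g
        obtain ⟨z, hz, rfl | rfl | rfl | rfl⟩ := hP8 g
        · exact Or.inl (hz0 _ hz u)
        · left; rw [hc_mul, hz0 z hz, commutatorElement_self, one_mul]
        · right; rw [hc_mul, hz0 z hz, mul_one]
        · right
          rw [hc_mul, hz0 z hz, mul_one, hw]
          refine (eq_inv_of_mul_eq_one_left ?_).trans hcinv
          calc ⁅u, (u * v)⁻¹⁆ * c = ⁅u, (u * v)⁻¹⁆ * (⁅u, u⁆ * ⁅u, v⁆) := by
                rw [commutatorElement_self, one_mul]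
            _ = 1 := by rw [← hc_mul, ← hc_mul, inv_mul_cancel, commutatorElement_one_right]
      have hsurj : ∀ a b : P, ∃ g, ⁅u, g⁆ = ⁅a, b⁆ := by
        intro a b
        let A : Subgroup P :=
          { carrier := {x | ∃ g, ⁅u, g⁆ = x}
            one_mem' := ⟨1, commutatorElement_one_right u⟩
            mul_mem' := by
              rintro _ _ ⟨g, rfl⟩ ⟨h, rfl⟩
              exact ⟨g * h, hc_mul u g h⟩
            inv_mem' := by
              rintro _ ⟨g, rfl⟩
              refine ⟨g⁻¹, eq_inv_of_mul_eq_one_left ?_⟩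
              rw [← hc_mul, inv_mul_cancel, commutatorElement_one_right] }
        let Rad : Subgroup P :=
          { carrier := {x | ∀ g, ⁅x, g⁆ ∈ A}
            one_mem' := fun g => by rw [commutatorElement_one_left]; exact one_mem A
            mul_mem' := fun {x y} hx hy g => by rw [hmul_c]; exact mul_mem (hx g) (hy g)
            inv_mem' := fun {x} hx g => by
              rw [show ⁅x⁻¹, g⁆ = ⁅x, g⁆⁻¹ from eq_inv_of_mul_eq_one_left (by
                rw [← hmul_c, inv_mul_cancel, commutatorElement_one_left])]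
              exact inv_mem (hx g) }
        have hRad : Rad = ⊤ := by
          refine (hinv Rad fun x hx g => ?_).resolve_right fun hfx => hu (hCZ ((hmemC u).2
            (hfx u fun g => ⟨g, rfl⟩)))
          have h1 : ⁅θ x, g⁆ = θ ⁅x, θ.symm g⁆ := by rw [map_commutatorElement, MulEquiv.apply_symm_apply]
          rw [h1, hfixcom]
          exact hx _
        exact (hRad ▸ Subgroup.mem_top a : a ∈ Rad) b
      intro a b
      obtain ⟨g, hg⟩ := hsurj a b
      rcases hA g with h | h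
      · exact ⟨0, by rw [← hg, h, pow_zero]⟩
      · exact ⟨1, by rw [← hg, h, pow_one]⟩
    obtain ⟨x, hx, a, b, hxab⟩ := hp2c rfl
    obtain ⟨i, hi⟩ := hcpow a b
    obtain ⟨z, hz, h⟩ := hP8 x
    have hfin : ∀ w : P, w * w = s → x = w * z → False := by
      intro w hws hxw
      refine hxab z⁻¹ (inv_mem hz) (3 * i) ?_
      rw [hi, hxw, mul_inv_cancel_right, pow_mul, pow_two, hws, pow_three, ← hsc]
      simp [mul_assoc]
    rcases h with h | h | h | h
    · exact hx (h ▸ hz)
    · exact hfin u rfl h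
    · exact hfin v hsv h
    · exact hfin _ hwv h

variable {X : Type v} [Group X] [Finite X]

/-- The automorphism coming from a minimal non-nilpotent group. -/
theorem exists_aut (hX : Cfsg.IsMinimalNonNilpotent X) (P : Sylow p X) (hPn : (P : Subgroup X).Normal)
    (hP1 : (P : Subgroup X) ≠ ⊥) :
    ∃ (θ : MulAut (P : Subgroup X)) (q : ℕ), q.Prime ∧ q ≠ p ∧ θ ^ q = 1 ∧ θ ≠ 1 ∧
      ∀ H : Subgroup (P : Subgroup X), (∀ h ∈ H, θ h ∈ H) → H = ⊤ ∨ ∀ h ∈ H, θ h = h := by
  classical
  have := hPn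
  have hex : ∃ q n : ℕ, q.Prime ∧ q ≠ p ∧ ∃ y : X, orderOf y = q ^ n ∧
      y ∉ Subgroup.centralizer ((P : Subgroup X) : Set X) := by
    by_contra hcon
    push Not at hcon
    obtain ⟨K, hK⟩ := Subgroup.exists_right_complement'_of_coprime (N := (P : Subgroup X))
      (P.card_coprime_index)
    have hcopK : (Nat.card K).Coprime p := by
      have h1 : (P : Subgroup X).index = Nat.card K := hK.symm.index_eq_card
      rw [← h1]
      exact (hp.out.coprime_iff_not_dvd.2 P.not_dvd_index).symm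
    have hKC : K ≤ Subgroup.centralizer ((P : Subgroup X) : Set X) := by
      rw [← Subgroup.subgroupOf_eq_top]
      refine FittingCores.eq_top_of_forall_sylow_le fun q hq => ?_
      have := Fact.mk hq
      obtain ⟨Q⟩ : Nonempty (Sylow q K) := inferInstance
      refine ⟨Q, fun y hy => ?_⟩
      obtain ⟨n, hn⟩ := IsPGroup.iff_orderOf.1 Q.isPGroup' ⟨y, hy⟩
      rw [Subgroup.orderOf_mk] at hn
      by_cases hqp : q = p
      · subst hqp
        have h1 : orderOf y = 1 := Nat.eq_one_of_dvd_coprimes (hcopK.pow_right n)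
          (orderOf_dvd_natCard y) hn.dvd
        rw [orderOf_eq_one_iff.1 h1]; exact one_mem _
      · exact hcon q n hq hqp (y : X) (by rw [Subgroup.orderOf_coe, hn])
    have hKn : K.Normal := by
      refine ⟨fun k hk g => ?_⟩
      obtain ⟨a, b, hab⟩ : ∃ a : (P : Subgroup X), ∃ b : K, (a : X) * b = g :=
        ⟨_, _, (hK.existsUnique g).exists.choose_spec⟩
      have hc : (a : X) * ((b : X) * k * (b : X)⁻¹) = ((b : X) * k * (b : X)⁻¹) * a :=
        Subgroup.mem_centralizer_iff.1 (hKC (mul_mem (mul_mem b.2 hk) (inv_mem b.2))) a a.2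
      rw [← hab, show (a : X) * b * k * ((a : X) * b)⁻¹ = (a : X) * ((b : X) * k * (b : X)⁻¹) * (a : X)⁻¹ by group,
        hc, mul_inv_cancel_right]
      exact mul_mem (mul_mem b.2 hk) (inv_mem b.2)
    have hKtop : K ≠ ⊤ := fun h => hP1 (by
      have h1 := hK.disjoint
      rwa [h, disjoint_top] at h1)
    haveI := hX.2 K hKtop
    haveI := P.isPGroup'.isNilpotent
    have := Components.isNilpotent_sup (P : Subgroup X) K
    rw [hK.sup_eq_top] at this
    exact hX.1 (Group.nilpotent_of_mulEquiv Subgroup.topEquiv)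
  obtain ⟨q, hex⟩ := hex
  have hn := Nat.find_spec hex
  set n := Nat.find hex with hn'
  obtain ⟨hq, hqp, y, hy, hyC⟩ := hn
  have hn0 : n ≠ 0 := fun h => hyC (by
    rw [h, pow_zero, orderOf_eq_one_iff] at hy
    rw [hy]; exact one_mem _)
  set θ : MulAut (P : Subgroup X) := MulAut.conjNormal y with hθ
  have hθy : ∀ x : (P : Subgroup X), ((θ x : (P : Subgroup X)) : X) = y * x * y⁻¹ := fun x => rfl
  refine ⟨θ, q, hq, hqp, ?_, ?_, ?_⟩
  · by_contra hne
    have h1 : y ^ q ∉ Subgroup.centralizer ((P : Subgroup X) : Set X) := fun h => hne (by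
      rw [hθ, ← map_pow]
      refine MulEquiv.ext fun x => Subtype.ext ?_
      show y ^ q * (x : X) * (y ^ q)⁻¹ = x
      rw [← Subgroup.mem_centralizer_iff.1 h x x.2, mul_inv_cancel_right])
    refine Nat.find_min hex (Nat.sub_lt (Nat.pos_of_ne_zero hn0) one_pos) ⟨hq, hqp, y ^ q, ?_, h1⟩
    rw [orderOf_pow' y hq.ne_zero, hy, Nat.gcd_eq_right (dvd_pow_self q hn0),
      Nat.div_eq_of_eq_mul_left hq.pos (by rw [← pow_succ, Nat.sub_add_cancel (Nat.pos_of_ne_zero hn0)])]
    rfl
  · intro h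
    refine hyC (Subgroup.mem_centralizer_iff.2 fun x hx => ?_)
    have h1 := congrArg (fun φ : MulAut (P : Subgroup X) => ((φ ⟨x, hx⟩ : (P : Subgroup X)) : X)) h
    exact (mul_inv_eq_iff_eq_mul.1 (show y * x * y⁻¹ = x from h1)).symm
  · intro H hH
    rw [or_iff_not_imp_left]
    intro hHtop h hh
    set H' := H.map (P : Subgroup X).subtype with hH'
    have hnorm : Subgroup.zpowers y ≤ Subgroup.normalizer (H' : Set X) :=
      Subgroup.zpowers_le.2 (Carter.le_normalizer_of_conj_mem (by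
        rintro _ ⟨a, ha, rfl⟩
        exact ⟨θ a, hH a ha, rfl⟩))
    have hne : H' ⊔ Subgroup.zpowers y ≠ ⊤ := by
      intro htop
      apply hHtop
      refine eq_top_iff.2 fun a _ => ?_
      obtain ⟨b, ⟨b', hb', rfl⟩, c, hc, he⟩ :=
        (SolvBasic.mem_sup_iff_of_le_normalizer hnorm).1 (htop.ge (Subgroup.mem_top (a : X)))
      have hcP : c ∈ (P : Subgroup X) := by
        rw [show c = ((b' : X))⁻¹ * a by rw [he]; simp]
        exact mul_mem (inv_mem b'.2) a.2
      have hc1 : c = 1 := by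
        obtain ⟨k, hk⟩ := IsPGroup.iff_orderOf.1 P.isPGroup' ⟨c, hcP⟩
        rw [Subgroup.orderOf_mk] at hk
        refine orderOf_eq_one_iff.1 (Nat.eq_one_of_dvd_coprimes
          (Nat.coprime_pow_primes k n hp.out hq hqp.symm) hk.dvd ?_)
        rw [← hy, ← Nat.card_zpowers y]
        exact Subgroup.orderOf_dvd_natCard _ hc
      have : a = b' := Subtype.ext (by rw [he, hc1]; simp)
      rw [this]; exact hb'
    have hcom : Commute y (h : X) := by
      refine CN.commute_of_coprime (hX.2 _ hne) (Subgroup.mem_sup_right (Subgroup.mem_zpowers y))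
        (Subgroup.mem_sup_left (Subgroup.mem_map_of_mem _ hh)) ?_
      obtain ⟨k, hk⟩ := IsPGroup.iff_orderOf.1 P.isPGroup' h
      show (orderOf y).Coprime (orderOf (h : X))
      rw [hy, Subgroup.orderOf_coe, hk]
      exact Nat.coprime_pow_primes n k hq hp.out hqp
    refine Subtype.ext ?_
    rw [hθy, hcom.eq, mul_inv_cancel_right]

end Structure

section Module

variable {H : Type u} [Group H] [Finite H] {V : Type u} [AddCommGroup V] [Module (ZMod p) V]
  [Finite V]

/-- An abelian `p`-subgroup with a common commutator space is cyclic. -/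
theorem le_zpowers (ρ : H →* Module.End (ZMod p) V) (hρ : Function.Injective ρ)
    (hsol : Cfsg.IsPSolvable p H) (hO : Cfsg.pCore p H = ⊥) (A : Subgroup H) [IsMulCommutative A]
    (hexp : ∀ a ∈ A, a ^ p = 1) (W₀ : Submodule (ZMod p) V)
    (h1 : ∀ a ∈ A, ∀ w, ρ a w - w ∈ W₀) (h2 : ∀ a ∈ A, ∀ w ∈ W₀, ρ a w = w)
    (h3 : ∀ v, v ∉ W₀ → ∀ a ∈ A, ∀ w, ∃ c ∈ A, ρ c v - v = ρ a w - w) :
    ∃ x ∈ A, A ≤ Subgroup.zpowers x := by
  classical
  by_contra hcon
  push Not at hcon
  set N := Cfsg.pPrimeCore p H with hN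
  have hNn : N.Normal := FittingCores.pPrimeCore_normal p
  have hNc := FittingCores.pPrimeCore_coprime (G := H) p
  have hsplit : ∀ (K : Subgroup H) (a : H), a ∈ A → ∀ j : ℕ, a ^ j ∈ K → a ^ j ≠ 1 → a ∈ K := by
    intro K a ha j hj hj1
    have hcop : Nat.Coprime j p := by
      refine (hp.out.coprime_iff_not_dvd.2 fun hd => hj1 ?_).symm
      obtain ⟨t, rfl⟩ := hd
      rw [pow_mul, hexp a ha, one_pow]
    obtain ⟨m, hm⟩ := exists_pow_eq_self_of_coprime (x := a) (n := j)
      (hcop.coprime_dvd_right (orderOf_dvd_of_pow_eq_one (hexp a ha)))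
    rw [← hm]
    exact pow_mem hj m
  have hA1 : ∀ a ∈ A, a ∈ N → a = 1 := fun a ha haN => orderOf_eq_one_iff.1
    (Nat.eq_one_of_dvd_coprimes hNc (Subgroup.orderOf_dvd_natCard N haN)
      (orderOf_dvd_of_pow_eq_one (hexp a ha)))
  obtain ⟨x₁, hx₁, -⟩ := SetLike.not_le_iff_exists.1 (hcon 1 (one_mem A))
  have hA0 : ¬ A ≤ Subgroup.centralizer (N : Set H) := fun h => (hcon 1 (one_mem A)) fun a ha => by
    rw [hA1 a ha (HHThmB.centralizer_pPrimeCore_le hsol hO (h ha))]
    exact one_mem _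
  haveI : Finite (Subgroup H) := Finite.of_injective _ SetLike.coe_injective
  obtain ⟨B, -, ⟨hBA, hBN⟩, hBmax⟩ := Finite.exists_le_maximal (a := (⊥ : Subgroup H))
    (p := fun B : Subgroup H => B ≤ A ∧
      ¬ A ≤ Subgroup.centralizer ((N ⊓ Subgroup.centralizer (B : Set H) : Subgroup H) : Set H))
    ⟨bot_le, fun h => hA0 (h.trans (Subgroup.centralizer_le (fun n hn =>
      ⟨hn, Subgroup.mem_centralizer_iff.2 fun z hz => by
        rw [Subgroup.mem_bot.1 hz, one_mul, mul_one]⟩)))⟩
  set M := N ⊓ Subgroup.centralizer (B : Set H) with hM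
  have hcomA : ∀ a ∈ A, ∀ b ∈ A, a * b = b * a := fun a ha b hb => setLike_mul_comm ha hb
  have hAM : A ≤ Subgroup.normalizer (M : Set H) := by
    refine fun a ha => Carter.le_normalizer_of_conj_mem fun m hm => ⟨hNn.conj_mem m hm.1 a, ?_⟩
    refine Subgroup.mem_centralizer_iff.2 fun b hb => ?_
    have hab : a * b = b * a := hcomA a ha b (hBA hb)
    calc b * (a * m * a⁻¹) = a * (b * m) * a⁻¹ := by rw [← mul_assoc, ← mul_assoc, ← hab]; group
      _ = a * (m * b) * a⁻¹ := by rw [Subgroup.mem_centralizer_iff.1 hm.2 b hb]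
      _ = a * m * (b * a⁻¹) := by group
      _ = a * m * (a⁻¹ * b) := by rw [hcomA b (hBA hb) a⁻¹ (inv_mem ha)]
      _ = a * m * a⁻¹ * b := by group
  obtain ⟨x₀, hx₀, hx₀B⟩ : ∃ a ∈ A, a ∉ B := by
    by_contra h
    push Not at h
    refine hBN fun a ha => Subgroup.mem_centralizer_iff.2 fun m hm => ?_
    exact (Subgroup.mem_centralizer_iff.1 hm.2 a (h a ha)).symm
  have hcover : A ≤ B ⊔ Subgroup.zpowers x₀ := by
    intro a₂ ha₂
    by_contra hne
    set E := Subgroup.zpowers x₀ ⊔ Subgroup.zpowers a₂ with hE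
    have hEA : E ≤ A := sup_le (Subgroup.zpowers_le.2 hx₀) (Subgroup.zpowers_le.2 ha₂)
    haveI : IsMulCommutative E := .of_setLike_mul_comm fun a ha b hb => hcomA a (hEA ha) b (hEA hb)
    have hEcyc : ¬ IsCyclic E := by
      intro hc
      obtain ⟨g, hg⟩ := hc.exists_generator
      obtain ⟨i, hi⟩ := Subgroup.mem_zpowers_iff.1 (hg ⟨x₀, Subgroup.mem_sup_left (Subgroup.mem_zpowers _)⟩)
      obtain ⟨j, hj⟩ := IsOfFinOrder.mem_powers_iff_mem_zpowers (isOfFinOrder_of_finite g) |>.2
        (hg ⟨x₀, Subgroup.mem_sup_left (Subgroup.mem_zpowers _)⟩)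
      have hj' : (g : H) ^ j = x₀ := congrArg Subtype.val hj
      have hgA : (g : H) ∈ A := hEA g.2
      have hgx : (g : H) ∈ Subgroup.zpowers x₀ := hsplit _ _ hgA j (hj' ▸ Subgroup.mem_zpowers x₀)
        (fun h => hx₀B (by rw [hj'] at h; rw [h]; exact one_mem B))
      obtain ⟨l, hl⟩ := Subgroup.mem_zpowers_iff.1 (hg ⟨a₂, Subgroup.mem_sup_right (Subgroup.mem_zpowers _)⟩)
      have hl' : (g : H) ^ l = a₂ := congrArg Subtype.val hl
      exact hne (Subgroup.mem_sup_right (hl' ▸ zpow_mem hgx l))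
    have hgen := CoprimeAct.generated_by_centralizers hEcyc (hEA.trans hAM) (by
      have hEp : IsPGroup p E := fun e => ⟨1, Subtype.ext (by
        rw [pow_one]; exact hexp _ (hEA e.2))⟩
      obtain ⟨k, hk⟩ := IsPGroup.iff_card.1 hEp
      rw [hk]
      exact ((hNc.coprime_dvd_left (Subgroup.card_dvd_of_le inf_le_left)).symm.pow_left k))
    refine hBN fun a ha => Subgroup.mem_centralizer_iff.2 fun m hm => ?_
    have hle : M ≤ Subgroup.centralizer ({a} : Set H) := by
      rw [← hgen]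
      refine iSup₂_le fun e he m hm => ?_
      have heB : e ∉ B := by
        intro heB
        obtain ⟨w, hw, z, hz, hwz⟩ := (SolvBasic.mem_sup_iff_of_le_normalizer (fun g hg =>
          Subgroup.mem_normalizer_iff.2 fun t => ⟨fun ht => by
            rwa [hcomA g ((Subgroup.zpowers_le.2 ha₂) hg) t ((Subgroup.zpowers_le.2 hx₀) ht), mul_inv_cancel_right],
            fun ht => by
              have htA : t ∈ A := by
                rw [show t = g⁻¹ * (g * t * g⁻¹) * g by group]
                exact mul_mem (mul_mem (inv_mem ((Subgroup.zpowers_le.2 ha₂) hg))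
                  ((Subgroup.zpowers_le.2 hx₀) ht)) ((Subgroup.zpowers_le.2 ha₂) hg)
              rwa [hcomA g ((Subgroup.zpowers_le.2 ha₂) hg) t htA, mul_inv_cancel_right] at ht⟩)).1 he.1
        obtain ⟨j, rfl⟩ := (isOfFinOrder_of_finite a₂).mem_powers_iff_mem_zpowers.2 hz
        simp only at hwz
        by_cases hj : a₂ ^ j = 1
        · rw [hj, mul_one] at hwz
          obtain ⟨i, rfl⟩ := (isOfFinOrder_of_finite x₀).mem_powers_iff_mem_zpowers.2 hw
          simp only at hwz
          exact hx₀B (hsplit B x₀ hx₀ i (hwz ▸ heB) (fun h => he.2 (hwz.trans h)))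
        · refine hne (hsplit _ a₂ ha₂ j ?_ hj)
          rw [show a₂ ^ j = w⁻¹ * e by rw [hwz]; group]
          exact mul_mem (inv_mem (Subgroup.mem_sup_right hw)) (Subgroup.mem_sup_left heB)
      have hmem : m ∈ N ⊓ Subgroup.centralizer ((B ⊔ Subgroup.zpowers e : Subgroup H) : Set H) := by
        refine ⟨hm.1.1, ?_⟩
        refine Subgroup.mem_centralizer_iff.2 ?_
        have hle : B ⊔ Subgroup.zpowers e ≤ Subgroup.centralizer ({m} : Set H) := sup_le
          (fun b hb => Subgroup.mem_centralizer_singleton_iff.2 (Subgroup.mem_centralizer_iff.1 hm.1.2 b hb))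
          (Subgroup.zpowers_le.2 (Subgroup.mem_centralizer_singleton_iff.2
            (Subgroup.mem_centralizer_singleton_iff.1 hm.2).symm))
        exact fun z hz => Subgroup.mem_centralizer_singleton_iff.1 (hle hz)
      have heA : e ∈ A := hEA he.1
      by_contra hna
      refine heB ((hBmax (y := B ⊔ Subgroup.zpowers e) ⟨sup_le hBA (Subgroup.zpowers_le.2 heA), fun h => hna ?_⟩
        le_sup_left) (Subgroup.mem_sup_right (Subgroup.mem_zpowers e)))
      exact Subgroup.mem_centralizer_singleton_iff.2 (Subgroup.mem_centralizer_iff.1 (h ha) m hmem)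
    exact Subgroup.mem_centralizer_singleton_iff.1 (hle hm)
  obtain ⟨b₀, hb₀, hb₀1⟩ : ∃ b ∈ B, b ≠ 1 := by
    by_contra h
    push Not at h
    refine hcon x₀ hx₀ (hcover.trans ?_)
    rw [show B = ⊥ from (Subgroup.eq_bot_iff_forall B).2 h, bot_sup_eq]
  -- an element of `M` moved by `A`
  obtain ⟨a, ha, m, hm, hne⟩ : ∃ a ∈ A, ∃ m ∈ M, m * a ≠ a * m := by
    by_contra h
    push Not at h
    exact hBN fun a ha => Subgroup.mem_centralizer_iff.2 fun m hm => h a ha m hm
  have happ : ∀ (g h : H) (v : V), ρ g (ρ h v) = ρ (g * h) v := fun g h v => by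
    rw [map_mul, Module.End.mul_apply]
  have hdec : ∀ a ∈ A, ∃ b ∈ B, ∃ k : ℕ, a = x₀ ^ k * b := by
    intro a ha
    obtain ⟨b, hb, z, hz, rfl⟩ := (SolvBasic.mem_sup_iff_of_le_normalizer (fun g hg =>
      Carter.le_normalizer_of_conj_mem (fun t ht => by
        rwa [hcomA g ((Subgroup.zpowers_le.2 hx₀) hg) t (hBA ht), mul_inv_cancel_right]))).1 (hcover ha)
    obtain ⟨k, rfl⟩ := (isOfFinOrder_of_finite x₀).mem_powers_iff_mem_zpowers.2 hz
    exact ⟨b, hb, k, hcomA _ (hBA hb) _ (pow_mem hx₀ k)⟩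
  obtain ⟨S, hSM, hSA, hSfix⟩ : ∃ S : Submodule (ZMod p) V, (∀ m ∈ M, ∀ w ∈ S, ρ m w ∈ S) ∧
      (∀ a ∈ A, ∀ w, ρ a w - w ∈ S) ∧ (∀ a ∈ A, ∀ w ∈ S, ρ a w = w) := by
    by_cases hK : ∀ v, (∀ b ∈ B, ρ b v = v) → v ∈ W₀
    · refine ⟨W₀, fun m hm w hw => hK _ fun b hb => ?_, h1, h2⟩
      rw [happ, Subgroup.mem_centralizer_iff.1 hm.2 b hb, ← happ, h2 b (hBA hb) w hw]
    push Not at hK
    obtain ⟨v, hv, hvW⟩ := hK
    set z₀ := ρ x₀ v - v with hz₀
    have hz₀W : z₀ ∈ W₀ := h1 x₀ hx₀ v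
    have hpow : ∀ k : ℕ, ρ (x₀ ^ k) v = v + k • z₀ := by
      intro k
      induction k with
      | zero => simp
      | succ k ih =>
        rw [pow_succ', ← happ, ih, map_add, map_nsmul, h2 x₀ hx₀ z₀ hz₀W, succ_nsmul', hz₀]
        abel
    have hall : ∀ a ∈ A, ∀ w, ∃ k : ℕ, ρ a w - w = k • z₀ := by
      intro a ha w
      obtain ⟨c, hc, hcv⟩ := h3 v hvW a ha w
      obtain ⟨b, hb, k, rfl⟩ := hdec c hc
      refine ⟨k, ?_⟩
      rw [← hcv, ← happ, hv b hb, hpow]
      abel
    refine ⟨Submodule.span (ZMod p) {z₀}, ?_, fun a ha w => ?_, fun a ha w hw => ?_⟩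
    · obtain ⟨w₁, hw₁⟩ : ∃ w, ρ b₀ w - w ≠ 0 := by
        by_contra h
        push Not at h
        exact hb₀1 (hρ (LinearMap.ext fun w => by rw [map_one, Module.End.one_apply, sub_eq_zero.1 (h w)]))
      obtain ⟨k, hk⟩ := hall b₀ (hBA hb₀) w₁
      have hk0 : (k : ZMod p) ≠ 0 := fun h => hw₁ (by
        rw [hk, ← Nat.cast_smul_eq_nsmul (ZMod p), h, zero_smul])
      intro m hm w hw
      obtain ⟨t, rfl⟩ := Submodule.mem_span_singleton.1 hw
      rw [map_smul]
      refine Submodule.smul_mem _ _ ?_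
      obtain ⟨l, hl⟩ := hall b₀ (hBA hb₀) (ρ m w₁)
      have e : (k : ZMod p) • ρ m z₀ = (l : ZMod p) • z₀ := by
        rw [← map_smul, Nat.cast_smul_eq_nsmul, Nat.cast_smul_eq_nsmul, ← hk, ← hl, map_sub, happ, happ,
          Subgroup.mem_centralizer_iff.1 hm.2 b₀ hb₀]
      refine Submodule.mem_span_singleton.2 ⟨(k : ZMod p)⁻¹ * l, ?_⟩
      rw [mul_smul, ← e, smul_smul, inv_mul_cancel₀ hk0, one_smul]
    · obtain ⟨k, hk⟩ := hall a ha w
      rw [hk]
      exact Submodule.smul_of_tower_mem _ k (Submodule.mem_span_singleton_self z₀)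
    · obtain ⟨t, rfl⟩ := Submodule.mem_span_singleton.1 hw
      rw [map_smul, h2 a ha z₀ hz₀W]
  -- the commutator of `m` and `a` stabilises the chain
  set c := m * a * m⁻¹ * a⁻¹ with hc
  have hcN : c ∈ N := by
    rw [hc, show m * a * m⁻¹ * a⁻¹ = m * (a * m⁻¹ * a⁻¹) by group]
    exact mul_mem hm.1 (hNn.conj_mem _ (inv_mem hm.1) a)
  have hcS : ∀ w, ρ c w - w ∈ S ∧ (w ∈ S → ρ c w = w) := by
    intro w
    set u := ρ (m⁻¹ * a⁻¹) w with hu
    have e1 : ρ c w = ρ m (ρ a u) := by rw [hu, happ, happ, hc]; congr 2; group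
    have e2 : w = ρ a (ρ m u) := by
      rw [hu, happ, happ, show a * m * (m⁻¹ * a⁻¹) = 1 by group, map_one, Module.End.one_apply]
    refine ⟨?_, fun hw => ?_⟩
    · have e3 : ρ c w - w = ρ m (ρ a u - u) - (ρ a (ρ m u) - ρ m u) := by
        rw [e1, map_sub]
        conv_lhs => arg 2; rw [e2]
        abel
      rw [e3]
      exact S.sub_mem (hSM m hm _ (hSA a ha u)) (hSA a ha _)
    · have huS : u ∈ S := by
        rw [hu, ← happ]
        exact hSM _ (inv_mem hm) _ (by rw [hSfix _ (inv_mem ha) w hw]; exact hw)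
      rw [e1, hSfix a ha u huS]
      conv_rhs => rw [e2, hSfix a ha _ (hSM m hm u huS)]
  have hc1 : c = 1 := by
    have hpw : ∀ (k : ℕ) w, ρ (c ^ k) w = w + k • (ρ c w - w) := by
      intro k
      induction k with
      | zero => simp
      | succ k ih =>
        intro w
        rw [pow_succ', ← happ, ih, map_add, map_nsmul, (hcS _).2 (hcS w).1, succ_nsmul']
        abel
    have hcp : c ^ p = 1 := hρ (LinearMap.ext fun w => by
      rw [hpw, map_one, Module.End.one_apply, ← Nat.cast_smul_eq_nsmul (ZMod p), ZMod.natCast_self,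
        zero_smul, add_zero])
    exact orderOf_eq_one_iff.1 (Nat.eq_one_of_dvd_coprimes hNc (Subgroup.orderOf_dvd_natCard N hcN)
      (orderOf_dvd_of_pow_eq_one hcp))
  refine hne ?_
  rw [hc, mul_inv_eq_one, mul_inv_eq_iff_eq_mul] at hc1
  exact hc1

end Module

variable {G : Type u} [Group G] [Finite G]

/-- The Sylow subgroup lies in `O_p`, when `O_{p'} = 1`. -/
theorem sylow_le_pCore (hsol : Cfsg.IsPSolvable p G) (hO : Cfsg.pPrimeCore p G = ⊥) (Q : Sylow p G)
    (hQ : Subgroup.center (Q : Subgroup G) = ⊤ ∨ Good p (Q : Subgroup G)) :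
    (Q : Subgroup G) ≤ Cfsg.pCore p G := by
  classical
  set U := Cfsg.pCore p G with hU
  have hcenter : ∀ z : (Q : Subgroup G), z ∈ Subgroup.center (Q : Subgroup G) → (z : G) ∈ U := by
    intro z hz
    refine PSolvable.centralizer_pCore_le hsol hO (Subgroup.mem_centralizer_iff.2 fun y hy => ?_)
    exact congrArg Subtype.val (Subgroup.mem_center_iff.1 hz ⟨y, FittingCores.pCore_le_sylow Q hy⟩)
  rcases hQ with hQ | hQ
  · exact fun x hx => hcenter ⟨x, hx⟩ (hQ ▸ Subgroup.mem_top _)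
  by_contra hnle
  obtain ⟨hn, ρ, hρ, hρc⟩ := HHApply.exists_rep hsol hO
  haveI : Finite (Additive (HHReduce.V p G)) := inferInstanceAs (Finite (HHReduce.V p G))
  set g₁ := QuotientGroup.mk' U with hg₁
  set π := QuotientGroup.mk' (HHReduce.Phi p G) with hπ
  let emb : Additive (HHReduce.V p G) → G ⧸ HHReduce.Phi p G := fun w =>
    ((Additive.toMul w : HHReduce.V p G) : G ⧸ HHReduce.Phi p G)
  have emb_sub : ∀ a b, emb (a - b) = emb a * (emb b)⁻¹ := fun a b => by rw [sub_eq_add_neg]; rfl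
  have emb_inj : Function.Injective emb := fun a b h => Additive.toMul.injective (Subtype.ext h)
  have hlift : ∀ w, ∃ r : (Q : Subgroup G), (r : G) ∈ U ∧ π (r : G) = emb w := fun w => by
    obtain ⟨r, hr, hre⟩ := (Additive.toMul w : HHReduce.V p G).2
    exact ⟨⟨r, FittingCores.pCore_le_sylow Q hr⟩, hr, hre⟩
  have hact : ∀ (q r : (Q : Subgroup G)) w, π (r : G) = emb w →
      emb (ρ (g₁ q) w - w) = π ((⁅q, r⁆ : (Q : Subgroup G)) : G) := fun q r w hr => by
    rw [emb_sub, show emb (ρ (g₁ q) w) = _ from hρc q (Additive.toMul w)]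
    show π q * emb w * (π q)⁻¹ * (emb w)⁻¹ = _
    rw [← hr, ← map_inv, ← map_inv, ← map_mul, ← map_mul, ← map_mul]
    rfl
  set A := (Q : Subgroup G).map g₁ with hA
  set Zs := ((Subgroup.center (Q : Subgroup G)).map (Q : Subgroup G).subtype).map π with hZs
  let W : AddSubgroup (Additive (HHReduce.V p G)) :=
    { carrier := {w | emb w ∈ Zs}
      zero_mem' := one_mem Zs
      add_mem' := fun {a b} ha hb => (mul_mem ha hb : emb a * emb b ∈ Zs)
      neg_mem' := fun {a} ha => (inv_mem ha : (emb a)⁻¹ ∈ Zs) }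
  set W₀ := AddSubgroup.toZModSubmodule p W with hW₀
  have hmemW : ∀ w, w ∈ W₀ ↔ emb w ∈ Zs := fun w => Iff.rfl
  haveI : IsMulCommutative A := by
    refine .of_setLike_mul_comm ?_
    rintro _ ⟨a, ha, rfl⟩ _ ⟨b, hb, rfl⟩
    rw [← commutatorElement_eq_one_iff_mul_comm, ← map_commutatorElement]
    exact (QuotientGroup.eq_one_iff _).2 (hcenter _ (hQ.comm_mem ⟨a, ha⟩ ⟨b, hb⟩))
  have hexp : ∀ a ∈ A, a ^ p = 1 := by
    rintro _ ⟨a, ha, rfl⟩
    rw [← map_pow]
    exact (QuotientGroup.eq_one_iff _).2 (hcenter _ (hQ.pow_mem ⟨a, ha⟩))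
  have h1 : ∀ a ∈ A, ∀ w, ρ a w - w ∈ W₀ := by
    rintro _ ⟨q, hq, rfl⟩ w
    obtain ⟨r, -, hr⟩ := hlift w
    rw [hmemW, hact ⟨q, hq⟩ r w hr]
    exact Subgroup.mem_map_of_mem π (Subgroup.mem_map_of_mem _ (hQ.comm_mem _ _))
  have h2 : ∀ a ∈ A, ∀ w ∈ W₀, ρ a w = w := by
    rintro _ ⟨q, hq, rfl⟩ w hw
    obtain ⟨_, ⟨z, hz, rfl⟩, hze⟩ := (hmemW w).1 hw
    rw [← sub_eq_zero]
    apply emb_inj
    rw [hact ⟨q, hq⟩ z w hze, commutatorElement_eq_one_iff_mul_comm.2 (Subgroup.mem_center_iff.1 hz _)]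
    exact map_one π
  have h3 : ∀ v, v ∉ W₀ → ∀ a ∈ A, ∀ w, ∃ c ∈ A, ρ c v - v = ρ a w - w := by
    rintro v hv _ ⟨q, hq, rfl⟩ w
    obtain ⟨r, -, hr⟩ := hlift w
    obtain ⟨u, -, hu⟩ := hlift v
    have huZ : u ∉ Subgroup.center (Q : Subgroup G) := fun h => hv ((hmemW v).2
      (hu ▸ Subgroup.mem_map_of_mem π (Subgroup.mem_map_of_mem _ h)))
    obtain ⟨g, hg⟩ := hQ.surj u huZ r ⟨q, hq⟩
    refine ⟨g₁ g, Subgroup.mem_map_of_mem g₁ g.2, emb_inj ?_⟩
    rw [hact g u v hu, hact ⟨q, hq⟩ r w hr, ← commutatorElement_inv, hg, commutatorElement_inv]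
  have hsolH : Cfsg.IsPSolvable p (G ⧸ U) := PSolvable.quotient _ hsol
  have hOH : Cfsg.pCore p (G ⧸ U) = ⊥ := PBasic.pCore_quotient_pCore p G
  obtain ⟨x, hxA, hAx⟩ := le_zpowers ρ hρ hsolH hOH A hexp W₀ h1 h2 h3
  have hx1 : x ≠ 1 := fun h => hnle fun q hq => by
    have h4 := hAx (Subgroup.mem_map_of_mem g₁ hq)
    rw [h, Subgroup.zpowers_one_eq_bot, Subgroup.mem_bot] at h4
    exact (QuotientGroup.eq_one_iff q).1 h4
  obtain ⟨v₁, hv₁⟩ : ∃ w, ρ x w - w ≠ 0 := by
    by_contra h
    push Not at h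
    exact hx1 (hρ (LinearMap.ext fun w => by rw [map_one, Module.End.one_apply, sub_eq_zero.1 (h w)]))
  have hxpow : ∀ (k : ℕ) w, ρ (x ^ k) w - w = k • (ρ x w - w) := by
    intro k
    induction k with
    | zero => simp
    | succ k ih =>
      intro w
      rw [pow_succ', map_mul, Module.End.mul_apply, eq_add_of_sub_eq (ih w), map_add, map_nsmul,
        h2 x hxA _ (h1 x hxA w), succ_nsmul]
      abel
  have hcyc : ∀ a ∈ A, ∃ k : ℕ, a = x ^ k := fun a ha => by
    obtain ⟨k, hk⟩ := (isOfFinOrder_of_finite x).mem_powers_iff_mem_zpowers.2 (hAx ha)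
    exact ⟨k, hk.symm⟩
  have hv₁W : v₁ ∉ W₀ := fun h => hv₁ (by rw [h2 x hxA v₁ h, sub_self])
  obtain ⟨u₀, hu₀U, hu₀⟩ := hlift v₁
  have hu₀Z : u₀ ∉ Subgroup.center (Q : Subgroup G) := fun h => hv₁W ((hmemW v₁).2
    (hu₀ ▸ Subgroup.mem_map_of_mem π (Subgroup.mem_map_of_mem _ h)))
  rcases hQ.small with hp5 | hidx | ⟨hp2, hQ2⟩
  · -- quadratic action
    set n := ρ x - 1 with hn
    have hn2 : n * n = 0 := LinearMap.ext fun w => by
      show (ρ x - 1) ((ρ x - 1) w) = 0
      rw [LinearMap.sub_apply (ρ x) 1 ((ρ x - 1) w), Module.End.one_apply, LinearMap.sub_apply,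
        Module.End.one_apply, h2 x hxA _ (h1 x hxA w), sub_self]
    have hnk : ∀ k, 2 ≤ k → n ^ k = 0 := fun k hk => by
      rw [← Nat.sub_add_cancel hk, pow_add, pow_two, hn2, mul_zero]
    have hord : orderOf x = p := orderOf_eq_prime (hexp x hxA) hx1
    rcases HHThmB.exists_bound ρ hρ hsolH hOH x 1 le_rfl (by rw [pow_one, hord]) with
      h | ⟨n₀, q, m, g1, g2, -, -, -, -, h7⟩
    · exact absurd (hnk _ (by rw [pow_one]; omega)) h
    · refine h7 (hnk _ ?_)
      rw [show n₀ = 1 by omega, Nat.sub_self, pow_zero, one_mul, pow_one]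
      omega
  · -- the centre has index at most `p ^ 2`
    obtain ⟨q₀, hq₀, hq₀x⟩ := hxA
    set Z := Subgroup.center (Q : Subgroup G) with hZ
    have hZU : ∀ u : (Q : Subgroup G), (u : G) ∈ U → ∃ i : ℕ, (u₀ ^ i)⁻¹ * u ∈ Z := by
      intro u huU
      let w : Additive (HHReduce.V p G) := Additive.ofMul ⟨π u, Subgroup.mem_map_of_mem _ huU⟩
      obtain ⟨c, hc, hcv⟩ := h3 v₁ hv₁W x ⟨q₀, hq₀, hq₀x⟩ w
      obtain ⟨i, rfl⟩ := hcyc c hc
      rw [hxpow] at hcv
      refine ⟨i, ?_⟩
      by_contra hne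
      obtain ⟨g, hg⟩ := hQ.surj _ hne ⟨q₀, hq₀⟩ u₀
      obtain ⟨k, hk⟩ := hcyc (g₁ g) (Subgroup.mem_map_of_mem g₁ g.2)
      set e : Additive (HHReduce.V p G) := -(i • v₁) + w with he
      have hee : π (((u₀ ^ i)⁻¹ * u : (Q : Subgroup G)) : G) = emb e := by
        show π ((((u₀ : G) ^ i))⁻¹ * (u : G)) = (emb (i • v₁))⁻¹ * emb w
        rw [map_mul, map_inv, map_pow, hu₀]
        rfl
      have h4 := hact g _ e hee
      rw [hk, hxpow, he, map_add, map_neg, map_nsmul,
        show -(i • ρ x v₁) + ρ x w - (-(i • v₁) + w) = ρ x w - w - i • (ρ x v₁ - v₁) by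
          rw [smul_sub]; abel, hcv, sub_self, smul_zero] at h4
      apply hv₁
      apply emb_inj
      have h5 : emb (ρ (g₁ q₀) v₁ - v₁) = π ((⁅(⟨q₀, hq₀⟩ : (Q : Subgroup G)), u₀⁆ : (Q : Subgroup G)) : G) :=
        hact ⟨q₀, hq₀⟩ u₀ v₁ hu₀
      rw [hq₀x, ← hg, ← commutatorElement_inv, Subgroup.coe_inv, map_inv, ← h4] at h5
      exact h5.trans inv_one
    have hcover : (⊤ : Subgroup (Q : Subgroup G)) ≤
        (Subgroup.zpowers (QuotientGroup.mk' Z u₀) ⊔ Subgroup.zpowers (QuotientGroup.mk' Z ⟨q₀, hq₀⟩)).comap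
          (QuotientGroup.mk' Z) := by
      intro g _
      obtain ⟨j, hj⟩ := hcyc (g₁ g) (Subgroup.mem_map_of_mem g₁ g.2)
      have hgU : ((((⟨q₀, hq₀⟩ : (Q : Subgroup G)) ^ j)⁻¹ * g : (Q : Subgroup G)) : G) ∈ U := by
        rw [← QuotientGroup.eq_one_iff]
        show g₁ ((q₀ ^ j)⁻¹ * g) = 1
        rw [map_mul, map_inv, map_pow, hq₀x, ← hj, inv_mul_cancel]
      obtain ⟨i, hi⟩ := hZU _ hgU
      rw [Subgroup.mem_comap]
      rw [← QuotientGroup.eq_one_iff] at hi
      simp only [QuotientGroup.mk_mul, QuotientGroup.mk_inv, QuotientGroup.mk_pow] at hi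
      rw [inv_mul_eq_one, eq_inv_mul_iff_mul_eq] at hi
      simp only [QuotientGroup.mk'_apply]
      rw [← hi]
      exact mul_mem (Subgroup.mem_sup_right (pow_mem (Subgroup.mem_zpowers _) j))
        (Subgroup.mem_sup_left (pow_mem (Subgroup.mem_zpowers _) i))
    have hle : ∀ g : (Q : Subgroup G) ⧸ Z, Nat.card (Subgroup.zpowers g) ≤ p := fun g => by
      obtain ⟨g, rfl⟩ := QuotientGroup.mk'_surjective Z g
      rw [Nat.card_zpowers]
      refine orderOf_le_of_pow_eq_one hp.out.pos ?_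
      rw [← map_pow]
      exact (QuotientGroup.eq_one_iff _).2 (hQ.pow_mem g)
    have hbound : Z.index ≤ p ^ 2 := by
      rw [Subgroup.index_eq_card, ← Subgroup.card_top, pow_two]
      set X := Subgroup.zpowers (QuotientGroup.mk' Z u₀)
      set Y := Subgroup.zpowers (QuotientGroup.mk' Z (⟨q₀, hq₀⟩ : (Q : Subgroup G)))
      have htop : (⊤ : Subgroup ((Q : Subgroup G) ⧸ Z)) ≤ X ⊔ Y := fun g _ => by
        obtain ⟨g, rfl⟩ := QuotientGroup.mk'_surjective Z g
        exact hcover (Subgroup.mem_top g)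
      have hXn : Y ≤ Subgroup.normalizer (X : Set ((Q : Subgroup G) ⧸ Z)) := fun y _ => by
        refine Carter.le_normalizer_of_conj_mem fun t ht => ?_
        have : y * t = t * y := by
          obtain ⟨a, rfl⟩ := QuotientGroup.mk'_surjective Z y
          obtain ⟨b, rfl⟩ := QuotientGroup.mk'_surjective Z t
          rw [← commutatorElement_eq_one_iff_mul_comm, ← map_commutatorElement]
          exact (QuotientGroup.eq_one_iff _).2 (hQ.comm_mem a b)
        rwa [this, mul_inv_cancel_right]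
      refine (Nat.card_mono (Set.toFinite _) (htop.trans le_rfl : (⊤ : Subgroup _) ≤ X ⊔ Y)).trans ?_
      calc Nat.card ↥(X ⊔ Y) ≤ Nat.card X * Nat.card Y :=
            (Nat.le_mul_of_pos_right _ Nat.card_pos).trans (SolvBasic.card_sup_mul_card_inf hXn).le
        _ ≤ p * p := Nat.mul_le_mul (hle _) (hle _)
    exact absurd hbound (not_le.2 hidx)
  · -- the commutators lie in the Frattini subgroup
    subst hp2
    obtain ⟨q₀, hq₀, hq₀x⟩ := hxA
    obtain ⟨z, hz, i, hi⟩ := hQ2 u₀ hu₀Z u₀ ⟨q₀, hq₀⟩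
    refine hv₁ (emb_inj ?_)
    rw [← hq₀x]
    refine (hact ⟨q₀, hq₀⟩ u₀ v₁ hu₀).trans ?_
    rw [← commutatorElement_inv, hi, Subgroup.coe_inv, map_inv]
    refine inv_eq_one.2 ?_
    refine (QuotientGroup.eq_one_iff _).2 ?_
    refine Subgroup.mem_map.2 ⟨((⟨((u₀ * z : (Q : Subgroup G)) : G), mul_mem hu₀U (hcenter z hz)⟩ : U) ^ 2) ^ i,
      pow_mem (PGroupBasics.pow_mem_frattini (FittingCores.pCore_isPGroup 2) _) i, rfl⟩

/-- Groups with such a Sylow subgroup have `p`-length one. -/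
theorem pLengthLE_one (hsol : Cfsg.IsPSolvable p G)
    (hQ : ∀ {H : Type u} [Group H] [Finite H] (Q : Sylow p H), Cfsg.IsPSolvable p H →
      (∃ P : Sylow p G, Nonempty ((Q : Subgroup H) ≃* (P : Subgroup G))) →
      Subgroup.center (Q : Subgroup H) = ⊤ ∨ Good p (Q : Subgroup H)) :
    Cfsg.PLengthLE p 1 G := by
  have hn := FittingCores.pPrimeCore_normal (G := G) p
  set f := QuotientGroup.mk' (Cfsg.pPrimeCore p G) with hf
  have hfs : Function.Surjective f := QuotientGroup.mk'_surjective _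
  refine PSeries.pLengthLE_of_ker_coprime f ?_ ?_
  · rw [QuotientGroup.ker_mk']; exact FittingCores.pPrimeCore_coprime p
  set H := G ⧸ Cfsg.pPrimeCore p G
  have hsolH : Cfsg.IsPSolvable p H := PSolvable.quotient _ hsol
  have hOH : Cfsg.pPrimeCore p H = ⊥ := PBasic.pPrimeCore_quotient_pPrimeCore p G
  rw [PSeries.pLengthLE_succ_iff, PSeries.pLengthLE_zero_iff, ← Subgroup.index_eq_card]
  obtain ⟨P⟩ : Nonempty (Sylow p G) := inferInstance
  have hbij : Function.Bijective (f.subgroupMap (P : Subgroup G)) := by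
    refine ⟨?_, f.subgroupMap_surjective _⟩
    rw [injective_iff_map_eq_one]
    intro a ha
    have h1 : (a : G) ∈ Cfsg.pPrimeCore p G := (QuotientGroup.eq_one_iff _).1 (congrArg Subtype.val ha)
    obtain ⟨k, hk⟩ := IsPGroup.iff_orderOf.1 P.isPGroup' a
    exact Subtype.ext (orderOf_eq_one_iff.1 (Nat.eq_one_of_dvd_coprimes
      ((FittingCores.pPrimeCore_coprime (G := G) p).pow_right k)
      (Subgroup.orderOf_dvd_natCard _ h1) (by rw [Subgroup.orderOf_coe, hk])))
  have hle := sylow_le_pCore hsolH hOH (P.mapSurjective hfs) (hQ _ hsolH ⟨P, ⟨(MulEquiv.subgroupCongr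
    (Sylow.coe_mapSurjective hfs P)).trans (MulEquiv.ofBijective _ hbij).symm⟩⟩)
  have hU2 : Cfsg.pCore p H ≤ PSeries.U p H 2 := by
    refine PSeries.le_succ_odd (hX := FittingCores.pCore_normal p) (n := 1) (by decide) ?_
    obtain ⟨m, hm⟩ := (FittingCores.pCore_isPGroup (G := H) p).exists_card_eq
    exact ⟨m, by rw [PSeries.U_one (p := p) (G := H), hOH, Subgroup.relIndex_bot_left, hm]⟩
  refine ((hp.out.coprime_iff_not_dvd).2 fun hd => (P.mapSurjective hfs).not_dvd_index ?_).symm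
  exact hd.trans (Subgroup.index_dvd_of_le (hle.trans hU2))

/-- The properties transport along isomorphisms. -/
theorem center_or_good_of_equiv {A : Type u} {B : Type v} [Group A] [Group B] (e : A ≃* B)
    (h : Subgroup.center B = ⊤ ∨ Good p B) : Subgroup.center A = ⊤ ∨ Good p A := by
  have hc : ∀ a, a ∈ Subgroup.center A ↔ e a ∈ Subgroup.center B := fun a => by
    simp only [Subgroup.mem_center_iff]
    refine ⟨fun h g => ?_, fun h g => e.injective (by rw [map_mul, map_mul, h])⟩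
    rw [← e.apply_symm_apply g, ← map_mul, ← map_mul, h]
  rcases h with h | h
  · exact Or.inl (eq_top_iff.2 fun a _ => (hc a).2 (h ▸ Subgroup.mem_top _))
  right
  refine ⟨fun a b => (hc _).2 (by rw [map_commutatorElement]; exact h.comm_mem _ _),
    fun a => (hc _).2 (by rw [map_pow]; exact h.pow_mem _), fun u hu a b => ?_, ?_⟩
  · obtain ⟨g, hg⟩ := h.surj (e u) (fun h' => hu ((hc u).2 h')) (e a) (e b)
    exact ⟨e.symm g, e.injective (by rw [map_commutatorElement, map_commutatorElement, e.apply_symm_apply, hg])⟩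
  · rcases h.small with h5 | hi | ⟨h2, hs⟩
    · exact Or.inl h5
    · refine Or.inr (Or.inl ?_)
      rw [show Subgroup.center A = (Subgroup.center B).comap e.toMonoidHom from Subgroup.ext hc,
        Subgroup.index_comap_of_surjective _ e.surjective]
      exact hi
    · refine Or.inr (Or.inr ⟨h2, fun u hu a b => ?_⟩)
      obtain ⟨z, hz, i, hi⟩ := hs (e u) (fun h' => hu ((hc u).2 h')) (e a) (e b)
      refine ⟨e.symm z, (hc _).2 (by rwa [e.apply_symm_apply]), i, e.injective ?_⟩
      rw [map_commutatorElement, hi, map_pow, map_pow, map_mul, e.apply_symm_apply]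

/-- The theorem. -/
theorem pLengthLE_one_of_schmidt {X : Type v} [Group X] [Finite X] (hX : Cfsg.IsMinimalNonNilpotent X)
    (P : Sylow p X) (hPn : (P : Subgroup X).Normal) (hP1 : (P : Subgroup X) ≠ ⊥)
    (hG : Cfsg.IsPSolvable p G) (Q : Sylow p G)
    (hQ : Nonempty ((Q : Subgroup G) ≃* (P : Subgroup X))) : Cfsg.PLengthLE p 1 G := by
  obtain ⟨e⟩ := hQ
  obtain ⟨θ, q, hq, hqp, hθq, hθ, hinv⟩ := exists_aut hX P hPn hP1
  have hP : Subgroup.center (P : Subgroup X) = ⊤ ∨ Good p (P : Subgroup X) :=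
    or_iff_not_imp_left.2 fun hab => good_of_aut P.isPGroup' θ hq hqp hθq hθ hinv hab
  refine pLengthLE_one hG fun {H} _ _ S _ ⟨P', ⟨e'⟩⟩ => ?_
  exact center_or_good_of_equiv ((e'.trans (P'.equiv Q)).trans e) hP

end Cfsg.Agent.SchmidtSylow
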