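import Cfsg.Agent.Lib.Solvable.CoprimeFree
import Cfsg.Prelude.Def_Transfer
import Mathlib.Analysis.Complex.Polynomial.Basic

/-! Semiregular cyclic groups of automorphisms of extraspecial groups. -/

set_option autoImplicit false
open scoped commutatorElement

namespace Cfsg.Agent.SemiregularExtraspecial

theorem arith {ι : Type*} (s : Finset ι) (m : ι → ℕ) {h N M : ℕ} (hh : 2 ≤ h) (hs : s.card = h)
    (h1 : ∑ i ∈ s, m i = N) (h2 : ∑ i ∈ s, m i ^ 2 = M + 1) (hN : N * N = h * M + 1) :
    h ∣ N + 1 ∨ h ∣ N - 1 := by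
  have hh0 : (0 : ℤ) < h := by exact_mod_cast (by omega : 0 < h)
  set c : ℤ := (N : ℤ) / h with hc
  set S : ℤ := (N : ℤ) % h with hS
  have hS0 : 0 ≤ S := Int.emod_nonneg _ hh0.ne'
  have hSh : S < h := Int.emod_lt_of_pos _ hh0
  have hNS : (N : ℤ) = h * c + S := (Int.mul_ediv_add_emod _ _).symm
  have e1 : ∑ i ∈ s, ((m i : ℤ) - c) = S := by
    rw [Finset.sum_sub_distrib, ← Nat.cast_sum, h1, Finset.sum_const, hs, nsmul_eq_mul]
    linarith
  have e2 : ∑ i ∈ s, ((m i : ℤ) - c) ^ 2 = (M : ℤ) + 1 - 2 * c * N + h * c ^ 2 := by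
    calc ∑ i ∈ s, ((m i : ℤ) - c) ^ 2
        = ∑ i ∈ s, (((m i : ℤ) ^ 2) - 2 * c * (m i : ℤ) + c ^ 2) :=
          Finset.sum_congr rfl fun i _ => by ring
      _ = _ := by
        rw [Finset.sum_add_distrib, Finset.sum_sub_distrib, ← Finset.mul_sum, ← Nat.cast_sum, h1,
          Finset.sum_const, hs, nsmul_eq_mul]
        have : ((∑ i ∈ s, m i ^ 2 : ℕ) : ℤ) = (M : ℤ) + 1 := by rw [h2]; push_cast; ring
        push_cast at this
        rw [this]
  have hNZ : (N : ℤ) * N = h * M + 1 := by exact_mod_cast hN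
  have e3 : (h : ℤ) * ∑ i ∈ s, ((m i : ℤ) - c) ^ 2 = S ^ 2 + h - 1 := by
    rw [e2]
    linear_combination -hNZ + ((N : ℤ) + S - h * c) * hNS
  have hle : S ≤ ∑ i ∈ s, ((m i : ℤ) - c) ^ 2 := by
    rw [← e1]
    exact Finset.sum_le_sum fun i _ => Int.le_self_sq _
  have key : (h : ℤ) * S ≤ S ^ 2 + h - 1 := e3 ▸ mul_le_mul_of_nonneg_left hle hh0.le
  rcases (by
    by_contra hcon
    push Not at hcon
    nlinarith : S ≤ 1 ∨ (h : ℤ) - 1 ≤ S) with hs1 | hs1
  · rcases (by omega : S = 0 ∨ S = 1) with hs0 | hs0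
    · exfalso
      have hd : (h : ℤ) ∣ (h : ℤ) - 1 := ⟨_, (by rw [e3, hs0]; ring : (h : ℤ) * _ = (h : ℤ) - 1).symm⟩
      have := Int.le_of_dvd (by omega) hd
      omega
    · right
      have hN1 : 1 ≤ N := by
        rcases Nat.eq_zero_or_pos N with h0 | h0
        · subst h0; simp at hN
        · exact h0
      rw [← Int.natCast_dvd_natCast, Nat.cast_sub hN1]
      exact ⟨c, by rw [hNS, hs0]; push_cast; ring⟩
  · left
    rw [← Int.natCast_dvd_natCast]
    exact ⟨c + 1, by push_cast; rw [hNS, show S = (h : ℤ) - 1 by omega]; ring⟩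

theorem main {P : Type*} [Group P] [Finite P] {p n h : ℕ} [hp : Fact p.Prime]
    (hP : Cfsg.IsExtraspecial p P) (hn : Nat.card P = p ^ (2 * n + 1)) (hh : 2 ≤ h) (θ : MulAut P)
    (hθ : θ ^ h = 1) (hcop : h.Coprime p)
    (hfix : ∀ i, 0 < i → i < h → ∀ t, (θ ^ i) t = t ↔ t ∈ Subgroup.center P) :
    h ∣ p ^ n + 1 ∨ h ∣ p ^ n - 1 := by
  classical
  obtain ⟨⟨hPp, -, hcomm⟩, hZ⟩ := hP
  have hZfix : ∀ t ∈ Subgroup.center P, θ t = t := fun t ht => by
    have := (hfix 1 one_pos (by omega) t).2 ht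
    rwa [pow_one] at this
  have hfree : ∀ t, t ∉ Subgroup.center P → ∀ i, 0 < i → i < h →
      ((θ ^ i) t) * t⁻¹ ∉ Subgroup.center P := by
    intro t ht i hi hih hmem
    set z := (θ ^ i) t * t⁻¹ with hz
    have hzf : (θ ^ i) z = z := (hfix i hi hih z).2 hmem
    have hit : ∀ k : ℕ, ((θ ^ i) ^ k) t = z ^ k * t := by
      intro k
      induction k with
      | zero => simp
      | succ k ih =>
        rw [pow_succ' (θ ^ i), MulAut.mul_apply, ih, map_mul, map_pow, hzf, pow_succ z, mul_assoc,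
          hz, inv_mul_cancel_right]
    have hzh := hit h
    rw [← pow_mul, mul_comm, pow_mul, hθ, one_pow, MulAut.one_apply] at hzh
    have hz1 : z ^ h = 1 := mul_right_cancel (hzh.symm.trans (one_mul t).symm)
    obtain ⟨k, hk⟩ := hPp z
    have : z = 1 := orderOf_eq_one_iff.1 (Nat.eq_one_of_dvd_coprimes (hcop.pow_right k)
      (orderOf_dvd_of_pow_eq_one hz1) (orderOf_dvd_of_pow_eq_one hk))
    exact ht ((hfix i hi hih t).1 (mul_inv_eq_one.1 this))
  let K := ℂ
  have hne : (h : ℂ) ≠ 0 := Nat.cast_ne_zero.2 (by omega)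
  let τ : P →* Module.End ℂ (P → ℂ) :=
    { toFun := fun t => LinearMap.funLeft ℂ ℂ fun u => t⁻¹ * u
      map_one' := LinearMap.ext fun f => funext fun u => by simp [LinearMap.funLeft_apply]
      map_mul' := fun a b => LinearMap.ext fun f => funext fun u => by
        simp [LinearMap.funLeft_apply, mul_assoc] }
  have hτ : Function.Injective τ := fun a b hab => by
    have := congrArg (fun F : Module.End ℂ (P → ℂ) => F (Pi.single 1 1) a) hab
    simp [τ, LinearMap.funLeft_apply, Pi.single_apply] at this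
    exact (inv_mul_eq_one.1 this).symm
  let T : Module.End ℂ (P → ℂ) := LinearMap.funLeft ℂ ℂ θ.symm
  have hTk : ∀ (k : ℕ) f u, (T ^ k) f u = f ((θ ^ k).symm u) := by
    intro k
    induction k with
    | zero => intro f u; rfl
    | succ k ih =>
      intro f u
      rw [pow_succ' T, Module.End.mul_apply]
      change (T ^ k) f (θ.symm u) = _
      rw [ih, pow_succ' θ]
      rfl
  have hab : ∃ a b : P, a * b ≠ b * a := by
    by_contra hcon
    push Not at hcon
    have hbot : commutator P = ⊥ := by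
      rw [commutator_def, Subgroup.commutator_eq_bot_iff_le_centralizer]
      exact fun a _ => Subgroup.mem_centralizer_iff.2 fun b _ => hcon b a
    rw [← hcomm, hbot, Subgroup.card_bot] at hZ
    exact hp.out.one_lt.ne hZ
  obtain ⟨ω, m, N, M, hω, -, -, hNS, hNM, hm1, hm2, -⟩ :=
    CoprimeFree.special_count (K := ℂ) hh hne (Nat.cast_ne_zero.2 Nat.card_pos.ne') τ hτ T θ hθ
      (LinearMap.ext fun f => funext fun u => by rw [hTk, hθ]; rfl)
      (fun t => LinearMap.ext fun f => funext fun u => by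
        change f (t⁻¹ * θ.symm u) = f (θ.symm ((θ t)⁻¹ * u))
        rw [map_mul, map_inv, θ.symm_apply_apply])
      hab (fun u t => hcomm ▸ Subgroup.commutator_mem_commutator (Subgroup.mem_top u) (Subgroup.mem_top t))
      hZfix hfree (fun L _ _ hne => by
        have hle : ⁅L, (⊤ : Subgroup P)⁆ ≤ Subgroup.center P :=
          hcomm ▸ (Subgroup.commutator_mono le_top le_rfl).trans (le_of_eq (commutator_def P).symm)
        have hbot : ⁅L, (⊤ : Subgroup P)⁆ = ⊥ := by
          have : Fact (Nat.card (Subgroup.center P)).Prime := ⟨hZ.symm ▸ hp.out⟩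
          rcases ((⁅L, (⊤ : Subgroup P)⁆).subgroupOf (Subgroup.center P)).eq_bot_or_eq_top_of_prime_card
            with hb | hb
          · rw [Subgroup.subgroupOf_eq_bot] at hb
            exact disjoint_self.1 (hb.mono_right hle)
          · exact absurd ((le_antisymm hle (Subgroup.subgroupOf_eq_top.1 hb)).trans hcomm.symm) hne
        rw [Subgroup.commutator_eq_bot_iff_le_centralizer] at hbot
        intro s hs
        exact Subgroup.mem_center_iff.2 fun u => Subgroup.mem_centralizer_iff.1 (hbot hs) u trivial)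
  have hidx : (Subgroup.center P).index = (p ^ n) * (p ^ n) := by
    have h := Subgroup.card_mul_index (Subgroup.center P)
    rw [hZ, hn, pow_succ'] at h
    rw [← pow_add, ← two_mul]
    exact Nat.eq_of_mul_eq_mul_left hp.out.pos h
  rw [hidx] at hNS
  rw [← Nat.mul_self_inj.1 hNS]
  exact arith ω m hh hω hm1 hm2 hNM

end Cfsg.Agent.SemiregularExtraspecial
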