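import Cfsg.Agent.Lib.Solvable.ClassGraph
import Cfsg.Agent.Lib.Solvable.Huppert
import Cfsg.Agent.Lib.Solvable.Primitive
import Cfsg.Agent.Lib.Transfer.Fusion

/-!
A group in which two conjugate `p`-elements, conjugate by a `q`-element, never generate a subgroup
of order divisible by `q ^ 2` is supersolvable.
-/

set_option autoImplicit false
set_option linter.style.haveILetI false
set_option linter.unusedSectionVars false

open scoped commutatorElement Pointwise

universe u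

namespace Cfsg.Agent.SqfPair

/-- The hypothesis. -/
def Hyp (G : Type u) [Group G] : Prop :=
  ∀ (p q : ℕ), p.Prime → q.Prime → p ≠ q → ∀ (x g : G), (∃ a : ℕ, orderOf x = p ^ a) →
    (∃ b : ℕ, orderOf g = q ^ b) →
    ¬ q ^ 2 ∣ Nat.card ↥(Subgroup.zpowers x ⊔ Subgroup.zpowers (g * x * g⁻¹))

variable {G : Type u} [Group G]

theorem hyp_subgroup (h : Hyp G) (H : Subgroup G) : Hyp H := by
  intro p q hp hq hne x g hx hg hd
  refine h p q hp hq hne x g (by simpa [Subgroup.orderOf_coe] using hx) (by simpa [Subgroup.orderOf_coe] using hg) ?_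
  have e : Subgroup.zpowers (x : G) ⊔ Subgroup.zpowers ((g : G) * x * (g : G)⁻¹) =
      (Subgroup.zpowers x ⊔ Subgroup.zpowers (g * x * g⁻¹)).map H.subtype := by
    rw [Subgroup.map_sup, MonoidHom.map_zpowers, MonoidHom.map_zpowers]
    rfl
  rw [e, Nat.card_congr ((Subgroup.zpowers x ⊔ Subgroup.zpowers (g * x * g⁻¹)).equivMapOfInjective _ H.subtype_injective).toEquiv.symm]
  exact hd

variable [Finite G]

theorem exists_lift {N : Subgroup G} [N.Normal] {p a : ℕ} (hp : p.Prime) {x : G ⧸ N} (hx : orderOf x = p ^ a) :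
    ∃ y : G, QuotientGroup.mk' N y = x ∧ ∃ b, orderOf y = p ^ b := by
  obtain ⟨y, rfl⟩ := QuotientGroup.mk'_surjective N x
  obtain ⟨e, m, hm, he⟩ : ∃ e m : ℕ, ¬ p ∣ m ∧ orderOf y = p ^ e * m :=
    ⟨_, _, Nat.not_dvd_ordCompl hp (orderOf_pos y).ne', (Nat.ordProj_mul_ordCompl_eq_self _ p).symm⟩
  obtain ⟨t, ht⟩ := exists_pow_eq_self_of_coprime (x := QuotientGroup.mk' N y) (n := m) (by
    rw [hx]; exact (Nat.Coprime.pow_left a (hp.coprime_iff_not_dvd.2 hm)).symm)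
  refine ⟨(y ^ m) ^ t, by rw [map_pow, map_pow]; exact ht, ?_⟩
  obtain ⟨b, -, hb⟩ := (Nat.dvd_prime_pow hp).1 (orderOf_dvd_of_pow_eq_one (show ((y ^ m) ^ t) ^ p ^ e = 1 by
    rw [← pow_mul, ← pow_mul, show m * (t * p ^ e) = p ^ e * m * t by ring, ← he, pow_mul, pow_orderOf_eq_one, one_pow]))
  exact ⟨b, hb⟩

theorem hyp_quotient (h : Hyp G) (N : Subgroup G) [N.Normal] : Hyp (G ⧸ N) := by
  rintro p q hp hq hne x g ⟨a, ha⟩ ⟨b, hb⟩ hd
  obtain ⟨y, rfl, hy⟩ := exists_lift hp ha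
  obtain ⟨z, rfl, hz⟩ := exists_lift hq hb
  refine h p q hp hq hne y z hy hz (hd.trans ?_)
  have e : Subgroup.zpowers (QuotientGroup.mk' N y) ⊔
      Subgroup.zpowers (QuotientGroup.mk' N z * QuotientGroup.mk' N y * (QuotientGroup.mk' N z)⁻¹) =
      (Subgroup.zpowers y ⊔ Subgroup.zpowers (z * y * z⁻¹)).map (QuotientGroup.mk' N) := by
    rw [Subgroup.map_sup, MonoidHom.map_zpowers, MonoidHom.map_zpowers, map_mul, map_mul, map_inv]
  rw [e]
  exact Subgroup.card_map_dvd _ _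

/-- Groups all of whose proper subgroups are supersolvable are solvable. -/
theorem isSolvable_of_proper (h : ∀ H : Subgroup G, H ≠ ⊤ → Cfsg.IsSupersolvable H) :
    Group.IsSolvable G := by
  classical
  rcases subsingleton_or_nontrivial G with hG | hG
  · infer_instance
  set p := (Nat.card G).minFac with hpdef
  have hp : p.Prime := Nat.minFac_prime (by have := Finite.one_lt_card (α := G); omega)
  haveI := Fact.mk hp
  by_contra hns
  have hcomp : Cfsg.HasNormalPComplement p G := by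
    refine Fusion.hasNormalPComplement_of_frobenius fun D hD g hg hgo => ?_
    refine ((Subgroup.closure_le _).2 ?_) (ClassGraph.mem_closure_primePow g)
    rintro x ⟨hxg, q, k, hq, hxo⟩
    haveI := Fact.mk hq
    rcases Nat.eq_zero_or_pos k with rfl | hk
    · rw [pow_zero, orderOf_eq_one_iff] at hxo
      rw [hxo]; exact one_mem _
    have hxN : x ∈ Subgroup.normalizer (D : Set G) := (Subgroup.zpowers_le.2 hg) hxg
    have hxd : orderOf x ∣ orderOf g := orderOf_dvd_of_mem_zpowers hxg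
    have hqp : q ≠ p := fun e => by
      subst e
      exact hq.ne_one (Nat.eq_one_of_dvd_coprimes hgo ((dvd_pow_self p hk.ne').trans (hxo ▸ hxd)) dvd_rfl)
    have hpq : p ≤ q := Nat.minFac_le_of_dvd hq.two_le ((dvd_pow_self q hk.ne').trans (hxo ▸ orderOf_dvd_natCard x))
    set T := D ⊔ Subgroup.zpowers x with hT
    have hzn : Subgroup.zpowers x ≤ Subgroup.normalizer (D : Set G) := Subgroup.zpowers_le.2 hxN
    by_cases htop : T = ⊤
    · -- then `G` would be solvable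
      exfalso
      refine hns ?_
      haveI hDn : D.Normal := by
        rw [← Subgroup.normalizer_eq_top_iff, eq_top_iff, ← htop]
        exact sup_le Subgroup.le_normalizer hzn
      haveI : Group.IsNilpotent D := hD.isNilpotent
      haveI : Group.IsSolvable (G ⧸ D) := by
        have hc : IsCyclic (G ⧸ D) := by
          refine ⟨⟨QuotientGroup.mk' D x, fun w => ?_⟩⟩
          obtain ⟨w, rfl⟩ := QuotientGroup.mk'_surjective D w
          obtain ⟨d, hd, z, hz, rfl⟩ := (SolvBasic.mem_sup_iff_of_le_normalizer hzn).1 (htop.ge (Subgroup.mem_top w))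
          rw [map_mul, show QuotientGroup.mk' D d = 1 from (QuotientGroup.eq_one_iff d).2 hd, one_mul]
          obtain ⟨i, rfl⟩ := Subgroup.mem_zpowers_iff.1 hz
          exact ⟨i, (map_zpow _ _ _).symm⟩
        infer_instance
      exact Group.isSolvable_of_ker_le_range D.subtype (QuotientGroup.mk' D)
        (by rw [QuotientGroup.ker_mk', Subgroup.range_subtype])
    have hTs := h T htop
    -- the Sylow `q`-subgroup of `T` is normal
    set Q := (Subgroup.zpowers x).subgroupOf T with hQ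
    have hxT : Subgroup.zpowers x ≤ T := le_sup_right
    have hinf : D ⊓ Subgroup.zpowers x = ⊥ :=
      PBasic.inf_eq_bot_of_coprime (p := p) (by
        rw [Nat.card_zpowers, hxo]
        exact Nat.Coprime.pow_left k ((Nat.coprime_primes hq hp).2 hqp)) hD |> (inf_comm D _).trans
    obtain ⟨j, hj⟩ := hD.exists_card_eq
    have hTc : Nat.card T = p ^ j * q ^ k := by
      rw [hT, SolvBasic.card_sup_of_inf_eq_bot hzn hinf, hj, Nat.card_zpowers, hxo]
    have hQc : Nat.card Q = q ^ k := by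
      rw [hQ, Nat.card_congr (Subgroup.subgroupOfEquivOfLe hxT).toEquiv, Nat.card_zpowers, hxo]
    have hQi : Q.index = p ^ j := by
      have := Q.index_mul_card
      rw [hQc, hTc] at this
      exact Nat.eq_of_mul_eq_mul_right (pow_pos hq.pos k) this
    obtain ⟨S, hS⟩ : ∃ S : Sylow q T, (S : Subgroup T) = Q := by
      obtain ⟨S, hS⟩ := (IsPGroup.of_card hQc : IsPGroup q Q).exists_le_sylow
      refine ⟨S, (le_antisymm hS ?_).symm⟩
      rw [← Subgroup.relIndex_eq_one]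
      obtain ⟨i, hi⟩ := S.isPGroup'.exists_card_eq
      refine Nat.eq_one_of_dvd_coprimes (Nat.coprime_pow_primes i j hq hp hqp) (hi ▸ Subgroup.relIndex_dvd_card _ _)
        (hQi ▸ Subgroup.relIndex_dvd_index_of_le hS)
    have hQn : Q.Normal := hS ▸ SupSolv.sylow_normal_of_max hTs q (fun s hs hd => by
      rw [hTc] at hd
      rcases hs.dvd_mul.1 hd with h' | h'
      · exact ((Nat.prime_dvd_prime_iff_eq hs hp).1 (hs.dvd_of_dvd_pow h')).le.trans hpq
      · exact ((Nat.prime_dvd_prime_iff_eq hs hq).1 (hs.dvd_of_dvd_pow h')).le) S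
    refine Subgroup.mem_centralizer_iff.2 fun d hd => ?_
    have h1 : (⟨d, Subgroup.mem_sup_left hd⟩ : T) * ⟨x, Subgroup.mem_sup_right (Subgroup.mem_zpowers x)⟩ *
        (⟨d, Subgroup.mem_sup_left hd⟩ : T)⁻¹ ∈ Q := hQn.conj_mem _ (Subgroup.mem_zpowers x) _
    have h2 : d * x * d⁻¹ * x⁻¹ ∈ D ⊓ Subgroup.zpowers x := by
      refine ⟨?_, (Subgroup.zpowers x).mul_mem h1 ((Subgroup.zpowers x).inv_mem (Subgroup.mem_zpowers x))⟩
      rw [show d * x * d⁻¹ * x⁻¹ = d * (x * d⁻¹ * x⁻¹) by group]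
      exact mul_mem hd ((Subgroup.mem_normalizer_iff.1 hxN _).1 (inv_mem hd))
    rw [hinf, Subgroup.mem_bot, mul_inv_eq_one, mul_inv_eq_iff_eq_mul] at h2
    exact h2
  obtain ⟨P, K, hKn, hK⟩ := hcomp
  haveI := hKn
  have hKtop : K ≠ ⊤ := fun hk => by
    subst hk
    have h1 : (P : Subgroup G) = ⊥ := Subgroup.isComplement'_top_left.1 hK
    exact P.ne_bot_of_dvd_card (Nat.minFac_dvd _) h1
  haveI : Group.IsSolvable K := SupSolv.isSolvable (h K hKtop)
  haveI : Group.IsNilpotent (G ⧸ K) := (P.isPGroup'.of_equiv hK.symm.QuotientMulEquiv.symm).isNilpotent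
  exact hns (Group.isSolvable_of_ker_le_range K.subtype (QuotientGroup.mk' K)
    (by rw [QuotientGroup.ker_mk', Subgroup.range_subtype]))

section Action

variable {N M : Subgroup G} [N.Normal] [IsMulCommutative N] {r : ℕ}

/-- The map `g ↦ g * (a * g * a⁻¹)⁻¹` on `N`. -/
def delta (a g : G) : G := g * a * g⁻¹ * a⁻¹

theorem delta_mem (a : G) {g : G} (hg : g ∈ N) : delta a g ∈ N := by
  rw [delta, show g * a * g⁻¹ * a⁻¹ = g * (a * g⁻¹ * a⁻¹) by group]
  exact mul_mem hg (‹N.Normal›.conj_mem _ (inv_mem hg) a)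

theorem delta_mul (a : G) {g h : G} (hg : g ∈ N) (hh : h ∈ N) :
    delta a (g * h) = delta a g * delta a h := by
  have e := setLike_mul_comm hg (delta_mem a hh)
  have e2 := setLike_mul_comm (delta_mem a hh) (‹N.Normal›.conj_mem _ (inv_mem hg) a)
  calc delta a (g * h) = g * delta a h * (a * g⁻¹ * a⁻¹) := by simp only [delta]; group
    _ = g * (a * g⁻¹ * a⁻¹) * delta a h := by rw [mul_assoc, e2, mul_assoc g]
    _ = delta a g * delta a h := by simp only [delta]; group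

/-- The image of `delta`. -/
def image (N : Subgroup G) [N.Normal] [IsMulCommutative N] (a : G) : Subgroup G :=
  ((MonoidHom.mk' (fun g : N => delta a (g : G)) (fun g h => delta_mul a g.2 h.2) : N →* G)).range

theorem mem_image {a w : G} : w ∈ image N a ↔ ∃ g ∈ N, delta a g = w :=
  ⟨fun ⟨g, hg⟩ => ⟨g, g.2, hg⟩, fun ⟨g, hg, h⟩ => ⟨⟨g, hg⟩, h⟩⟩

theorem image_le {a : G} : image N a ≤ N := fun _ hw => by
  obtain ⟨g, hg, rfl⟩ := mem_image.1 hw
  exact delta_mem a hg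

/-- `x` multiplies each element of its image by one exponent. -/
theorem exponent_on_image (hexp : ∀ v ∈ N, v ^ r = 1) (hr : r.Prime) (hyp : Hyp G) {p : ℕ} (hp : p.Prime)
    (hpr : p ≠ r) {x : G} (hx : ∃ k, orderOf x = p ^ k) :
    ∃ n : ℤ, ∀ w ∈ image N x, x * w * x⁻¹ = w ^ n := by
  have hord : ∀ w ∈ N, w ≠ 1 → orderOf w = r := fun w hw hw1 => by
    haveI := Fact.mk hr
    exact orderOf_eq_prime (hexp w hw) hw1
  have hloc : ∀ w ∈ image N x, x * w * x⁻¹ ∈ Subgroup.zpowers w := by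
    intro w hw
    obtain ⟨g, hg, rfl⟩ := mem_image.1 hw
    by_contra hne
    set c := delta x g with hc
    set c' := x * c * x⁻¹ with hc'
    have hcN : c ∈ N := delta_mem x hg
    have hc'N : c' ∈ N := ‹N.Normal›.conj_mem c hcN x
    have hc1 : c ≠ 1 := fun h => hne (by rw [hc', h, mul_one, mul_inv_cancel]; exact one_mem _)
    have hc'1 : c' ≠ 1 := fun h => hne (h ▸ one_mem _)
    haveI := Fact.mk hr
    have hinf : Subgroup.zpowers c ⊓ Subgroup.zpowers c' = ⊥ := by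
      haveI : Fact (Nat.card (Subgroup.zpowers c')).Prime := ⟨by rw [Nat.card_zpowers, hord c' hc'N hc'1]; exact hr⟩
      rcases Subgroup.eq_bot_or_eq_top_of_prime_card ((Subgroup.zpowers c ⊓ Subgroup.zpowers c').subgroupOf (Subgroup.zpowers c')) with h | h
      · rw [Subgroup.subgroupOf_eq_bot, disjoint_iff, inf_assoc, inf_idem] at h
        exact h
      · rw [Subgroup.subgroupOf_eq_top] at h
        exact absurd ((h.trans inf_le_left) (Subgroup.mem_zpowers c')) hne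
    have hcard : Nat.card ↥(Subgroup.zpowers c ⊔ Subgroup.zpowers c') = r * r := by
      rw [SolvBasic.card_sup_of_inf_eq_bot _ hinf, Nat.card_zpowers, Nat.card_zpowers, hord c hcN hc1, hord c' hc'N hc'1]
      refine Subgroup.zpowers_le.2 (Subgroup.mem_normalizer_iff.2 fun w => ?_)
      constructor
      · intro hw'
        have : w ∈ N := Subgroup.zpowers_le.2 hcN hw'
        rwa [setLike_mul_comm hc'N this, mul_inv_cancel_right]
      · intro hw'
        have : c' * w * c'⁻¹ ∈ N := Subgroup.zpowers_le.2 hcN hw'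
        have hwN : w ∈ N := by
          have := ‹N.Normal›.conj_mem _ this c'⁻¹
          simpa [mul_assoc] using this
        rwa [setLike_mul_comm hc'N hwN, mul_inv_cancel_right] at hw'
    refine hyp p r hp hr hpr x g hx ?_ ?_
    · obtain ⟨j, -, hj⟩ := (Nat.dvd_prime_pow hr).1 (show orderOf g ∣ r ^ 1 by
        rw [pow_one]; exact orderOf_dvd_of_pow_eq_one (hexp g hg))
      exact ⟨j, hj⟩
    · rw [pow_two, ← hcard]
      set X := Subgroup.zpowers x ⊔ Subgroup.zpowers (g * x * g⁻¹)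
      have h1 : x ∈ X := Subgroup.mem_sup_left (Subgroup.mem_zpowers x)
      have h2 : c ∈ X := mul_mem (Subgroup.mem_sup_right (Subgroup.mem_zpowers _)) (inv_mem h1)
      refine Subgroup.card_dvd_of_le (sup_le (Subgroup.zpowers_le.2 h2) (Subgroup.zpowers_le.2 ?_))
      exact mul_mem (mul_mem h1 h2) (inv_mem h1)
  -- one exponent for all
  by_cases hW : image N x = ⊥
  · exact ⟨1, fun w hw => by rw [hW, Subgroup.mem_bot] at hw; rw [hw]; simp⟩
  obtain ⟨⟨v, hv⟩, hv1⟩ := (Subgroup.ne_bot_iff_exists_ne_one).1 hW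
  have hv1' : v ≠ 1 := fun h => hv1 (Subtype.ext h)
  obtain ⟨n, hn⟩ := Subgroup.mem_zpowers_iff.1 (hloc v hv)
  have hdvd : ∀ w ∈ N, w ≠ 1 → ∀ i : ℤ, w ^ i = 1 → (r : ℤ) ∣ i := fun w hw hw1 i hi => by
    rw [← hord w hw hw1]; exact orderOf_dvd_iff_zpow_eq_one.2 hi
  have hkill : ∀ w ∈ N, ∀ i : ℤ, (r : ℤ) ∣ i → w ^ i = 1 := fun w hw i hi => by
    obtain ⟨t, rfl⟩ := hi
    rw [zpow_mul, zpow_natCast, hexp w hw, one_zpow]
  refine ⟨n, fun w hw => ?_⟩
  obtain ⟨m, hm⟩ := Subgroup.mem_zpowers_iff.1 (hloc w hw)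
  by_cases hwv : w ∈ Subgroup.zpowers v
  · obtain ⟨i, rfl⟩ := Subgroup.mem_zpowers_iff.1 hwv
    rw [← conj_zpow, ← hn, ← zpow_mul, ← zpow_mul, mul_comm]
  obtain ⟨l, hl⟩ := Subgroup.mem_zpowers_iff.1 (hloc (v * w) (mul_mem hv hw))
  have hvw : Commute v w := setLike_mul_comm (image_le hv) (image_le hw)
  rw [hvw.mul_zpow] at hl
  have e : v ^ n * w ^ m = v ^ l * w ^ l := by
    rw [hn, hm, hl]; group
  have e2 : v ^ (n - l) = w ^ (l - m) := by
    calc v ^ (n - l) = (v ^ l)⁻¹ * (v ^ n * w ^ m) * (w ^ m)⁻¹ := by group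
      _ = w ^ (l - m) := by rw [e]; group
  have hlm : (r : ℤ) ∣ l - m := by
    by_contra hnd
    -- `w` is then a power of `v`
    refine hwv ?_
    have hcop : IsCoprime (r : ℤ) (l - m) := ((Nat.prime_iff_prime_int.1 hr).coprime_iff_not_dvd).2 hnd
    obtain ⟨a, b, hab⟩ := hcop
    have : w = (v ^ (n - l)) ^ b := by
      rw [e2, ← zpow_mul, show (l - m) * b = 1 - a * r by rw [← hab]; ring, zpow_sub, zpow_one,
        hkill w (image_le hw) (a * r) (Dvd.intro_left a rfl), inv_one, mul_one]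
    rw [this]
    exact zpow_mem (zpow_mem (Subgroup.mem_zpowers v) _) _
  have hnl : (r : ℤ) ∣ n - l := hdvd v (image_le hv) hv1' _ (by rw [e2, hkill w (image_le hw) _ hlm])
  have hnm : (r : ℤ) ∣ n - m := by
    rw [show n - m = (n - l) + (l - m) by ring]; exact dvd_add hnl hlm
  rw [← hm, show n = m + (n - m) by ring, zpow_add, hkill w (image_le hw) _ hnm, mul_one]

theorem eq_one_of_fixed_pow (hexp : ∀ v ∈ N, v ^ r = 1) (hr : r.Prime) {p : ℕ} (hp : p.Prime) (hpr : p ≠ r)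
    {x : G} {k : ℕ} (hx : orderOf x = p ^ k) {g : G} (hg : g ∈ N)
    (hfix : x * delta x g * x⁻¹ = delta x g) : delta x g = 1 := by
  have hd : ∀ i : ℕ, g * x ^ i * g⁻¹ = delta x g ^ i * x ^ i := by
    intro i
    induction i with
    | zero => simp
    | succ i ih =>
      have hc : Commute x (delta x g) := mul_inv_eq_iff_eq_mul.1 hfix
      calc g * x ^ (i + 1) * g⁻¹ = (g * x ^ i * g⁻¹) * (g * x * g⁻¹) := by rw [pow_succ]; group
        _ = delta x g ^ i * x ^ i * (delta x g * x) := by rw [ih]; simp only [delta]; group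
        _ = delta x g ^ i * (x ^ i * delta x g) * x := by group
        _ = delta x g ^ i * (delta x g * x ^ i) * x := by rw [(hc.pow_left i).eq]
        _ = _ := by rw [pow_succ, pow_succ]; group
  have h1 := hd (p ^ k)
  rw [show x ^ p ^ k = 1 by rw [← hx, pow_orderOf_eq_one], mul_one, mul_one, mul_inv_cancel] at h1
  rw [← orderOf_eq_one_iff]
  exact Nat.eq_one_of_dvd_coprimes (Nat.Coprime.pow_left k ((Nat.coprime_primes hp hr).2 hpr))
    (orderOf_dvd_of_pow_eq_one h1.symm) (orderOf_dvd_of_pow_eq_one (hexp _ (delta_mem x hg)))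

/-- The irreducible supersolvable linear groups allowed by the hypothesis are scalar. -/
theorem linear_case (hexp : ∀ v ∈ N, v ^ r = 1) (hr : r.Prime) (hyp : Hyp G) (hM : Cfsg.IsSupersolvable M)
    (hcent : ∀ m ∈ M, (∀ g ∈ N, m * g * m⁻¹ = g) → m = 1)
    (hirr : ∀ W ≤ N, (∀ m ∈ M, ∀ w ∈ W, m * w * m⁻¹ ∈ W) → W = ⊥ ∨ W = N) :
    ∀ m ∈ M, ∃ n : ℤ, ∀ g ∈ N, m * g * m⁻¹ = g ^ n := by
  classical
  haveI := Fact.mk hr
  have hord : ∀ w ∈ N, w ≠ 1 → orderOf w = r := fun w hw hw1 => orderOf_eq_prime (hexp w hw) hw1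
  have hkill : ∀ w ∈ N, ∀ i : ℤ, (r : ℤ) ∣ i → w ^ i = 1 := fun w hw i hi => by
    obtain ⟨t, rfl⟩ := hi
    rw [zpow_mul, zpow_natCast, hexp w hw, one_zpow]
  have hdvd : ∀ w ∈ N, w ≠ 1 → ∀ i : ℤ, w ^ i = 1 → (r : ℤ) ∣ i := fun w hw hw1 i hi => by
    rw [← hord w hw hw1]; exact orderOf_dvd_iff_zpow_eq_one.2 hi
  -- images of powers
  have hpowimg : ∀ a : G, ∀ i : ℕ, image N (a ^ i) ≤ image N a := by
    intro a i w hw
    obtain ⟨g, hg, rfl⟩ := mem_image.1 hw
    induction i with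
    | zero => simp [delta]
    | succ i ih =>
      have hconj : a * delta (a ^ i) g * a⁻¹ = delta a (delta (a ^ i) g)⁻¹ * delta (a ^ i) g := by
        have hN := delta_mem (a ^ i) hg
        have e := setLike_mul_comm (inv_mem hN) (‹N.Normal›.conj_mem _ hN a)
        simp only [delta] at e ⊢
        rw [inv_inv]
        rw [show ∀ d : G, d⁻¹ * a * d * a⁻¹ * d = d⁻¹ * (a * d * a⁻¹) * d from fun d => by group, e]
        group
      have h1 : delta (a ^ (i + 1)) g = delta a g * (a * delta (a ^ i) g * a⁻¹) := by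
        simp only [delta, pow_succ']; group
      rw [h1, hconj]
      exact mul_mem (mem_image.2 ⟨g, hg, rfl⟩)
        (mul_mem (mem_image.2 ⟨_, inv_mem (delta_mem _ hg), rfl⟩) (ih (mem_image.2 ⟨g, hg, rfl⟩)))
  -- a normal subgroup of prime order is scalar
  have hprimescalar : ∀ y ∈ M, (orderOf y).Prime → (∀ m ∈ M, m * y * m⁻¹ ∈ Subgroup.zpowers y) →
      ∃ n : ℤ, ∀ g ∈ N, y * g * y⁻¹ = g ^ n := by
    intro y hyM hyp' hyn
    have hWinv : ∀ m ∈ M, ∀ w ∈ image N y, m * w * m⁻¹ ∈ image N y := by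
      intro m hm w hw
      obtain ⟨g, hg, rfl⟩ := mem_image.1 hw
      obtain ⟨i, hi⟩ := mem_powers_iff_mem_zpowers.2 (hyn m hm)
      have hi' : y ^ i = m * y * m⁻¹ := hi
      have e : m * delta y g * m⁻¹ = delta (y ^ i) (m * g * m⁻¹) := by
        rw [hi']; simp only [delta]; group
      rw [e]
      exact hpowimg y i (mem_image.2 ⟨_, ‹N.Normal›.conj_mem g hg m, rfl⟩)
    rcases hirr _ image_le hWinv with h | h
    · refine ⟨1, fun g hg => ?_⟩
      have : delta y g = 1 := by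
        rw [← Subgroup.mem_bot, ← h]; exact mem_image.2 ⟨g, hg, rfl⟩
      rw [zpow_one]
      rw [delta, mul_inv_eq_one, mul_inv_eq_iff_eq_mul] at this
      rw [← this, mul_inv_cancel_right]
    · by_cases hyr : orderOf y = r
      · -- then `y` has a nontrivial fixed point, so `delta` is not onto
        exfalso
        let δ : N → N := fun g => ⟨delta y g, delta_mem y g.2⟩
        have hδs : Function.Surjective δ := fun w => by
          obtain ⟨g, hg, hgw⟩ := mem_image.1 (h.ge w.2)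
          exact ⟨⟨g, hg⟩, Subtype.ext hgw⟩
        have hδi := (Finite.injective_iff_surjective.2 hδs)
        have hY : IsPGroup r (Subgroup.zpowers y) := IsPGroup.of_card (n := 1) (by rw [Nat.card_zpowers, hyr, pow_one])
        letI act : MulAction (Subgroup.zpowers y) N :=
          MulAction.compHom N ((MulAut.conjNormal (H := N)).comp (Subgroup.zpowers y).subtype)
        have hNr : r ∣ Nat.card N := by
          by_contra hnd
          have hN1 : ∀ g ∈ N, g = 1 := fun g hg => by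
            by_contra hg1
            exact hnd (hord g hg hg1 ▸ Subgroup.orderOf_dvd_natCard N hg)
          exact hyp'.ne_one (orderOf_eq_one_iff.2 (hcent y hyM fun g hg => by rw [hN1 g hg]; simp))
        obtain ⟨v, hv, hv1⟩ := hY.exists_fixed_point_of_prime_dvd_card_of_fixed_point N hNr (a := 1)
          (fun g => map_one (MulAut.conjNormal (H := N) (g : G)))
        have hc : y * (v : G) * y⁻¹ = v := congrArg Subtype.val (hv ⟨y, Subgroup.mem_zpowers _⟩)
        refine hv1.symm (hδi (a₂ := 1) (Subtype.ext ?_))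
        show delta y v = delta y (1 : N)
        rw [mul_inv_eq_iff_eq_mul] at hc
        simp only [delta, OneMemClass.coe_one]
        rw [← hc]; group
      · obtain ⟨n, hn⟩ := exponent_on_image hexp hr hyp hyp' hyr ⟨1, (pow_one _).symm⟩
        exact ⟨n, fun g hg => hn g (h.ge hg)⟩
  -- the scalars
  let Z : Subgroup G :=
    { carrier := {z | z ∈ M ∧ ∃ n : ℤ, ∀ g ∈ N, z * g * z⁻¹ = g ^ n}
      one_mem' := ⟨one_mem M, 1, fun g _ => by simp⟩
      mul_mem' := by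
        rintro a b ⟨ha, n, hn⟩ ⟨hb, m, hm⟩
        refine ⟨mul_mem ha hb, n * m, fun g hg => ?_⟩
        calc a * b * g * (a * b)⁻¹ = a * (b * g * b⁻¹) * a⁻¹ := by group
          _ = _ := by rw [hm g hg, hn _ (zpow_mem hg m), ← zpow_mul, mul_comm]
      inv_mem' := by
        rintro a ⟨ha, n, hn⟩
        refine ⟨inv_mem ha, ?_⟩
        by_cases hN : ∀ g ∈ N, g = 1
        · exact ⟨1, fun g hg => by rw [hN g hg]; simp⟩
        push Not at hN
        obtain ⟨g₀, hg₀, hg₀1⟩ := hN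
        have hnd : ¬ (r : ℤ) ∣ n := fun h => hg₀1 (by
          have := hn g₀ hg₀
          rw [hkill g₀ hg₀ n h, mul_inv_eq_one, mul_eq_left] at this
          exact this)
        obtain ⟨s, t, hst⟩ := ((Nat.prime_iff_prime_int.1 hr).coprime_iff_not_dvd).2 hnd
        refine ⟨t, fun g hg => ?_⟩
        have h1 := hn (g ^ t) (zpow_mem hg t)
        rw [← zpow_mul, show t * n = 1 - s * r by rw [← hst]; ring, zpow_sub, zpow_one,
          hkill g hg (s * r) (Dvd.intro_left s rfl), inv_one, mul_one] at h1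
        rw [inv_inv]
        conv_lhs => rw [← h1]
        group }
  have hZn : ∀ m ∈ M, ∀ z ∈ Z, m * z * m⁻¹ ∈ Z := by
    rintro m hm z ⟨hz, n, hn⟩
    refine ⟨mul_mem (mul_mem hm hz) (inv_mem hm), n, fun g hg => ?_⟩
    calc m * z * m⁻¹ * g * (m * z * m⁻¹)⁻¹ = m * (z * (m⁻¹ * g * m) * z⁻¹) * m⁻¹ := by group
      _ = m * (m⁻¹ * g * m) ^ n * m⁻¹ := by rw [hn _ (by simpa using ‹N.Normal›.conj_mem g hg m⁻¹)]
      _ = g ^ n := by rw [← conj_zpow]; congr 1; group
  have hZcentral : ∀ z ∈ Z, ∀ m ∈ M, m * z = z * m := by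
    rintro z ⟨hz, n, hn⟩ m hm
    rw [← commutatorElement_eq_one_iff_mul_comm]
    refine hcent _ (by rw [commutatorElement_def]; exact mul_mem (mul_mem (mul_mem hm hz) (inv_mem hm)) (inv_mem hz)) ?_
    intro g hg
    obtain ⟨-, n', hn'⟩ := inv_mem (show z ∈ Z from ⟨hz, n, hn⟩)
    rw [inv_inv] at hn'
    have hg' : m⁻¹ * (z⁻¹ * g * z) * m ∈ N := by
      simpa using ‹N.Normal›.conj_mem _ (by simpa using ‹N.Normal›.conj_mem g hg z⁻¹) m⁻¹
    calc ⁅m, z⁆ * g * ⁅m, z⁆⁻¹ = m * (z * (m⁻¹ * (z⁻¹ * g * z) * m) * z⁻¹) * m⁻¹ := by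
          rw [commutatorElement_def]; group
      _ = m * (m⁻¹ * (z⁻¹ * g * z) * m) ^ n * m⁻¹ := by rw [hn _ hg']
      _ = (z⁻¹ * g * z) ^ n := by rw [← conj_zpow]; congr 1; group
      _ = z * (z⁻¹ * g * z) * z⁻¹ := by rw [hn _ (by simpa using ‹N.Normal›.conj_mem g hg z⁻¹)]
      _ = g := by group
  by_contra hcon
  push Not at hcon
  obtain ⟨m₁, hm₁, hm₁ns⟩ := hcon
  haveI : (Z.subgroupOf M).Normal := ⟨fun z hz g => hZn g g.2 z hz⟩
  haveI : Nontrivial (M ⧸ Z.subgroupOf M) := by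
    refine ⟨⟨QuotientGroup.mk ⟨m₁, hm₁⟩, 1, fun h => ?_⟩⟩
    obtain ⟨-, n, hn⟩ := Subgroup.mem_subgroupOf.1 ((QuotientGroup.eq_one_iff _).1 h)
    obtain ⟨g, hg, hne⟩ := hm₁ns n
    exact hne (hn g hg)
  obtain ⟨Nb, s, hs, hNbn, hNbc⟩ := SupSolv.exists_prime_normal (SupSolv.quotient hM (Z.subgroupOf M))
  haveI := Fact.mk hs
  obtain ⟨ab, hab⟩ := exists_prime_orderOf_dvd_card' (G := Nb) s hNbc.symm.dvd
  set π := QuotientGroup.mk' (Z.subgroupOf M) with hπ
  obtain ⟨a₀, ha₀⟩ := QuotientGroup.mk'_surjective (Z.subgroupOf M) (ab : M ⧸ Z.subgroupOf M)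
  have hab' : orderOf (π a₀) = s := by rw [hπ, ha₀, Subgroup.orderOf_coe, hab]
  obtain ⟨a', ha', p, k, hp, hak, haZ⟩ : ∃ a' : M, π a' ∈ Nb ∧ ∃ p k : ℕ, p.Prime ∧ orderOf (a' : G) = p ^ k ∧ (a' : G) ∉ Z := by
    by_contra hno
    push Not at hno
    have : a₀ ∈ Z.subgroupOf M := by
      refine ((Subgroup.closure_le _).2 ?_) (ClassGraph.mem_closure_primePow a₀)
      rintro z ⟨hz, p, k, hp, hzo⟩
      refine hno z ?_ p k hp ((Subgroup.orderOf_coe z).trans hzo)
      obtain ⟨i, rfl⟩ := Subgroup.mem_zpowers_iff.1 hz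
      rw [map_zpow, hπ, ha₀]
      exact zpow_mem ab.2 i
    rw [show π a₀ = 1 from (QuotientGroup.eq_one_iff a₀).2 this, orderOf_one] at hab'
    exact hs.ne_one hab'.symm
  set a : G := (a' : G) with ha
  have haM : a ∈ M := a'.2
  -- the abelian normal subgroup
  set A := Z ⊔ Subgroup.zpowers a with hA
  have hAz : ∀ z ∈ A, ∃ c ∈ Z, ∃ i : ℤ, z = c * a ^ i := by
    intro z hz
    have hnorm : Subgroup.zpowers a ≤ Subgroup.normalizer (Z : Set G) := by
      refine Subgroup.zpowers_le.2 (Subgroup.mem_normalizer_iff.2 fun w => ⟨hZn a haM w, fun h => ?_⟩)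
      have := hZn a⁻¹ (inv_mem haM) _ h
      simpa [mul_assoc] using this
    obtain ⟨c, hc, w, hw, rfl⟩ := (SolvBasic.mem_sup_iff_of_le_normalizer hnorm).1 hz
    obtain ⟨i, rfl⟩ := Subgroup.mem_zpowers_iff.1 hw
    exact ⟨c, hc, i, rfl⟩
  have hAM : A ≤ M := sup_le (fun z hz => hz.1) (Subgroup.zpowers_le.2 haM)
  have hAc : ∀ x ∈ A, ∀ y ∈ A, x * y = y * x := by
    intro x hx y hy
    obtain ⟨c, hc, i, rfl⟩ := hAz x hx
    obtain ⟨c', hc', j, rfl⟩ := hAz y hy
    have e1 : Commute c (a ^ j) := (hZcentral c hc (a ^ j) (zpow_mem haM j)).symm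
    have e2 : Commute c c' := (hZcentral c hc c' hc'.1).symm
    have e3 : Commute (a ^ i) c' := hZcentral c' hc' (a ^ i) (zpow_mem haM i)
    exact ((e2.mul_right e1).mul_left (e3.mul_right (Commute.zpow_zpow_self a i j))).eq
  have hNbgen : ∀ q ∈ Nb, ∃ i : ℤ, π a' ^ i = q := by
    intro q hq
    haveI : Fact (Nat.card Nb).Prime := ⟨hNbc ▸ hs⟩
    rcases Subgroup.eq_bot_or_eq_top_of_prime_card ((Subgroup.zpowers (π a')).subgroupOf Nb) with h | h
    · refine absurd ?_ haZ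
      have : (⟨π a', ha'⟩ : Nb) ∈ (Subgroup.zpowers (π a')).subgroupOf Nb := Subgroup.mem_zpowers _
      rw [h, Subgroup.mem_bot] at this
      exact Subgroup.mem_subgroupOf.1 ((QuotientGroup.eq_one_iff a').1 (congrArg Subtype.val this))
    · exact Subgroup.mem_zpowers_iff.1 ((Subgroup.subgroupOf_eq_top.1 h) hq)
  have hAn : ∀ m ∈ M, ∀ z ∈ A, m * z * m⁻¹ ∈ A := by
    intro m hm z hz
    obtain ⟨c, hc, i, rfl⟩ := hAz z hz
    rw [show m * (c * a ^ i) * m⁻¹ = (m * c * m⁻¹) * (m * a * m⁻¹) ^ i by rw [conj_zpow]; group]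
    refine mul_mem (Subgroup.mem_sup_left (hZn m hm c hc)) (zpow_mem ?_ i)
    obtain ⟨j, hj⟩ := hNbgen _ (hNbn.conj_mem _ ha' (π ⟨m, hm⟩))
    rw [← map_zpow, ← map_mul, ← map_inv, ← map_mul, hπ, QuotientGroup.mk'_eq_mk'] at hj
    obtain ⟨c', hc', hc''⟩ := hj
    have e : a ^ j * (c' : G) = m * a * m⁻¹ := congrArg Subtype.val hc''
    rw [← e]
    exact mul_mem (zpow_mem (Subgroup.mem_sup_right (Subgroup.mem_zpowers a)) j) (Subgroup.mem_sup_left hc')
  -- scalar elements of `r`-power order are trivial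
  have hscalr : ∀ z ∈ Z, ∀ j : ℕ, z ^ r ^ j = 1 → z = 1 := by
    rintro z ⟨hz, n, hn⟩ j hzj
    refine hcent z hz fun g hg => ?_
    by_cases hg1 : g = 1
    · rw [hg1]; simp
    have hiter : ∀ i : ℕ, z ^ i * g * (z ^ i)⁻¹ = g ^ (n ^ i) := by
      intro i
      induction i with
      | zero => simp
      | succ i ih =>
        calc z ^ (i + 1) * g * (z ^ (i + 1))⁻¹ = z * (z ^ i * g * (z ^ i)⁻¹) * z⁻¹ := by rw [pow_succ']; group
          _ = _ := by rw [ih, hn _ (zpow_mem hg _), ← zpow_mul, pow_succ]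
    have h1 := hiter (r ^ j)
    rw [hzj, one_mul, inv_one, mul_one] at h1
    have h2 : (r : ℤ) ∣ n ^ r ^ j - 1 := hdvd g hg hg1 _ (by rw [zpow_sub, zpow_one, ← h1, mul_inv_cancel])
    have h3 : (r : ℤ) ∣ n - 1 := by
      rw [← ZMod.intCast_zmod_eq_zero_iff_dvd] at h2 ⊢
      push_cast at h2 ⊢
      rwa [ZMod.pow_card_pow] at h2
    rw [hn g hg, show n = 1 + (n - 1) by ring, zpow_add, hkill g hg _ h3, zpow_one, mul_one]
  have hpr : p ≠ r := by
    intro e
    subst e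
    -- `a` then has order `p` and generates a normal subgroup
    have hk0 : k ≠ 0 := fun h => haZ (by rw [show a = 1 from orderOf_eq_one_iff.1 (by rw [hak, h, pow_zero])]; exact one_mem Z)
    have hsr : s = p := by
      have h1 : orderOf (⟨π a', ha'⟩ : Nb) ∣ s := hNbc ▸ orderOf_dvd_natCard _
      have h2 : orderOf (π a') ∣ p ^ k := by
        rw [← hak, ha, Subgroup.orderOf_coe]; exact orderOf_map_dvd π a'
      rw [Subgroup.orderOf_mk] at h1
      rcases hs.eq_one_or_self_of_dvd _ h1 with h | h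
      · exact absurd (Subgroup.mem_subgroupOf.1 ((QuotientGroup.eq_one_iff a').1 (orderOf_eq_one_iff.1 h))) haZ
      · exact (Nat.prime_dvd_prime_iff_eq hs hp).1 (hs.dvd_of_dvd_pow (h ▸ h2))
    have hapZ : a ^ p ∈ Z := by
      have h1 : (π a') ^ p = 1 := by
        have : (⟨π a', ha'⟩ : Nb) ^ p = 1 := by rw [← hsr, ← hNbc, pow_card_eq_one']
        exact congrArg Subtype.val this
      rw [← map_pow] at h1
      exact Subgroup.mem_subgroupOf.1 ((QuotientGroup.eq_one_iff (a' ^ p)).1 h1)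
    have hap : a ^ p = 1 := hscalr _ hapZ k (by rw [← pow_mul, mul_comm, pow_mul, ← hak, pow_orderOf_eq_one, one_pow])
    have haord : orderOf a = p := orderOf_eq_prime hap fun h => haZ (h ▸ one_mem Z)
    refine haZ ⟨haM, hprimescalar a haM (haord ▸ hp) fun m hm => ?_⟩
    obtain ⟨c, hc, i, hi⟩ := hAz _ (hAn m hm a (Subgroup.mem_sup_right (Subgroup.mem_zpowers a)))
    have hcp : c ^ p = 1 := by
      have h1 : (m * a * m⁻¹) ^ p = c ^ p * (a ^ i) ^ p := by
        rw [hi, Commute.mul_pow ((hZcentral c hc (a ^ i) (zpow_mem haM i)).symm)]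
      rw [conj_pow, hap, mul_one, mul_inv_cancel, ← zpow_natCast (a ^ i), zpow_comm, zpow_natCast, hap,
        one_zpow, mul_one] at h1
      exact h1.symm
    rw [hi, hscalr c hc 1 (by rwa [pow_one]), one_mul]
    exact zpow_mem (Subgroup.mem_zpowers a) i
  -- the two spaces
  set U := N ⊓ Subgroup.centralizer ({a} : Set G) with hU
  set W := image N a with hW
  obtain ⟨l, hl⟩ := exponent_on_image hexp hr hyp hp hpr ⟨k, hak⟩
  have hUmem : ∀ u, u ∈ U ↔ u ∈ N ∧ a * u * a⁻¹ = u := fun u => by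
    rw [hU, Subgroup.mem_inf, ClassGraph.mem_cent, mul_inv_eq_iff_eq_mul]
  have hUW : ∀ w, w ∈ U → w ∈ W → w = 1 := by
    intro w hwU hwW
    obtain ⟨g, hg, rfl⟩ := mem_image.1 hwW
    exact eq_one_of_fixed_pow hexp hr hp hpr hak hg ((hUmem _).1 hwU).2
  have haC : a ≠ 1 := fun h => haZ (h ▸ one_mem Z)
  have hdecomp : ∀ g ∈ N, ∃ u ∈ U, ∃ w ∈ W, g = u * w := by
    intro g hg
    have hW1 : delta a g ∈ W := mem_image.2 ⟨g, hg, rfl⟩
    -- `g * w` is fixed for a suitable power `w`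
    have hl1 : delta a g ≠ 1 → ¬ (r : ℤ) ∣ 1 - l := fun h1 hd => h1 (eq_one_of_fixed_pow hexp hr hp hpr hak hg (by
      rw [hl _ hW1]
      conv_rhs => rw [← zpow_one (delta a g)]
      rw [show (1 : ℤ) = l + (1 - l) by ring, zpow_add, hkill _ (delta_mem a hg) _ hd, mul_one]))
    by_cases h1 : delta a g = 1
    · refine ⟨g, (hUmem g).2 ⟨hg, ?_⟩, 1, one_mem _, (mul_one g).symm⟩
      rw [delta, mul_inv_eq_one, mul_inv_eq_iff_eq_mul] at h1
      rw [← h1, mul_inv_cancel_right]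
    obtain ⟨s', t, hst⟩ := ((Nat.prime_iff_prime_int.1 hr).coprime_iff_not_dvd).2 (hl1 h1)
    set w := delta a g ^ t with hw
    have hwW : w ∈ W := zpow_mem hW1 t
    refine ⟨g * w⁻¹, (hUmem _).2 ⟨mul_mem hg (inv_mem (image_le hwW)), ?_⟩, w, hwW, (inv_mul_cancel_right g w).symm⟩
    have e1 : a * g * a⁻¹ = g * (delta a g)⁻¹ := by
      have := setLike_mul_comm hg (inv_mem (delta_mem a hg))
      rw [this]
      simp only [delta]; group
    have e2 : a * w * a⁻¹ = w ^ l := hl w hwW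
    calc a * (g * w⁻¹) * a⁻¹ = (a * g * a⁻¹) * (a * w * a⁻¹)⁻¹ := by group
      _ = g * ((delta a g)⁻¹ * (w ^ l)⁻¹) := by rw [e1, e2, mul_assoc]
      _ = g * w⁻¹ := by
        congr 1
        rw [hw, ← zpow_mul, ← zpow_neg, ← zpow_neg_one, ← zpow_add, ← zpow_neg,
          show (-1 : ℤ) + -(t * l) = -t + -(s' * r) by rw [show (1 : ℤ) = s' * r + t * (1 - l) from hst.symm]; ring,
          zpow_add, hkill _ (delta_mem a hg) (-(s' * r)) (Dvd.dvd.neg_right (Dvd.intro_left s' rfl)), mul_one]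
  have huniq : ∀ u ∈ U, ∀ w ∈ W, ∀ u' ∈ U, ∀ w' ∈ W, u * w = u' * w' → u = u' ∧ w = w' := by
    intro u hu w hw u' hu' w' hw' e
    have h1 : u'⁻¹ * u = w' * w⁻¹ := by
      calc u'⁻¹ * u = u'⁻¹ * (u * w) * w⁻¹ := by group
        _ = w' * w⁻¹ := by rw [e]; group
    have h2 : u'⁻¹ * u = 1 := hUW _ (mul_mem (inv_mem hu') hu) (h1 ▸ mul_mem hw' (inv_mem hw))
    rw [h2] at h1
    exact ⟨(inv_mul_eq_one.1 h2).symm, (mul_inv_eq_one.1 h1.symm).symm⟩
  have hU1 : U ≠ ⊥ := by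
    intro hUbot
    refine haZ ⟨haM, l, fun g hg => ?_⟩
    obtain ⟨u, hu, w, hw, rfl⟩ := hdecomp g hg
    rw [hUbot, Subgroup.mem_bot] at hu
    rw [hu, one_mul]
    exact hl w hw
  have hW1 : W ≠ ⊥ := by
    intro hWbot
    refine haC (hcent a haM fun g hg => ?_)
    obtain ⟨u, hu, w, hw, rfl⟩ := hdecomp g hg
    rw [hWbot, Subgroup.mem_bot] at hw
    rw [hw, mul_one]
    exact ((hUmem u).1 hu).2
  obtain ⟨⟨w₁, hw₁⟩, hw₁1'⟩ := W.ne_bot_iff_exists_ne_one.1 hW1
  have hw₁1 : w₁ ≠ 1 := fun h => hw₁1' (Subtype.ext h)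
  have hl1 : ¬ (r : ℤ) ∣ l - 1 := fun hd => hw₁1 (hUW w₁ ((hUmem _).2 ⟨image_le hw₁, by
    rw [hl w₁ hw₁, show l = 1 + (l - 1) by ring, zpow_add, hkill _ (image_le hw₁) _ hd, zpow_one, mul_one]⟩) hw₁)
  have hl0 : ¬ (r : ℤ) ∣ l := fun hd => hw₁1 (by
    have := hl w₁ hw₁
    rw [hkill _ (image_le hw₁) _ hd, mul_inv_eq_one, mul_eq_left] at this
    exact this)
  -- conjugates of `U`
  have hfix : ∀ m ∈ M, (∀ u ∈ U, m * u * m⁻¹ ∈ U) ∨ ((∀ u ∈ U, m * u * m⁻¹ ∈ W) ∧ ∀ w ∈ W, ∃ u ∈ U, m * u * m⁻¹ = w) := by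
    intro m hm
    obtain ⟨c, ⟨hc, ζ, hζ⟩, i, hi⟩ := hAz _ (hAn m hm a (Subgroup.mem_sup_right (Subgroup.mem_zpowers a)))
    set a₁ := m * a * m⁻¹ with ha₁
    have ha₁M : a₁ ∈ M := mul_mem (mul_mem hm haM) (inv_mem hm)
    have hiter : ∀ w ∈ W, ∀ j : ℕ, a ^ j * w * (a ^ j)⁻¹ = w ^ (l ^ j) := by
      intro w hw j
      induction j with
      | zero => simp
      | succ j ih =>
        calc a ^ (j + 1) * w * (a ^ (j + 1))⁻¹ = a * (a ^ j * w * (a ^ j)⁻¹) * a⁻¹ := by rw [pow_succ']; group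
          _ = _ := by rw [ih, hl _ (zpow_mem hw _), ← zpow_mul, pow_succ]
    obtain ⟨j, hj⟩ := mem_powers_iff_mem_zpowers.2 (Subgroup.mem_zpowers_iff.2 ⟨i, rfl⟩ : a ^ i ∈ Subgroup.zpowers a)
    have hj' : a ^ j = a ^ i := hj
    have hactU : ∀ u ∈ U, a₁ * u * a₁⁻¹ = u ^ ζ := by
      intro u hu
      have hcomm : Commute a u := mul_inv_eq_iff_eq_mul.1 ((hUmem u).1 hu).2
      calc a₁ * u * a₁⁻¹ = c * (a ^ j * u * (a ^ j)⁻¹) * c⁻¹ := by rw [hi, hj']; group
        _ = c * u * c⁻¹ := by rw [(hcomm.pow_left j).eq, mul_inv_cancel_right]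
        _ = u ^ ζ := hζ u ((hUmem u).1 hu).1
    have hactW : ∀ w ∈ W, a₁ * w * a₁⁻¹ = w ^ (l ^ j * ζ) := by
      intro w hw
      calc a₁ * w * a₁⁻¹ = c * (a ^ j * w * (a ^ j)⁻¹) * c⁻¹ := by rw [hi, hj']; group
        _ = c * w ^ (l ^ j) * c⁻¹ := by rw [hiter w hw j]
        _ = _ := by rw [hζ _ (zpow_mem (image_le hw) _), ← zpow_mul]
    have hfixed : ∀ u ∈ U, a₁ * (m * u * m⁻¹) * a₁⁻¹ = m * u * m⁻¹ := by
      intro u hu
      calc a₁ * (m * u * m⁻¹) * a₁⁻¹ = m * (a * u * a⁻¹) * m⁻¹ := by rw [ha₁]; group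
        _ = _ := by rw [((hUmem u).1 hu).2]
    by_cases hW' : (r : ℤ) ∣ l ^ j * ζ - 1
    · right
      have hne : ¬ (r : ℤ) ∣ ζ - 1 := fun hd => haC (by
        have h1 : a₁ = 1 := hcent a₁ ha₁M fun g hg => by
          obtain ⟨u, hu, w, hw, rfl⟩ := hdecomp g hg
          rw [show a₁ * (u * w) * a₁⁻¹ = (a₁ * u * a₁⁻¹) * (a₁ * w * a₁⁻¹) by group, hactU u hu, hactW w hw,
            show ζ = 1 + (ζ - 1) by ring, zpow_add, hkill _ ((hUmem u).1 hu).1 _ hd, zpow_one, mul_one,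
            show l ^ j * (1 + (ζ - 1)) = 1 + (l ^ j * ζ - 1) by ring, zpow_add, hkill _ (image_le hw) _ hW', zpow_one, mul_one]
        rwa [ha₁, mul_inv_eq_one, mul_eq_left] at h1)
      refine ⟨fun u hu => ?_, fun w hw => ⟨m⁻¹ * w * m, (hUmem _).2 ⟨by simpa using ‹N.Normal›.conj_mem w (image_le hw) m⁻¹, ?_⟩, by group⟩⟩
      · have hN := ‹N.Normal›.conj_mem u ((hUmem u).1 hu).1 m
        obtain ⟨u', hu', w', hw', e⟩ := hdecomp _ hN
        have h1 := hfixed u hu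
        rw [e, show a₁ * (u' * w') * a₁⁻¹ = (a₁ * u' * a₁⁻¹) * (a₁ * w' * a₁⁻¹) by group, hactU u' hu', hactW w' hw'] at h1
        have h2 := (huniq _ (zpow_mem hu' _) _ (zpow_mem hw' _) u' hu' w' hw' h1).1
        have h3 : u' = 1 := by
          by_contra hu1
          exact hne (hdvd u' ((hUmem u').1 hu').1 hu1 _ (by rw [zpow_sub, h2, zpow_one, mul_inv_cancel]))
        rw [e, h3, one_mul]; exact hw'
      · calc a * (m⁻¹ * w * m) * a⁻¹ = m⁻¹ * (a₁ * w * a₁⁻¹) * m := by rw [ha₁]; group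
          _ = _ := by
            rw [hactW w hw, show l ^ j * ζ = 1 + (l ^ j * ζ - 1) by ring, zpow_add, hkill _ (image_le hw) _ hW', zpow_one, mul_one]
    · left
      intro u hu
      have hN := ‹N.Normal›.conj_mem u ((hUmem u).1 hu).1 m
      obtain ⟨u', hu', w', hw', e⟩ := hdecomp _ hN
      have h1 := hfixed u hu
      rw [e, show a₁ * (u' * w') * a₁⁻¹ = (a₁ * u' * a₁⁻¹) * (a₁ * w' * a₁⁻¹) by group, hactU u' hu', hactW w' hw'] at h1
      have h2 := (huniq _ (zpow_mem hu' _) _ (zpow_mem hw' _) u' hu' w' hw' h1).2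
      have h3 : w' = 1 := by
        by_contra hw1
        exact hW' (hdvd w' (image_le hw') hw1 _ (by rw [zpow_sub, h2, zpow_one, mul_inv_cancel]))
      rw [e, h3, mul_one]; exact hu'
  -- some element interchanges the two spaces
  let Mp : Subgroup G := M ⊓ Subgroup.normalizer (U : Set G)
  have hmp : ∀ m ∈ M, m ∈ Mp ↔ ∀ u ∈ U, m * u * m⁻¹ ∈ U := by
    intro m hm
    refine ⟨fun h u hu => (Subgroup.mem_normalizer_iff.1 h.2 u).1 hu, fun h => ⟨hm, ?_⟩⟩
    exact Subgroup.mem_normalizer_iff.2 fun u => ⟨h u, fun hu => by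
      let f : U → U := fun v => ⟨m * (v : G) * m⁻¹, h v v.2⟩
      have hf : Function.Injective f := fun v v' e => Subtype.ext (mul_left_cancel (mul_right_cancel (congrArg Subtype.val e)))
      obtain ⟨v, hv⟩ := (Finite.injective_iff_surjective.1 hf) ⟨_, hu⟩
      have e : (v : G) = u := mul_left_cancel (mul_right_cancel (congrArg Subtype.val hv))
      exact e ▸ v.2⟩
  have hswap : ∀ m ∈ M, m ∉ Mp → (∀ u ∈ U, m * u * m⁻¹ ∈ W) ∧ ∀ w ∈ W, m * w * m⁻¹ ∈ U := by
    intro m hm hmn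
    have hswap1 : (∀ u ∈ U, m * u * m⁻¹ ∈ W) ∧ ∀ w ∈ W, ∃ u ∈ U, m * u * m⁻¹ = w :=
      (hfix m hm).resolve_left fun h => hmn ((hmp m hm).2 h)
    refine ⟨hswap1.1, fun w hw => ?_⟩
    obtain ⟨u, hu, rfl⟩ := hswap1.2 w hw
    have h2 : m * m ∈ M := mul_mem hm hm
    rcases hfix _ h2 with h | h
    · have := h u hu
      rwa [show m * m * u * (m * m)⁻¹ = m * (m * u * m⁻¹) * m⁻¹ by group] at this
    · exfalso
      obtain ⟨⟨u₀, hu₀⟩, hu₀1⟩ := U.ne_bot_iff_exists_ne_one.1 hU1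
      -- `m ^ 2` would send `U` into `W`, and so would `m`
      obtain ⟨u', hu', e'⟩ := hswap1.2 _ (h.1 u₀ hu₀)
      have e2 : u' = m * u₀ * m⁻¹ := by
        rw [show m * m * u₀ * (m * m)⁻¹ = m * (m * u₀ * m⁻¹) * m⁻¹ by group] at e'
        exact mul_left_cancel (mul_right_cancel e')
      have h3 := hUW u' hu' (e2 ▸ hswap1.1 u₀ hu₀)
      rw [e2, mul_inv_eq_one, mul_eq_left] at h3
      exact hu₀1 (Subtype.ext h3)
  obtain ⟨t, htM, htn, kt, htk⟩ : ∃ t ∈ M, t ∉ Mp ∧ ∃ k, orderOf t = 2 ^ k := by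
    obtain ⟨m, hm, hmn⟩ : ∃ m ∈ M, m ∉ Mp := by
      by_contra hall
      push Not at hall
      rcases hirr U inf_le_left (fun m hm => (hmp m hm).1 (hall m hm)) with h | h
      · exact hU1 h
      · exact hw₁1 (hUW w₁ (h.ge (image_le hw₁)) hw₁)
    by_contra hno
    push Not at hno
    refine hmn ((hmp m hm).2 ((hmp m hm).1 (((Subgroup.closure_le _).2 ?_) (ClassGraph.mem_closure_primePow m))))
    rintro z ⟨hz, q, j, hq, hzo⟩
    have hzM : z ∈ M := Subgroup.zpowers_le.2 hm hz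
    by_cases hq2 : q = 2
    · by_contra hzn
      exact hno z hzM hzn j (hq2 ▸ hzo)
    · by_contra hzn
      obtain ⟨e, he⟩ := exists_pow_eq_self_of_coprime (x := z) (n := 2) (by
        rw [hzo]; exact (Nat.Coprime.pow_left j ((Nat.coprime_primes hq Nat.prime_two).2 hq2)).symm)
      refine hzn (he ▸ pow_mem ((hmp _ (pow_mem hzM 2)).2 fun u hu => ?_) e)
      rw [show z ^ 2 * u * (z ^ 2)⁻¹ = z * (z * u * z⁻¹) * z⁻¹ by rw [pow_two]; group]
      exact (hswap z hzM hzn).2 _ ((hswap z hzM hzn).1 u hu)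
  have hr2 : r ≠ 2 := by
    rintro rfl
    apply hl1
    obtain ⟨q, hq⟩ : Odd l := by
      rw [← Int.not_even_iff_odd, even_iff_two_dvd]
      exact_mod_cast hl0
    exact ⟨q, by push_cast; omega⟩
  -- an interchanging `2`-element is an involution
  have hinvol : ∀ z ∈ M, z ∉ Mp → (∃ j, orderOf z = 2 ^ j) → z * z = 1 := by
    intro z hzM hzn hz2
    obtain ⟨n, hn⟩ := exponent_on_image hexp hr hyp Nat.prime_two (Ne.symm hr2) hz2
    obtain ⟨hs1, hs2⟩ := hswap z hzM hzn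
    have hUfix : ∀ u ∈ U, z * z * u * (z * z)⁻¹ = u := by
      intro u hu
      set w := z * u * z⁻¹ with hw
      have hwW : w ∈ W := hs1 u hu
      set u' := z * w * z⁻¹ with hu'
      have hu'U : u' ∈ U := hs2 w hwW
      have huN : u ∈ N := ((hUmem u).1 hu).1
      have hd : delta z u = u * w⁻¹ := by rw [delta, hw]; group
      have h1 := hn _ (mem_image.2 ⟨u, huN, rfl⟩)
      rw [hd, show z * (u * w⁻¹) * z⁻¹ = w * u'⁻¹ by rw [hu', hw]; group,
        (Commute.inv_right (setLike_mul_comm huN (image_le hwW) : Commute u w)).mul_zpow,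
        setLike_mul_comm (image_le hwW) (inv_mem ((hUmem u').1 hu'U).1)] at h1
      obtain ⟨e1, e2⟩ := huniq _ (inv_mem hu'U) _ hwW _ (zpow_mem hu n) _ (zpow_mem (inv_mem hwW) n) h1
      by_cases hu1 : u = 1
      · rw [hu1]; simp
      have hw1 : w ≠ 1 := fun h => hu1 (by
        rw [hw, mul_inv_eq_one, mul_eq_left] at h; exact h)
      rw [inv_zpow'] at e2
      have hn1 : (r : ℤ) ∣ -n - 1 := hdvd w (image_le hwW) hw1 _ (by rw [zpow_sub, ← e2, zpow_one, mul_inv_cancel])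
      have e3 : u ^ n = u⁻¹ := by
        rw [show n = -1 + -(-n - 1) by ring, zpow_add, hkill u huN _ (dvd_neg.2 hn1), zpow_neg_one, mul_one]
      rw [e3, inv_inj] at e1
      rw [show z * z * u * (z * z)⁻¹ = u' by rw [hu', hw]; group, e1]
    refine hcent _ (mul_mem hzM hzM) fun g hg => ?_
    obtain ⟨u, hu, w, hw, rfl⟩ := hdecomp g hg
    obtain ⟨-, hsurj⟩ := (hfix z hzM).resolve_left fun h => hzn ((hmp z hzM).2 h)
    obtain ⟨v, hv, rfl⟩ := hsurj w hw
    rw [show z * z * (u * (z * v * z⁻¹)) * (z * z)⁻¹ = (z * z * u * (z * z)⁻¹) * (z * (z * z * v * (z * z)⁻¹) * z⁻¹) by group,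
      hUfix u hu, hUfix v hv]
  obtain ⟨hts1, hts2⟩ := hswap t htM htn
  have htt : t * t = 1 := hinvol t htM htn ⟨kt, htk⟩
  have htinv : t⁻¹ = t := inv_eq_of_mul_eq_one_right htt
  -- the translate of `a`
  set a₂ := t * a * t⁻¹ with ha₂
  have ha₂M : a₂ ∈ M := mul_mem (mul_mem htM haM) (inv_mem htM)
  have ha₂U : ∀ u ∈ U, a₂ * u * a₂⁻¹ = u ^ l := by
    intro u hu
    have hw : t * u * t⁻¹ ∈ W := hts1 u hu
    calc a₂ * u * a₂⁻¹ = t * (a * (t⁻¹ * u * t) * a⁻¹) * t⁻¹ := by rw [ha₂]; group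
      _ = t * (a * (t * u * t⁻¹) * a⁻¹) * t⁻¹ := by rw [htinv]
      _ = t * ((t * u * t⁻¹) ^ l) * t⁻¹ := by rw [hl _ hw]
      _ = (t * (t * u * t⁻¹) * t⁻¹) ^ l := by simp only [conj_zpow]
      _ = u ^ l := by
        rw [show t * (t * u * t⁻¹) * t⁻¹ = t * t * u * (t * t)⁻¹ by group, htt, one_mul, inv_one, mul_one]
  have ha₂W : ∀ w ∈ W, a₂ * w * a₂⁻¹ = w := by
    intro w hw
    have hu : t * w * t⁻¹ ∈ U := hts2 w hw
    calc a₂ * w * a₂⁻¹ = t * (a * (t⁻¹ * w * t) * a⁻¹) * t⁻¹ := by rw [ha₂]; group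
      _ = t * (a * (t * w * t⁻¹) * a⁻¹) * t⁻¹ := by rw [htinv]
      _ = t * t * w * (t * t)⁻¹ := by rw [((hUmem _).1 hu).2]; group
      _ = w := by rw [htt]; group
  have haa₂ : Commute a a₂ := hAc a (Subgroup.mem_sup_right (Subgroup.mem_zpowers a)) a₂
    (hAn t htM a (Subgroup.mem_sup_right (Subgroup.mem_zpowers a)))
  -- `l` is `-1`
  have hl2 : (r : ℤ) ∣ l + 1 := by
    by_contra hlne
    set b := a * a₂ * a₂ with hb
    have hbord : ∃ j, orderOf b = p ^ j := by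
      have hba : b ^ p ^ k = 1 := by
        have ha2o : a₂ ^ p ^ k = 1 := by rw [ha₂, conj_pow, ← hak, pow_orderOf_eq_one, mul_one, mul_inv_cancel]
        rw [hb, ((haa₂.mul_left (Commute.refl a₂))).mul_pow, haa₂.mul_pow, ← hak, pow_orderOf_eq_one, one_mul, hak, ha2o, one_mul]
      obtain ⟨j, -, hj⟩ := (Nat.dvd_prime_pow hp).1 (orderOf_dvd_of_pow_eq_one hba)
      exact ⟨j, hj⟩
    obtain ⟨n, hn⟩ := exponent_on_image hexp hr hyp hp hpr hbord
    obtain ⟨⟨u, hu⟩, hu1'⟩ := U.ne_bot_iff_exists_ne_one.1 hU1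
    have hu1 : u ≠ 1 := fun h => hu1' (Subtype.ext h)
    have huN : u ∈ N := ((hUmem u).1 hu).1
    have hbu : ∀ v ∈ U, b * v * b⁻¹ = v ^ (l * l) := by
      intro v hv
      calc b * v * b⁻¹ = a * (a₂ * (a₂ * v * a₂⁻¹) * a₂⁻¹) * a⁻¹ := by rw [hb]; group
        _ = a * v ^ (l * l) * a⁻¹ := by rw [ha₂U v hv, ha₂U _ (zpow_mem hv l), ← zpow_mul]
        _ = _ := ((hUmem _).1 (zpow_mem hv _)).2
    have hbw : ∀ v ∈ W, b * v * b⁻¹ = v ^ l := by
      intro v hv
      calc b * v * b⁻¹ = a * (a₂ * (a₂ * v * a₂⁻¹) * a₂⁻¹) * a⁻¹ := by rw [hb]; group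
        _ = _ := by rw [ha₂W v hv, ha₂W v hv, hl v hv]
    have hdu : delta b u = u ^ (1 - l * l) := by
      rw [delta, show u * b * u⁻¹ * b⁻¹ = u * (b * u⁻¹ * b⁻¹) by group, hbu _ (inv_mem hu), inv_zpow', zpow_sub, zpow_one, zpow_neg]
    have hdw : delta b w₁ = w₁ ^ (1 - l) := by
      rw [delta, show w₁ * b * w₁⁻¹ * b⁻¹ = w₁ * (b * w₁⁻¹ * b⁻¹) by group, hbw _ (inv_mem hw₁), inv_zpow', zpow_sub, zpow_one, zpow_neg]
    have e1 := hn _ (mem_image.2 ⟨u, huN, rfl⟩)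
    have e2 := hn _ (mem_image.2 ⟨w₁, image_le hw₁, rfl⟩)
    rw [hdu, hbu _ (zpow_mem hu _), ← zpow_mul, ← zpow_mul] at e1
    rw [hdw, hbw _ (zpow_mem hw₁ _), ← zpow_mul, ← zpow_mul] at e2
    have d1 : (r : ℤ) ∣ (1 - l * l) * (l * l) - (1 - l * l) * n := hdvd u huN hu1 _ (by rw [zpow_sub, e1, mul_inv_cancel])
    have d2 : (r : ℤ) ∣ (1 - l) * l - (1 - l) * n := hdvd w₁ (image_le hw₁) hw₁1 _ (by rw [zpow_sub, e2, mul_inv_cancel])
    have hPr : Prime (r : ℤ) := Nat.prime_iff_prime_int.1 hr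
    have hll : ¬ (r : ℤ) ∣ 1 - l * l := by
      rw [show (1 : ℤ) - l * l = -((l - 1) * (l + 1)) by ring, dvd_neg]
      exact fun h => (hPr.dvd_or_dvd h).elim hl1 hlne
    have d1' : (r : ℤ) ∣ l * l - n := (hPr.dvd_or_dvd (by rwa [← mul_sub] at d1)).resolve_left hll
    have d2' : (r : ℤ) ∣ l - n := (hPr.dvd_or_dvd (by rwa [← mul_sub] at d2)).resolve_left fun h =>
      hl1 (by rw [← neg_sub, dvd_neg]; exact h)
    have d3 : (r : ℤ) ∣ l * (l - 1) := by
      rw [show l * (l - 1) = (l * l - n) - (l - n) by ring]; exact dvd_sub d1' d2'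
    exact (hPr.dvd_or_dvd d3).elim hl0 hl1
  -- so `a` is an involution and `a * a₂` inverts `N`
  have hinv : ∀ g ∈ N, (a * a₂) * g * (a * a₂)⁻¹ = g⁻¹ := by
    intro g hg
    obtain ⟨u, hu, w, hw, rfl⟩ := hdecomp g hg
    have e : ∀ v ∈ N, v ^ l = v⁻¹ := fun v hv => by
      rw [show l = -1 + (l + 1) by ring, zpow_add, hkill v hv _ hl2, zpow_neg_one, mul_one]
    have huN : u ∈ N := ((hUmem u).1 hu).1
    calc a * a₂ * (u * w) * (a * a₂)⁻¹ = (a * (a₂ * u * a₂⁻¹) * a⁻¹) * (a * (a₂ * w * a₂⁻¹) * a⁻¹) := by group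
      _ = u⁻¹ * w⁻¹ := by
        rw [ha₂U u hu, ha₂W w hw, ((hUmem _).1 (zpow_mem hu l)).2, hl w hw, e u huN, e w (image_le hw)]
      _ = (u * w)⁻¹ := by rw [mul_inv_rev]; exact setLike_mul_comm (inv_mem huN) (inv_mem (image_le hw))
  have hsq : (t * a) * (t * a) = a * a₂ := by
    rw [haa₂.eq, ha₂, htinv]; group
  have hcM : a * a₂ ∈ M := mul_mem haM ha₂M
  have htan : t * a ∉ Mp := by
    intro h
    refine htn ((hmp t htM).2 fun u hu => ?_)
    have h1 := (Subgroup.mem_normalizer_iff.1 h.2 u).1 hu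
    rwa [show t * a * u * (t * a)⁻¹ = t * (a * u * a⁻¹) * t⁻¹ by group, ((hUmem u).1 hu).2] at h1
  have hta4 : ∃ j, orderOf (t * a) = 2 ^ j := by
    have h4 : (t * a) ^ 4 = 1 := by
      rw [show (t * a) ^ 4 = (a * a₂) * (a * a₂) by simp only [← hsq, pow_succ, pow_zero, one_mul, mul_assoc]]
      refine hcent _ (mul_mem hcM hcM) fun g hg => ?_
      calc a * a₂ * (a * a₂) * g * (a * a₂ * (a * a₂))⁻¹ = (a * a₂) * ((a * a₂) * g * (a * a₂)⁻¹) * (a * a₂)⁻¹ := by group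
        _ = g := by rw [hinv g hg, hinv _ (inv_mem hg), inv_inv]
    obtain ⟨j, -, hj⟩ := (Nat.dvd_prime_pow Nat.prime_two).1 (show orderOf (t * a) ∣ 2 ^ 2 from orderOf_dvd_of_pow_eq_one h4)
    exact ⟨j, hj⟩
  have hc1 : a * a₂ = 1 := hsq ▸ hinvol _ (mul_mem htM haM) htan hta4
  have h1 := hinv w₁ (image_le hw₁)
  rw [hc1, one_mul, inv_one, mul_one] at h1
  have h2 : orderOf w₁ ∣ 2 := orderOf_dvd_of_pow_eq_one (by
    rw [pow_two]; nth_rewrite 2 [h1]; rw [mul_inv_cancel])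
  rw [hord w₁ (image_le hw₁) hw₁1] at h2
  exact hr2 ((Nat.prime_dvd_prime_iff_eq hr Nat.prime_two).1 h2)

end Action

/-- The criterion. -/
theorem isSupersolvable : ∀ (n : ℕ) (G : Type u) [Group G] [Finite G], Nat.card G = n → Hyp G →
    Cfsg.IsSupersolvable G := by
  intro n
  induction n using Nat.strong_induction_on with
  | _ n IH =>
  intro G _ _ hn hyp
  subst hn
  rcases subsingleton_or_nontrivial G with hG | hG
  · exact SupSolv.of_subsingleton
  have hsub : ∀ H : Subgroup G, H ≠ ⊤ → Cfsg.IsSupersolvable H := fun H hH =>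
    IH _ (lt_of_le_of_ne (Subgroup.card_le_card_group H) fun e => hH (Subgroup.eq_top_of_card_eq H e))
      H rfl (hyp_subgroup hyp H)
  haveI := isSolvable_of_proper hsub
  refine SupSolv.huppert fun M hM => ?_
  by_contra hidx
  have hcore : M.normalCore = ⊥ := by
    by_contra hc
    set R := M.normalCore
    have hq : Cfsg.IsSupersolvable (G ⧸ R) := IH _ (SupSolv.card_quotient_lt hc) (G ⧸ R) rfl (hyp_quotient hyp R)
    have hsur := QuotientGroup.mk'_surjective R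
    have hker : (QuotientGroup.mk' R).ker ≤ M := by rw [QuotientGroup.ker_mk']; exact M.normalCore_le
    have hmax : IsCoatom (M.map (QuotientGroup.mk' R)) := by
      refine ⟨fun h => hM.1 ?_, fun B hB => ?_⟩
      · rw [← Subgroup.comap_map_eq_self hker, h, Subgroup.comap_top]
      · have h1 := hM.2 (B.comap (QuotientGroup.mk' R))
          ((Subgroup.comap_map_eq_self hker).symm.trans_lt ((Subgroup.comap_lt_comap_of_surjective hsur).2 hB))
        rw [← Subgroup.map_comap_eq_self_of_surjective hsur B, h1, Subgroup.map_top_of_surjective _ hsur]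
    refine hidx ?_
    rw [← Subgroup.index_map_eq _ hsur hker]
    exact SupSolv.index_coatom_prime hq _ hmax
  obtain ⟨N, r, hr, hNn, hN, -, hNc, hexp, hNp, hmin⟩ :=
    SolvBasic.exists_minimal_normal_abelian (N := (⊤ : Subgroup G)) inferInstance top_ne_bot
  haveI := hNn
  haveI := hNc
  have hcompl := SolvPrim.complement_of_abelian hM hcore hN
  have hdec : ∀ x : G, ∃ n ∈ N, ∃ m ∈ M, x = n * m := SolvPrim.exists_mul hM hcore hNn hN
  have hnormal : ∀ W : Subgroup G, W ≤ N → (∀ m ∈ M, ∀ w ∈ W, m * w * m⁻¹ ∈ W) → W.Normal := by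
    intro W hWN hinv
    refine ⟨fun w hw x => ?_⟩
    obtain ⟨n, hn, m, hm, rfl⟩ := hdec x
    have h1 := hinv m hm w hw
    rw [show n * m * w * (n * m)⁻¹ = n * (m * w * m⁻¹) * n⁻¹ by group, setLike_mul_comm hn (hWN h1), mul_inv_cancel_right]
    exact h1
  have hcent : ∀ m ∈ M, (∀ g ∈ N, m * g * m⁻¹ = g) → m = 1 := fun m hm h => by
    have h1 : m ∈ Subgroup.centralizer (N : Set G) ⊓ M :=
      ⟨Subgroup.mem_centralizer_iff.2 fun g hg => (mul_inv_eq_iff_eq_mul.1 (h g hg)).symm, hm⟩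
    rwa [SolvPrim.centralizer_inf_eq_bot hM hcore hN, Subgroup.mem_bot] at h1
  have hscal := linear_case hexp hr hyp (hsub M hM.1) hcent (fun W hWN hinv => hmin W (hnormal W hWN hinv) hWN)
  obtain ⟨⟨g, hg⟩, hg1⟩ := N.ne_bot_iff_exists_ne_one.1 hN
  have hzn : (Subgroup.zpowers g).Normal := by
    refine hnormal _ (Subgroup.zpowers_le.2 hg) fun m hm w hw => ?_
    obtain ⟨e, he⟩ := hscal m hm
    rw [he w (Subgroup.zpowers_le.2 hg hw)]
    exact zpow_mem hw e
  have hzN : Subgroup.zpowers g = N := (hmin _ hzn (Subgroup.zpowers_le.2 hg)).resolve_left fun h =>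
    hg1 (Subtype.ext (Subgroup.mem_bot.1 (h ▸ Subgroup.mem_zpowers g)))
  refine hidx ?_
  rw [hcompl.index_eq_card, ← hzN, Nat.card_zpowers]
  haveI := Fact.mk hr
  rw [orderOf_eq_prime (hexp g hg) fun h => hg1 (Subtype.ext h)]
  exact hr

end Cfsg.Agent.SqfPair
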