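import Cfsg.Agent.Lib.Solvable.Supersolvable
import Mathlib.GroupTheory.Sylow
import Mathlib.GroupTheory.IndexNormal

/-! Nilpotent groups and groups of order `2 * p ^ n` are supersolvable. -/

set_option autoImplicit false
open scoped Pointwise commutatorElement

universe u

namespace Cfsg.Agent.SupSolv

theorem of_nilpotent {G : Type u} [Group G] [Finite G] [hG : Group.IsNilpotent G] :
    Cfsg.IsSupersolvable G := by
  induction hc : Nat.card G using Nat.strong_induction_on generalizing G with
  | _ n ih =>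
  subst hc
  rcases subsingleton_or_nontrivial G with h | h
  · exact of_subsingleton
  have hZ : Subgroup.center G ≠ ⊥ := fun h0 =>
    SolvStruct.inf_center_ne_bot (G := G) (N := ⊤) top_ne_bot (by rw [h0, inf_bot_eq])
  obtain ⟨p, hp, hpd⟩ := Nat.exists_prime_and_dvd (fun h => hZ (Subgroup.eq_bot_of_card_eq _ h))
  have : Fact p.Prime := ⟨hp⟩
  obtain ⟨z, hz⟩ := exists_prime_orderOf_dvd_card' (G := Subgroup.center G) p hpd
  set N := Subgroup.zpowers (z : G)
  have hNn : N.Normal := ⟨fun x hx g => by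
    have hxc := Subgroup.zpowers_le.2 z.2 hx
    rwa [Subgroup.mem_center_iff.1 hxc g, mul_inv_cancel_right]⟩
  have hN : N ≠ ⊥ := fun h0 => hp.one_lt.ne' (by
    rw [← hz, ← Subgroup.orderOf_coe, Subgroup.zpowers_eq_bot.1 h0, orderOf_one])
  exact of_cyclic_normal N (ih _ (card_quotient_lt hN) rfl)

theorem of_card_two_mul_pow {p : ℕ} (hp : p.Prime) : ∀ (n : ℕ) (G : Type u) [Group G] [Finite G],
    Nat.card G = 2 * p ^ n → Cfsg.IsSupersolvable G := by
  have : Fact p.Prime := ⟨hp⟩
  intro n
  induction n with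
  | zero =>
    intro G _ _ hG
    have : Fact (Nat.Prime 2) := ⟨Nat.prime_two⟩
    have := (IsPGroup.of_card (p := 2) (G := G) (n := 1) (by rw [hG]; simp)).isNilpotent
    exact of_nilpotent
  | succ n ih =>
    intro G _ _ hG
    rcases eq_or_ne p 2 with rfl | hp2
    · have := (IsPGroup.of_card (p := 2) (G := G) (n := n + 2) (by rw [hG]; ring)).isNilpotent
      exact of_nilpotent
    have h2 : Fact (Nat.Prime 2) := ⟨Nat.prime_two⟩
    obtain ⟨S⟩ := (inferInstance : Nonempty (Sylow p G))
    have hSc : Nat.card (S : Subgroup G) = p ^ (n + 1) := by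
      rw [S.card_eq_multiplicity, hG, Nat.factorization_mul two_ne_zero (pow_ne_zero _ hp.ne_zero),
        Finsupp.add_apply, hp.factorization_pow, Finsupp.single_eq_same,
        Nat.factorization_eq_zero_of_not_dvd fun h =>
          hp2 ((Nat.prime_dvd_prime_iff_eq hp Nat.prime_two).1 h), zero_add]
    have hSi : (S : Subgroup G).index = 2 := by
      have h1 := (S : Subgroup G).index_mul_card
      rw [hSc, hG] at h1
      exact Nat.eq_of_mul_eq_mul_right (pow_pos hp.pos _) h1
    have hSn : (S : Subgroup G).Normal := Subgroup.normal_of_index_eq_two hSi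
    obtain ⟨t, ht⟩ := exists_prime_orderOf_dvd_card' (G := G) 2 (hG ▸ dvd_mul_right 2 _)
    have htS : t ∉ (S : Subgroup G) := fun h => by
      have h1 := Subgroup.orderOf_mk t h ▸ orderOf_dvd_natCard (⟨t, h⟩ : (S : Subgroup G))
      rw [ht, hSc] at h1
      exact hp2 ((Nat.prime_dvd_prime_iff_eq Nat.prime_two hp).1
        (Nat.prime_two.dvd_of_dvd_pow h1)).symm
    have := S.isPGroup'.isNilpotent
    have hnt : Nontrivial (S : Subgroup G) := Finite.one_lt_card_iff_nontrivial.1
      (hSc ▸ Nat.one_lt_pow (Nat.succ_ne_zero n) hp.one_lt)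
    have hZ : Subgroup.center (S : Subgroup G) ≠ ⊥ := fun h0 =>
      SolvStruct.inf_center_ne_bot (G := (S : Subgroup G)) (N := ⊤) top_ne_bot (by rw [h0, inf_bot_eq])
    obtain ⟨k, hk⟩ := (S.isPGroup'.to_subgroup (Subgroup.center (S : Subgroup G))).exists_card_eq
    have hpd : p ∣ Nat.card (Subgroup.center (S : Subgroup G)) := by
      rcases k with - | k
      · exact absurd (Subgroup.eq_bot_of_card_eq _ (by simpa using hk)) hZ
      · exact hk ▸ dvd_pow_self p (Nat.succ_ne_zero k)
    obtain ⟨⟨⟨z, hzS⟩, hzZ⟩, hz⟩ := exists_prime_orderOf_dvd_card' (G := Subgroup.center (S : Subgroup G)) p hpd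
    rw [Subgroup.orderOf_mk, Subgroup.orderOf_mk] at hz
    set Z := (Subgroup.center (S : Subgroup G)).map (S : Subgroup G).subtype with hZdef
    have hZn : Z.Normal := FittingCores.normal_map_of_characteristic hSn inferInstance
    have hZcomm : ∀ w ∈ Z, ∀ x ∈ (S : Subgroup G), x * w = w * x := by
      rintro _ ⟨w, hw, rfl⟩ x hx
      exact congrArg Subtype.val (Subgroup.mem_center_iff.1 hw ⟨x, hx⟩)
    have hzmem : z ∈ Z := ⟨⟨z, hzS⟩, hzZ, rfl⟩
    obtain ⟨w, hwZ, hw, i, hwi⟩ : ∃ w ∈ Z, orderOf w = p ∧ ∃ i : ℤ, t * w * t⁻¹ = w ^ i := by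
      by_cases hin : ∃ i : ℤ, t * z * t⁻¹ = z ^ i
      · exact ⟨z, hzmem, hz, hin⟩
      have hz' : t * z * t⁻¹ ∈ Z := hZn.conj_mem z hzmem t
      have hc : Commute z (t * z * t⁻¹) := hZcomm _ hz' z hzS
      refine ⟨z * (t * z * t⁻¹), Z.mul_mem hzmem hz', orderOf_eq_prime ?_ ?_, 1, ?_⟩
      · rw [hc.mul_pow, conj_pow, ← hz, pow_orderOf_eq_one, mul_one, mul_inv_cancel, mul_one]
      · intro h1
        exact hin ⟨-1, by rw [zpow_neg_one]; exact (inv_eq_of_mul_eq_one_right h1).symm⟩
      · have htt : t * t = 1 := by rw [← sq, ← ht, pow_orderOf_eq_one]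
        have hti : t⁻¹ = t := by rw [inv_eq_iff_mul_eq_one, htt]
        rw [zpow_one, hti]
        rw [hti] at hc
        calc t * (z * (t * z * t)) * t = (t * z * t) * z * (t * t) := by simp [mul_assoc]
          _ = z * (t * z * t) := by rw [htt, mul_one, hc.eq]
    set N := Subgroup.zpowers w with hN
    have htop : (S : Subgroup G) ⊔ Subgroup.zpowers t = ⊤ := by
      rw [← Subgroup.index_eq_one]
      rcases Nat.prime_two.eq_one_or_self_of_dvd _
        (hSi ▸ Subgroup.index_dvd_of_le (le_sup_left : (S : Subgroup G) ≤ _ ⊔ Subgroup.zpowers t)) with h | h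
      · exact h
      · exfalso
        have h3 : (S : Subgroup G) = (S : Subgroup G) ⊔ Subgroup.zpowers t :=
          Subgroup.eq_of_le_of_card_ge le_sup_left (by
            have e1 := ((S : Subgroup G) ⊔ Subgroup.zpowers t).index_mul_card
            have e2 := (S : Subgroup G).index_mul_card
            rw [h] at e1; rw [hSi] at e2
            omega)
        exact htS (h3 ▸ Subgroup.mem_sup_right (Subgroup.mem_zpowers t))
    have hNn : N.Normal := by
      refine Subgroup.normalizer_eq_top_iff.1 (top_le_iff.1 (htop ▸ sup_le (fun x hx => ?_) ?_))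
      · rw [SolvBasic.mem_normalizer_iff_conjSmul]
        change N.map (MulAut.conj x).toMonoidHom = N
        rw [hN, MonoidHom.map_zpowers]
        congr 1
        change x * w * x⁻¹ = w
        rw [hZcomm w hwZ x hx, mul_inv_cancel_right]
      · rw [Subgroup.zpowers_le, SolvBasic.mem_normalizer_iff_conjSmul]
        refine Subgroup.eq_of_le_of_card_ge ?_ (SolvBasic.card_conjSmul t N).ge
        intro y hy
        change y ∈ N.map (MulAut.conj t).toMonoidHom at hy
        rw [hN, MonoidHom.map_zpowers, show (MulAut.conj t).toMonoidHom w = w ^ i from hwi] at hy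
        exact Subgroup.zpowers_le.2 (Subgroup.zpow_mem_zpowers w i) hy
    have hNc : Nat.card N = p := by rw [hN, Nat.card_zpowers, hw]
    have hq := N.card_eq_card_quotient_mul_card_subgroup
    rw [hG, hNc, pow_succ, ← mul_assoc] at hq
    have : IsCyclic N := Subgroup.isCyclic_zpowers w
    exact of_cyclic_normal N (ih _ (Nat.eq_of_mul_eq_mul_right hp.pos hq).symm)

end Cfsg.Agent.SupSolv
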