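import Cfsg.Agent.Lib.Solvable.Hall
import Cfsg.Agent.Lib.Solvable.Fitting
import Cfsg.Agent.Lib.Solvable.Structure
import Cfsg.Agent.Lib.Solvable.MinimalNonNilpotent

/-! System normalizers of finite solvable groups. -/

set_option autoImplicit false
open scoped Pointwise commutatorElement

universe u

namespace Cfsg.Agent.SysNorm

open Cfsg.Agent.SolvBasic

variable {G : Type u} [Group G] [Finite G] {K : Nat.Primes → Subgroup G}

lemma mem_normalizer_of_mem {g : G} (hg : g ∈ Cfsg.systemNormalizer K) (p : Nat.Primes) :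
    g ∈ Subgroup.normalizer (K p : Set G) :=
  (iInf_le (fun q : Nat.Primes => Subgroup.normalizer (K q : Set G)) p) hg

omit [Finite G] in
lemma mem_systemNormalizer {g : G} :
    g ∈ Cfsg.systemNormalizer K ↔ ∀ p : Nat.Primes, g ∈ Subgroup.normalizer (K p : Set G) := by
  rw [Cfsg.systemNormalizer, Subgroup.mem_iInf]

/-- The order of a Hall `p`-complement is prime to `p`. -/
lemma card_coprime (hK : Cfsg.IsComplementSystem K) (p : Nat.Primes) :
    (Nat.card (K p)).Coprime p := by
  have h1 : Nat.card (K p) = Nat.card G / (p : ℕ) ^ (Nat.card G).factorization p := by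
    rw [← hK p]
    exact (Nat.div_eq_of_eq_mul_left (Nat.pos_of_ne_zero Subgroup.index_ne_zero_of_finite)
      (K p).card_mul_index.symm).symm
  rw [h1]
  exact (Nat.coprime_ordCompl p.2 Nat.card_pos.ne').symm

/-- A subgroup normalizing `K` and having `p'`-order lies in the Hall `p`-complement `K p`. -/
lemma le_of_coprime (hK : Cfsg.IsComplementSystem K) {p : Nat.Primes} {X : Subgroup G}
    (hX : X ≤ Subgroup.normalizer (K p : Set G)) (hcop : (Nat.card X).Coprime p) : X ≤ K p := by
  rw [← sup_eq_left]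
  refine (Subgroup.eq_of_le_of_card_ge le_sup_left ?_).symm
  set W := K p ⊔ X
  have h1 := card_sup_mul_card_inf hX
  have h2 := Subgroup.relIndex_mul_relIndex (⊥ : Subgroup G) (K p) W bot_le le_sup_left
  rw [Subgroup.relIndex_bot_left, Subgroup.relIndex_bot_left] at h2
  rw [← h2, mul_assoc] at h1
  have h3 : (K p).relIndex W ∣ Nat.card X :=
    Dvd.intro _ (Nat.eq_of_mul_eq_mul_left Nat.card_pos h1)
  have h4 : (K p).relIndex W ∣ (p : ℕ) ^ (Nat.card G).factorization p := by
    rw [← hK p]
    exact Dvd.intro _ (Subgroup.relIndex_mul_index (le_sup_left : K p ≤ W))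
  rw [← h2, Nat.eq_one_of_dvd_coprimes (hcop.pow_right _) h3 h4, mul_one]

lemma mem_of_coprime (hK : Cfsg.IsComplementSystem K) {p : Nat.Primes} {x : G}
    (hx : x ∈ Subgroup.normalizer (K p : Set G)) (hcop : (orderOf x).Coprime p) : x ∈ K p :=
  le_of_coprime hK (Subgroup.zpowers_le.2 hx) (by rwa [Nat.card_zpowers]) (Subgroup.mem_zpowers x)

/-- Normal `p'`-subgroups lie in every Hall `p`-complement. -/
lemma le_of_normal_coprime (hK : Cfsg.IsComplementSystem K) {p : Nat.Primes} {N : Subgroup G}
    [N.Normal] (hcop : (Nat.card N).Coprime p) : N ≤ K p := by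
  rw [← Subgroup.relIndex_eq_one]
  refine Nat.eq_one_of_dvd_coprimes (hcop.pow_right ((Nat.card G).factorization p))
    (Subgroup.relIndex_dvd_card _ _) ?_
  rw [← hK p]
  exact Cfsg.Agent.SolvStruct.relIndex_dvd_index_of_normal_right (K p) N

lemma isComplementSystem_map (hK : Cfsg.IsComplementSystem K) (N : Subgroup G) [N.Normal] :
    Cfsg.IsComplementSystem (fun p => (K p).map (QuotientGroup.mk' N)) := by
  intro p
  have hpp : (p : ℕ).Prime := p.2
  have hsur := QuotientGroup.mk'_surjective N
  set i := ((K p).map (QuotientGroup.mk' N)).index with hi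
  have h1 : i ∣ (p : ℕ) ^ (Nat.card G).factorization p := hK p ▸ Subgroup.index_map_dvd _ hsur
  obtain ⟨j, -, hj⟩ := (Nat.dvd_prime_pow hpp).1 h1
  have h3 := ((K p).map (QuotientGroup.mk' N)).index_mul_card
  rw [← hi, hj] at h3
  have h4 : (Nat.card ((K p).map (QuotientGroup.mk' N))).Coprime p :=
    (card_coprime hK p).coprime_dvd_left (Subgroup.card_map_dvd _ _)
  change i = _
  rw [hj]
  congr 1
  rw [← h3, Nat.factorization_mul (pow_ne_zero _ hpp.ne_zero) Nat.card_pos.ne', Finsupp.add_apply,
    hpp.factorization_pow, Finsupp.single_eq_same,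
    Nat.factorization_eq_zero_of_not_dvd (fun h => hpp.one_lt.ne'
      (Nat.eq_one_of_dvd_coprimes h4 h dvd_rfl)), add_zero]

lemma map_le (N : Subgroup G) [N.Normal] :
    (Cfsg.systemNormalizer K).map (QuotientGroup.mk' N) ≤
      Cfsg.systemNormalizer (fun p => (K p).map (QuotientGroup.mk' N)) := by
  rintro _ ⟨g, hg, rfl⟩
  rw [mem_systemNormalizer]
  exact fun p => Subgroup.le_normalizer_map _ (Subgroup.mem_map_of_mem _ (mem_normalizer_of_mem hg p))

lemma conj_isComplementSystem (hK : Cfsg.IsComplementSystem K) (g : G) :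
    Cfsg.IsComplementSystem (fun p => MulAut.conj g • K p) := fun p => by
  rw [index_conjSmul]; exact hK p

omit [Finite G] in
lemma systemNormalizer_conj (g : G) :
    Cfsg.systemNormalizer (fun p => MulAut.conj g • K p) =
      MulAut.conj g • Cfsg.systemNormalizer K := by
  ext x
  simp only [mem_systemNormalizer, mem_conjSmul, normalizer_conjSmul]

variable [Group.IsSolvable G]

omit [Group.IsSolvable G] in
lemma map_eq_top_of_abelian {N : Subgroup G} [N.Normal] (hN : commutator G ≤ N) :
    ∀ p, Subgroup.normalizer (((K p).map (QuotientGroup.mk' N) : Subgroup (G ⧸ N)) : Set (G ⧸ N)) = ⊤ := by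
  intro p
  have hc : ∀ a b : G ⧸ N, a * b = b * a := by
    intro a b
    obtain ⟨a, rfl⟩ := QuotientGroup.mk'_surjective N a
    obtain ⟨b, rfl⟩ := QuotientGroup.mk'_surjective N b
    change Commute _ _
    rw [← commutatorElement_eq_one_iff_commute, ← map_commutatorElement]
    exact (QuotientGroup.eq_one_iff _).2
      (hN (Subgroup.commutator_mem_commutator (Subgroup.mem_top a) (Subgroup.mem_top b)))
  rw [eq_top_iff]
  intro a _
  rw [Subgroup.mem_normalizer_iff]
  intro b
  rw [hc a b, mul_inv_cancel_right]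

theorem map_systemNormalizer (hK : Cfsg.IsComplementSystem K) (N : Subgroup G) [N.Normal] :
    Cfsg.systemNormalizer (fun p => (K p).map (QuotientGroup.mk' N)) =
      (Cfsg.systemNormalizer K).map (QuotientGroup.mk' N) := by
  classical
  refine le_antisymm (fun y hy => ?_) (map_le N)
  obtain ⟨g, rfl⟩ := QuotientGroup.mk'_surjective N y
  set L := fun p => MulAut.conj g • K p with hL
  have hLs : Cfsg.IsComplementSystem L := conj_isComplementSystem hK g
  have hn : ∀ X : Subgroup G, X ≤ Subgroup.normalizer (N : Set G) := fun X => by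
    rw [Subgroup.normalizer_eq_top]; exact le_top
  have hsup : ∀ p, N ⊔ K p = N ⊔ L p := by
    intro p
    have h1 : (L p).map (QuotientGroup.mk' N) = (K p).map (QuotientGroup.mk' N) := by
      rw [hL, map_conjSmul]
      exact conjSmul_eq_self_of_mem_normalizer (mem_systemNormalizer.1 hy p)
    have h2 := congrArg (Subgroup.comap (QuotientGroup.mk' N)) h1
    rw [Subgroup.comap_map_eq, Subgroup.comap_map_eq, QuotientGroup.ker_mk'] at h2
    rw [sup_comm, ← h2, sup_comm]
  have hloc : ∀ p, ∃ n ∈ N, MulAut.conj n • K p = L p := by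
    intro p
    set W := N ⊔ K p with hW
    have hKW : K p ≤ W := le_sup_right
    have hLW : L p ≤ W := by rw [hW, hsup]; exact le_sup_right
    have hcK := Nat.card_congr (Subgroup.subgroupOfEquivOfLe hKW).toEquiv
    have hcL : Nat.card ((L p).subgroupOf W) = Nat.card (K p) :=
      (Nat.card_congr (Subgroup.subgroupOfEquivOfLe hLW).toEquiv).trans (card_conjSmul g _)
    have hWc : Nat.card W = Nat.card ((K p).subgroupOf W) * ((K p).subgroupOf W).index :=
      ((K p).subgroupOf W).card_mul_index.symm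
    have hcop : (Nat.card ((K p).subgroupOf W)).Coprime ((K p).subgroupOf W).index := by
      rw [hcK]
      refine Nat.Coprime.coprime_dvd_right (Dvd.intro _ (Subgroup.relIndex_mul_index hKW)) ?_
      rw [hK p]
      exact (card_coprime hK p).pow_right _
    obtain ⟨⟨w, hw⟩, hwe⟩ :=
      Cfsg.Agent.HallSolv.hall_conj (G := W) hWc hcop rfl (hcL.trans hcK.symm)
    have h3 := congrArg (Subgroup.map W.subtype) hwe
    rw [map_subtype_conjSmul, Subgroup.map_subgroupOf_eq_of_le hKW,
      Subgroup.map_subgroupOf_eq_of_le hLW] at h3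
    obtain ⟨n, hn', k, hk, rfl⟩ := (mem_sup_iff_of_le_normalizer (hn (K p))).1 hw
    refine ⟨n, hn', ?_⟩
    rw [← h3, ← conjSmul_conjSmul, Subgroup.conj_smul_eq_self_of_mem hk]
  suffices h : ∀ T : Finset Nat.Primes, ∃ n ∈ N, ∀ p ∈ T, MulAut.conj n • K p = L p by
    obtain ⟨n, hn', hall⟩ := h (Cfsg.Agent.HallSolv.primeSet (Nat.card G))
    refine ⟨n⁻¹ * g, mem_systemNormalizer.2 fun p => ?_, ?_⟩
    · rw [mem_normalizer_iff_conjSmul]
      have hp : MulAut.conj n • K p = L p := by
        by_cases hp : p ∈ Cfsg.Agent.HallSolv.primeSet (Nat.card G)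
        · exact hall p hp
        · have h1 : K p = ⊤ := by
            rw [← Subgroup.index_eq_one, hK p,
              Cfsg.Agent.HallSolv.factorization_eq_zero_of_notMem_primeSet
                (Nat.card_pos (α := G)).ne' hp, pow_zero]
          have h2 : ∀ x : G, MulAut.conj x • (⊤ : Subgroup G) = ⊤ := fun x =>
            Subgroup.map_top_of_surjective _ (MulAut.conj x).surjective
          rw [hL]
          simp only [h1, h2]
      rw [← conjSmul_conjSmul]
      exact eq_conjSmul_inv hp
    · rw [map_mul, map_inv, show QuotientGroup.mk' N n = 1 from (QuotientGroup.eq_one_iff n).2 hn',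
        inv_one, one_mul]
  intro T
  induction T using Finset.induction_on with
  | empty => exact ⟨1, N.one_mem, by simp⟩
  | @insert a s ha ih =>
    obtain ⟨n, hn', hns⟩ := ih
    obtain ⟨x, hx, hxa⟩ := hloc a
    have hcop : ((⨅ p ∈ s, L p).subgroupOf N).index.Coprime ((L a).subgroupOf N).index := by
      refine Nat.Coprime.coprime_dvd_left
        (Cfsg.Agent.SolvStruct.relIndex_dvd_index_of_normal_right _ N) ?_
      refine Nat.Coprime.coprime_dvd_right
        (Cfsg.Agent.SolvStruct.relIndex_dvd_index_of_normal_right _ N) ?_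
      rw [Cfsg.Agent.HallSolv.index_iInf_complementSystem hLs, hLs a]
      refine Nat.Coprime.prod_left fun q hq => Nat.Coprime.pow _ _ ?_
      exact (Nat.coprime_primes q.2 a.2).2 fun h => ha (Subtype.ext h ▸ hq)
    obtain ⟨⟨w, hwN⟩, hw, ⟨l, hlN⟩, hl, hwl⟩ := Cfsg.Agent.HallSolv.exists_mul_of_coprime_index
      hcop ⟨n * x⁻¹, N.mul_mem hn' (N.inv_mem hx)⟩
    have hwl' : n * x⁻¹ = w * l := congrArg Subtype.val hwl
    refine ⟨w⁻¹ * n, N.mul_mem (N.inv_mem hwN) hn', fun p hp => ?_⟩
    rw [← conjSmul_conjSmul]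
    rcases Finset.mem_insert.1 hp with rfl | hp
    · have h1 : MulAut.conj n • K p = MulAut.conj (n * x⁻¹) • L p := by
        rw [← hxa, conjSmul_conjSmul, inv_mul_cancel_right]
      rw [h1, hwl', conjSmul_conjSmul, inv_mul_cancel_left]
      exact Subgroup.conj_smul_eq_self_of_mem hl
    · rw [hns p hp]
      refine Subgroup.conj_smul_eq_self_of_mem (inv_mem ?_)
      have hw' : w ∈ ⨅ p ∈ s, L p := hw
      simp only [Subgroup.mem_iInf] at hw'
      exact hw' p hp

omit [Group.IsSolvable G] in
theorem nilpotent (hK : Cfsg.IsComplementSystem K) :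
    Group.IsNilpotent (Cfsg.systemNormalizer K) := by
  classical
  set D := Cfsg.systemNormalizer K with hD
  refine (Group.isNilpotent_of_finite_tfae.out 0 3 rfl rfl).2 fun p hp P => ?_
  let p' : Nat.Primes := ⟨p, hp.out⟩
  set T := (Cfsg.Agent.HallSolv.primeSet (Nat.card G)).erase p'
  set Sp := ⨅ q ∈ T, K q
  have hSp : IsPGroup p Sp := by
    refine IsPGroup.of_card (n := (Nat.card G).factorization p) ?_
    have h1 := Sp.card_mul_index
    rw [Cfsg.Agent.HallSolv.index_iInf_complementSystem hK] at h1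
    have h2 := Cfsg.Agent.HallSolv.prod_primeSet (Nat.card_pos (α := G)).ne'
    refine Nat.eq_of_mul_eq_mul_right (Finset.prod_pos fun r _ => pow_pos r.2.pos _) (h1.trans ?_)
    conv_lhs => rw [← h2]
    by_cases hp' : p' ∈ Cfsg.Agent.HallSolv.primeSet (Nat.card G)
    · exact (Finset.mul_prod_erase _ _ hp').symm
    · rw [show T = _ from Finset.erase_eq_of_notMem hp',
        show (Nat.card G).factorization p = 0 from
          Cfsg.Agent.HallSolv.factorization_eq_zero_of_notMem_primeSet (Nat.card_pos (α := G)).ne' hp',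
        pow_zero, one_mul]
  have hle : (P : Subgroup D) ≤ Sp.subgroupOf D := fun x hx => by
    rw [Subgroup.mem_subgroupOf]
    simp only [Sp, Subgroup.mem_iInf]
    intro q hq
    refine mem_of_coprime hK (mem_normalizer_of_mem x.2 q) ?_
    obtain ⟨k, hk⟩ := P.isPGroup' ⟨x, hx⟩
    have h1 : orderOf (x : G) ∣ p ^ k :=
      orderOf_dvd_of_pow_eq_one (congrArg (fun t : (P : Subgroup D) => ((t : D) : G)) hk)
    exact (((Nat.coprime_primes hp.out q.2).2 fun h =>
      (Finset.mem_erase.1 hq).1 (Subtype.ext h.symm)).pow_left k).coprime_dvd_left h1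
  have heq : Sp.subgroupOf D = (P : Subgroup D) := P.is_maximal' hSp.comap_subtype hle
  rw [← heq]
  refine ⟨fun x hx d => ?_⟩
  rw [Subgroup.mem_subgroupOf] at hx ⊢
  simp only [Sp, Subgroup.mem_iInf] at hx ⊢
  exact fun q hq => (Subgroup.mem_normalizer_iff.1 (mem_normalizer_of_mem d.2 q) x).1 (hx q hq)

theorem normalClosure_eq_top (hK : Cfsg.IsComplementSystem K) :
    Subgroup.normalClosure ((Cfsg.systemNormalizer K : Subgroup G) : Set G) = ⊤ := by
  by_contra hne
  set N := Subgroup.normalClosure ((Cfsg.systemNormalizer K : Subgroup G) : Set G) with hN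
  have : Nontrivial (G ⧸ N) := by
    rw [← Finite.one_lt_card_iff_nontrivial, ← Subgroup.index_eq_card]
    exact Subgroup.one_lt_index_of_ne_top hne
  obtain ⟨M', hMn, hMp, hMc⟩ := Cfsg.Agent.SolvMinNN.exists_normal_prime_index (G := G ⧸ N)
  set M := M'.comap (QuotientGroup.mk' N) with hM
  have hMn' : M.Normal := hMn.comap _
  have hMne : M ≠ ⊤ := fun h => by
    have h1 : M.index = 1 := Subgroup.index_eq_one.2 h
    rw [hM, Subgroup.index_comap_of_surjective _ (QuotientGroup.mk'_surjective N)] at h1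
    exact hMp.one_lt.ne' h1
  have hc : commutator G ≤ M := by
    rw [hM, ← Subgroup.map_le_iff_le_comap, commutator_def, Subgroup.map_commutator]
    exact (Subgroup.commutator_mono le_top le_top).trans hMc
  have h1 := map_systemNormalizer hK M
  have htop : Cfsg.systemNormalizer (fun p => (K p).map (QuotientGroup.mk' M)) = ⊤ :=
    top_le_iff.1 fun x _ => mem_systemNormalizer.2 fun p => by
      rw [map_eq_top_of_abelian hc p]; trivial
  rw [htop] at h1
  refine hMne (top_le_iff.1 fun g _ => ?_)
  obtain ⟨d, hd, hde⟩ := h1.le (Subgroup.mem_top (QuotientGroup.mk' M g))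
  have hdM : d ∈ M := by
    rw [hM, Subgroup.mem_comap, show QuotientGroup.mk' N d = 1 from
      (QuotientGroup.eq_one_iff d).2 (Subgroup.subset_normalClosure hd)]
    exact M'.one_mem
  rw [show QuotientGroup.mk' M d = 1 from (QuotientGroup.eq_one_iff d).2 hdM] at hde
  exact (QuotientGroup.eq_one_iff g).1 hde.symm

/-- An element of an eccentric minimal normal subgroup normalizing a complement system is
trivial. -/
theorem eq_one_of_eccentric (hK : Cfsg.IsComplementSystem K) {B : Subgroup G} [B.Normal]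
    (hB : B ≠ ⊥) (hmin : ∀ N : Subgroup G, N.Normal → N ≤ B → N = ⊥ ∨ N = B)
    (hecc : ¬ B ≤ Subgroup.center G) {x : G} (hx : x ∈ B) (hxD : x ∈ Cfsg.systemNormalizer K) :
    x = 1 := by
  by_contra hx1
  have := Cfsg.Agent.SolvBasic.isMulCommutative_of_minimal_normal hB hmin
  obtain ⟨p, hp, -, hBp⟩ := Cfsg.Agent.SolvBasic.exists_prime_exponent_of_minimal_normal hB hmin
  have : Fact p.Prime := ⟨hp⟩
  set P : Nat.Primes := ⟨p, hp⟩
  set C := Subgroup.centralizer (B : Set G) with hC
  have hfix : ∀ L : Subgroup G, L.Normal → ∀ y ∈ B, y ≠ 1 → L ≤ Subgroup.centralizer {y} →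
      L ≤ C := by
    intro L hL y hy hy1 hLy
    rw [hC, Subgroup.le_centralizer_iff]
    refine inf_eq_left.1 ((hmin (B ⊓ Subgroup.centralizer (L : Set G)) inferInstance
      inf_le_left).resolve_left fun h0 => hy1 ?_)
    rw [← Subgroup.mem_bot, ← h0]
    exact Subgroup.mem_inf.2 ⟨hy, Subgroup.mem_centralizer_iff.2 fun l hl =>
      Subgroup.mem_centralizer_singleton_iff.1 (hLy hl)⟩
  have hKx : K P ≤ Subgroup.centralizer {x} := by
    intro k hk
    rw [Subgroup.mem_centralizer_singleton_iff]
    have hkn := (Subgroup.mem_normalizer_iff.1 (mem_normalizer_of_mem hxD P) k).1 hk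
    have h1 : x * k * x⁻¹ * k⁻¹ ∈ B ⊓ K P := by
      refine Subgroup.mem_inf.2 ⟨?_, (K P).mul_mem hkn ((K P).inv_mem hk)⟩
      rw [mul_assoc, mul_assoc]
      refine B.mul_mem hx ?_
      rw [← mul_assoc]
      exact (inferInstance : B.Normal).conj_mem _ (B.inv_mem hx) k
    have h2 : B ⊓ K P = ⊥ := by
      obtain ⟨j, hj⟩ := hBp.exists_card_eq
      exact Subgroup.eq_bot_of_card_eq _ (Nat.eq_one_of_dvd_coprimes
        ((card_coprime hK P).pow_right j) (Subgroup.card_dvd_of_le inf_le_right)
        (hj ▸ Subgroup.card_dvd_of_le inf_le_left))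
    rw [h2, Subgroup.mem_bot, mul_inv_eq_one, mul_inv_eq_iff_eq_mul] at h1
    exact h1.symm
  have hCn : C.Normal := inferInstance
  have hne : C ≠ ⊤ := fun h0 => hecc fun b hb => Subgroup.mem_center_iff.2 fun g =>
    (Subgroup.mem_centralizer_iff.1 (h0.ge (Subgroup.mem_top g)) b hb).symm
  have : Nontrivial (G ⧸ C) := by
    rw [← Finite.one_lt_card_iff_nontrivial, ← Subgroup.index_eq_card]
    exact Subgroup.one_lt_index_of_ne_top hne
  obtain ⟨L₀, q, hq, hL₀n, hL₀, -, -, -, hL₀q, -⟩ :=
    Cfsg.Agent.SolvBasic.exists_minimal_normal_abelian (N := (⊤ : Subgroup (G ⧸ C))) inferInstance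
      (by exact top_ne_bot)
  set L := L₀.comap (QuotientGroup.mk' C) with hL
  have hLn : L.Normal := hL₀n.comap _
  have hCL : C ≤ L := fun c hc => by
    rw [hL, Subgroup.mem_comap, show QuotientGroup.mk' C c = 1 from (QuotientGroup.eq_one_iff c).2 hc]
    exact one_mem _
  have hLC : ¬ L ≤ C := fun h0 => hL₀ (by
    rw [← Subgroup.map_comap_eq_self_of_surjective (QuotientGroup.mk'_surjective C) L₀,
      Subgroup.map_eq_bot_iff, QuotientGroup.ker_mk']
    exact h0)
  have : Fact q.Prime := ⟨hq⟩
  obtain ⟨i, hi⟩ := hL₀q.exists_card_eq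
  have hrel : C.relIndex L = q ^ i := by
    have h3 := Subgroup.relIndex_comap (⊥ : Subgroup (G ⧸ C)) (QuotientGroup.mk' C) L
    rw [Subgroup.map_comap_eq_self_of_surjective (QuotientGroup.mk'_surjective C),
      Subgroup.relIndex_bot_left, MonoidHom.comap_bot, QuotientGroup.ker_mk', hi] at h3
    exact h3
  rcases eq_or_ne q p with rfl | hqp
  · obtain ⟨S⟩ := (inferInstance : Nonempty (Sylow q L))
    set Sm := (S : Subgroup L).map L.subtype with hSm
    have hT : IsPGroup q (B ⊔ Sm : Subgroup G) := hBp.to_sup_of_normal_left (S.isPGroup'.map _)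
    have := hT.isNilpotent
    have hBT : B.subgroupOf (B ⊔ Sm) ≠ ⊥ := fun h0 => hB (by
      rw [Subgroup.subgroupOf_eq_bot, disjoint_iff, inf_eq_left.2 le_sup_left] at h0; exact h0)
    obtain ⟨⟨y, hy⟩, hy1⟩ := Subgroup.ne_bot_iff_exists_ne_one.1
      (Cfsg.Agent.SolvStruct.inf_center_ne_bot hBT)
    obtain ⟨hyB, hyZ⟩ := Subgroup.mem_inf.1 hy
    refine hLC (hfix L hLn (y : G) hyB (fun h0 => hy1 (Subtype.ext (Subtype.ext h0))) ?_)
    have htop : Sm ⊔ C = L := by
      refine le_antisymm (sup_le (Subgroup.map_subtype_le _) hCL) ?_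
      rw [← Subgroup.relIndex_eq_one]
      refine Nat.eq_one_of_dvd_coprimes
        ((hp.coprime_iff_not_dvd.2 S.not_dvd_index).symm.pow_right i) ?_ ?_
      · have h4 : Sm.relIndex L = (S : Subgroup L).index := by
          rw [hSm, Subgroup.relIndex, Subgroup.subgroupOf, Subgroup.comap_map_eq_self_of_injective
            L.subtype_injective]
        exact h4 ▸ Subgroup.relIndex_dvd_of_le_left L le_sup_left
      · exact hrel ▸ Subgroup.relIndex_dvd_of_le_left L le_sup_right
    rw [← htop]
    refine sup_le (fun s hs => Subgroup.mem_centralizer_singleton_iff.2 ?_) fun c hc =>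
      Subgroup.mem_centralizer_singleton_iff.2 (Subgroup.mem_centralizer_iff.1 hc _ hyB).symm
    exact congrArg Subtype.val (Subgroup.mem_center_iff.1 hyZ ⟨s, Subgroup.mem_sup_right hs⟩)
  · refine hLC (hfix L hLn x hx hx1 ?_)
    have hle : L ≤ L ⊓ K P ⊔ C := by
      rw [← Subgroup.relIndex_eq_one]
      refine Nat.eq_one_of_dvd_coprimes
        (Nat.Coprime.pow ((Nat.card G).factorization P) i ((Nat.coprime_primes hp hq).2 hqp.symm))
        ?_ (hrel ▸ Subgroup.relIndex_dvd_of_le_left L le_sup_right)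
      refine (Subgroup.relIndex_dvd_of_le_left L le_sup_left).trans ?_
      rw [Subgroup.inf_relIndex_left, show p ^ (Nat.card G).factorization P = (K P).index from (hK P).symm]
      exact Cfsg.Agent.SolvStruct.relIndex_dvd_index_of_normal_right (K P) L
    exact hle.trans (sup_le (inf_le_right.trans hKx) fun c hc =>
      Subgroup.mem_centralizer_singleton_iff.2 (Subgroup.mem_centralizer_iff.1 hc _ hx).symm)

end Cfsg.Agent.SysNorm
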